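import Cfsg.Agent.Lib.Lead.JankoOne.Coset.DataB

/-!
The log of case B is correct.
-/

set_option autoImplicit false
set_option maxRecDepth 100000

namespace Cfsg.Agent.Lead.JankoOne.Coset

theorem okB : logB.ok = true := by decide +kernel

end Cfsg.Agent.Lead.JankoOne.Coset
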