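import Cfsg.Agent.Lib.Lead.JankoOne.Coset.DataC

/-!
The log of case C is correct.
-/

set_option autoImplicit false
set_option maxRecDepth 100000

namespace Cfsg.Agent.Lead.JankoOne.Coset

theorem okC : logC.ok = true := by decide +kernel

theorem goalC_ok : logC.ends goalC = (0, 4, 0) ∧ goalC / 2 < logC.size := by decide +kernel

end Cfsg.Agent.Lead.JankoOne.Coset
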