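import Cfsg.Agent.Lib.Lead.JankoOne.Coset.Engine

/-!
Generated log of a coset enumeration (case A).
-/

set_option autoImplicit false
set_option maxRecDepth 100000
set_option maxHeartbeats 0

namespace Cfsg.Agent.Lead.JankoOne.Coset

def factA0 : Arr (CFact) :=
  (.node (.node (.node (.node (.node (.node (.node (.leaf ⟨0, 0, 0, 1, []⟩) (.leaf ⟨17, 12, 11, 57, [1023, 253]⟩)) (.node (.leaf ⟨80, 6, 81, 0, []⟩) (.leaf ⟨0, 12, 0, 0, []⟩))) (.node (.node (.leaf ⟨34, 7, 29, 32, [253, 71, 72, 228]⟩) (.leaf ⟨0, 12, 0, 0, []⟩)) (.node (.leaf ⟨135, 11, 32, 6, [765, 763, 304]⟩) (.leaf ⟨0, 12, 0, 0, []⟩)))) (.node (.node (.node (.leaf ⟨18, 3, 20, 23, [110, 99, 127]⟩) (.leaf ⟨9, 12, 2, 58, [1118, 1124, 1142]⟩)) (.node (.leaf ⟨101, 1, 109, 20, [638, 621]⟩) (.leaf ⟨0, 12, 0, 0, []⟩))) (.node (.node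 (.leaf ⟨59, 3, 67, 41, [383, 381, 219, 380]⟩) (.leaf ⟨0, 12, 0, 0, []⟩)) (.node (.leaf ⟨159, 7, 154, 22, [895, 271, 858]⟩) (.leaf ⟨0, 12, 0, 0, []⟩))))) (.node (.node (.node (.node (.leaf ⟨9, 2, 10, 0, []⟩) (.leaf ⟨25, 12, 22, 58, [1086, 1081]⟩)) (.node (.leaf ⟨99, 4, 92, 45, [575, 227, 224, 548]⟩) (.leaf ⟨0, 12, 0, 0, []⟩))) (.node (.node (.leaf ⟨48, 2, 22, 7, [319, 317, 315, 311, 309]⟩) (.leaf ⟨0, 12, 0, 0, []⟩)) (.node (.leaf ⟨146, 4, 102, 45, [831, 259, 252, 668]⟩) (.leaf ⟨0, 12, 0, 0, []⟩)))) (.node (.node (.node (.leaf ⟨13, 6, 24, 15, [83, 77, 69, 180, 189]⟩) (.leaf ⟨0, 12, 0, 0, []⟩)) (.node (.leaf ⟨93, 4, 119, 37, [553, 548, 696, 703]⟩) (.leaf ⟨0, 12, 0, 0, []⟩))) (.node (.node (.leaf ⟨73, 12, 70, 20, [447, 390]⟩) (.leaf ⟨0, 12, 0, 0, []⟩)) (.node (.leaf ⟨167, 7, 146, 17,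 [955, 294, 830]⟩) (.leaf ⟨0, 12, 0, 0, []⟩)))))) (.node (.node (.node (.node (.node (.leaf ⟨6, 1, 7, 0, []⟩) (.leaf ⟨66, 12, 118, 24, [1055, 702]⟩)) (.node (.leaf ⟨91, 2, 27, 7, [543, 541, 539, 537, 535]⟩) (.leaf ⟨0, 12, 0, 0, []⟩))) (.node (.node (.leaf ⟨41, 0, 34, 34, [287, 197, 204, 171, 252]⟩) (.leaf ⟨0, 12, 0, 0, []⟩)) (.node (.leaf ⟨113, 12, 140, 23, [676, 635, 797, 795]⟩) (.leaf ⟨0, 12, 0, 0, []⟩)))) (.node (.node (.node (.leaf ⟨4, 3, 12, 24, [153, 113]⟩) (.leaf ⟨29, 7, 29, 26, [1173, 786, 1182]⟩)) (.node (.leaf ⟨57, 1, 41, 46, [596, 667, 289]⟩) (.leaf ⟨0, 12, 0, 0, []⟩))) (.node (.node (.leaf ⟨72, 2, 73, 0, []⟩) (.leaf ⟨0, 12, 0, 0, []⟩)) (.node (.leaf ⟨164, 5, 57, 55, [925, 374, 887, 878]⟩) (.leaf ⟨0, 12, 0, 0, []⟩))))) (.node (.node (.node (.node (.leaf ⟨14, 1, 14, 20,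 [95, 91]⟩) (.leaf ⟨17, 12, 8, 58, [1114, 1118]⟩)) (.node (.leaf ⟨105, 2, 104, 13, [607, 593]⟩) (.leaf ⟨0, 12, 0, 0, []⟩))) (.node (.node (.leaf ⟨57, 2, 37, 38, [351, 175, 100, 266]⟩) (.leaf ⟨0, 12, 0, 0, []⟩)) (.node (.leaf ⟨155, 3, 154, 41, [863, 859, 273, 858]⟩) (.leaf ⟨0, 12, 0, 0, []⟩)))) (.node (.node (.node (.leaf ⟨5, 4, 27, 0, []⟩) (.leaf ⟨0, 12, 0, 0, []⟩)) (.node (.leaf ⟨31, 4, 132, 0, []⟩) (.leaf ⟨0, 12, 0, 0, []⟩))) (.node (.node (.leaf ⟨44, 6, 48, 25, [460, 397]⟩) (.leaf ⟨0, 12, 0, 0, []⟩)) (.node (.leaf ⟨79, 3, 156, 24, [975, 874]⟩) (.leaf ⟨0, 12, 0, 0, []⟩))))))) (.node (.node (.node (.node (.node (.node (.leaf ⟨2, 6, 2, 3, [13, 7, 12, 15]⟩) (.leaf ⟨10, 12, 4, 57, [1039, 213]⟩)) (.node (.leaf ⟨85, 2, 84, 13, [525, 521]⟩) (.leaf ⟨0, 12, 0, 0, []⟩))) (.node (.node (.leaf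 ⟨37, 9, 37, 33, [267, 211, 228, 232, 229, 210, 266]⟩) (.leaf ⟨0, 12, 0, 0, []⟩)) (.node (.leaf ⟨139, 2, 42, 39, [779, 247, 203, 292]⟩) (.leaf ⟨0, 12, 0, 0, []⟩)))) (.node (.node (.node (.leaf ⟨18, 3, 5, 24, [141, 139]⟩) (.leaf ⟨66, 3, 57, 24, [1056, 703, 1158]⟩)) (.node (.leaf ⟨106, 12, 105, 21, [655, 609]⟩) (.leaf ⟨0, 12, 0, 0, []⟩))) (.node (.node (.leaf ⟨70, 7, 48, 32, [395, 281, 283, 322]⟩) (.leaf ⟨0, 12, 0, 0, []⟩)) (.node (.leaf ⟨45, 4, 161, 54, [311, 555, 704, 911]⟩) (.leaf ⟨0, 12, 0, 0, []⟩))))) (.node (.node (.node (.node (.leaf ⟨12, 7, 5, 17, [77, 72, 31]⟩) (.leaf ⟨6, 10, 2, 27, [1017, 172, 1102]⟩)) (.node (.leaf ⟨104, 2, 29, 7, [591, 589, 587, 583, 581]⟩) (.leaf ⟨0, 12, 0, 0, []⟩))) (.node (.node (.leaf ⟨53, 1, 54, 0, []⟩) (.leaf ⟨0, 12, 0, 0, []⟩)) (.node (.leaf ⟨142,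 11, 150, 6, [822, 824, 847]⟩) (.leaf ⟨0, 12, 0, 0, []⟩)))) (.node (.node (.node (.leaf ⟨17, 9, 13, 28, [195, 190]⟩) (.leaf ⟨0, 12, 0, 0, []⟩)) (.node (.leaf ⟨126, 2, 114, 18, [719, 717, 715, 713, 711, 709, 707, 699, 678]⟩) (.leaf ⟨0, 12, 0, 0, []⟩))) (.node (.node (.leaf ⟨59, 12, 50, 20, [463, 328]⟩) (.leaf ⟨0, 12, 0, 0, []⟩)) (.node (.leaf ⟨113, 8, 157, 42, [970, 944]⟩) (.leaf ⟨0, 12, 0, 0, []⟩)))))) (.node (.node (.node (.node (.node (.leaf ⟨5, 0, 5, 12, [30, 47, 31]⟩) (.leaf ⟨93, 12, 25, 58, [1032, 1062]⟩)) (.node (.leaf ⟨28, 1, 94, 0, []⟩) (.leaf ⟨0, 12, 0, 0, []⟩))) (.node (.node (.leaf ⟨43, 7, 32, 32, [299, 131, 148, 242]⟩) (.leaf ⟨0, 12, 0, 0, []⟩)) (.node (.leaf ⟨35, 1, 142, 0, []⟩) (.leaf ⟨0, 12, 0, 0, []⟩)))) (.node (.node (.node (.leaf ⟨22, 6, 22, 29, [175, 23, 174]⟩)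 (.leaf ⟨11, 12, 0, 58, [1166, 1198]⟩)) (.node (.leaf ⟨116, 3, 117, 0, []⟩) (.leaf ⟨0, 12, 0, 0, []⟩))) (.node (.node (.leaf ⟨78, 12, 77, 19, [428, 381, 214, 380, 429, 427]⟩) (.leaf ⟨0, 12, 0, 0, []⟩)) (.node (.leaf ⟨159, 8, 157, 42, [940, 932]⟩) (.leaf ⟨0, 12, 0, 0, []⟩))))) (.node (.node (.node (.node (.leaf ⟨12, 2, 19, 0, []⟩) (.leaf ⟨4, 7, 2, 26, [1135, 206, 1108]⟩)) (.node (.leaf ⟨111, 1, 112, 0, []⟩) (.leaf ⟨0, 12, 0, 0, []⟩))) (.node (.node (.leaf ⟨63, 3, 64, 0, []⟩) (.leaf ⟨0, 12, 0, 0, []⟩)) (.node (.leaf ⟨157, 7, 157, 17, [877, 271, 876]⟩) (.leaf ⟨0, 12, 0, 0, []⟩)))) (.node (.node (.node (.leaf ⟨31, 6, 31, 29, [237, 63, 236]⟩) (.leaf ⟨0, 12, 0, 0, []⟩)) (.node (.leaf ⟨134, 1, 135, 0, []⟩) (.leaf ⟨0, 12, 0, 0, []⟩))) (.node (.node (.leaf ⟨25, 3, 44, 24, [472, 349]⟩) (.leaf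 ⟨0, 12, 0, 0, []⟩)) (.node (.leaf ⟨57, 5, 43, 43, [982, 601]⟩) (.leaf ⟨0, 12, 0, 0, []⟩))))))))

def factA1 : Arr (CFact) :=
  (.node (.node (.node (.node (.node (.node (.node (.leaf ⟨0, 2, 0, 1, []⟩) (.leaf ⟨102, 5, 167, 43, [995, 957]⟩)) (.node (.leaf ⟨81, 1, 82, 0, []⟩) (.leaf ⟨0, 12, 0, 0, []⟩))) (.node (.node (.leaf ⟨11, 5, 35, 0, []⟩) (.leaf ⟨0, 12, 0, 0, []⟩)) (.node (.leaf ⟨32, 4, 138, 0, []⟩) (.leaf ⟨0, 12, 0, 0, []⟩)))) (.node (.node (.node (.leaf ⟨18, 0, 18, 12, [128, 124, 129]⟩) (.leaf ⟨93, 12, 22, 58, [1072, 1088]⟩)) (.node (.leaf ⟨109, 12, 102, 20, [641, 586]⟩) (.leaf ⟨0, 12, 0, 0, []⟩))) (.node (.node (.leaf ⟨59, 1, 68, 0, []⟩) (.leaf ⟨0, 12, 0, 0, []⟩)) (.node (.leaf ⟨38, 1, 160, 0, []⟩) (.leaf ⟨0, 12, 0, 0, []⟩))))) (.node (.node (.node (.node (.leaf ⟨10, 0, 10,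 12, [65, 63, 64]⟩) (.leaf ⟨6, 1, 12, 20, [1017, 83]⟩)) (.node (.leaf ⟨99, 2, 98, 13, [575, 571]⟩) (.leaf ⟨0, 12, 0, 0, []⟩))) (.node (.node (.leaf ⟨39, 4, 48, 37, [279, 98, 174, 321]⟩) (.leaf ⟨0, 12, 0, 0, []⟩)) (.node (.leaf ⟨146, 2, 86, 13, [831, 533]⟩) (.leaf ⟨0, 12, 0, 0, []⟩)))) (.node (.node (.node (.leaf ⟨24, 12, 17, 8, [188, 193, 101, 21, 106]⟩) (.leaf ⟨0, 12, 0, 0, []⟩)) (.node (.leaf ⟨119, 1, 120, 0, []⟩) (.leaf ⟨0, 12, 0, 0, []⟩))) (.node (.node (.leaf ⟨70, 3, 72, 24, [449, 417]⟩) (.leaf ⟨0, 12, 0, 0, []⟩)) (.node (.leaf ⟨167, 1, 168, 0, []⟩) (.leaf ⟨0, 12, 0, 0, []⟩)))))) (.node (.node (.node (.node (.node (.leaf ⟨7, 2, 2, 7, [33, 31, 29, 25, 21]⟩) (.leaf ⟨119, 5, 25, 43, [1003, 913, 1053]⟩)) (.node (.leaf ⟨29, 4, 91, 37, [229, 31, 224, 545]⟩) (.leaf ⟨0, 12, 0, 0, []⟩)))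 (.node (.node (.leaf ⟨41, 6, 41, 29, [287, 197, 286]⟩) (.leaf ⟨0, 12, 0, 0, []⟩)) (.node (.leaf ⟨113, 1, 79, 20, [800, 789]⟩) (.leaf ⟨0, 12, 0, 0, []⟩)))) (.node (.node (.node (.leaf ⟨4, 7, 10, 26, [153, 118]⟩) (.leaf ⟨29, 12, 34, 26, [1185, 257]⟩)) (.node (.leaf ⟨29, 11, 113, 0, []⟩) (.leaf ⟨0, 12, 0, 0, []⟩))) (.node (.node (.leaf ⟨73, 1, 74, 0, []⟩) (.leaf ⟨0, 12, 0, 0, []⟩)) (.node (.leaf ⟨138, 1, 165, 0, []⟩) (.leaf ⟨0, 12, 0, 0, []⟩))))) (.node (.node (.node (.node (.leaf ⟨14, 2, 3, 21, [95, 92]⟩) (.leaf ⟨8, 2, 8, 21, [1121, 200, 1118]⟩)) (.node (.leaf ⟨105, 1, 106, 0, []⟩) (.leaf ⟨0, 12, 0, 0, []⟩))) (.node (.node (.leaf ⟨22, 8, 58, 0, []⟩) (.leaf ⟨0, 12, 0, 0, []⟩)) (.node (.leaf ⟨101, 0, 155, 12, [584, 861, 865]⟩) (.leaf ⟨0, 12, 0, 0, []⟩)))) (.node (.node (.node (.leaf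 ⟨5, 5, 28, 0, []⟩) (.leaf ⟨0, 12, 0, 0, []⟩)) (.node (.leaf ⟨132, 6, 93, 29, [737, 238, 552]⟩) (.leaf ⟨0, 12, 0, 0, []⟩))) (.node (.node (.leaf ⟨48, 12, 45, 25, [481, 310]⟩) (.leaf ⟨0, 12, 0, 0, []⟩)) (.node (.leaf ⟨156, 12, 102, 21, [993, 663]⟩) (.leaf ⟨0, 12, 0, 0, []⟩))))))) (.node (.node (.node (.node (.node (.node (.leaf ⟨2, 7, 2, 4, [17, 15, 13, 1, 12]⟩) (.leaf ⟨25, 8, 135, 42, [999, 755]⟩)) (.node (.leaf ⟨26, 5, 86, 0, []⟩) (.leaf ⟨0, 12, 0, 0, []⟩))) (.node (.node (.leaf ⟨13, 5, 38, 0, []⟩) (.leaf ⟨0, 12, 0, 0, []⟩)) (.node (.leaf ⟨118, 7, 86, 4, [783, 780, 377, 223, 530]⟩) (.leaf ⟨0, 12, 0, 0, []⟩)))) (.node (.node (.node (.leaf ⟨5, 12, 20, 21, [145, 128]⟩) (.leaf ⟨66, 12, 29, 24, [1168, 1013]⟩)) (.node (.leaf ⟨105, 1, 105, 20, [657, 611]⟩) (.leaf ⟨0, 12, 0, 0, []⟩))) (.node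 (.node (.leaf ⟨25, 2, 71, 0, []⟩) (.leaf ⟨0, 12, 0, 0, []⟩)) (.node (.leaf ⟨161, 1, 162, 0, []⟩) (.leaf ⟨0, 12, 0, 0, []⟩))))) (.node (.node (.node (.node (.leaf ⟨12, 1, 13, 0, []⟩) (.leaf ⟨2, 12, 13, 44, [1105, 210]⟩)) (.node (.leaf ⟨100, 8, 103, 8, [581, 230, 593, 591]⟩) (.leaf ⟨0, 12, 0, 0, []⟩))) (.node (.node (.leaf ⟨54, 2, 55, 0, []⟩) (.leaf ⟨0, 12, 0, 0, []⟩)) (.node (.leaf ⟨150, 1, 151, 0, []⟩) (.leaf ⟨0, 12, 0, 0, []⟩)))) (.node (.node (.node (.leaf ⟨6, 10, 13, 16, [207, 199, 204]⟩) (.leaf ⟨0, 12, 0, 0, []⟩)) (.node (.leaf ⟨31, 1, 127, 0, []⟩) (.leaf ⟨0, 12, 0, 0, []⟩))) (.node (.node (.leaf ⟨49, 3, 69, 24, [457, 388]⟩) (.leaf ⟨0, 12, 0, 0, []⟩)) (.node (.leaf ⟨157, 12, 105, 28, [977, 804]⟩) (.leaf ⟨0, 12, 0, 0, []⟩)))))) (.node (.node (.node (.node (.node (.leaf ⟨4, 0,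 4, 5, [28, 49, 29]⟩) (.leaf ⟨22, 5, 18, 43, [1011, 299]⟩)) (.node (.leaf ⟨94, 6, 95, 0, []⟩) (.leaf ⟨0, 12, 0, 0, []⟩))) (.node (.node (.leaf ⟨43, 8, 43, 36, [299, 109, 13, 8, 12, 108, 298]⟩) (.leaf ⟨0, 12, 0, 0, []⟩)) (.node (.leaf ⟨142, 0, 114, 5, [817, 260, 678]⟩) (.leaf ⟨0, 12, 0, 0, []⟩)))) (.node (.node (.node (.leaf ⟨3, 5, 23, 0, []⟩) (.leaf ⟨34, 12, 0, 58, [1187, 1192]⟩)) (.node (.leaf ⟨117, 1, 118, 0, []⟩) (.leaf ⟨0, 12, 0, 0, []⟩))) (.node (.node (.leaf ⟨77, 3, 59, 24, [433, 431]⟩) (.leaf ⟨0, 12, 0, 0, []⟩)) (.node (.leaf ⟨159, 9, 57, 28, [940, 934]⟩) (.leaf ⟨0, 12, 0, 0, []⟩))))) (.node (.node (.node (.node (.leaf ⟨19, 0, 19, 12, [113, 79, 112]⟩) (.leaf ⟨2, 12, 10, 26, [1137, 162]⟩)) (.node (.leaf ⟨112, 2, 100, 18, [625, 623, 621, 619, 617, 615, 611, 607, 580]⟩) (.leaf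 ⟨0, 12, 0, 0, []⟩))) (.node (.node (.leaf ⟨64, 1, 65, 0, []⟩) (.leaf ⟨0, 12, 0, 0, []⟩)) (.node (.leaf ⟨156, 6, 157, 11, [875, 774, 879]⟩) (.leaf ⟨0, 12, 0, 0, []⟩)))) (.node (.node (.node (.leaf ⟨10, 4, 32, 0, []⟩) (.leaf ⟨0, 12, 0, 0, []⟩)) (.node (.leaf ⟨135, 9, 32, 14, [753, 750, 738, 559]⟩) (.leaf ⟨0, 12, 0, 0, []⟩))) (.node (.node (.leaf ⟨55, 3, 25, 24, [477, 403]⟩) (.leaf ⟨0, 12, 0, 0, []⟩)) (.node (.leaf ⟨43, 12, 22, 57, [1009, 351]⟩) (.leaf ⟨0, 12, 0, 0, []⟩))))))))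

def factA2 : Arr (CFact) :=
  (.node (.node (.node (.node (.node (.node (.node (.leaf ⟨0, 6, 0, 1, []⟩) (.leaf ⟨167, 12, 146, 57, [1027, 833]⟩)) (.node (.leaf ⟨82, 3, 83, 0, []⟩) (.leaf ⟨0, 12, 0, 0, []⟩))) (.node (.node (.leaf ⟨35, 0, 30, 2, [259, 72, 234]⟩) (.leaf ⟨0, 12, 0, 0, []⟩)) (.node (.leaf ⟨138, 6, 57, 29, [771, 244, 350]⟩) (.leaf ⟨0, 12, 0, 0, []⟩)))) (.node (.node (.node (.leaf ⟨18, 1, 21, 0, []⟩) (.leaf ⟨22, 4, 119, 57, [1155, 704]⟩)) (.node (.leaf ⟨101, 2, 111, 21, [638, 622]⟩) (.leaf ⟨0, 12, 0, 0, []⟩))) (.node (.node (.leaf ⟨68, 3, 69, 0, []⟩) (.leaf ⟨0, 12, 0, 0, []⟩)) (.node (.leaf ⟨160, 3, 125, 49, [899, 276, 678, 721, 719]⟩) (.leaf ⟨0, 12, 0, 0, []⟩))))) (.node (.node (.node (.node (.leaf ⟨10, 1, 11, 0, []⟩) (.leaf ⟨12, 12, 7, 20, [1091, 32]⟩)) (.node (.leaf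 ⟨29, 1, 100, 0, []⟩) (.leaf ⟨0, 12, 0, 0, []⟩))) (.node (.node (.leaf ⟨22, 2, 49, 0, []⟩) (.leaf ⟨0, 12, 0, 0, []⟩)) (.node (.leaf ⟨146, 1, 147, 0, []⟩) (.leaf ⟨0, 12, 0, 0, []⟩)))) (.node (.node (.node (.leaf ⟨17, 0, 17, 31, [195, 183, 194]⟩) (.leaf ⟨0, 12, 0, 0, []⟩)) (.node (.leaf ⟨120, 2, 121, 0, []⟩) (.leaf ⟨0, 12, 0, 0, []⟩))) (.node (.node (.leaf ⟨72, 12, 71, 21, [451, 405]⟩) (.leaf ⟨0, 12, 0, 0, []⟩)) (.node (.leaf ⟨168, 6, 150, 15, [963, 955, 948, 953, 851]⟩) (.leaf ⟨0, 12, 0, 0, []⟩)))))) (.node (.node (.node (.node (.node (.leaf ⟨3, 8, 6, 8, [21, 16, 35, 33]⟩) (.leaf ⟨25, 12, 93, 57, [1059, 705]⟩)) (.node (.leaf ⟨27, 2, 92, 0, []⟩) (.leaf ⟨0, 12, 0, 0, []⟩))) (.node (.node (.leaf ⟨17, 5, 42, 0, []⟩) (.leaf ⟨0, 12, 0, 0, []⟩)) (.node (.leaf ⟨113, 8, 105, 42, [800, 790]⟩)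 (.leaf ⟨0, 12, 0, 0, []⟩)))) (.node (.node (.node (.leaf ⟨4, 10, 6, 27, [153, 121]⟩) (.leaf ⟨163, 12, 2, 58, [1066, 1178]⟩)) (.node (.leaf ⟨113, 7, 100, 22, [675, 231, 580]⟩) (.leaf ⟨0, 12, 0, 0, []⟩))) (.node (.node (.leaf ⟨74, 2, 75, 0, []⟩) (.leaf ⟨0, 12, 0, 0, []⟩)) (.node (.leaf ⟨165, 8, 157, 8, [931, 772, 879, 885]⟩) (.leaf ⟨0, 12, 0, 0, []⟩))))) (.node (.node (.node (.node (.leaf ⟨3, 2, 13, 13, [99, 87]⟩) (.leaf ⟨8, 12, 7, 24, [1123, 56]⟩)) (.node (.leaf ⟨106, 6, 102, 15, [611, 607, 580, 585, 586]⟩) (.leaf ⟨0, 12, 0, 0, []⟩))) (.node (.node (.leaf ⟨22, 10, 59, 0, []⟩) (.leaf ⟨0, 12, 0, 0, []⟩)) (.node (.leaf ⟨155, 1, 156, 0, []⟩) (.leaf ⟨0, 12, 0, 0, []⟩)))) (.node (.node (.node (.leaf ⟨6, 4, 29, 0, []⟩) (.leaf ⟨0, 12, 0, 0, []⟩)) (.node (.leaf ⟨132, 2, 32, 38, [737, 237,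 64, 242]⟩) (.leaf ⟨0, 12, 0, 0, []⟩))) (.node (.node (.leaf ⟨44, 7, 45, 26, [460, 400, 482]⟩) (.leaf ⟨0, 12, 0, 0, []⟩)) (.node (.leaf ⟨79, 5, 32, 43, [975, 771]⟩) (.leaf ⟨0, 12, 0, 0, []⟩))))))) (.node (.node (.node (.node (.node (.node (.leaf ⟨2, 1, 3, 0, []⟩) (.leaf ⟨135, 12, 25, 28, [1043, 219]⟩)) (.node (.leaf ⟨86, 2, 35, 39, [531, 221, 158, 258]⟩) (.leaf ⟨0, 12, 0, 0, []⟩))) (.node (.node (.leaf ⟨38, 6, 30, 3, [275, 171, 258, 260]⟩) (.leaf ⟨0, 12, 0, 0, []⟩)) (.node (.leaf ⟨79, 1, 140, 0, []⟩) (.leaf ⟨0, 12, 0, 0, []⟩)))) (.node (.node (.node (.leaf ⟨18, 6, 10, 25, [141, 134]⟩) (.leaf ⟨118, 12, 29, 58, [1057, 1170]⟩)) (.node (.leaf ⟨105, 6, 102, 25, [657, 612]⟩) (.leaf ⟨0, 12, 0, 0, []⟩))) (.node (.node (.leaf ⟨71, 2, 70, 13, [403, 393]⟩) (.leaf ⟨0, 12, 0, 0, []⟩)) (.node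 (.leaf ⟨162, 6, 123, 15, [915, 905, 898, 903, 715]⟩) (.leaf ⟨0, 12, 0, 0, []⟩))))) (.node (.node (.node (.node (.leaf ⟨13, 0, 13, 5, [83, 79, 82]⟩) (.leaf ⟨6, 12, 2, 58, [1017, 1107]⟩)) (.node (.leaf ⟨57, 0, 104, 9, [352, 268, 593]⟩) (.leaf ⟨0, 12, 0, 0, []⟩))) (.node (.node (.leaf ⟨55, 1, 56, 0, []⟩) (.leaf ⟨0, 12, 0, 0, []⟩)) (.node (.leaf ⟨151, 2, 152, 0, []⟩) (.leaf ⟨0, 12, 0, 0, []⟩)))) (.node (.node (.node (.leaf ⟨4, 4, 25, 0, []⟩) (.leaf ⟨0, 12, 0, 0, []⟩)) (.node (.leaf ⟨127, 6, 128, 0, []⟩) (.leaf ⟨0, 12, 0, 0, []⟩))) (.node (.node (.leaf ⟨69, 12, 22, 21, [467, 325]⟩) (.leaf ⟨0, 12, 0, 0, []⟩)) (.node (.leaf ⟨113, 9, 57, 28, [970, 946]⟩) (.leaf ⟨0, 12, 0, 0, []⟩)))))) (.node (.node (.node (.node (.node (.leaf ⟨2, 2, 8, 0, []⟩) (.leaf ⟨18, 12, 3, 57, [1075, 175]⟩)) (.node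 (.leaf ⟨95, 1, 96, 0, []⟩) (.leaf ⟨0, 12, 0, 0, []⟩))) (.node (.node (.leaf ⟨22, 1, 44, 0, []⟩) (.leaf ⟨0, 12, 0, 0, []⟩)) (.node (.leaf ⟨113, 5, 142, 51, [676, 684, 681, 819]⟩) (.leaf ⟨0, 12, 0, 0, []⟩)))) (.node (.node (.node (.leaf ⟨10, 2, 24, 0, []⟩) (.leaf ⟨0, 4, 0, 57, [1201, 252, 1202]⟩)) (.node (.leaf ⟨118, 2, 30, 7, [691, 689, 687, 681, 679]⟩) (.leaf ⟨0, 12, 0, 0, []⟩))) (.node (.node (.leaf ⟨59, 12, 76, 21, [435, 425]⟩) (.leaf ⟨0, 12, 0, 0, []⟩)) (.node (.leaf ⟨42, 1, 166, 0, []⟩) (.leaf ⟨0, 12, 0, 0, []⟩))))) (.node (.node (.node (.node (.leaf ⟨19, 2, 11, 13, [113, 77]⟩) (.leaf ⟨4, 12, 2, 58, [1041, 1139]⟩)) (.node (.leaf ⟨101, 2, 112, 13, [584, 627]⟩) (.leaf ⟨0, 12, 0, 0, []⟩))) (.node (.node (.leaf ⟨65, 2, 23, 7, [371, 369, 367, 365, 363]⟩) (.leaf ⟨0, 12, 0, 0, []⟩))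 (.node (.leaf ⟨157, 1, 157, 19, [878, 672, 290, 673, 879]⟩) (.leaf ⟨0, 12, 0, 0, []⟩)))) (.node (.node (.node (.leaf ⟨32, 0, 22, 34, [243, 67, 149, 110, 174]⟩) (.leaf ⟨0, 12, 0, 0, []⟩)) (.node (.leaf ⟨135, 2, 136, 0, []⟩) (.leaf ⟨0, 12, 0, 0, []⟩))) (.node (.node (.leaf ⟨45, 5, 39, 43, [483, 323]⟩) (.leaf ⟨0, 12, 0, 0, []⟩)) (.node (.leaf ⟨29, 3, 57, 24, [987, 353]⟩) (.leaf ⟨0, 12, 0, 0, []⟩))))))))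

def factA3 : Arr (CFact) :=
  (.node (.node (.node (.node (.node (.node (.node (.leaf ⟨0, 7, 0, 1, []⟩) (.leaf ⟨25, 1, 93, 20, [999, 558]⟩)) (.node (.leaf ⟨83, 1, 84, 0, []⟩) (.leaf ⟨0, 12, 0, 0, []⟩))) (.node (.node (.leaf ⟨12, 4, 36, 0, []⟩) (.leaf ⟨0, 12, 0, 0, []⟩)) (.node (.leaf ⟨138, 7, 57, 32, [771, 244, 177, 350]⟩) (.leaf ⟨0, 12, 0, 0, []⟩)))) (.node (.node (.node (.leaf ⟨21, 6, 10, 15, [133, 128, 123, 116, 69]⟩) (.leaf ⟨119, 12, 57, 43, [1157, 350]⟩)) (.node (.leaf ⟨102, 3, 108, 24, [643, 619]⟩) (.leaf ⟨0, 12, 0, 0, []⟩))) (.node (.node (.leaf ⟨69, 1, 70, 0, []⟩) (.leaf ⟨0, 12, 0, 0, []⟩)) (.node (.leaf ⟨124, 3, 160, 52, [716, 901]⟩) (.leaf ⟨0, 12, 0, 0, []⟩))))) (.node (.node (.node (.node (.leaf ⟨11, 0, 11, 5, [69, 67, 68]⟩) (.leaf ⟨6, 8, 11, 42, [1017, 209, 1024]⟩))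 (.node (.leaf ⟨100, 6, 101, 0, []⟩) (.leaf ⟨0, 12, 0, 0, []⟩))) (.node (.node (.leaf ⟨49, 2, 48, 13, [325, 321]⟩) (.leaf ⟨0, 12, 0, 0, []⟩)) (.node (.leaf ⟨147, 2, 148, 0, []⟩) (.leaf ⟨0, 12, 0, 0, []⟩)))) (.node (.node (.node (.leaf ⟨17, 1, 17, 20, [195, 189, 194]⟩) (.leaf ⟨0, 12, 0, 0, []⟩)) (.node (.leaf ⟨121, 1, 122, 0, []⟩) (.leaf ⟨0, 12, 0, 0, []⟩))) (.node (.node (.leaf ⟨71, 6, 68, 25, [453, 412]⟩) (.leaf ⟨0, 12, 0, 0, []⟩)) (.node (.leaf ⟨150, 11, 146, 6, [965, 963, 960]⟩) (.leaf ⟨0, 12, 0, 0, []⟩)))))) (.node (.node (.node (.node (.node (.leaf ⟨7, 0, 7, 9, [34, 14, 35]⟩) (.leaf ⟨53, 12, 25, 58, [1033, 1061]⟩)) (.node (.leaf ⟨92, 2, 91, 13, [549, 545]⟩) (.leaf ⟨0, 12, 0, 0, []⟩))) (.node (.node (.leaf ⟨42, 6, 35, 3, [293, 206, 234, 261]⟩) (.leaf ⟨0, 12, 0, 0, []⟩)) (.node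 (.leaf ⟨113, 9, 104, 28, [800, 792]⟩) (.leaf ⟨0, 12, 0, 0, []⟩)))) (.node (.node (.node (.leaf ⟨13, 12, 16, 14, [83, 161, 25, 21, 104]⟩) (.leaf ⟨2, 4, 29, 57, [1189, 922, 1170]⟩)) (.node (.leaf ⟨30, 1, 114, 0, []⟩) (.leaf ⟨0, 12, 0, 0, []⟩))) (.node (.node (.leaf ⟨75, 1, 76, 0, []⟩) (.leaf ⟨0, 12, 0, 0, []⟩)) (.node (.leaf ⟨165, 9, 57, 14, [931, 776, 291, 673]⟩) (.leaf ⟨0, 12, 0, 0, []⟩))))) (.node (.node (.node (.node (.leaf ⟨12, 6, 9, 15, [82, 101, 21, 52, 58]⟩) (.leaf ⟨17, 12, 7, 58, [1120, 1124]⟩)) (.node (.leaf ⟨106, 2, 107, 0, []⟩) (.leaf ⟨0, 12, 0, 0, []⟩))) (.node (.node (.leaf ⟨22, 11, 60, 0, []⟩) (.leaf ⟨0, 12, 0, 0, []⟩)) (.node (.leaf ⟨156, 0, 102, 5, [869, 867, 586]⟩) (.leaf ⟨0, 12, 0, 0, []⟩)))) (.node (.node (.node (.leaf ⟨29, 6, 29, 29, [229, 47, 228]⟩) (.leaf ⟨0,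 12, 0, 0, []⟩)) (.node (.leaf ⟨43, 10, 132, 16, [304, 558, 739]⟩) (.leaf ⟨0, 12, 0, 0, []⟩))) (.node (.node (.leaf ⟨45, 12, 60, 26, [485, 361]⟩) (.leaf ⟨0, 12, 0, 0, []⟩)) (.node (.leaf ⟨32, 12, 25, 57, [997, 507]⟩) (.leaf ⟨0, 12, 0, 0, []⟩))))))) (.node (.node (.node (.node (.node (.node (.leaf ⟨3, 0, 3, 5, [21, 15, 20]⟩) (.leaf ⟨25, 9, 137, 28, [999, 767]⟩)) (.node (.leaf ⟨27, 1, 87, 0, []⟩) (.leaf ⟨0, 12, 0, 0, []⟩))) (.node (.node (.leaf ⟨14, 4, 39, 0, []⟩) (.leaf ⟨0, 12, 0, 0, []⟩)) (.node (.leaf ⟨140, 8, 105, 8, [789, 602, 609, 659]⟩) (.leaf ⟨0, 12, 0, 0, []⟩)))) (.node (.node (.node (.leaf ⟨5, 1, 19, 20, [146, 123]⟩) (.leaf ⟨29, 5, 92, 43, [1173, 697]⟩)) (.node (.leaf ⟨102, 2, 79, 47, [661, 608, 604]⟩) (.leaf ⟨0, 12, 0, 0, []⟩))) (.node (.node (.leaf ⟨49, 6, 71, 11, [326,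 401, 405]⟩) (.leaf ⟨0, 12, 0, 0, []⟩)) (.node (.leaf ⟨121, 9, 161, 14, [710, 712, 917, 915]⟩) (.leaf ⟨0, 12, 0, 0, []⟩))))) (.node (.node (.node (.node (.leaf ⟨13, 2, 14, 0, []⟩) (.leaf ⟨131, 2, 36, 21, [1020, 810]⟩)) (.node (.leaf ⟨99, 5, 104, 10, [576, 550, 547, 593]⟩) (.leaf ⟨0, 12, 0, 0, []⟩))) (.node (.node (.leaf ⟨56, 2, 44, 18, [341, 339, 337, 335, 333, 331, 329, 325, 308]⟩) (.leaf ⟨0, 12, 0, 0, []⟩)) (.node (.leaf ⟨152, 1, 153, 0, []⟩) (.leaf ⟨0, 12, 0, 0, []⟩)))) (.node (.node (.node (.leaf ⟨25, 6, 25, 29, [213, 51, 212]⟩) (.leaf ⟨0, 12, 0, 0, []⟩)) (.node (.leaf ⟨128, 1, 129, 0, []⟩) (.leaf ⟨0, 12, 0, 0, []⟩))) (.node (.node (.leaf ⟨44, 2, 25, 21, [460, 392]⟩) (.leaf ⟨0, 12, 0, 0, []⟩)) (.node (.leaf ⟨57, 12, 104, 42, [981, 806]⟩) (.leaf ⟨0, 12, 0, 0, []⟩)))))) (.node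 (.node (.node (.node (.node (.leaf ⟨8, 0, 8, 12, [53, 15, 52]⟩) (.leaf ⟨22, 8, 22, 42, [1011, 306, 1010]⟩)) (.node (.leaf ⟨96, 3, 97, 0, []⟩) (.leaf ⟨0, 12, 0, 0, []⟩))) (.node (.node (.leaf ⟨44, 6, 45, 0, []⟩) (.leaf ⟨0, 12, 0, 0, []⟩)) (.node (.leaf ⟨142, 6, 143, 0, []⟩) (.leaf ⟨0, 12, 0, 0, []⟩)))) (.node (.node (.node (.leaf ⟨24, 0, 24, 12, [181, 67, 180]⟩) (.leaf ⟨0, 12, 1, 43, [1205, 10]⟩)) (.node (.leaf ⟨86, 0, 118, 9, [532, 260, 693]⟩) (.leaf ⟨0, 12, 0, 0, []⟩))) (.node (.node (.leaf ⟨59, 1, 75, 20, [436, 423]⟩) (.leaf ⟨0, 12, 0, 0, []⟩)) (.node (.leaf ⟨166, 3, 152, 49, [949, 294, 816, 857, 855]⟩) (.leaf ⟨0, 12, 0, 0, []⟩))))) (.node (.node (.node (.node (.leaf ⟨19, 7, 10, 17, [113, 102, 64]⟩) (.leaf ⟨7, 12, 2, 58, [1132, 1140]⟩)) (.node (.leaf ⟨112, 12, 111, 19, [626, 581,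 230, 580, 627, 625]⟩) (.leaf ⟨0, 12, 0, 0, []⟩))) (.node (.node (.leaf ⟨40, 5, 65, 10, [285, 98, 178, 373]⟩) (.leaf ⟨0, 12, 0, 0, []⟩)) (.node (.leaf ⟨157, 4, 65, 53, [880, 883, 870, 814, 523]⟩) (.leaf ⟨0, 12, 0, 0, []⟩)))) (.node (.node (.node (.leaf ⟨10, 5, 33, 0, []⟩) (.leaf ⟨0, 12, 0, 0, []⟩)) (.node (.leaf ⟨136, 2, 137, 0, []⟩) (.leaf ⟨0, 12, 0, 0, []⟩))) (.node (.node (.leaf ⟨45, 10, 22, 27, [486, 359]⟩) (.leaf ⟨0, 12, 0, 0, []⟩)) (.node (.leaf ⟨29, 5, 13, 43, [987, 267]⟩) (.leaf ⟨0, 12, 0, 0, []⟩))))))))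

def factA4 : Arr (CFact) :=
  (.node (.node (.node (.node (.node (.node (.node (.leaf ⟨0, 8, 0, 1, []⟩) (.leaf ⟨93, 12, 53, 20, [1031, 494]⟩)) (.node (.leaf ⟨84, 2, 26, 7, [519, 517, 515, 513, 511]⟩) (.leaf ⟨0, 12, 0, 0, []⟩))) (.node (.node (.leaf ⟨36, 7, 31, 32, [263, 79, 102, 236]⟩) (.leaf ⟨0, 12, 0, 0, []⟩)) (.node (.leaf ⟨138, 2, 41, 38, [771, 243, 203, 286]⟩) (.leaf ⟨0, 12, 0, 0, []⟩)))) (.node (.node (.node (.leaf ⟨21, 2, 6, 18, [133, 128, 123, 113, 82, 101, 21, 35, 33]⟩) (.leaf ⟨22, 5, 31, 43, [1149, 737]⟩)) (.node (.leaf ⟨108, 12, 103, 21, [647, 588]⟩) (.leaf ⟨0, 12, 0, 0, []⟩))) (.node (.node (.leaf ⟨70, 2, 25, 7, [391, 389, 387, 383, 381]⟩) (.leaf ⟨0, 12, 0, 0, []⟩)) (.node (.leaf ⟨38, 2, 161, 0, []⟩) (.leaf ⟨0, 12, 0, 0, []⟩))))) (.node (.node (.node (.node (.leaf ⟨11,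 6, 6, 15, [69, 65, 59, 56, 33]⟩) (.leaf ⟨11, 12, 9, 28, [1095, 61]⟩)) (.node (.leaf ⟨101, 3, 100, 41, [583, 581, 233, 580]⟩) (.leaf ⟨0, 12, 0, 0, []⟩))) (.node (.node (.leaf ⟨49, 1, 50, 0, []⟩) (.leaf ⟨0, 12, 0, 0, []⟩)) (.node (.leaf ⟨148, 1, 149, 0, []⟩) (.leaf ⟨0, 12, 0, 0, []⟩)))) (.node (.node (.node (.leaf ⟨17, 2, 9, 21, [195, 184]⟩) (.leaf ⟨0, 12, 0, 0, []⟩)) (.node (.leaf ⟨122, 2, 123, 0, []⟩) (.leaf ⟨0, 12, 0, 0, []⟩))) (.node (.node (.leaf ⟨68, 12, 49, 25, [455, 407]⟩) (.leaf ⟨0, 12, 0, 0, []⟩)) (.node (.leaf ⟨121, 5, 150, 56, [918, 913, 312, 506, 799, 833, 967]⟩) (.leaf ⟨0, 12, 0, 0, []⟩)))))) (.node (.node (.node (.node (.node (.leaf ⟨2, 5, 7, 10, [13, 2, 12, 35]⟩) (.leaf ⟨99, 4, 163, 57, [1006, 926]⟩)) (.node (.leaf ⟨27, 4, 93, 0, []⟩) (.leaf ⟨0, 12, 0, 0, []⟩))) (.node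 (.node (.leaf ⟨30, 7, 42, 35, [235, 46, 234, 261, 295]⟩) (.leaf ⟨0, 12, 0, 0, []⟩)) (.node (.leaf ⟨34, 4, 141, 0, []⟩) (.leaf ⟨0, 12, 0, 0, []⟩)))) (.node (.node (.node (.leaf ⟨13, 9, 2, 28, [166, 105]⟩) (.leaf ⟨29, 12, 0, 43, [1191, 13]⟩)) (.node (.leaf ⟨114, 6, 115, 0, []⟩) (.leaf ⟨0, 12, 0, 0, []⟩))) (.node (.node (.leaf ⟨76, 2, 77, 0, []⟩) (.leaf ⟨0, 12, 0, 0, []⟩)) (.node (.leaf ⟨165, 3, 165, 49, [931, 772, 672, 777, 930]⟩) (.leaf ⟨0, 12, 0, 0, []⟩))))) (.node (.node (.node (.node (.leaf ⟨2, 8, 16, 0, []⟩) (.leaf ⟨7, 3, 4, 24, [1127, 202, 1040]⟩)) (.node (.leaf ⟨107, 1, 108, 0, []⟩) (.leaf ⟨0, 12, 0, 0, []⟩))) (.node (.node (.leaf ⟨60, 7, 44, 22, [359, 177, 308]⟩) (.leaf ⟨0, 12, 0, 0, []⟩)) (.node (.leaf ⟨156, 3, 41, 49, [869, 863, 859, 353, 672]⟩) (.leaf ⟨0, 12, 0, 0, []⟩))))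 (.node (.node (.node (.leaf ⟨29, 9, 29, 33, [229, 165, 212, 218, 213, 164, 228]⟩) (.leaf ⟨0, 12, 0, 0, []⟩)) (.node (.leaf ⟨132, 1, 133, 0, []⟩) (.leaf ⟨0, 12, 0, 0, []⟩))) (.node (.node (.leaf ⟨50, 11, 22, 44, [465, 357]⟩) (.leaf ⟨0, 12, 0, 0, []⟩)) (.node (.leaf ⟨105, 5, 161, 43, [979, 907]⟩) (.leaf ⟨0, 12, 0, 0, []⟩))))))) (.node (.node (.node (.node (.node (.node (.leaf ⟨3, 6, 4, 0, []⟩) (.leaf ⟨137, 12, 25, 42, [1047, 218]⟩)) (.node (.leaf ⟨87, 6, 88, 0, []⟩) (.leaf ⟨0, 12, 0, 0, []⟩))) (.node (.node (.leaf ⟨39, 0, 36, 34, [279, 89, 157, 81, 262]⟩) (.leaf ⟨0, 12, 0, 0, []⟩)) (.node (.leaf ⟨140, 9, 104, 14, [789, 508, 255, 666]⟩) (.leaf ⟨0, 12, 0, 0, []⟩)))) (.node (.node (.node (.leaf ⟨19, 12, 4, 20, [151, 29]⟩) (.leaf ⟨92, 12, 6, 57, [1175, 229]⟩)) (.node (.leaf ⟨34, 12, 103,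 13, [509, 663, 588]⟩) (.leaf ⟨0, 12, 0, 0, []⟩))) (.node (.node (.leaf ⟨71, 1, 72, 0, []⟩) (.leaf ⟨0, 12, 0, 0, []⟩)) (.node (.leaf ⟨39, 2, 163, 0, []⟩) (.leaf ⟨0, 12, 0, 0, []⟩))))) (.node (.node (.node (.node (.leaf ⟨14, 0, 14, 12, [87, 85, 86]⟩) (.leaf ⟨36, 12, 31, 24, [1111, 732]⟩)) (.node (.leaf ⟨43, 4, 104, 37, [299, 142, 228, 593]⟩) (.leaf ⟨0, 12, 0, 0, []⟩))) (.node (.node (.leaf ⟨56, 12, 55, 19, [342, 309, 176, 308, 343, 341]⟩) (.leaf ⟨0, 12, 0, 0, []⟩)) (.node (.leaf ⟨153, 2, 142, 18, [855, 853, 851, 845, 841, 839, 837, 831, 816]⟩) (.leaf ⟨0, 12, 0, 0, []⟩)))) (.node (.node (.node (.leaf ⟨25, 7, 22, 32, [213, 51, 25, 174]⟩) (.leaf ⟨0, 12, 0, 0, []⟩)) (.node (.leaf ⟨129, 3, 130, 0, []⟩) (.leaf ⟨0, 12, 0, 0, []⟩))) (.node (.node (.leaf ⟨25, 12, 54, 24, [471, 348]⟩) (.leaf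 ⟨0, 12, 0, 0, []⟩)) (.node (.leaf ⟨113, 10, 37, 27, [970, 895]⟩) (.leaf ⟨0, 12, 0, 0, []⟩)))))) (.node (.node (.node (.node (.node (.leaf ⟨8, 2, 7, 13, [53, 35]⟩) (.leaf ⟨22, 12, 50, 28, [1079, 505]⟩)) (.node (.leaf ⟨97, 1, 98, 0, []⟩) (.leaf ⟨0, 12, 0, 0, []⟩))) (.node (.node (.leaf ⟨45, 11, 25, 6, [311, 309, 217]⟩) (.leaf ⟨0, 12, 0, 0, []⟩)) (.node (.leaf ⟨143, 1, 144, 0, []⟩) (.leaf ⟨0, 12, 0, 0, []⟩)))) (.node (.node (.node (.leaf ⟨24, 2, 9, 13, [181, 65]⟩) (.leaf ⟨0, 5, 0, 43, [1206, 11]⟩)) (.node (.leaf ⟨92, 4, 118, 37, [577, 578, 573, 693]⟩) (.leaf ⟨0, 12, 0, 0, []⟩))) (.node (.node (.leaf ⟨75, 12, 68, 20, [439, 386]⟩) (.leaf ⟨0, 12, 0, 0, []⟩)) (.node (.leaf ⟨151, 3, 166, 52, [852, 951]⟩) (.leaf ⟨0, 12, 0, 0, []⟩))))) (.node (.node (.node (.node (.leaf ⟨6, 11, 19, 6, [73,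 69, 119]⟩) (.leaf ⟨146, 2, 139, 21, [1029, 958]⟩)) (.node (.leaf ⟨111, 1, 111, 20, [631, 625]⟩) (.leaf ⟨0, 12, 0, 0, []⟩))) (.node (.node (.leaf ⟨23, 5, 66, 0, []⟩) (.leaf ⟨0, 12, 0, 0, []⟩)) (.node (.leaf ⟨155, 2, 158, 0, []⟩) (.leaf ⟨0, 12, 0, 0, []⟩)))) (.node (.node (.node (.leaf ⟨33, 6, 23, 3, [247, 163, 220, 222]⟩) (.leaf ⟨0, 12, 0, 0, []⟩)) (.node (.leaf ⟨137, 2, 135, 13, [759, 757]⟩) (.leaf ⟨0, 12, 0, 0, []⟩))) (.node (.node (.leaf ⟨50, 9, 22, 28, [492, 355]⟩) (.leaf ⟨0, 12, 0, 0, []⟩)) (.node (.leaf ⟨13, 12, 6, 57, [1015, 229]⟩) (.leaf ⟨0, 12, 0, 0, []⟩))))))))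

def factA5 : Arr (CFact) :=
  (.node (.node (.node (.node (.node (.node (.node (.leaf ⟨0, 4, 1, 0, []⟩) (.leaf ⟨25, 3, 132, 24, [999, 741]⟩)) (.node (.leaf ⟨65, 0, 84, 9, [372, 223, 521]⟩) (.leaf ⟨0, 12, 0, 0, []⟩))) (.node (.node (.leaf ⟨13, 4, 37, 0, []⟩) (.leaf ⟨0, 12, 0, 0, []⟩)) (.node (.leaf ⟨33, 5, 139, 0, []⟩) (.leaf ⟨0, 12, 0, 0, []⟩)))) (.node (.node (.node (.leaf ⟨5, 2, 21, 13, [30, 137]⟩) (.leaf ⟨31, 12, 3, 57, [1161, 175]⟩)) (.node (.leaf ⟨103, 1, 107, 20, [649, 617]⟩) (.leaf ⟨0, 12, 0, 0, []⟩))) (.node (.node (.leaf ⟨36, 4, 70, 37, [263, 161, 212, 393]⟩) (.leaf ⟨0, 12, 0, 0, []⟩)) (.node (.leaf ⟨161, 4, 157, 45, [905, 275, 266, 876]⟩) (.leaf ⟨0, 12, 0, 0, []⟩))))) (.node (.node (.node (.node (.leaf ⟨7, 10, 11, 16, [44, 33, 73]⟩) (.leaf ⟨6, 9, 2, 28, [1017, 168]⟩))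 (.node (.leaf ⟨101, 1, 102, 0, []⟩) (.leaf ⟨0, 12, 0, 0, []⟩))) (.node (.node (.leaf ⟨50, 2, 51, 0, []⟩) (.leaf ⟨0, 12, 0, 0, []⟩)) (.node (.leaf ⟨149, 6, 145, 15, [841, 839, 837, 834, 829]⟩) (.leaf ⟨0, 12, 0, 0, []⟩)))) (.node (.node (.node (.leaf ⟨17, 3, 10, 24, [195, 181]⟩) (.leaf ⟨0, 12, 0, 0, []⟩)) (.node (.leaf ⟨123, 1, 124, 0, []⟩) (.leaf ⟨0, 12, 0, 0, []⟩))) (.node (.node (.leaf ⟨71, 8, 44, 42, [453, 410]⟩) (.leaf ⟨0, 12, 0, 0, []⟩)) (.node (.leaf ⟨113, 12, 159, 33, [820, 848, 969, 918, 913, 502, 350, 947]⟩) (.leaf ⟨0, 12, 0, 0, []⟩)))))) (.node (.node (.node (.node (.node (.leaf ⟨7, 6, 7, 11, [34, 18, 35]⟩) (.leaf ⟨163, 12, 92, 43, [1065, 576]⟩)) (.node (.leaf ⟨93, 0, 44, 34, [553, 239, 241, 265, 479]⟩) (.leaf ⟨0, 12, 0, 0, []⟩))) (.node (.node (.leaf ⟨18, 4, 43, 0, []⟩)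 (.leaf ⟨0, 12, 0, 0, []⟩)) (.node (.leaf ⟨141, 2, 36, 38, [809, 253, 76, 262]⟩) (.leaf ⟨0, 12, 0, 0, []⟩)))) (.node (.node (.node (.leaf ⟨11, 7, 13, 17, [159, 25, 100]⟩) (.leaf ⟨36, 12, 2, 58, [1112, 1164]⟩)) (.node (.leaf ⟨115, 11, 42, 6, [681, 679, 296]⟩) (.leaf ⟨0, 12, 0, 0, []⟩))) (.node (.node (.leaf ⟨77, 1, 78, 0, []⟩) (.leaf ⟨0, 12, 0, 0, []⟩)) (.node (.leaf ⟨165, 6, 158, 15, [931, 874, 869, 888, 893]⟩) (.leaf ⟨0, 12, 0, 0, []⟩))))) (.node (.node (.node (.node (.leaf ⟨2, 9, 17, 0, []⟩) (.leaf ⟨4, 12, 8, 21, [1129, 57]⟩)) (.node (.leaf ⟨108, 2, 109, 0, []⟩) (.leaf ⟨0, 12, 0, 0, []⟩))) (.node (.node (.leaf ⟨23, 1, 61, 0, []⟩) (.leaf ⟨0, 12, 0, 0, []⟩)) (.node (.leaf ⟨138, 3, 156, 52, [776, 873]⟩) (.leaf ⟨0, 12, 0, 0, []⟩)))) (.node (.node (.node (.leaf ⟨6, 5, 30, 0, []⟩) (.leaf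 ⟨0, 12, 0, 0, []⟩)) (.node (.leaf ⟨133, 3, 133, 49, [745, 738, 559, 741, 744]⟩) (.leaf ⟨0, 12, 0, 0, []⟩))) (.node (.node (.leaf ⟨22, 8, 50, 42, [469, 398]⟩) (.leaf ⟨0, 12, 0, 0, []⟩)) (.node (.leaf ⟨161, 12, 119, 57, [1001, 701]⟩) (.leaf ⟨0, 12, 0, 0, []⟩))))))) (.node (.node (.node (.node (.node (.node (.leaf ⟨4, 11, 2, 6, [25, 21, 19]⟩) (.leaf ⟨25, 10, 25, 27, [999, 769, 1044]⟩)) (.node (.leaf ⟨88, 1, 89, 0, []⟩) (.leaf ⟨0, 12, 0, 0, []⟩))) (.node (.node (.leaf ⟨39, 6, 39, 29, [279, 89, 278]⟩) (.leaf ⟨0, 12, 0, 0, []⟩)) (.node (.leaf ⟨140, 3, 140, 49, [789, 602, 667, 509, 788]⟩) (.leaf ⟨0, 12, 0, 0, []⟩)))) (.node (.node (.node (.leaf ⟨5, 2, 18, 21, [146, 129]⟩) (.leaf ⟨92, 12, 2, 58, [1176, 1108]⟩)) (.node (.leaf ⟨34, 1, 104, 20, [664, 590]⟩) (.leaf ⟨0, 12, 0, 0, []⟩))) (.node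 (.node (.leaf ⟨72, 8, 44, 8, [409, 407, 325, 308]⟩) (.leaf ⟨0, 12, 0, 0, []⟩)) (.node (.leaf ⟨163, 4, 66, 45, [921, 501, 912, 908]⟩) (.leaf ⟨0, 12, 0, 0, []⟩))))) (.node (.node (.node (.node (.leaf ⟨14, 1, 15, 0, []⟩) (.leaf ⟨17, 12, 9, 58, [1024, 1096]⟩)) (.node (.leaf ⟨79, 6, 104, 11, [508, 256, 593]⟩) (.leaf ⟨0, 12, 0, 0, []⟩))) (.node (.node (.leaf ⟨55, 2, 44, 21, [345, 342]⟩) (.leaf ⟨0, 12, 0, 0, []⟩)) (.node (.leaf ⟨37, 1, 154, 0, []⟩) (.leaf ⟨0, 12, 0, 0, []⟩)))) (.node (.node (.node (.leaf ⟨25, 9, 25, 33, [213, 26, 13, 9, 12, 27, 212]⟩) (.leaf ⟨0, 12, 0, 0, []⟩)) (.node (.leaf ⟨130, 1, 131, 0, []⟩) (.leaf ⟨0, 12, 0, 0, []⟩))) (.node (.node (.leaf ⟨44, 3, 71, 24, [460, 405]⟩) (.leaf ⟨0, 12, 0, 0, []⟩)) (.node (.leaf ⟨37, 12, 29, 44, [985, 675]⟩) (.leaf ⟨0, 12, 0, 0, []⟩))))))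 (.node (.node (.node (.node (.node (.leaf ⟨8, 1, 9, 0, []⟩) (.leaf ⟨132, 12, 25, 58, [1036, 1071]⟩)) (.node (.leaf ⟨98, 2, 28, 7, [569, 567, 565, 563, 561]⟩) (.leaf ⟨0, 12, 0, 0, []⟩))) (.node (.node (.leaf ⟨45, 1, 46, 0, []⟩) (.leaf ⟨0, 12, 0, 0, []⟩)) (.node (.leaf ⟨144, 3, 145, 0, []⟩) (.leaf ⟨0, 12, 0, 0, []⟩)))) (.node (.node (.node (.leaf ⟨24, 7, 6, 17, [181, 149, 142]⟩) (.leaf ⟨0, 12, 0, 0, []⟩)) (.node (.leaf ⟨30, 2, 119, 0, []⟩) (.leaf ⟨0, 12, 0, 0, []⟩))) (.node (.node (.leaf ⟨68, 3, 74, 24, [441, 421]⟩) (.leaf ⟨0, 12, 0, 0, []⟩)) (.node (.leaf ⟨42, 2, 167, 0, []⟩) (.leaf ⟨0, 12, 0, 0, []⟩))))) (.node (.node (.node (.node (.leaf ⟨19, 1, 20, 0, []⟩) (.leaf ⟨139, 12, 86, 24, [1145, 834]⟩)) (.node (.leaf ⟨111, 2, 100, 21, [631, 626]⟩) (.leaf ⟨0, 12, 0, 0, []⟩))) (.node (.node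 (.leaf ⟨66, 2, 38, 39, [377, 179, 100, 274]⟩) (.leaf ⟨0, 12, 0, 0, []⟩)) (.node (.leaf ⟨158, 2, 154, 13, [889, 864]⟩) (.leaf ⟨0, 12, 0, 0, []⟩)))) (.node (.node (.node (.leaf ⟨26, 7, 33, 35, [221, 50, 220, 222, 249]⟩) (.leaf ⟨0, 12, 0, 0, []⟩)) (.node (.leaf ⟨43, 1, 137, 30, [557, 559, 741, 744, 746, 745, 751, 752, 761]⟩) (.leaf ⟨0, 12, 0, 0, []⟩))) (.node (.node (.leaf ⟨25, 4, 79, 0, []⟩) (.leaf ⟨0, 12, 0, 0, []⟩)) (.node (.leaf ⟨34, 4, 131, 57, [991, 734]⟩) (.leaf ⟨0, 12, 0, 0, []⟩))))))))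

def factA6 : Arr (CFact) :=
  (.node (.node (.node (.node (.node (.node (.node (.leaf ⟨0, 5, 2, 0, []⟩) (.leaf ⟨132, 12, 44, 21, [1035, 496]⟩)) (.node (.leaf ⟨26, 2, 85, 0, []⟩) (.leaf ⟨0, 12, 0, 0, []⟩))) (.node (.node (.leaf ⟨37, 0, 29, 34, [267, 85, 205, 206, 228]⟩) (.leaf ⟨0, 12, 0, 0, []⟩)) (.node (.leaf ⟨139, 0, 66, 2, [779, 248, 376]⟩) (.leaf ⟨0, 12, 0, 0, []⟩)))) (.node (.node (.node (.leaf ⟨21, 12, 18, 19, [136, 32, 42, 33, 137, 133]⟩) (.leaf ⟨31, 12, 2, 58, [1162, 1101]⟩)) (.node (.leaf ⟨107, 12, 104, 20, [651, 590]⟩) (.leaf ⟨0, 12, 0, 0, []⟩))) (.node (.node (.leaf ⟨48, 6, 70, 11, [320, 217, 393]⟩) (.leaf ⟨0, 12, 0, 0, []⟩)) (.node (.leaf ⟨161, 2, 66, 13, [905, 379]⟩) (.leaf ⟨0, 12, 0, 0, []⟩))))) (.node (.node (.node (.node (.leaf ⟨11, 2, 12, 0, []⟩) (.leaf ⟨2, 12,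 3, 42, [1099, 37]⟩)) (.node (.leaf ⟨102, 3, 103, 0, []⟩) (.leaf ⟨0, 12, 0, 0, []⟩))) (.node (.node (.leaf ⟨51, 1, 52, 0, []⟩) (.leaf ⟨0, 12, 0, 0, []⟩)) (.node (.leaf ⟨149, 2, 150, 0, []⟩) (.leaf ⟨0, 12, 0, 0, []⟩)))) (.node (.node (.node (.leaf ⟨17, 6, 13, 25, [195, 193]⟩) (.leaf ⟨0, 12, 0, 0, []⟩)) (.node (.leaf ⟨124, 2, 125, 0, []⟩) (.leaf ⟨0, 12, 0, 0, []⟩))) (.node (.node (.leaf ⟨44, 12, 70, 28, [459, 415]⟩) (.leaf ⟨0, 12, 0, 0, []⟩)) (.node (.leaf ⟨113, 1, 138, 20, [970, 942]⟩) (.leaf ⟨0, 12, 0, 0, []⟩)))))) (.node (.node (.node (.node (.node (.leaf ⟨7, 7, 7, 4, [43, 39, 41, 15, 40]⟩) (.leaf ⟨22, 1, 25, 20, [1011, 762, 1048]⟩)) (.node (.leaf ⟨93, 2, 43, 38, [553, 225, 154, 298]⟩) (.leaf ⟨0, 12, 0, 0, []⟩))) (.node (.node (.leaf ⟨43, 0, 25, 34, [299, 131, 148, 163, 212]⟩) (.leaf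 ⟨0, 12, 0, 0, []⟩)) (.node (.leaf ⟨85, 5, 141, 10, [526, 346, 478, 811]⟩) (.leaf ⟨0, 12, 0, 0, []⟩)))) (.node (.node (.node (.leaf ⟨13, 10, 18, 16, [171, 69, 149]⟩) (.leaf ⟨2, 4, 2, 57, [1151, 262, 1194]⟩)) (.node (.leaf ⟨100, 5, 115, 48, [671, 253, 75, 41, 106, 292, 683]⟩) (.leaf ⟨0, 12, 0, 0, []⟩))) (.node (.node (.leaf ⟨78, 2, 67, 18, [427, 425, 423, 421, 419, 417, 409, 403, 380]⟩) (.leaf ⟨0, 12, 0, 0, []⟩)) (.node (.leaf ⟨159, 12, 165, 23, [896, 891, 939, 937]⟩) (.leaf ⟨0, 12, 0, 0, []⟩))))) (.node (.node (.node (.node (.leaf ⟨2, 11, 18, 0, []⟩) (.leaf ⟨7, 12, 4, 58, [1125, 1131]⟩)) (.node (.leaf ⟨109, 1, 110, 0, []⟩) (.leaf ⟨0, 12, 0, 0, []⟩))) (.node (.node (.leaf ⟨61, 6, 62, 0, []⟩) (.leaf ⟨0, 12, 0, 0, []⟩)) (.node (.leaf ⟨37, 2, 157, 0, []⟩) (.leaf ⟨0, 12, 0, 0, []⟩))))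 (.node (.node (.node (.leaf ⟨9, 4, 31, 0, []⟩) (.leaf ⟨0, 12, 0, 0, []⟩)) (.node (.leaf ⟨32, 2, 134, 0, []⟩) (.leaf ⟨0, 12, 0, 0, []⟩))) (.node (.node (.leaf ⟨50, 12, 58, 28, [491, 354]⟩) (.leaf ⟨0, 12, 0, 0, []⟩)) (.node (.leaf ⟨57, 4, 99, 57, [982, 599]⟩) (.leaf ⟨0, 12, 0, 0, []⟩))))))) (.node (.node (.node (.node (.node (.node (.leaf ⟨4, 1, 5, 0, []⟩) (.leaf ⟨25, 12, 45, 44, [1051, 313]⟩)) (.node (.leaf ⟨89, 3, 90, 0, []⟩) (.leaf ⟨0, 12, 0, 0, []⟩))) (.node (.node (.leaf ⟨14, 5, 40, 0, []⟩) (.leaf ⟨0, 12, 0, 0, []⟩)) (.node (.leaf ⟨140, 6, 111, 15, [789, 663, 587, 644, 633]⟩) (.leaf ⟨0, 12, 0, 0, []⟩)))) (.node (.node (.node (.leaf ⟨5, 6, 14, 25, [146, 126]⟩) (.leaf ⟨29, 6, 86, 25, [1173, 783, 1146]⟩)) (.node (.leaf ⟨34, 2, 102, 21, [664, 589]⟩) (.leaf ⟨0, 12, 0, 0, []⟩))) (.node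 (.node (.leaf ⟨72, 6, 68, 15, [409, 403, 380, 385, 386]⟩) (.leaf ⟨0, 12, 0, 0, []⟩)) (.node (.leaf ⟨40, 2, 164, 0, []⟩) (.leaf ⟨0, 12, 0, 0, []⟩))))) (.node (.node (.node (.node (.leaf ⟨15, 2, 3, 18, [91, 87, 83, 77, 69, 65, 59, 53, 20]⟩) (.leaf ⟨9, 1, 9, 20, [1115, 199, 1114]⟩)) (.node (.leaf ⟨104, 7, 79, 32, [601, 300, 215, 506]⟩) (.leaf ⟨0, 12, 0, 0, []⟩))) (.node (.node (.leaf ⟨44, 2, 54, 13, [347, 339]⟩) (.leaf ⟨0, 12, 0, 0, []⟩)) (.node (.leaf ⟨154, 0, 100, 5, [859, 268, 580]⟩) (.leaf ⟨0, 12, 0, 0, []⟩)))) (.node (.node (.node (.leaf ⟨4, 5, 26, 0, []⟩) (.leaf ⟨0, 12, 0, 0, []⟩)) (.node (.leaf ⟨131, 2, 31, 7, [731, 729, 727, 725, 723]⟩) (.leaf ⟨0, 12, 0, 0, []⟩))) (.node (.node (.leaf ⟨71, 12, 55, 21, [475, 347]⟩) (.leaf ⟨0, 12, 0, 0, []⟩)) (.node (.leaf ⟨79, 2, 41, 21, [975,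 776]⟩) (.leaf ⟨0, 12, 0, 0, []⟩)))))) (.node (.node (.node (.node (.node (.leaf ⟨9, 9, 6, 14, [59, 56, 43, 33]⟩) (.leaf ⟨22, 10, 25, 27, [1011, 742, 1082]⟩)) (.node (.leaf ⟨30, 5, 98, 10, [235, 31, 226, 571]⟩) (.leaf ⟨0, 12, 0, 0, []⟩))) (.node (.node (.leaf ⟨46, 3, 47, 0, []⟩) (.leaf ⟨0, 12, 0, 0, []⟩)) (.node (.leaf ⟨145, 1, 86, 19, [827, 825, 823, 817, 533]⟩) (.leaf ⟨0, 12, 0, 0, []⟩)))) (.node (.node (.node (.leaf ⟨24, 1, 24, 30, [181, 68, 159, 28, 30, 32, 57, 58, 185]⟩) (.leaf ⟨0, 12, 0, 0, []⟩)) (.node (.leaf ⟨119, 4, 105, 45, [699, 235, 228, 606]⟩) (.leaf ⟨0, 12, 0, 0, []⟩))) (.node (.node (.leaf ⟨74, 12, 69, 21, [443, 388]⟩) (.leaf ⟨0, 12, 0, 0, []⟩)) (.node (.leaf ⟨167, 4, 156, 45, [955, 293, 286, 873]⟩) (.leaf ⟨0, 12, 0, 0, []⟩))))) (.node (.node (.node (.node (.leaf ⟨20,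 0, 20, 5, [123, 115, 122]⟩) (.leaf ⟨132, 12, 22, 58, [1082, 1088]⟩)) (.node (.leaf ⟨111, 3, 101, 24, [631, 629]⟩) (.leaf ⟨0, 12, 0, 0, []⟩))) (.node (.node (.leaf ⟨25, 1, 67, 0, []⟩) (.leaf ⟨0, 12, 0, 0, []⟩)) (.node (.leaf ⟨158, 1, 158, 30, [889, 868, 872, 673, 879, 885, 877, 858, 891]⟩) (.leaf ⟨0, 12, 0, 0, []⟩)))) (.node (.node (.node (.leaf ⟨11, 4, 34, 0, []⟩) (.leaf ⟨0, 12, 0, 0, []⟩)) (.node (.leaf ⟨137, 6, 135, 50, [763, 306, 762, 760]⟩) (.leaf ⟨0, 12, 0, 0, []⟩))) (.node (.node (.leaf ⟨79, 2, 34, 38, [507, 213, 158, 252]⟩) (.leaf ⟨0, 12, 0, 0, []⟩)) (.node (.leaf ⟨131, 12, 141, 43, [1019, 808]⟩) (.leaf ⟨0, 12, 0, 0, []⟩))))))))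

def factA7 : Arr (CFact) :=
  (.node (.node (.node (.node (.node (.node (.node (.leaf ⟨2, 0, 2, 2, [13, 5, 12]⟩) (.leaf ⟨25, 5, 10, 43, [999, 243]⟩)) (.node (.leaf ⟨85, 4, 55, 45, [525, 221, 212, 499]⟩) (.leaf ⟨0, 12, 0, 0, []⟩))) (.node (.node (.leaf ⟨37, 6, 37, 29, [267, 85, 266]⟩) (.leaf ⟨0, 12, 0, 0, []⟩)) (.node (.leaf ⟨139, 6, 118, 3, [779, 251, 530, 694]⟩) (.leaf ⟨0, 12, 0, 0, []⟩)))) (.node (.node (.node (.leaf ⟨18, 2, 6, 21, [141, 136]⟩) (.leaf ⟨11, 12, 2, 58, [1096, 1152]⟩)) (.node (.leaf ⟨104, 3, 106, 24, [653, 615]⟩) (.leaf ⟨0, 12, 0, 0, []⟩))) (.node (.node (.leaf ⟨69, 8, 50, 8, [390, 397, 327, 328]⟩) (.leaf ⟨0, 12, 0, 0, []⟩)) (.node (.leaf ⟨161, 7, 119, 17, [905, 276, 698]⟩) (.leaf ⟨0, 12, 0, 0, []⟩))))) (.node (.node (.node (.node (.leaf ⟨12, 0, 12, 12, [77, 71,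 76]⟩) (.leaf ⟨18, 12, 2, 58, [1076, 1101]⟩)) (.node (.leaf ⟨103, 1, 104, 0, []⟩) (.leaf ⟨0, 12, 0, 0, []⟩))) (.node (.node (.leaf ⟨52, 2, 53, 0, []⟩) (.leaf ⟨0, 12, 0, 0, []⟩)) (.node (.leaf ⟨150, 7, 144, 17, [845, 842, 827]⟩) (.leaf ⟨0, 12, 0, 0, []⟩)))) (.node (.node (.node (.leaf ⟨17, 7, 6, 26, [195, 186]⟩) (.leaf ⟨0, 12, 0, 0, []⟩)) (.node (.leaf ⟨125, 1, 126, 0, []⟩) (.leaf ⟨0, 12, 0, 0, []⟩))) (.node (.node (.leaf ⟨49, 1, 59, 20, [457, 387]⟩) (.leaf ⟨0, 12, 0, 0, []⟩)) (.node (.leaf ⟨138, 12, 79, 20, [973, 802]⟩) (.leaf ⟨0, 12, 0, 0, []⟩)))))) (.node (.node (.node (.node (.node (.leaf ⟨6, 0, 6, 5, [32, 39, 33]⟩) (.leaf ⟨25, 12, 44, 20, [1069, 308]⟩)) (.node (.leaf ⟨32, 1, 93, 46, [244, 308, 555]⟩) (.leaf ⟨0, 12, 0, 0, []⟩))) (.node (.node (.leaf ⟨43, 6, 43, 29, [299, 131,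 298]⟩) (.leaf ⟨0, 12, 0, 0, []⟩)) (.node (.leaf ⟨102, 4, 84, 45, [669, 808, 813, 528]⟩) (.leaf ⟨0, 12, 0, 0, []⟩)))) (.node (.node (.node (.leaf ⟨3, 4, 22, 0, []⟩) (.leaf ⟨2, 12, 0, 43, [1197, 13]⟩)) (.node (.leaf ⟨115, 1, 116, 0, []⟩) (.leaf ⟨0, 12, 0, 0, []⟩))) (.node (.node (.leaf ⟨59, 2, 78, 13, [384, 429]⟩) (.leaf ⟨0, 12, 0, 0, []⟩)) (.node (.leaf ⟨159, 1, 138, 20, [940, 931]⟩) (.leaf ⟨0, 12, 0, 0, []⟩))))) (.node (.node (.node (.node (.leaf ⟨18, 7, 3, 22, [109, 17, 20]⟩) (.leaf ⟨17, 12, 4, 58, [1126, 1132]⟩)) (.node (.leaf ⟨110, 2, 111, 0, []⟩) (.leaf ⟨0, 12, 0, 0, []⟩))) (.node (.node (.leaf ⟨62, 1, 63, 0, []⟩) (.leaf ⟨0, 12, 0, 0, []⟩)) (.node (.leaf ⟨157, 2, 57, 13, [877, 353]⟩) (.leaf ⟨0, 12, 0, 0, []⟩)))) (.node (.node (.node (.leaf ⟨31, 0, 27, 34, [237, 63, 103, 80,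 224]⟩) (.leaf ⟨0, 12, 0, 0, []⟩)) (.node (.leaf ⟨134, 2, 132, 13, [749, 741]⟩) (.leaf ⟨0, 12, 0, 0, []⟩))) (.node (.node (.leaf ⟨25, 1, 53, 20, [472, 337]⟩) (.leaf ⟨0, 12, 0, 0, []⟩)) (.node (.leaf ⟨99, 12, 164, 43, [1005, 929]⟩) (.leaf ⟨0, 12, 0, 0, []⟩))))))) (.node (.node (.node (.node (.node (.node (.leaf ⟨5, 3, 6, 0, []⟩) (.leaf ⟨119, 2, 66, 21, [1003, 908]⟩)) (.node (.leaf ⟨90, 1, 91, 0, []⟩) (.leaf ⟨0, 12, 0, 0, []⟩))) (.node (.node (.leaf ⟨17, 4, 41, 0, []⟩) (.leaf ⟨0, 12, 0, 0, []⟩)) (.node (.leaf ⟨102, 9, 79, 14, [587, 644, 797, 789]⟩) (.leaf ⟨0, 12, 0, 0, []⟩)))) (.node (.node (.node (.leaf ⟨4, 2, 11, 21, [153, 116]⟩) (.leaf ⟨86, 12, 29, 25, [1181, 231]⟩)) (.node (.leaf ⟨34, 9, 100, 28, [664, 595]⟩) (.leaf ⟨0, 12, 0, 0, []⟩))) (.node (.node (.leaf ⟨70, 9, 71, 14, [391,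 389, 413, 409]⟩) (.leaf ⟨0, 12, 0, 0, []⟩)) (.node (.leaf ⟨164, 4, 163, 45, [925, 285, 278, 920]⟩) (.leaf ⟨0, 12, 0, 0, []⟩))))) (.node (.node (.node (.node (.leaf ⟨15, 12, 14, 19, [92, 21, 16, 20, 93, 91]⟩) (.leaf ⟨9, 12, 8, 20, [1117, 59]⟩)) (.node (.leaf ⟨29, 2, 105, 0, []⟩) (.leaf ⟨0, 12, 0, 0, []⟩))) (.node (.node (.leaf ⟨22, 4, 57, 0, []⟩) (.leaf ⟨0, 12, 0, 0, []⟩)) (.node (.leaf ⟨154, 6, 155, 0, []⟩) (.leaf ⟨0, 12, 0, 0, []⟩)))) (.node (.node (.node (.leaf ⟨26, 0, 23, 2, [221, 25, 178]⟩) (.leaf ⟨0, 12, 0, 0, []⟩)) (.node (.leaf ⟨41, 4, 131, 37, [287, 200, 236, 733]⟩) (.leaf ⟨0, 12, 0, 0, []⟩))) (.node (.node (.leaf ⟨44, 5, 36, 43, [460, 395]⟩) (.leaf ⟨0, 12, 0, 0, []⟩)) (.node (.leaf ⟨41, 12, 34, 24, [989, 508]⟩) (.leaf ⟨0, 12, 0, 0, []⟩)))))) (.node (.node (.node (.node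 (.node (.leaf ⟨9, 0, 9, 5, [59, 55, 58]⟩) (.leaf ⟨25, 12, 50, 44, [1085, 489]⟩)) (.node (.leaf ⟨28, 2, 99, 0, []⟩) (.leaf ⟨0, 12, 0, 0, []⟩))) (.node (.node (.leaf ⟨47, 1, 48, 0, []⟩) (.leaf ⟨0, 12, 0, 0, []⟩)) (.node (.leaf ⟨35, 2, 146, 0, []⟩) (.leaf ⟨0, 12, 0, 0, []⟩)))) (.node (.node (.node (.leaf ⟨24, 9, 13, 14, [189, 184, 103, 82]⟩) (.leaf ⟨0, 12, 0, 0, []⟩)) (.node (.leaf ⟨119, 2, 118, 13, [699, 693]⟩) (.leaf ⟨0, 12, 0, 0, []⟩))) (.node (.node (.leaf ⟨69, 1, 73, 20, [445, 419]⟩) (.leaf ⟨0, 12, 0, 0, []⟩)) (.node (.leaf ⟨167, 2, 139, 13, [955, 785]⟩) (.leaf ⟨0, 12, 0, 0, []⟩))))) (.node (.node (.node (.node (.leaf ⟨20, 6, 14, 15, [123, 113, 82, 86, 97]⟩) (.leaf ⟨12, 12, 2, 58, [1092, 1142]⟩)) (.node (.leaf ⟨101, 12, 110, 21, [637, 623]⟩) (.leaf ⟨0, 12, 0, 0, []⟩))) (.node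 (.node (.leaf ⟨67, 6, 59, 40, [381, 216, 356]⟩) (.leaf ⟨0, 12, 0, 0, []⟩)) (.node (.leaf ⟨37, 11, 159, 0, []⟩) (.leaf ⟨0, 12, 0, 0, []⟩)))) (.node (.node (.node (.leaf ⟨34, 6, 34, 29, [253, 71, 252]⟩) (.leaf ⟨0, 12, 0, 0, []⟩)) (.node (.leaf ⟨137, 8, 32, 8, [763, 303, 557, 559]⟩) (.leaf ⟨0, 12, 0, 0, []⟩))) (.node (.node (.leaf ⟨26, 1, 80, 0, []⟩) (.leaf ⟨0, 12, 0, 0, []⟩)) (.node (.leaf ⟨34, 5, 17, 43, [991, 287]⟩) (.leaf ⟨0, 12, 0, 0, []⟩))))))))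

def factA : Arr (CFact) :=
  (.node (.node (.node factA0 factA4) (.node factA2 factA6)) (.node (.node factA1 factA5) (.node factA3 factA7)))

def parA0 : Arr (ℕ × ℕ) :=
  (.node (.node (.node (.node (.node (.node (.node (.leaf (0, 0)) (.leaf (127, 6))) (.node (.leaf (63, 3)) (.leaf (0, 0)))) (.node (.node (.leaf (10, 4)) (.leaf (38, 1))) (.node (.leaf (95, 1)) (.leaf (0, 0))))) (.node (.node (.node (.leaf (2, 8)) (.leaf (143, 1))) (.node (.leaf (26, 1)) (.leaf (0, 0)))) (.node (.node (.leaf (47, 1)) (.leaf (0, 0))) (.node (.leaf (111, 1)) (.leaf (0, 0)))))) (.node (.node (.node (.node (.leaf (2, 2)) (.leaf (135, 2))) (.node (.leaf (71, 1)) (.leaf (0, 0)))) (.node (.node (.leaf (14, 5)) (.leaf (167, 1))) (.node (.leaf (103, 1)) (.leaf (0, 0))))) (.node (.node (.node (.leaf (10,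 2)) (.leaf (151, 2))) (.node (.leaf (87, 6)) (.leaf (0, 0)))) (.node (.node (.leaf (55, 1)) (.leaf (0, 0))) (.node (.leaf (119, 1)) (.leaf (0, 0))))))) (.node (.node (.node (.node (.node (.leaf (3, 6)) (.leaf (31, 4))) (.node (.leaf (59, 1)) (.leaf (0, 0)))) (.node (.node (.leaf (12, 4)) (.leaf (40, 2))) (.node (.leaf (29, 1)) (.leaf (0, 0))))) (.node (.node (.node (.leaf (19, 1)) (.leaf (147, 2))) (.node (.leaf (83, 1)) (.leaf (0, 0)))) (.node (.node (.leaf (51, 1)) (.leaf (0, 0))) (.node (.leaf (115, 1)) (.leaf (0, 0)))))) (.node (.node (.node (.node (.leaf (11, 2)) (.leaf (79, 1))) (.node (.leaf (75, 1)) (.leaf (0, 0)))) (.node (.node (.leaf (22, 1)) (.leaf (0, 0))) (.node (.leaf (107, 1)) (.leaf (0, 0))))) (.node (.node (.node (.leaf (5, 5)) (.leaf (155, 1))) (.node (.leaf (27,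 2)) (.leaf (0, 0)))) (.node (.node (.leaf (22, 11)) (.leaf (0, 0))) (.node (.leaf (123, 1)) (.leaf (0, 0)))))))) (.node (.node (.node (.node (.node (.node (.leaf (0, 5)) (.leaf (129, 3))) (.node (.leaf (23, 5)) (.leaf (0, 0)))) (.node (.node (.leaf (11, 4)) (.leaf (161, 1))) (.node (.leaf (97, 1)) (.leaf (0, 0))))) (.node (.node (.node (.leaf (2, 11)) (.leaf (35, 2))) (.node (.leaf (81, 1)) (.leaf (0, 0)))) (.node (.node (.leaf (49, 1)) (.leaf (0, 0))) (.node (.leaf (30, 1)) (.leaf (0, 0)))))) (.node (.node (.node (.node (.leaf (9, 2)) (.leaf (32, 4))) (.node (.leaf (73, 1)) (.leaf (0, 0)))) (.node (.node (.leaf (17, 5)) (.leaf (0, 0))) (.node (.leaf (105, 1)) (.leaf (0, 0))))) (.node (.node (.node (.leaf (4, 5)) (.leaf (37, 1))) (.node (.leaf (89, 3)) (.leaf (0, 0)))) (.node (.node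 (.leaf (22, 8)) (.leaf (0, 0))) (.node (.leaf (121, 1)) (.leaf (0, 0))))))) (.node (.node (.node (.node (.node (.leaf (5, 3)) (.leaf (32, 2))) (.node (.leaf (69, 1)) (.leaf (0, 0)))) (.node (.node (.leaf (13, 5)) (.leaf (42, 1))) (.node (.leaf (101, 1)) (.leaf (0, 0))))) (.node (.node (.node (.leaf (3, 4)) (.leaf (149, 2))) (.node (.leaf (26, 5)) (.leaf (0, 0)))) (.node (.node (.leaf (53, 1)) (.leaf (0, 0))) (.node (.leaf (117, 1)) (.leaf (0, 0)))))) (.node (.node (.node (.node (.leaf (13, 2)) (.leaf (35, 1))) (.node (.leaf (77, 1)) (.leaf (0, 0)))) (.node (.node (.leaf (45, 1)) (.leaf (0, 0))) (.node (.leaf (109, 1)) (.leaf (0, 0))))) (.node (.node (.node (.leaf (6, 5)) (.leaf (155, 2))) (.node (.leaf (28, 1)) (.leaf (0, 0)))) (.node (.node (.leaf (61, 6)) (.leaf (0, 0))) (.node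 (.leaf (125, 1)) (.leaf (0, 0)))))))))

def parA1 : Arr (ℕ × ℕ) :=
  (.node (.node (.node (.node (.node (.node (.node (.leaf (0, 4)) (.leaf (128, 1))) (.node (.leaf (64, 1)) (.leaf (0, 0)))) (.node (.node (.leaf (10, 5)) (.leaf (38, 2))) (.node (.leaf (96, 3)) (.leaf (0, 0))))) (.node (.node (.node (.leaf (2, 9)) (.leaf (144, 3))) (.node (.leaf (80, 6)) (.leaf (0, 0)))) (.node (.node (.leaf (22, 2)) (.leaf (0, 0))) (.node (.leaf (29, 11)) (.leaf (0, 0)))))) (.node (.node (.node (.node (.leaf (8, 1)) (.leaf (136, 2))) (.node (.leaf (72, 2)) (.leaf (0, 0)))) (.node (.node (.leaf (17, 4)) (.leaf (0, 0))) (.node (.leaf (29, 2)) (.leaf (0, 0))))) (.node (.node (.node (.leaf (4, 4)) (.leaf (152, 1))) (.node (.leaf (88, 1)) (.leaf (0, 0)))) (.node (.node (.leaf (22, 4)) (.leaf (0, 0)))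 (.node (.leaf (120, 2)) (.leaf (0, 0))))))) (.node (.node (.node (.node (.node (.leaf (4, 1)) (.leaf (132, 1))) (.node (.leaf (68, 3)) (.leaf (0, 0)))) (.node (.node (.leaf (13, 4)) (.leaf (138, 1))) (.node (.leaf (100, 6)) (.leaf (0, 0))))) (.node (.node (.node (.leaf (18, 1)) (.leaf (148, 1))) (.node (.leaf (26, 2)) (.leaf (0, 0)))) (.node (.node (.leaf (52, 2)) (.leaf (0, 0))) (.node (.leaf (116, 3)) (.leaf (0, 0)))))) (.node (.node (.node (.node (.leaf (12, 1)) (.leaf (34, 4))) (.node (.leaf (76, 2)) (.leaf (0, 0)))) (.node (.node (.leaf (44, 6)) (.leaf (0, 0))) (.node (.leaf (108, 2)) (.leaf (0, 0))))) (.node (.node (.node (.leaf (6, 4)) (.leaf (37, 2))) (.node (.leaf (27, 4)) (.leaf (0, 0)))) (.node (.node (.leaf (23, 1)) (.leaf (0, 0))) (.node (.leaf (124, 2)) (.leaf (0,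 0)))))))) (.node (.node (.node (.node (.node (.node (.leaf (2, 1)) (.leaf (130, 1))) (.node (.leaf (25, 1)) (.leaf (0, 0)))) (.node (.node (.leaf (11, 5)) (.leaf (39, 2))) (.node (.leaf (28, 2)) (.leaf (0, 0))))) (.node (.node (.node (.leaf (12, 2)) (.leaf (146, 1))) (.node (.leaf (82, 3)) (.leaf (0, 0)))) (.node (.node (.leaf (50, 2)) (.leaf (0, 0))) (.node (.leaf (114, 6)) (.leaf (0, 0)))))) (.node (.node (.node (.node (.leaf (10, 1)) (.leaf (33, 5))) (.node (.leaf (74, 2)) (.leaf (0, 0)))) (.node (.node (.leaf (18, 4)) (.leaf (0, 0))) (.node (.leaf (106, 2)) (.leaf (0, 0))))) (.node (.node (.node (.leaf (5, 4)) (.leaf (154, 6))) (.node (.leaf (90, 1)) (.leaf (0, 0)))) (.node (.node (.leaf (22, 10)) (.leaf (0, 0))) (.node (.leaf (122, 2)) (.leaf (0, 0))))))) (.node (.node (.node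 (.node (.node (.leaf (6, 1)) (.leaf (134, 1))) (.node (.leaf (25, 2)) (.leaf (0, 0)))) (.node (.node (.leaf (14, 4)) (.leaf (42, 2))) (.node (.leaf (102, 3)) (.leaf (0, 0))))) (.node (.node (.node (.leaf (3, 5)) (.leaf (150, 1))) (.node (.leaf (27, 1)) (.leaf (0, 0)))) (.node (.node (.leaf (54, 2)) (.leaf (0, 0))) (.node (.leaf (30, 2)) (.leaf (0, 0)))))) (.node (.node (.node (.node (.leaf (14, 1)) (.leaf (142, 6))) (.node (.leaf (25, 4)) (.leaf (0, 0)))) (.node (.node (.leaf (46, 3)) (.leaf (0, 0))) (.node (.leaf (110, 2)) (.leaf (0, 0))))) (.node (.node (.node (.leaf (9, 4)) (.leaf (37, 11))) (.node (.leaf (94, 6)) (.leaf (0, 0)))) (.node (.node (.leaf (62, 1)) (.leaf (0, 0))) (.node (.leaf (31, 1)) (.leaf (0, 0)))))))))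

def parA : Arr (ℕ × ℕ) :=
  (.node parA0 parA1)

def wordsA0 : Arr (ℕ × ℕ × Bool) :=
  (.node (.node (.node (.node (.node (.node (.leaf (17, 0, false)) (.leaf (16, 1, true))) (.node (.leaf (3, 1, true)) (.leaf (10, 4, false)))) (.node (.node (.leaf (15, 4, true)) (.leaf (12, 0, false))) (.node (.leaf (7, 0, false)) (.leaf (20, 0, false))))) (.node (.node (.node (.leaf (11, 1, false)) (.leaf (15, 3, false))) (.node (.leaf (11, 0, false)) (.leaf (18, 3, false)))) (.node (.node (.leaf (10, 1, false)) (.leaf (4, 0, false))) (.node (.leaf (3, 0, true)) (.leaf (0, 0, false)))))) (.node (.node (.node (.node (.leaf (16, 4, false)) (.leaf (19, 0, true))) (.node (.leaf (1, 0, false)) (.leaf (2, 0, false)))) (.node (.node (.leaf (5, 3, false)) (.leaf (13, 1, false))) (.node (.leaf (12, 1,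 false)) (.leaf (0, 0, false))))) (.node (.node (.node (.leaf (10, 0, true)) (.leaf (11, 2, false))) (.node (.leaf (23, 1, false)) (.leaf (19, 4, false)))) (.node (.node (.leaf (11, 0, true)) (.leaf (19, 5, true))) (.node (.leaf (18, 1, true)) (.leaf (0, 0, false))))))) (.node (.node (.node (.node (.node (.leaf (18, 3, true)) (.leaf (16, 3, true))) (.node (.leaf (8, 4, false)) (.leaf (18, 1, false)))) (.node (.node (.leaf (9, 3, false)) (.leaf (25, 1, false))) (.node (.leaf (13, 0, false)) (.leaf (0, 0, false))))) (.node (.node (.node (.leaf (8, 3, false)) (.leaf (15, 0, true))) (.node (.leaf (9, 0, false)) (.leaf (15, 2, false)))) (.node (.node (.leaf (8, 1, false)) (.leaf (9, 2, false))) (.node (.leaf (0, 0, false)) (.leaf (0, 0, false)))))) (.node (.node (.node (.node (.leaf (4,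 1, false)) (.leaf (15, 4, false))) (.node (.leaf (23, 0, false)) (.leaf (16, 3, false)))) (.node (.node (.leaf (2, 0, true)) (.leaf (15, 1, true))) (.node (.leaf (17, 2, false)) (.leaf (0, 0, false))))) (.node (.node (.node (.leaf (5, 1, false)) (.leaf (10, 3, false))) (.node (.leaf (6, 0, false)) (.leaf (25, 0, false)))) (.node (.node (.leaf (9, 1, false)) (.leaf (8, 5, false))) (.node (.leaf (19, 4, true)) (.leaf (0, 0, false))))))))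

def wordsA : Arr (ℕ × ℕ × Bool) :=
  wordsA0

def relsA : List (List ℕ) :=
  [[0, 0],
   [1, 1],
   [2, 2, 2],
   [1, 2, 1, 2, 1, 2, 1, 2, 1, 2],
   [0, 1, 0, 1],
   [0, 2, 0, 3],
   [6, 6],
   [7, 7],
   [6, 1, 3, 1, 2, 1],
   [7, 3, 6, 2],
   [8, 1, 2, 6, 1],
   [10, 6, 1, 7],
   [8, 9],
   [10, 11],
   [4, 4, 4, 4, 4, 4, 4],
   [2, 4, 3, 5, 5],
   [4, 0, 5, 7, 6, 0],
   [4, 6, 5, 0],
   [4, 7, 5, 6, 0],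
   [8, 5, 10, 4, 9, 5, 11, 4],
   [],
   [0, 0],
   [1, 1],
   [2, 3],
   [3, 2],
   [4, 5],
   [5, 4],
   [6, 6],
   [7, 7],
   [8, 9],
   [9, 8],
   [10, 11],
   [11, 10]]

def logA : Log :=
  ⟨relsA, [0, 1, 2, 6, 7, 8, 10], wordsA, 605, factA, parA⟩

def goalA : ℕ := 1209

end Cfsg.Agent.Lead.JankoOne.Coset
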