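import Cfsg.Agent.Lib.Lead.JankoOne.Coset.Engine

/-!
Generated log of a coset enumeration (case B).
-/

set_option autoImplicit false
set_option maxRecDepth 100000
set_option maxHeartbeats 0

namespace Cfsg.Agent.Lead.JankoOne.Coset

def factB0 : Arr (CFact) :=
  (.node (.node (.node (.node (.node (.node (.node (.leaf ⟨0, 0, 0, 1, []⟩) (.leaf ⟨907, 12, 631, 16, [8191, 5244]⟩)) (.node (.leaf ⟨343, 4, 484, 67, [2957, 3855, 3856, 3527, 4091]⟩) (.leaf ⟨1340, 8, 1333, 41, [12287, 4492, 1304, 5033, 5369, 6093, 12224]⟩))) (.node (.node (.leaf ⟨52, 0, 235, 23, [2037, 1997]⟩) (.leaf ⟨1198, 6, 1104, 2, [10239, 10232, 9222]⟩)) (.node (.leaf ⟨541, 11, 154, 13, [6143, 6114, 5744]⟩) (.leaf ⟨1535, 5, 1544, 82, [14218, 14072, 14059, 14333]⟩)))) (.node (.node (.node (.leaf ⟨120, 4, 121, 0, []⟩) (.leaf ⟨1102, 4, 1103, 0, []⟩)) (.node (.leaf ⟨581, 11, 496, 13, [5119, 4866, 4433]⟩) (.leaf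 ⟨1436, 1, 1006, 38, [13311, 7934, 8437]⟩))) (.node (.node (.leaf ⟨355, 11, 68, 51, [3064, 2847]⟩) (.leaf ⟨774, 1, 1100, 48, [10529, 11261, 9195]⟩)) (.node (.leaf ⟨792, 4, 793, 0, []⟩) (.leaf ⟨1625, 9, 1421, 21, [15353, 10094, 9165, 13110]⟩))))) (.node (.node (.node (.node (.leaf ⟨59, 7, 41, 4, [507, 93, 124, 444]⟩) (.leaf ⟨350, 4, 1035, 0, []⟩)) (.node (.leaf ⟨536, 3, 536, 44, [4606, 1194, 4579, 1199, 4607]⟩) (.leaf ⟨1393, 4, 1394, 0, []⟩))) (.node (.node (.leaf ⟨309, 2, 369, 45, [2529, 2535, 2559]⟩) (.leaf ⟨1252, 3, 1211, 7, [10751, 10746, 10396, 10350]⟩)) (.node (.leaf ⟨586, 10, 698, 9, [4903, 5864, 6655]⟩) (.leaf ⟨1576, 7, 1573, 56, [14743, 13730, 14847]⟩)))) (.node (.node (.node (.leaf ⟨184, 6, 130, 2, [1535, 1526, 1056]⟩) (.leaf ⟨580, 4, 1155, 0, []⟩)) (.node (.leaf ⟨136, 10, 669, 0, []⟩) (.leaf ⟨1488, 2, 1489, 0, []⟩))) (.node (.node (.leaf ⟨452, 0, 195, 11, [3579,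 2772, 2371]⟩) (.leaf ⟨981, 1, 1292, 102, [9849, 11061, 9273, 11730, 11771]⟩)) (.node (.leaf ⟨888, 4, 889, 0, []⟩) (.leaf ⟨0, 12, 0, 0, []⟩)))))) (.node (.node (.node (.node (.node (.leaf ⟨28, 0, 28, 11, [255, 253, 254]⟩) (.leaf ⟨440, 12, 1007, 91, [3226, 3245, 2617, 8445, 8443]⟩)) (.node (.leaf ⟨472, 5, 491, 65, [3913, 2755, 4351]⟩) (.leaf ⟨1354, 0, 1371, 11, [12402, 12522, 12541]⟩))) (.node (.node (.leaf ⟨297, 1, 341, 53, [1971, 1940, 1942, 2303]⟩) (.leaf ⟨1101, 8, 819, 62, [9201, 5588, 6202, 3615, 8769, 10495, 7310]⟩)) (.node (.leaf ⟨678, 2, 704, 16, [6394, 5946]⟩) (.leaf ⟨1564, 1, 947, 43, [14591, 13868, 8421, 10991, 8029]⟩)))) (.node (.node (.node (.leaf ⟨161, 7, 143, 4, [1275, 339, 387, 1108]⟩) (.leaf ⟨1129, 0, 1015, 3, [9469, 2235, 1838, 1873, 8520]⟩)) (.node (.leaf ⟨589, 0, 583, 10, [5302, 5373, 4895]⟩) (.leaf ⟨1298, 8, 881, 62, [11853, 12720, 12582, 13567, 7405,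 11601, 7644]⟩))) (.node (.node (.leaf ⟨445, 11, 327, 13, [3327, 2385, 2383]⟩) (.leaf ⟨454, 4, 1274, 0, []⟩)) (.node (.leaf ⟨838, 7, 783, 4, [7419, 3940, 2405, 7126]⟩) (.leaf ⟨0, 12, 0, 0, []⟩))))) (.node (.node (.node (.node (.leaf ⟨93, 0, 45, 3, [765, 758, 604, 599, 454]⟩) (.leaf ⟨1069, 4, 1070, 0, []⟩)) (.node (.leaf ⟨122, 9, 498, 21, [4816, 4822, 4861, 4437]⟩) (.leaf ⟨1417, 6, 1391, 2, [13055, 13044, 12770]⟩))) (.node (.node (.leaf ⟨356, 2, 403, 16, [2813, 2806]⟩) (.leaf ⟨1156, 10, 1115, 9, [11007, 10418, 10426]⟩)) (.node (.leaf ⟨728, 3, 633, 24, [6904, 6822]⟩) (.leaf ⟨1606, 6, 1548, 89, [15103, 14607, 14367]⟩)))) (.node (.node (.node (.leaf ⟨261, 8, 230, 17, [1789, 641, 642, 1681]⟩) (.leaf ⟨1178, 6, 1057, 2, [9983, 6128, 8892]⟩)) (.node (.leaf ⟨693, 6, 637, 18, [5879, 5421, 4926, 1456, 5290]⟩) (.leaf ⟨1157, 9, 1521, 21, [11948, 11942, 11752, 14077]⟩))) (.node (.node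 (.leaf ⟨397, 6, 389, 26, [3830, 3829]⟩) (.leaf ⟨1310, 3, 1144, 7, [12027, 12022, 9630, 9600]⟩)) (.node (.leaf ⟨466, 5, 936, 82, [3786, 2072, 7911, 7933]⟩) (.leaf ⟨0, 12, 0, 0, []⟩))))))) (.node (.node (.node (.node (.node (.node (.leaf ⟨1, 10, 16, 0, []⟩) (.leaf ⟨636, 5, 986, 73, [8316, 8297]⟩)) (.node (.leaf ⟨450, 2, 335, 16, [4218, 4122]⟩) (.leaf ⟨731, 4, 1356, 0, []⟩))) (.node (.node (.leaf ⟨325, 1, 95, 12, [2175, 2173, 2171, 2169, 2167, 2165, 2163, 2159, 796]⟩) (.leaf ⟨1212, 0, 1139, 31, [10367, 5268, 9646]⟩)) (.node (.leaf ⟨557, 7, 687, 25, [6264, 6232]⟩) (.leaf ⟨1518, 0, 1555, 10, [14056, 8778, 14463]⟩)))) (.node (.node (.node (.leaf ⟨135, 6, 117, 2, [1081, 1149, 1006]⟩) (.leaf ⟨361, 4, 1119, 0, []⟩)) (.node (.leaf ⟨549, 9, 633, 21, [4651, 1027, 1427, 5241]⟩) (.leaf ⟨1445, 1, 1032, 38, [13439, 10530, 8701]⟩))) (.node (.node (.leaf ⟨439, 6, 334, 70, [3197, 3189, 2339,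 2225]⟩) (.leaf ⟨1266, 2, 1220, 5, [11385, 11369, 11365, 10410]⟩)) (.node (.leaf ⟨816, 4, 817, 0, []⟩) (.leaf ⟨0, 12, 0, 0, []⟩))))) (.node (.node (.node (.node (.leaf ⟨78, 6, 48, 2, [639, 632, 466]⟩) (.leaf ⟨727, 5, 1047, 73, [8828, 8819]⟩)) (.node (.leaf ⟨155, 9, 510, 27, [4733, 4713]⟩) (.leaf ⟨1406, 1, 1077, 48, [12927, 12148, 10080]⟩))) (.node (.node (.leaf ⟨386, 1, 78, 12, [2687, 2685, 2683, 2681, 2677, 2673, 2671, 2665, 645]⟩) (.leaf ⟨1259, 0, 1076, 3, [10875, 3436, 3739, 4193, 9028]⟩)) (.node (.leaf ⟨171, 8, 553, 17, [6773, 6781, 5785, 4658]⟩) (.leaf ⟨1595, 1, 1196, 43, [14975, 14076, 10314, 9972, 10215]⟩)))) (.node (.node (.node (.leaf ⟨225, 2, 227, 16, [1661, 1654]⟩) (.leaf ⟨1167, 4, 1168, 0, []⟩)) (.node (.leaf ⟨615, 6, 686, 18, [5138, 5150, 4980, 1359, 5759]⟩) (.leaf ⟨1499, 6, 1508, 18, [13899, 9537, 9541, 7704, 13947]⟩))) (.node (.node (.leaf ⟨83, 10, 460, 0,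 []⟩) (.leaf ⟨1132, 11, 1301, 37, [9516, 10971, 8643, 2843, 798, 4194, 11897]⟩)) (.node (.leaf ⟨918, 7, 842, 4, [7803, 3957, 4415, 7452]⟩) (.leaf ⟨0, 12, 0, 0, []⟩)))))) (.node (.node (.node (.node (.node (.leaf ⟨35, 3, 26, 30, [381, 246]⟩) (.leaf ⟨1019, 7, 788, 4, [8565, 8556, 7380, 7148]⟩)) (.node (.leaf ⟨512, 1, 182, 12, [4479, 4477, 4475, 4473, 4471, 4469, 4467, 4463, 1519]⟩) (.leaf ⟨1378, 11, 1078, 37, [12584, 5891, 12389, 12671, 11572, 11588, 9037]⟩))) (.node (.node (.leaf ⟨358, 0, 219, 10, [2429, 749, 1639]⟩) (.leaf ⟨1238, 2, 1036, 5, [10617, 10613, 10610, 8712]⟩)) (.node (.leaf ⟨569, 11, 136, 51, [6526, 5633]⟩) (.leaf ⟨817, 9, 1575, 0, []⟩)))) (.node (.node (.node (.leaf ⟨173, 7, 149, 4, [1401, 345, 342, 1180]⟩) (.leaf ⟨348, 4, 1144, 0, []⟩)) (.node (.leaf ⟨597, 9, 147, 21, [4955, 5490, 5503, 4648]⟩) (.leaf ⟨1444, 9, 1469, 21, [13423, 10817, 10812, 13695]⟩))) (.node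 (.node (.leaf ⟨269, 9, 107, 27, [3446, 2718]⟩) (.leaf ⟨873, 1, 1283, 14, [11323, 11329, 11359, 11366, 11647]⟩)) (.node (.leaf ⟨858, 4, 859, 0, []⟩) (.leaf ⟨0, 12, 0, 0, []⟩))))) (.node (.node (.node (.node (.leaf ⟨104, 7, 104, 20, [892, 684, 893]⟩) (.leaf ⟨1085, 4, 1086, 0, []⟩)) (.node (.leaf ⟨604, 0, 535, 10, [4989, 1481, 4541]⟩) (.leaf ⟨1426, 4, 1427, 0, []⟩))) (.node (.node (.leaf ⟨290, 0, 415, 10, [1941, 670, 2923]⟩) (.leaf ⟨1030, 8, 1055, 17, [11013, 10322, 9250, 11035]⟩)) (.node (.leaf ⟨763, 4, 764, 0, []⟩) (.leaf ⟨1615, 9, 1455, 21, [15225, 9512, 8523, 13591]⟩)))) (.node (.node (.node (.leaf ⟨189, 9, 108, 21, [1557, 1917, 1886, 1564]⟩) (.leaf ⟨1190, 2, 999, 5, [10107, 10103, 10100, 8358]⟩)) (.node (.leaf ⟨711, 2, 691, 50, [6015, 6008, 5336, 1390, 5818]⟩) (.leaf ⟨1355, 9, 1534, 21, [12635, 7397, 7394, 14203]⟩))) (.node (.node (.leaf ⟨202, 2, 474, 0, []⟩) (.leaf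 ⟨1324, 4, 1325, 0, []⟩)) (.node (.leaf ⟨951, 2, 838, 5, [8061, 8055, 3945, 7418]⟩) (.leaf ⟨0, 12, 0, 0, []⟩))))))))

def factB1 : Arr (CFact) :=
  (.node (.node (.node (.node (.node (.node (.node (.leaf ⟨0, 1, 0, 1, []⟩) (.leaf ⟨562, 4, 974, 68, [8188, 8180]⟩)) (.node (.leaf ⟨374, 12, 279, 20, [4089, 4095, 2854, 1873]⟩) (.leaf ⟨1340, 0, 1326, 3, [12287, 5432, 5841, 6105, 12184]⟩))) (.node (.node (.leaf ⟨235, 12, 88, 23, [2049, 718]⟩) (.leaf ⟨1198, 0, 1188, 3, [10239, 10232, 9218, 10087, 10088]⟩)) (.node (.leaf ⟨683, 3, 660, 30, [5742, 6123]⟩) (.leaf ⟨1544, 2, 1545, 0, []⟩)))) (.node (.node (.node (.leaf ⟨121, 3, 118, 7, [1025, 1022, 1006, 1008]⟩) (.leaf ⟨1103, 6, 863, 2, [9217, 9212, 7564]⟩)) (.node (.leaf ⟨126, 8, 611, 0, []⟩) (.leaf ⟨1358, 3, 1436, 44, [12462, 10336, 11180, 8470, 13313]⟩))) (.node (.node (.leaf ⟨323, 6, 355, 18, [2182, 2171, 2169, 3062, 3069]⟩) (.leaf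 ⟨935, 9, 1229, 84, [7923, 4772, 1522, 6364, 8832, 11263, 10532]⟩)) (.node (.leaf ⟨793, 4, 215, 8, [7169, 7167, 7165, 7161, 3369, 1629]⟩) (.leaf ⟨1547, 4, 1625, 42, [14352, 10810, 12111, 12071, 13097, 13098, 15361]⟩))))) (.node (.node (.node (.node (.leaf ⟨59, 4, 60, 0, []⟩) (.leaf ⟨1035, 6, 941, 2, [8705, 2836, 7978]⟩)) (.node (.leaf ⟨533, 6, 536, 18, [4546, 4535, 4573, 1197, 4607]⟩) (.leaf ⟨1394, 0, 1375, 3, [12801, 12799, 12299, 12573, 12576]⟩))) (.node (.node (.leaf ⟨369, 2, 308, 6, [2561, 2099]⟩) (.leaf ⟨1252, 2, 1207, 5, [10751, 10743, 10738, 10328]⟩)) (.node (.leaf ⟨159, 10, 744, 0, []⟩) (.leaf ⟨821, 10, 1586, 0, []⟩)))) (.node (.node (.node (.leaf ⟨184, 0, 142, 3, [1535, 1526, 1377, 1384, 1104]⟩) (.leaf ⟨1155, 6, 1134, 2, [9729, 6397, 9530]⟩)) (.node (.leaf ⟨669, 7, 628, 19, [5633, 4677, 5229]⟩) (.leaf ⟨1489, 1, 1490, 0, []⟩))) (.node (.node (.leaf ⟨452, 1, 453,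 0, []⟩) (.leaf ⟨1292, 9, 1209, 21, [11777, 8258, 9743, 11007]⟩)) (.node (.leaf ⟨889, 3, 885, 7, [7681, 7676, 7659, 7660]⟩) (.leaf ⟨0, 12, 0, 0, []⟩)))))) (.node (.node (.node (.node (.node (.leaf ⟨28, 1, 29, 0, []⟩) (.leaf ⟨440, 4, 1008, 68, [8448, 8442]⟩)) (.node (.leaf ⟨216, 6, 491, 87, [2470, 2507, 2753, 2755, 4351]⟩) (.leaf ⟨1371, 1, 951, 48, [12545, 12409, 8068]⟩))) (.node (.node (.leaf ⟨214, 6, 297, 18, [1621, 1619, 1617, 2300, 2305]⟩) (.leaf ⟨923, 9, 1075, 84, [7841, 10491, 7070, 4287, 6198, 6228, 9020]⟩)) (.node (.leaf ⟨676, 6, 680, 59, [5675, 5672, 5971, 6393]⟩) (.leaf ⟨1564, 2, 1495, 6, [14591, 13867]⟩)))) (.node (.node (.node (.leaf ⟨158, 3, 161, 39, [1258, 1030, 1279]⟩) (.leaf ⟨1129, 3, 944, 7, [9469, 2227, 3420, 8004]⟩)) (.node (.leaf ⟨533, 5, 525, 60, [5027, 5369, 5373, 4896, 5323]⟩) (.leaf ⟨1265, 1, 1454, 14, [11376, 11044, 9107, 12901, 13559]⟩))) (.node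 (.node (.leaf ⟨403, 11, 320, 13, [3319, 3325, 2164]⟩) (.leaf ⟨1274, 6, 943, 2, [11521, 4301, 7996]⟩)) (.node (.leaf ⟨838, 4, 839, 0, []⟩) (.leaf ⟨0, 12, 0, 0, []⟩))))) (.node (.node (.node (.node (.leaf ⟨93, 2, 88, 5, [765, 755, 750, 712]⟩) (.leaf ⟨1070, 4, 306, 8, [8961, 8959, 8957, 8955, 8951, 8941]⟩)) (.node (.leaf ⟨578, 6, 497, 18, [4844, 4855, 4428, 4430, 4432]⟩) (.leaf ⟨1417, 8, 855, 41, [13055, 13052, 8699, 6925, 7045, 12065, 7538]⟩))) (.node (.node (.leaf ⟨356, 6, 327, 26, [2813, 2796]⟩) (.leaf ⟨1055, 11, 1209, 13, [8880, 9743, 11007]⟩)) (.node (.leaf ⟨728, 4, 224, 68, [6904, 6810]⟩) (.leaf ⟨1606, 0, 1589, 10, [15103, 9571, 14899]⟩)))) (.node (.node (.node (.leaf ⟨229, 3, 261, 28, [1676, 1647, 1791]⟩) (.leaf ⟨1178, 0, 994, 3, [9983, 6128, 5717, 6149, 8372]⟩)) (.node (.leaf ⟨522, 9, 526, 21, [4505, 5293, 5889, 5879]⟩) (.leaf ⟨786, 1, 1522, 0, []⟩))) (.node (.node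 (.leaf ⟨423, 7, 426, 20, [3013, 3841, 3836]⟩) (.leaf ⟨1310, 2, 1139, 5, [12027, 12019, 12012, 9582]⟩)) (.node (.leaf ⟨466, 4, 937, 0, []⟩) (.leaf ⟨0, 12, 0, 0, []⟩))))))) (.node (.node (.node (.node (.node (.node (.leaf ⟨16, 7, 10, 19, [129, 76, 125]⟩) (.leaf ⟨989, 0, 909, 32, [8313, 8186, 8182]⟩)) (.node (.leaf ⟨450, 3, 336, 24, [4218, 4121]⟩) (.leaf ⟨1356, 9, 1106, 84, [12417, 6597, 12344, 12348, 8373, 6151, 9238]⟩))) (.node (.node (.leaf ⟨77, 11, 325, 13, [795, 788, 2177]⟩) (.leaf ⟨1212, 10, 1100, 88, [10367, 5288, 1103, 4768, 1054, 5270, 9198]⟩)) (.node (.leaf ⟨557, 10, 568, 47, [6264, 6239]⟩) (.leaf ⟨1287, 8, 1555, 17, [11721, 7285, 7286, 14463]⟩)))) (.node (.node (.node (.leaf ⟨145, 4, 146, 0, []⟩) (.leaf ⟨1119, 6, 926, 2, [9345, 2907, 7866]⟩)) (.node (.leaf ⟨632, 0, 631, 32, [5238, 5247, 5244]⟩) (.leaf ⟨643, 4, 1446, 0, []⟩))) (.node (.node (.leaf ⟨209, 4, 439,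 54, [2496, 2954, 3201]⟩) (.leaf ⟨1266, 7, 1251, 4, [11385, 11372, 10733, 10742]⟩)) (.node (.leaf ⟨817, 4, 340, 8, [7297, 7295, 7293, 7291, 3403, 2298]⟩) (.leaf ⟨0, 12, 0, 0, []⟩))))) (.node (.node (.node (.node (.leaf ⟨78, 3, 74, 7, [639, 634, 588, 602]⟩) (.leaf ⟨1047, 0, 961, 31, [8833, 6799, 8130]⟩)) (.node (.leaf ⟨155, 10, 114, 47, [4733, 4464]⟩) (.leaf ⟨1197, 11, 1406, 13, [11295, 11282, 12929]⟩))) (.node (.node (.leaf ⟨78, 11, 386, 13, [646, 641, 2689]⟩) (.leaf ⟨1259, 3, 874, 7, [10875, 3440, 7612, 7616]⟩)) (.node (.leaf ⟨631, 11, 569, 13, [6775, 6781, 5789]⟩) (.leaf ⟨1595, 2, 1559, 6, [14975, 14520]⟩)))) (.node (.node (.node (.leaf ⟨227, 2, 224, 6, [1665, 1651]⟩) (.leaf ⟨1168, 6, 999, 2, [9857, 9850, 8358]⟩)) (.node (.leaf ⟨542, 2, 686, 50, [4634, 4636, 4638, 1500, 5759]⟩) (.leaf ⟨1235, 9, 1508, 21, [11991, 11984, 11734, 13947]⟩))) (.node (.node (.leaf ⟨460, 7, 254,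 19, [3713, 1787, 3384]⟩) (.leaf ⟨1301, 1, 1135, 38, [11905, 9514, 9545]⟩)) (.node (.leaf ⟨918, 4, 919, 0, []⟩) (.leaf ⟨0, 12, 0, 0, []⟩)))))) (.node (.node (.node (.node (.node (.leaf ⟨28, 6, 32, 18, [272, 255, 251, 385, 341]⟩) (.leaf ⟨747, 4, 1020, 0, []⟩)) (.node (.leaf ⟨170, 11, 512, 13, [1372, 1513, 4481]⟩) (.leaf ⟨578, 4, 1385, 0, []⟩))) (.node (.node (.leaf ⟨209, 9, 61, 21, [1612, 1614, 2431, 2429]⟩) (.leaf ⟨1238, 4, 434, 36, [10617, 6832, 6843, 4375]⟩)) (.node (.leaf ⟨722, 11, 157, 13, [6258, 6517, 6513]⟩) (.leaf ⟨1575, 5, 1514, 55, [14721, 7303, 4818, 1448, 6046, 13163, 14035]⟩)))) (.node (.node (.node (.leaf ⟨128, 3, 173, 30, [1071, 1407]⟩) (.leaf ⟨1144, 3, 1139, 7, [9601, 2353, 9580, 9582]⟩)) (.node (.leaf ⟨614, 4, 311, 98, [5494, 5503, 5500, 3775]⟩) (.leaf ⟨1154, 1, 1470, 0, []⟩))) (.node (.node (.leaf ⟨267, 12, 437, 53, [1827, 1788, 1790, 3443, 3433]⟩) (.leaf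 ⟨1283, 10, 856, 9, [11649, 8877, 8880]⟩)) (.node (.leaf ⟨859, 4, 860, 0, []⟩) (.leaf ⟨0, 12, 0, 0, []⟩))))) (.node (.node (.node (.node (.leaf ⟨104, 4, 105, 0, []⟩) (.leaf ⟨1086, 3, 1078, 7, [9089, 9084, 9032, 9034]⟩)) (.node (.leaf ⟨604, 8, 167, 17, [4989, 1047, 1421, 4586]⟩) (.leaf ⟨1427, 8, 774, 41, [13185, 13182, 8494, 11355, 9641, 6955, 7122]⟩))) (.node (.node (.leaf ⟨358, 9, 415, 21, [2429, 837, 832, 2923]⟩) (.leaf ⟨1065, 11, 755, 13, [8946, 9893, 11023]⟩)) (.node (.leaf ⟨764, 3, 756, 7, [7041, 7038, 7006, 7008]⟩) (.leaf ⟨1472, 4, 1615, 42, [13715, 7796, 13488, 7203, 13573, 13576, 15233]⟩)))) (.node (.node (.node (.leaf ⟨286, 6, 189, 18, [1902, 1913, 1552, 1554, 1556]⟩) (.leaf ⟨1190, 4, 379, 36, [10107, 4632, 5488, 3452]⟩)) (.node (.leaf ⟨711, 6, 583, 18, [6015, 6005, 5995, 5982, 4895]⟩) (.leaf ⟨1534, 5, 1495, 55, [14209, 12411, 5845, 12442, 12452, 9299, 13865]⟩)))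 (.node (.node (.leaf ⟨474, 1, 104, 43, [3969, 1592, 1594, 1596, 960]⟩) (.leaf ⟨1325, 4, 1326, 0, []⟩)) (.node (.leaf ⟨951, 4, 281, 36, [8061, 8058, 7444, 1883]⟩) (.leaf ⟨0, 12, 0, 0, []⟩))))))))

def factB2 : Arr (CFact) :=
  (.node (.node (.node (.node (.node (.node (.node (.leaf ⟨0, 2, 0, 1, []⟩) (.leaf ⟨562, 5, 972, 73, [8188, 8177]⟩)) (.node (.leaf ⟨279, 0, 243, 23, [4099, 2592]⟩) (.leaf ⟨1268, 1, 1340, 48, [11418, 12190, 12291]⟩))) (.node (.node (.leaf ⟨52, 9, 103, 27, [2037, 1992]⟩) (.leaf ⟨1198, 3, 904, 7, [10239, 10234, 7736, 7738]⟩)) (.node (.leaf ⟨686, 7, 683, 20, [5763, 5773, 6147]⟩) (.leaf ⟨1545, 1, 1050, 43, [14339, 14331, 13159, 13168, 8841]⟩)))) (.node (.node (.node (.leaf ⟨121, 4, 122, 0, []⟩) (.leaf ⟨1103, 2, 1087, 5, [9217, 9211, 4173, 9098]⟩)) (.node (.leaf ⟨126, 10, 612, 0, []⟩) (.leaf ⟨702, 4, 1437, 0, []⟩))) (.node (.node (.leaf ⟨72, 9, 323, 21, [3030,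 3071, 3075, 2183]⟩) (.leaf ⟨804, 8, 894, 62, [7223, 3966, 7340, 10600, 7385, 11157, 7710]⟩)) (.node (.leaf ⟨789, 0, 793, 31, [7158, 1952, 7171]⟩) (.leaf ⟨1625, 4, 1519, 36, [15363, 14354, 14073, 14065]⟩))))) (.node (.node (.node (.node (.leaf ⟨60, 3, 56, 7, [515, 510, 496, 498]⟩) (.leaf ⟨1035, 0, 947, 3, [8705, 2836, 3385, 3899, 8026]⟩)) (.node (.leaf ⟨150, 8, 146, 17, [4607, 4611, 4535, 4573]⟩) (.leaf ⟨1394, 2, 1336, 5, [12801, 12793, 12788, 12250]⟩))) (.node (.node (.leaf ⟨369, 0, 229, 11, [2561, 2103, 1795]⟩) (.leaf ⟨1252, 4, 549, 36, [10751, 10748, 10344, 4653]⟩)) (.node (.leaf ⟨704, 2, 745, 0, []⟩) (.leaf ⟨1586, 4, 1544, 93, [14851, 7324, 14131, 14133, 14069, 8164, 14335]⟩)))) (.node (.node (.node (.leaf ⟨184, 3, 123, 7, [1535, 1528, 1028, 1034]⟩) (.leaf ⟨1155, 0, 824, 3, [9729, 6397, 6418, 6437, 7334]⟩)) (.node (.leaf ⟨138, 1, 670, 0, []⟩) (.leaf ⟨1490, 2, 1491,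 0, []⟩))) (.node (.node (.leaf ⟨453, 2, 419, 50, [3587, 3582, 2765, 3374, 2988]⟩) (.leaf ⟨1292, 4, 1293, 0, []⟩)) (.node (.leaf ⟨889, 2, 878, 5, [7681, 7675, 1666, 7638]⟩) (.leaf ⟨0, 12, 0, 0, []⟩)))))) (.node (.node (.node (.node (.node (.leaf ⟨29, 0, 29, 10, [259, 257, 258]⟩) (.leaf ⟨440, 5, 1006, 73, [8448, 8441]⟩)) (.node (.leaf ⟨292, 9, 360, 21, [1951, 4346, 4355, 2466]⟩) (.leaf ⟨1124, 11, 1371, 13, [9410, 8654, 12547]⟩))) (.node (.node (.leaf ⟨297, 2, 342, 0, []⟩) (.leaf ⟨1224, 10, 1190, 88, [10470, 10483, 8129, 6802, 6182, 2697, 10115]⟩)) (.node (.leaf ⟨494, 0, 680, 11, [4427, 5972, 6393]⟩) (.leaf ⟨1564, 6, 1552, 70, [14591, 13868, 13108, 14417]⟩)))) (.node (.node (.node (.leaf ⟨161, 4, 162, 0, []⟩) (.leaf ⟨1129, 4, 699, 36, [9469, 4227, 5922, 5915]⟩)) (.node (.leaf ⟨518, 0, 585, 11, [5301, 5373, 4900]⟩) (.leaf ⟨1454, 10, 799, 9, [13571, 11370, 8702]⟩))) (.node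 (.node (.leaf ⟨349, 7, 354, 20, [3315, 3325, 2400]⟩) (.leaf ⟨1274, 0, 765, 3, [11521, 4301, 4303, 1930, 7046]⟩)) (.node (.leaf ⟨839, 6, 769, 2, [7427, 7420, 7060]⟩) (.leaf ⟨0, 12, 0, 0, []⟩))))) (.node (.node (.node (.node (.leaf ⟨93, 7, 45, 4, [765, 758, 604, 454]⟩) (.leaf ⟨307, 4, 1071, 0, []⟩)) (.node (.leaf ⟨496, 8, 495, 17, [4432, 4867, 4855, 4428]⟩) (.leaf ⟨1285, 9, 857, 84, [11671, 11666, 7538, 13059, 13055, 13049, 7548]⟩))) (.node (.node (.leaf ⟨251, 0, 403, 10, [1749, 633, 2809]⟩) (.leaf ⟨1206, 1, 1030, 22, [10324, 11007, 10365, 10362]⟩)) (.node (.leaf ⟨728, 6, 554, 26, [6904, 6817]⟩) (.leaf ⟨1606, 8, 1279, 17, [15103, 8021, 8022, 11598]⟩)))) (.node (.node (.node (.leaf ⟨229, 1, 262, 0, []⟩) (.leaf ⟨1178, 3, 1082, 7, [9983, 6132, 5500, 9054]⟩)) (.node (.leaf ⟨693, 9, 518, 21, [5879, 5422, 5314, 4496]⟩) (.leaf ⟨1522, 10, 810, 9, [14083, 7142, 7267]⟩))) (.node (.node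 (.leaf ⟨390, 8, 467, 17, [2747, 3841, 3838, 3804]⟩) (.leaf ⟨1310, 7, 1272, 4, [12027, 12020, 11469, 11486]⟩)) (.node (.leaf ⟨937, 3, 931, 7, [7939, 3786, 5113, 7902]⟩) (.leaf ⟨0, 12, 0, 0, []⟩))))))) (.node (.node (.node (.node (.node (.node (.leaf ⟨10, 2, 17, 0, []⟩) (.leaf ⟨910, 6, 990, 2, [7757, 8323, 8304]⟩)) (.node (.leaf ⟨450, 7, 373, 25, [4218, 4118]⟩) (.leaf ⟨762, 1, 1356, 94, [8613, 10385, 10504, 12419]⟩))) (.node (.node (.leaf ⟨324, 12, 323, 14, [2174, 2176, 788, 2177, 2175, 2173]⟩) (.leaf ⟨961, 1, 1212, 101, [8246, 9197, 10371]⟩)) (.node (.leaf ⟨572, 2, 559, 45, [6237, 6240, 6263]⟩) (.leaf ⟨1555, 4, 1501, 54, [14465, 14058, 13975]⟩)))) (.node (.node (.node (.leaf ⟨146, 6, 116, 2, [1155, 1144, 1004]⟩) (.leaf ⟨1119, 0, 847, 3, [9345, 2907, 2904, 2510, 7474]⟩)) (.node (.leaf ⟨630, 12, 563, 30, [5234, 5245, 4782]⟩) (.leaf ⟨1446, 0, 1398, 3, [13443, 5339, 5889, 5848,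 12852]⟩))) (.node (.node (.leaf ⟨335, 10, 406, 9, [2225, 3201, 3198]⟩) (.leaf ⟨1203, 1, 1266, 38, [11277, 9612, 11387]⟩)) (.node (.leaf ⟨573, 12, 816, 91, [4822, 5080, 2294, 7299, 7297]⟩) (.leaf ⟨0, 12, 0, 0, []⟩))))) (.node (.node (.node (.node (.leaf ⟨78, 2, 65, 5, [639, 629, 122, 540]⟩) (.leaf ⟨817, 1, 963, 38, [8824, 8827, 8133]⟩)) (.node (.leaf ⟨515, 12, 119, 19, [4489, 4735, 1239, 1240]⟩) (.leaf ⟨1406, 4, 1407, 0, []⟩))) (.node (.node (.leaf ⟨263, 6, 386, 18, [1804, 1824, 1680, 643, 2689]⟩) (.leaf ⟨1259, 7, 1102, 4, [10875, 3436, 3739, 9210]⟩)) (.node (.leaf ⟨665, 12, 571, 20, [6777, 6781, 5786, 4811]⟩) (.leaf ⟨1595, 4, 1578, 85, [14975, 14263, 14752, 14754]⟩)))) (.node (.node (.node (.leaf ⟨223, 6, 220, 18, [1648, 1667, 1656, 933, 1640]⟩) (.leaf ⟨1168, 0, 1089, 3, [9857, 9850, 9069, 9111, 9114]⟩)) (.node (.leaf ⟨544, 0, 686, 10, [4638, 1502, 5759]⟩) (.leaf ⟨1506,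 9, 923, 21, [13940, 13944, 13953, 13899]⟩))) (.node (.node (.leaf ⟨204, 2, 460, 45, [1761, 1762, 3715]⟩) (.leaf ⟨486, 4, 1302, 0, []⟩)) (.node (.leaf ⟨919, 3, 915, 7, [7811, 7806, 7798, 7786]⟩) (.leaf ⟨0, 12, 0, 0, []⟩)))))) (.node (.node (.node (.node (.node (.leaf ⟨24, 7, 35, 20, [239, 281, 385]⟩) (.leaf ⟨1020, 0, 797, 3, [8579, 6722, 5778, 6496, 7192]⟩)) (.node (.leaf ⟨114, 8, 513, 0, []⟩) (.leaf ⟨1385, 6, 1343, 2, [12675, 6581, 12316]⟩))) (.node (.node (.leaf ⟨358, 2, 359, 0, []⟩) (.leaf ⟨1238, 7, 793, 4, [10617, 6723, 6725, 7176]⟩)) (.node (.leaf ⟨726, 7, 738, 20, [6341, 6213, 6515]⟩) (.leaf ⟨1575, 1, 1052, 22, [14721, 8836, 8145, 8855]⟩)))) (.node (.node (.node (.leaf ⟨173, 4, 174, 0, []⟩) (.leaf ⟨1144, 4, 1145, 0, []⟩)) (.node (.leaf ⟨593, 11, 614, 37, [4937, 2830, 629, 197, 490, 2108, 5507]⟩) (.leaf ⟨1470, 6, 1467, 18, [13699, 9720, 10838, 8593, 13683]⟩))) (.node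 (.node (.leaf ⟨267, 0, 306, 23, [3458, 3187]⟩) (.leaf ⟨1283, 4, 1284, 0, []⟩)) (.node (.leaf ⟨860, 4, 861, 0, []⟩) (.leaf ⟨0, 12, 0, 0, []⟩))))) (.node (.node (.node (.node (.leaf ⟨105, 6, 57, 2, [899, 890, 500]⟩) (.leaf ⟨1086, 4, 548, 8, [9089, 9083, 9077, 9067, 9055, 5501]⟩)) (.node (.leaf ⟨604, 2, 605, 0, []⟩) (.leaf ⟨1427, 0, 1404, 3, [13185, 13172, 12946, 12907, 12910]⟩))) (.node (.node (.leaf ⟨81, 9, 213, 21, [2923, 2927, 2307, 1621]⟩) (.leaf ⟨778, 11, 1191, 13, [9654, 10733, 11017]⟩)) (.node (.leaf ⟨764, 4, 564, 8, [7041, 7037, 7033, 7029, 7025, 6197]⟩) (.leaf ⟨1615, 4, 1560, 36, [15235, 13717, 14644, 14638]⟩)))) (.node (.node (.node (.leaf ⟨188, 8, 187, 17, [1556, 1923, 1913, 1552]⟩) (.leaf ⟨1190, 7, 1081, 4, [10107, 6737, 6734, 9046]⟩)) (.node (.leaf ⟨711, 0, 522, 10, [6015, 6010, 4504]⟩) (.leaf ⟨1095, 1, 1535, 0, []⟩))) (.node (.node (.leaf ⟨474, 2, 201, 6, [3969,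 1591]⟩) (.leaf ⟨1326, 4, 1327, 0, []⟩)) (.node (.leaf ⟨767, 0, 951, 31, [7054, 1881, 8067]⟩) (.leaf ⟨0, 12, 0, 0, []⟩))))))))

def factB3 : Arr (CFact) :=
  (.node (.node (.node (.node (.node (.node (.node (.leaf ⟨0, 6, 0, 1, []⟩) (.leaf ⟨631, 4, 908, 68, [8193, 7752]⟩)) (.node (.leaf ⟨279, 1, 373, 15, [4099, 2591]⟩) (.leaf ⟨1340, 10, 782, 9, [12293, 11416, 10858]⟩))) (.node (.node (.leaf ⟨103, 12, 236, 46, [2053, 1704]⟩) (.leaf ⟨1198, 2, 957, 5, [10239, 10229, 10227, 8092]⟩)) (.node (.leaf ⟨596, 10, 686, 9, [4954, 5717, 6149]⟩) (.leaf ⟨1545, 2, 1518, 6, [14339, 14332]⟩)))) (.node (.node (.node (.leaf ⟨122, 3, 113, 7, [1029, 1026, 1010, 996]⟩) (.leaf ⟨1103, 4, 1104, 0, []⟩)) (.node (.leaf ⟨127, 1, 613, 0, []⟩) (.leaf ⟨1437, 0, 1329, 3, [13317, 5940, 5346, 4871, 12170]⟩))) (.node (.node (.leaf ⟨353, 10, 320, 9, [2394, 3061, 2426]⟩) (.leaf ⟨828, 9, 970, 84, [7359, 3411,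 7306, 10211, 7165, 11155, 8164]⟩)) (.node (.leaf ⟨537, 12, 792, 91, [4624, 5470, 2455, 7171, 7169]⟩) (.leaf ⟨939, 9, 1626, 0, []⟩))))) (.node (.node (.node (.node (.leaf ⟨60, 4, 61, 0, []⟩) (.leaf ⟨1035, 7, 950, 4, [8705, 2836, 3385, 8054]⟩)) (.node (.leaf ⟨150, 9, 533, 21, [4607, 4609, 4611, 4547]⟩) (.leaf ⟨1394, 4, 581, 36, [12801, 12796, 12272, 5355]⟩))) (.node (.node (.leaf ⟨62, 11, 370, 0, []⟩) (.leaf ⟨1252, 7, 780, 34, [10751, 10744, 8626, 7098]⟩)) (.node (.leaf ⟨745, 1, 168, 43, [6661, 5954, 5962, 5637, 1349]⟩) (.leaf ⟨1582, 0, 1586, 31, [14806, 14817, 14853]⟩)))) (.node (.node (.node (.leaf ⟨184, 2, 115, 5, [1535, 1523, 1518, 1002]⟩) (.leaf ⟨1155, 3, 918, 7, [9729, 4877, 5087, 7802]⟩)) (.node (.leaf ⟨670, 0, 608, 10, [5637, 1116, 5040]⟩) (.leaf ⟨1491, 1, 1350, 12, [13829, 13827, 13825, 13817, 8301, 11151, 7058, 12408, 12402]⟩))) (.node (.node (.leaf ⟨453, 6, 388,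 18, [3587, 3579, 2770, 658, 2736]⟩) (.leaf ⟨1293, 0, 986, 3, [11781, 11768, 9893, 9896, 8292]⟩)) (.node (.leaf ⟨889, 4, 890, 0, []⟩) (.leaf ⟨0, 12, 0, 0, []⟩)))))) (.node (.node (.node (.node (.node (.leaf ⟨29, 2, 30, 0, []⟩) (.leaf ⟨1008, 7, 937, 4, [8451, 3249, 3789, 7938]⟩)) (.node (.leaf ⟨491, 1, 363, 58, [4355, 2468, 2429, 2480]⟩) (.leaf ⟨743, 4, 1372, 0, []⟩))) (.node (.node (.leaf ⟨342, 7, 215, 20, [2309, 2307, 1622]⟩) (.leaf ⟨1064, 1, 1224, 101, [9053, 10117, 10501]⟩)) (.node (.leaf ⟨670, 7, 676, 20, [5963, 6391, 6374]⟩) (.leaf ⟨1564, 5, 1500, 82, [14591, 13874, 13958, 13902]⟩)))) (.node (.node (.node (.leaf ⟨162, 6, 114, 2, [1285, 1278, 1000]⟩) (.leaf ⟨835, 3, 1129, 99, [7417, 3132, 5910, 9477]⟩)) (.node (.leaf ⟨586, 0, 517, 10, [4903, 5381, 4497]⟩) (.leaf ⟨1364, 11, 1265, 13, [12765, 13553, 13571]⟩))) (.node (.node (.leaf ⟨445, 12, 326, 17, [3313, 3325, 2163,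 2159, 2192]⟩) (.leaf ⟨1274, 3, 831, 7, [11521, 3621, 3365, 7378]⟩)) (.node (.leaf ⟨839, 2, 794, 5, [7427, 7419, 4335, 7180]⟩) (.leaf ⟨0, 12, 0, 0, []⟩))))) (.node (.node (.node (.node (.leaf ⟨93, 4, 94, 0, []⟩) (.leaf ⟨1071, 6, 893, 2, [8965, 3487, 7708]⟩)) (.node (.leaf ⟨498, 7, 493, 20, [4435, 4867, 4846]⟩) (.leaf ⟨1417, 0, 1378, 35, [13055, 13046, 12676, 12710, 12582]⟩))) (.node (.node (.leaf ⟨318, 8, 403, 17, [2159, 578, 636, 2809]⟩) (.leaf ⟨1222, 11, 1206, 13, [10448, 10362, 11013]⟩)) (.node (.leaf ⟨728, 8, 666, 46, [6904, 6889]⟩) (.leaf ⟨1606, 9, 1505, 21, [15103, 7961, 7958, 13926]⟩)))) (.node (.node (.node (.leaf ⟨262, 6, 227, 18, [1797, 1794, 1789, 929, 1657]⟩) (.leaf ⟨1178, 2, 1077, 5, [9983, 9967, 9964, 9032]⟩)) (.node (.leaf ⟨642, 12, 586, 19, [5333, 5290, 5889, 5848]⟩) (.leaf ⟨1522, 0, 1510, 10, [14083, 7441, 13981]⟩))) (.node (.node (.leaf ⟨426, 11, 453,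 13, [3843, 3597, 3586]⟩) (.leaf ⟨1272, 11, 1223, 13, [12037, 12028, 11259]⟩)) (.node (.leaf ⟨937, 4, 250, 36, [7939, 3794, 2870, 2573]⟩) (.leaf ⟨0, 12, 0, 0, []⟩))))))) (.node (.node (.node (.node (.node (.node (.leaf ⟨17, 7, 8, 20, [133, 124, 82]⟩) (.leaf ⟨895, 7, 971, 20, [8307, 8325, 8171]⟩)) (.node (.leaf ⟨450, 8, 375, 46, [4218, 4213]⟩) (.leaf ⟨1356, 10, 1208, 9, [12421, 11469, 11476]⟩))) (.node (.node (.leaf ⟨323, 1, 323, 15, [2181, 2173]⟩) (.leaf ⟨568, 4, 1213, 0, []⟩)) (.node (.leaf ⟨559, 2, 668, 6, [6277, 6221]⟩) (.leaf ⟨1175, 1, 1556, 0, []⟩)))) (.node (.node (.node (.leaf ⟨146, 3, 137, 7, [1155, 1146, 1106, 1092]⟩) (.leaf ⟨1119, 4, 373, 36, [9345, 3860, 3859, 3512]⟩)) (.node (.leaf ⟨563, 1, 629, 15, [5253, 5233]⟩) (.leaf ⟨1446, 3, 1414, 7, [13443, 6029, 13000, 13014]⟩))) (.node (.node (.leaf ⟨439, 1, 440, 0, []⟩) (.leaf ⟨1246, 1, 977, 48, [11389, 11397, 10301]⟩))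 (.node (.leaf ⟨573, 4, 817, 68, [7300, 7296]⟩) (.leaf ⟨0, 12, 0, 0, []⟩))))) (.node (.node (.node (.node (.leaf ⟨78, 7, 48, 4, [639, 632, 463, 466]⟩) (.leaf ⟨303, 4, 1050, 0, []⟩)) (.node (.leaf ⟨119, 11, 114, 51, [4741, 4489]⟩) (.leaf ⟨1407, 6, 1322, 2, [12933, 12927, 12134]⟩))) (.node (.node (.leaf ⟨261, 3, 384, 44, [1789, 641, 2689, 2687, 2685]⟩) (.leaf ⟨850, 10, 1259, 9, [10205, 10066, 10885]⟩)) (.node (.leaf ⟨571, 0, 553, 23, [6789, 5596]⟩) (.leaf ⟨1595, 5, 1585, 82, [14975, 14437, 14835, 14836]⟩)))) (.node (.node (.node (.leaf ⟨44, 8, 221, 17, [1640, 1669, 1647, 1645]⟩) (.leaf ⟨1168, 3, 1064, 7, [9857, 9852, 8931, 8932]⟩)) (.node (.leaf ⟨593, 9, 686, 21, [4931, 1505, 1500, 5759]⟩) (.leaf ⟨1477, 5, 1499, 75, [13752, 13667, 13949, 13953]⟩))) (.node (.node (.leaf ⟨460, 2, 203, 6, [3717, 1595]⟩) (.leaf ⟨1302, 6, 958, 2, [11909, 4132, 8110]⟩)) (.node (.leaf ⟨435, 5, 919,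 82, [4028, 5089, 7791, 7813]⟩) (.leaf ⟨0, 12, 0, 0, []⟩)))))) (.node (.node (.node (.node (.node (.leaf ⟨27, 9, 6, 21, [251, 385, 342, 264]⟩) (.leaf ⟨1020, 3, 768, 7, [8579, 6717, 6470, 7056]⟩)) (.node (.leaf ⟨114, 9, 514, 0, []⟩) (.leaf ⟨1385, 0, 1364, 3, [12675, 6581, 6588, 6386, 12478]⟩))) (.node (.node (.leaf ⟨359, 7, 341, 20, [2437, 2430, 2300]⟩) (.leaf ⟨419, 4, 1239, 0, []⟩)) (.node (.leaf ⟨566, 10, 726, 9, [4793, 6517, 6533]⟩) (.leaf ⟨1461, 3, 1575, 44, [13651, 8545, 10926, 9924, 14725]⟩)))) (.node (.node (.node (.leaf ⟨174, 6, 156, 2, [1413, 1404, 1242]⟩) (.leaf ⟨1145, 3, 1141, 7, [9605, 9602, 9584, 9586]⟩)) (.node (.leaf ⟨654, 10, 603, 88, [5496, 4176, 5507, 5509, 4937, 2403, 4983]⟩) (.leaf ⟨1470, 2, 1471, 0, []⟩))) (.node (.node (.leaf ⟨267, 1, 446, 15, [3458, 3432]⟩) (.leaf ⟨1284, 6, 1203, 2, [11653, 11642, 10292]⟩)) (.node (.leaf ⟨861, 4, 220, 8, [7557, 7555,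 7553, 7551, 7549, 7547]⟩) (.leaf ⟨0, 12, 0, 0, []⟩))))) (.node (.node (.node (.node (.leaf ⟨105, 0, 69, 3, [899, 890, 578, 583, 550]⟩) (.leaf ⟨872, 6, 1086, 86, [8286, 8284, 5775, 9093]⟩)) (.node (.leaf ⟨605, 1, 164, 43, [4997, 4989, 1079, 4599, 1307]⟩) (.leaf ⟨1427, 3, 1332, 7, [13185, 13174, 12196, 12200]⟩))) (.node (.node (.leaf ⟨411, 6, 340, 18, [2943, 2477, 1980, 838, 2284]⟩) (.leaf ⟨1174, 8, 756, 17, [10927, 8544, 7346, 10935]⟩)) (.node (.leaf ⟨187, 4, 765, 0, []⟩) (.leaf ⟨1399, 1, 1616, 0, []⟩)))) (.node (.node (.node (.leaf ⟨190, 7, 185, 20, [1559, 1923, 1904]⟩) (.leaf ⟨381, 4, 1191, 0, []⟩)) (.node (.leaf ⟨590, 12, 710, 22, [4919, 4884, 4890, 6019, 6015]⟩) (.leaf ⟨1535, 10, 956, 9, [14213, 9156, 9086]⟩))) (.node (.node (.leaf ⟨474, 0, 318, 11, [3969, 2414, 2396]⟩) (.leaf ⟨1327, 4, 1328, 0, []⟩)) (.node (.leaf ⟨281, 4, 952, 0, []⟩) (.leaf ⟨0, 12, 0, 0, []⟩))))))))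

def factB4 : Arr (CFact) :=
  (.node (.node (.node (.node (.node (.node (.node (.leaf ⟨0, 7, 0, 1, []⟩) (.leaf ⟨631, 5, 906, 73, [8193, 7751]⟩)) (.node (.leaf ⟨279, 2, 375, 16, [4099, 2594]⟩) (.leaf ⟨1340, 4, 1341, 0, []⟩))) (.node (.node (.leaf ⟨109, 9, 82, 27, [2041, 2011]⟩) (.leaf ⟨1198, 7, 864, 4, [10239, 10232, 9218, 7568]⟩)) (.node (.leaf ⟨147, 10, 717, 0, []⟩) (.leaf ⟨1379, 8, 1545, 17, [12599, 10040, 9914, 14341]⟩)))) (.node (.node (.node (.leaf ⟨122, 7, 122, 20, [1030, 998, 1031]⟩) (.leaf ⟨1104, 2, 1091, 5, [9223, 9217, 9215, 9122]⟩)) (.node (.leaf ⟨613, 10, 181, 9, [5127, 1118, 1509]⟩) (.leaf ⟨1437, 3, 1365, 7, [13317, 5939, 12478, 12486]⟩))) (.node (.node (.leaf ⟨293, 2, 429, 0, []⟩) (.leaf ⟨986, 1, 1037, 43, [10309, 10911, 9963, 9970, 8723]⟩)) (.node (.leaf ⟨537, 4, 793, 68, [7174, 7168]⟩) (.leaf ⟨1626, 5, 1519, 55, [15367, 7957, 13354, 13360, 13362, 8815,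 14063]⟩))))) (.node (.node (.node (.node (.leaf ⟨61, 3, 58, 7, [519, 516, 500, 502]⟩) (.leaf ⟨1035, 4, 1036, 0, []⟩)) (.node (.leaf ⟨120, 8, 536, 17, [4579, 1094, 1199, 4607]⟩) (.leaf ⟨606, 4, 1395, 0, []⟩))) (.node (.node (.leaf ⟨370, 1, 92, 38, [2567, 527, 757]⟩) (.leaf ⟨801, 0, 1252, 31, [7219, 6256, 10757]⟩)) (.node (.leaf ⟨745, 2, 678, 6, [6661, 6401]⟩) (.leaf ⟨1522, 4, 1586, 91, [14092, 14347, 14339, 14853]⟩)))) (.node (.node (.node (.leaf ⟨184, 4, 38, 36, [1535, 1530, 1010, 371]⟩) (.leaf ⟨1155, 2, 917, 5, [9729, 9725, 9722, 7796]⟩)) (.node (.leaf ⟨670, 2, 671, 0, []⟩) (.leaf ⟨1384, 11, 1491, 13, [12849, 12838, 13831]⟩))) (.node (.node (.leaf ⟨398, 7, 453, 19, [2779, 2736, 3591]⟩) (.leaf ⟨1293, 3, 1290, 7, [11781, 11770, 11732, 11738]⟩)) (.node (.leaf ⟨890, 3, 887, 7, [7687, 7682, 7664, 7668]⟩) (.leaf ⟨0, 12, 0, 0, []⟩)))))) (.node (.node (.node (.node (.node (.leaf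 ⟨30, 1, 6, 12, [263, 259, 255, 251, 247, 243, 239, 233, 71]⟩) (.leaf ⟨273, 4, 1009, 0, []⟩)) (.node (.leaf ⟨363, 2, 456, 50, [4359, 4348, 1941, 711, 3647]⟩) (.leaf ⟨1372, 6, 1369, 2, [12551, 6652, 12526]⟩))) (.node (.node (.leaf ⟨342, 1, 343, 0, []⟩) (.leaf ⟨1214, 1, 1106, 48, [10465, 10503, 9241]⟩)) (.node (.leaf ⟨672, 9, 731, 21, [5645, 5959, 6391, 6378]⟩) (.leaf ⟨1564, 0, 1468, 11, [14591, 13871, 13717]⟩)))) (.node (.node (.node (.leaf ⟨162, 0, 132, 3, [1285, 1278, 999, 1067, 1068]⟩) (.leaf ⟨459, 4, 1130, 0, []⟩)) (.node (.leaf ⟨588, 0, 587, 11, [4911, 5383, 4904]⟩) (.leaf ⟨1454, 4, 1455, 0, []⟩))) (.node (.node (.leaf ⟨326, 0, 257, 23, [3335, 3306]⟩) (.leaf ⟨1274, 4, 681, 36, [11521, 3622, 5524, 5693]⟩)) (.node (.leaf ⟨839, 4, 432, 36, [7427, 7422, 7188, 3117]⟩) (.leaf ⟨0, 12, 0, 0, []⟩))))) (.node (.node (.node (.node (.leaf ⟨94, 6, 46, 2, [775, 768, 456]⟩) (.leaf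 ⟨1071, 0, 958, 3, [8965, 3487, 3494, 2709, 8110]⟩)) (.node (.leaf ⟨122, 10, 580, 0, []⟩) (.leaf ⟨1417, 4, 590, 8, [13055, 13041, 13032, 13025, 13015, 13001]⟩))) (.node (.node (.leaf ⟨350, 10, 318, 9, [2383, 2819, 2804]⟩) (.leaf ⟨1191, 1, 1250, 14, [10127, 10372, 10362, 11013, 10739]⟩)) (.node (.leaf ⟨632, 10, 687, 9, [5237, 6897, 6272]⟩) (.leaf ⟨1542, 4, 1606, 77, [14303, 7182, 10843, 7029, 11587, 11590, 15109]⟩)))) (.node (.node (.node (.leaf ⟨262, 2, 263, 0, []⟩) (.leaf ⟨1062, 1, 1178, 48, [9805, 9811, 9987]⟩)) (.node (.leaf ⟨586, 11, 130, 51, [5895, 5333]⟩) (.leaf ⟨1522, 9, 1439, 21, [14083, 7151, 7277, 13356]⟩))) (.node (.node (.leaf ⟨456, 2, 469, 0, []⟩) (.leaf ⟨899, 1, 1310, 14, [10257, 11003, 9010, 9650, 12035]⟩)) (.node (.leaf ⟨252, 4, 938, 0, []⟩) (.leaf ⟨0, 12, 0, 0, []⟩))))))) (.node (.node (.node (.node (.node (.node (.leaf ⟨17, 2, 9, 6, [133, 91]⟩) (.leaf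 ⟨895, 0, 890, 11, [8307, 8311, 7689]⟩)) (.node (.leaf ⟨377, 11, 450, 13, [3238, 4209, 4223]⟩) (.leaf ⟨1356, 4, 1357, 0, []⟩))) (.node (.node (.leaf ⟨323, 2, 325, 16, [2181, 2174]⟩) (.leaf ⟨1213, 0, 1023, 3, [10375, 6345, 6951, 6952, 8604]⟩)) (.node (.leaf ⟨570, 6, 559, 33, [5622, 6227, 6279]⟩) (.leaf ⟨1556, 6, 1525, 89, [14471, 14134, 14111]⟩)))) (.node (.node (.node (.leaf ⟨146, 7, 146, 4, [1155, 1144, 1143, 1154]⟩) (.leaf ⟨1119, 7, 1004, 4, [9345, 2907, 2904, 8414]⟩)) (.node (.leaf ⟨629, 12, 564, 15, [5255, 4786]⟩) (.leaf ⟨1446, 4, 705, 36, [13443, 5997, 6555, 5963]⟩))) (.node (.node (.leaf ⟨440, 6, 280, 18, [3207, 3197, 3189, 651, 1877]⟩) (.leaf ⟨1266, 9, 1017, 21, [11397, 10296, 9923, 10927]⟩)) (.node (.leaf ⟨573, 5, 815, 73, [7300, 7295]⟩) (.leaf ⟨0, 12, 0, 0, []⟩))))) (.node (.node (.node (.node (.leaf ⟨78, 4, 79, 0, []⟩) (.leaf ⟨1050, 6, 878, 2, [8839, 2084, 7638]⟩))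 (.node (.leaf ⟨144, 1, 173, 48, [1124, 4735, 1405]⟩) (.leaf ⟨1407, 8, 1016, 41, [12933, 12931, 10238, 11903, 9505, 3330, 8534]⟩))) (.node (.node (.leaf ⟨379, 8, 386, 17, [2665, 542, 645, 2689]⟩) (.leaf ⟨887, 1, 1259, 102, [10167, 10184, 8049, 9428, 10883]⟩)) (.node (.leaf ⟨571, 1, 664, 15, [6789, 5595]⟩) (.leaf ⟨1595, 0, 1540, 11, [14975, 14584, 14581]⟩)))) (.node (.node (.node (.leaf ⟨44, 9, 228, 0, []⟩) (.leaf ⟨1168, 2, 1058, 5, [9857, 9847, 9842, 8898]⟩)) (.node (.leaf ⟨542, 0, 543, 32, [5762, 5765, 4637]⟩) (.leaf ⟨1487, 4, 1506, 42, [13811, 7054, 1925, 7071, 10490, 7840, 13957]⟩))) (.node (.node (.leaf ⟨460, 6, 257, 70, [3717, 1596, 3423, 1768]⟩) (.leaf ⟨1302, 0, 893, 3, [11909, 4132, 1798, 3497, 7708]⟩)) (.node (.leaf ⟨849, 0, 919, 11, [7492, 7789, 7813]⟩) (.leaf ⟨0, 12, 0, 0, []⟩)))))) (.node (.node (.node (.node (.node (.leaf ⟨6, 10, 24, 9, [265, 343, 389]⟩) (.leaf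 ⟨1020, 2, 767, 5, [8579, 8575, 8572, 7052]⟩)) (.node (.leaf ⟨114, 10, 515, 0, []⟩) (.leaf ⟨1385, 3, 1319, 7, [12675, 4855, 12090, 12120]⟩))) (.node (.node (.leaf ⟨359, 1, 360, 0, []⟩) (.leaf ⟨1239, 6, 1138, 2, [10631, 2992, 9580]⟩)) (.node (.leaf ⟨673, 2, 739, 0, []⟩) (.leaf ⟨1462, 2, 1575, 50, [13656, 13658, 13660, 8855, 14725]⟩)))) (.node (.node (.node (.leaf ⟨174, 0, 120, 3, [1413, 1404, 1239, 1240, 1020]⟩) (.leaf ⟨1145, 4, 1146, 0, []⟩)) (.node (.leaf ⟨542, 10, 654, 97, [5488, 3456, 923, 321, 490, 2106, 5497]⟩) (.leaf ⟨1471, 1, 1449, 43, [13703, 13699, 9722, 12106, 13477]⟩))) (.node (.node (.leaf ⟨267, 2, 385, 16, [3458, 3184]⟩) (.leaf ⟨1284, 0, 1279, 3, [11653, 11642, 10286, 11583, 11590]⟩)) (.node (.leaf ⟨221, 4, 862, 0, []⟩) (.leaf ⟨0, 12, 0, 0, []⟩))))) (.node (.node (.node (.node (.leaf ⟨105, 3, 85, 7, [899, 892, 688, 692]⟩) (.leaf ⟨1085, 0, 871, 31, [9088, 9095,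 7609]⟩)) (.node (.leaf ⟨605, 6, 604, 70, [4997, 4989, 1185, 4988]⟩) (.leaf ⟨1427, 2, 1323, 5, [13185, 13171, 5049, 12150]⟩))) (.node (.node (.leaf ⟨344, 12, 294, 19, [2329, 2284, 2951, 2912]⟩) (.leaf ⟨828, 11, 1173, 37, [7362, 11109, 8951, 11138, 7008, 11143, 9921]⟩)) (.node (.leaf ⟨765, 4, 735, 36, [7047, 1554, 6474, 6467]⟩) (.leaf ⟨1616, 2, 1569, 50, [15239, 12925, 12928, 11283, 14660]⟩)))) (.node (.node (.node (.leaf ⟨50, 10, 288, 0, []⟩) (.leaf ⟨1191, 0, 1171, 3, [10119, 4051, 4064, 3779, 9890]⟩)) (.node (.leaf ⟨590, 0, 521, 23, [6022, 6010]⟩) (.leaf ⟨1535, 2, 1519, 50, [14213, 9757, 11948, 11936, 14060]⟩))) (.node (.node (.leaf ⟨458, 6, 474, 33, [3677, 3417, 3973]⟩) (.leaf ⟨1328, 4, 497, 8, [12167, 12165, 12163, 12161, 12159, 12151]⟩)) (.node (.leaf ⟨952, 6, 949, 2, [8071, 3636, 8044]⟩) (.leaf ⟨0, 12, 0, 0, []⟩))))))))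

def factB5 : Arr (CFact) :=
  (.node (.node (.node (.node (.node (.node (.node (.leaf ⟨0, 8, 0, 1, []⟩) (.leaf ⟨892, 6, 974, 86, [8124, 8122, 2708, 8185]⟩)) (.node (.leaf ⟨279, 3, 484, 24, [4099, 4089]⟩) (.leaf ⟨1341, 6, 1327, 2, [12297, 12290, 12164]⟩))) (.node (.node (.leaf ⟨109, 10, 67, 47, [2041, 1984]⟩) (.leaf ⟨1198, 4, 1199, 0, []⟩)) (.node (.leaf ⟨717, 7, 654, 19, [6153, 4649, 5502]⟩) (.leaf ⟨1545, 5, 1523, 52, [14345, 12587, 4543, 1096, 5684, 9527, 14100]⟩)))) (.node (.node (.node (.leaf ⟨122, 4, 123, 0, []⟩) (.leaf ⟨1104, 7, 1062, 34, [9223, 9218, 8918, 8920]⟩)) (.node (.leaf ⟨299, 5, 613, 55, [2909, 5101, 4459, 1000, 4753, 1511, 5129]⟩) (.leaf ⟨1437, 2, 1359, 5, [13317, 13309, 13315, 12436]⟩))) (.node (.node (.leaf ⟨429, 7, 297, 20, [3081, 2928, 2927]⟩) (.leaf ⟨1204, 8, 790, 17, [10911, 9157, 9792, 10207]⟩)) (.node (.leaf ⟨537, 5, 791, 73, [7174, 7167]⟩) (.leaf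 ⟨1626, 1, 1075, 22, [15367, 11820, 11983, 11978]⟩))))) (.node (.node (.node (.node (.leaf ⟨61, 4, 62, 0, []⟩) (.leaf ⟨1036, 6, 948, 2, [8713, 8708, 8034]⟩)) (.node (.leaf ⟨536, 7, 535, 20, [4608, 4611, 4548]⟩) (.leaf ⟨1395, 6, 1382, 2, [12809, 5014, 12642]⟩))) (.node (.node (.leaf ⟨230, 0, 370, 10, [1680, 759, 2569]⟩) (.leaf ⟨549, 4, 1253, 0, []⟩)) (.node (.leaf ⟨745, 4, 356, 85, [6661, 5951, 4021, 3056]⟩) (.leaf ⟨1586, 9, 1129, 84, [14857, 14084, 7256, 3817, 701, 2230, 9468]⟩)))) (.node (.node (.node (.leaf ⟨41, 1, 185, 0, []⟩) (.leaf ⟨1155, 4, 363, 36, [9729, 4878, 5088, 4361]⟩)) (.node (.leaf ⟨671, 0, 497, 11, [5641, 5638, 5049]⟩) (.leaf ⟨1482, 6, 1491, 18, [13783, 10151, 13136, 13130, 13831]⟩))) (.node (.node (.leaf ⟨420, 2, 453, 6, [2995, 3589]⟩) (.leaf ⟨1293, 7, 1172, 4, [11781, 11768, 9893, 9900]⟩)) (.node (.leaf ⟨890, 2, 882, 5, [7687, 7681, 7679, 7646]⟩) (.leaf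 ⟨0, 12, 0, 0, []⟩)))))) (.node (.node (.node (.node (.node (.leaf ⟨30, 0, 30, 11, [263, 261, 262]⟩) (.leaf ⟨1009, 6, 1008, 2, [8457, 3248, 8450]⟩)) (.node (.leaf ⟨363, 3, 435, 44, [4359, 4355, 2466, 3867, 4027]⟩) (.leaf ⟨1372, 3, 1366, 7, [12551, 6631, 5831, 12500]⟩))) (.node (.node (.leaf ⟨343, 6, 209, 18, [2313, 2309, 2304, 2302, 1613]⟩) (.leaf ⟨397, 4, 1226, 0, []⟩)) (.node (.leaf ⟨704, 8, 152, 17, [5954, 6391, 6373, 5680]⟩) (.leaf ⟨1490, 5, 1564, 57, [14435, 14241, 14001, 14601]⟩)))) (.node (.node (.node (.leaf ⟨162, 2, 155, 5, [1285, 1275, 429, 1236]⟩) (.leaf ⟨1130, 6, 916, 2, [9481, 3698, 7792]⟩)) (.node (.leaf ⟨522, 7, 527, 56, [5304, 5302, 5371]⟩) (.leaf ⟨1455, 9, 1061, 40, [13577, 13565, 7698, 6782, 10139, 10203, 8914]⟩))) (.node (.node (.leaf ⟨326, 1, 404, 15, [3335, 3313]⟩) (.leaf ⟨829, 3, 1274, 99, [7367, 3875, 5698, 11529]⟩)) (.node (.leaf ⟨839, 7, 808, 4,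 [7427, 7420, 7249, 7250]⟩) (.leaf ⟨0, 12, 0, 0, []⟩))))) (.node (.node (.node (.node (.leaf ⟨94, 0, 76, 3, [775, 768, 601, 617, 618]⟩) (.leaf ⟨1071, 3, 1066, 7, [8965, 2095, 8940, 8950]⟩)) (.node (.leaf ⟨580, 7, 495, 19, [4873, 4816, 4820]⟩) (.leaf ⟨752, 4, 1418, 0, []⟩))) (.node (.node (.leaf ⟨403, 2, 400, 6, [2817, 2802]⟩) (.leaf ⟨1227, 1, 760, 48, [10520, 11013, 10326]⟩)) (.node (.leaf ⟨562, 7, 727, 20, [5244, 6897, 6354]⟩) (.leaf ⟨1606, 4, 1511, 36, [15113, 14307, 13891, 13998]⟩)))) (.node (.node (.node (.leaf ⟨263, 7, 224, 20, [1801, 1798, 1666]⟩) (.leaf ⟨1178, 4, 1179, 0, []⟩)) (.node (.leaf ⟨641, 12, 591, 53, [5331, 5290, 5889, 5847, 5839]⟩) (.leaf ⟨1503, 4, 1522, 42, [13919, 9024, 2532, 9833, 13341, 13342, 14089]⟩))) (.node (.node (.leaf ⟨469, 0, 218, 11, [3849, 3651, 2476]⟩) (.leaf ⟨1310, 10, 991, 9, [12041, 9943, 9950]⟩)) (.node (.leaf ⟨938, 6, 922, 2, [7945,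 3053, 7836]⟩) (.leaf ⟨0, 12, 0, 0, []⟩))))))) (.node (.node (.node (.node (.node (.node (.leaf ⟨17, 0, 17, 11, [133, 93, 132]⟩) (.leaf ⟨891, 6, 896, 2, [7693, 8329, 7714]⟩)) (.node (.leaf ⟨331, 4, 487, 67, [2875, 2872, 2613, 2646, 4211]⟩) (.leaf ⟨1357, 8, 1171, 41, [12425, 12422, 10338, 11779, 11765, 4053, 9890]⟩))) (.node (.node (.leaf ⟨260, 0, 325, 10, [1786, 791, 2177]⟩) (.leaf ⟨1213, 3, 1206, 7, [10375, 4801, 6205, 10320]⟩)) (.node (.leaf ⟨569, 0, 559, 32, [5807, 6217, 6279]⟩) (.leaf ⟨1556, 0, 1494, 10, [14471, 9939, 13855]⟩)))) (.node (.node (.node (.leaf ⟨146, 4, 147, 0, []⟩) (.leaf ⟨319, 4, 1120, 0, []⟩)) (.node (.leaf ⟨563, 2, 631, 16, [5253, 5234]⟩) (.leaf ⟨1426, 11, 1446, 37, [13184, 13186, 7123, 6956, 1254, 6435, 13449]⟩))) (.node (.node (.leaf ⟨248, 9, 439, 21, [2629, 2856, 3209, 3207]⟩) (.leaf ⟨1266, 4, 1267, 0, []⟩)) (.node (.leaf ⟨200, 4, 818, 0, []⟩) (.leaf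 ⟨0, 12, 0, 0, []⟩))))) (.node (.node (.node (.node (.leaf ⟨79, 3, 76, 7, [649, 642, 610, 618]⟩) (.leaf ⟨1050, 3, 1045, 7, [8839, 2083, 8796, 8804]⟩)) (.node (.leaf ⟨507, 9, 155, 21, [4729, 1370, 1286, 4735]⟩) (.leaf ⟨1407, 3, 1401, 7, [12933, 12924, 12870, 12882]⟩))) (.node (.node (.leaf ⟨383, 12, 229, 30, [2682, 2695, 1795]⟩) (.leaf ⟨871, 3, 1259, 30, [7619, 10883]⟩)) (.node (.leaf ⟨571, 2, 666, 16, [6789, 5598]⟩) (.leaf ⟨833, 1, 1596, 0, []⟩)))) (.node (.node (.node (.leaf ⟨44, 10, 229, 0, []⟩) (.leaf ⟨1168, 4, 1169, 0, []⟩)) (.node (.leaf ⟨543, 4, 266, 54, [5769, 5488, 3454]⟩) (.leaf ⟨964, 10, 1487, 97, [8138, 13197, 10441, 10964, 7840, 13957, 13961]⟩))) (.node (.node (.leaf ⟨460, 0, 352, 11, [3717, 2202, 2411]⟩) (.leaf ⟨1302, 3, 1293, 7, [11909, 4134, 11764, 11780]⟩)) (.node (.leaf ⟨435, 4, 920, 0, []⟩) (.leaf ⟨0, 12, 0, 0, []⟩)))))) (.node (.node (.node (.node (.node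 (.leaf ⟨5, 9, 28, 21, [328, 337, 387, 273]⟩) (.leaf ⟨1020, 4, 341, 36, [8579, 6720, 6463, 2303]⟩)) (.node (.leaf ⟨115, 1, 516, 0, []⟩) (.leaf ⟨1305, 1, 1385, 102, [11958, 11265, 9253, 12124, 12681]⟩))) (.node (.node (.leaf ⟨360, 6, 300, 18, [2441, 2437, 2429, 837, 1981]⟩) (.leaf ⟨1239, 8, 786, 41, [10631, 3920, 3911, 2789, 3401, 3100, 7138]⟩)) (.node (.leaf ⟨739, 1, 680, 43, [6537, 5658, 5664, 5674, 6402]⟩) (.leaf ⟨1575, 4, 1494, 91, [14727, 13986, 13979, 13861]⟩)))) (.node (.node (.node (.leaf ⟨174, 3, 134, 7, [1413, 1406, 1072, 1076]⟩) (.leaf ⟨1146, 3, 1143, 7, [9609, 9606, 9588, 9590]⟩)) (.node (.leaf ⟨654, 1, 655, 0, []⟩) (.leaf ⟨1444, 11, 1471, 13, [13420, 13477, 13705]⟩))) (.node (.node (.leaf ⟨267, 3, 386, 24, [3458, 3183]⟩) (.leaf ⟨1284, 3, 1101, 7, [11653, 11644, 9199, 9200]⟩)) (.node (.leaf ⟨862, 3, 857, 7, [7561, 1643, 7546, 7548]⟩) (.leaf ⟨0, 12, 0, 0, []⟩)))))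 (.node (.node (.node (.node (.leaf ⟨105, 2, 94, 5, [899, 889, 884, 774]⟩) (.leaf ⟨310, 4, 1087, 0, []⟩)) (.node (.leaf ⟨605, 0, 532, 11, [4997, 4992, 4550]⟩) (.leaf ⟨965, 1, 1427, 14, [10123, 11016, 10732, 12156, 13193]⟩))) (.node (.node (.leaf ⟨294, 4, 334, 68, [2953, 2640]⟩) (.leaf ⟨1173, 1, 838, 38, [11145, 8783, 8776]⟩)) (.node (.leaf ⟨326, 4, 766, 0, []⟩) (.leaf ⟨1616, 3, 1570, 44, [15239, 12866, 12239, 8283, 14669]⟩)))) (.node (.node (.node (.leaf ⟨288, 7, 187, 19, [1929, 1878, 1880]⟩) (.leaf ⟨1191, 3, 965, 7, [10119, 2716, 8134, 8138]⟩)) (.node (.leaf ⟨590, 1, 711, 15, [6022, 6014]⟩) (.leaf ⟨1535, 3, 1520, 44, [14213, 9156, 10910, 10306, 14067]⟩))) (.node (.node (.leaf ⟨104, 10, 205, 9, [3971, 3977, 3965]⟩) (.leaf ⟨498, 4, 1329, 0, []⟩)) (.node (.leaf ⟨952, 3, 794, 7, [8071, 2147, 4337, 7180]⟩) (.leaf ⟨0, 12, 0, 0, []⟩))))))))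

def factB6 : Arr (CFact) :=
  (.node (.node (.node (.node (.node (.node (.node (.leaf ⟨0, 10, 0, 1, []⟩) (.leaf ⟨908, 6, 885, 2, [8199, 5251, 7660]⟩)) (.node (.leaf ⟨279, 6, 449, 26, [4099, 3557]⟩) (.leaf ⟨1341, 9, 1233, 84, [12297, 12294, 7110, 1888, 7445, 10831, 10562]⟩))) (.node (.node (.leaf ⟨88, 9, 109, 27, [2051, 1999]⟩) (.leaf ⟨1199, 6, 1189, 2, [10251, 10242, 10096]⟩)) (.node (.leaf ⟨543, 6, 717, 89, [4635, 5512, 6155]⟩) (.leaf ⟨797, 10, 1546, 0, []⟩)))) (.node (.node (.node (.leaf ⟨123, 3, 115, 7, [1035, 1030, 1000, 1002]⟩) (.leaf ⟨1078, 0, 1104, 32, [9091, 9125, 9225]⟩)) (.node (.leaf ⟨613, 2, 602, 92, [5131, 3356, 3945, 4975]⟩) (.leaf ⟨1437, 7, 1312, 4, [13317, 5940, 5346, 12066]⟩))) (.node (.node (.leaf ⟨429, 2, 292, 6, [3081, 1955]⟩) (.leaf ⟨756, 11, 1203, 37, [7010, 10956, 9481, 3709, 7160, 11275, 10303]⟩)) (.node (.leaf ⟨206, 4, 794, 0, []⟩) (.leaf ⟨1622,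 3, 1626, 44, [15320, 7804, 11598, 11594, 15371]⟩))))) (.node (.node (.node (.node (.leaf ⟨62, 3, 53, 7, [523, 520, 504, 490]⟩) (.leaf ⟨1036, 7, 767, 4, [8713, 8708, 8028, 7052]⟩)) (.node (.leaf ⟨117, 1, 537, 0, []⟩) (.leaf ⟨1395, 0, 1366, 3, [12809, 5014, 4611, 4581, 12500]⟩))) (.node (.node (.leaf ⟨250, 2, 371, 0, []⟩) (.leaf ⟨1253, 6, 1248, 2, [10763, 4678, 10712]⟩)) (.node (.leaf ⟨745, 0, 500, 11, [6661, 5948, 4438]⟩) (.leaf ⟨1359, 1, 1586, 94, [12491, 12691, 12702, 14859]⟩)))) (.node (.node (.node (.leaf ⟨185, 10, 59, 9, [1547, 447, 513]⟩) (.leaf ⟨365, 4, 1156, 0, []⟩)) (.node (.leaf ⟨671, 1, 672, 0, []⟩) (.leaf ⟨1489, 9, 959, 21, [13826, 13828, 13835, 13783]⟩))) (.node (.node (.leaf ⟨452, 6, 423, 18, [3586, 3595, 2998, 3002, 3006]⟩) (.leaf ⟨1102, 10, 1293, 9, [10201, 10130, 11787]⟩)) (.node (.leaf ⟨890, 4, 891, 0, []⟩) (.leaf ⟨0, 12, 0, 0, []⟩)))))) (.node (.node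 (.node (.node (.node (.leaf ⟨6, 11, 30, 13, [72, 64, 265]⟩) (.leaf ⟨1009, 0, 914, 3, [8457, 3248, 3208, 2858, 7780]⟩)) (.node (.leaf ⟨363, 6, 294, 18, [4359, 4347, 1950, 1954, 1956]⟩) (.leaf ⟨1372, 4, 527, 36, [12551, 6634, 6055, 6064]⟩))) (.node (.node (.leaf ⟨217, 12, 342, 22, [1633, 1606, 1610, 2315, 2313]⟩) (.leaf ⟨1226, 6, 1021, 2, [10507, 3832, 8590]⟩)) (.node (.leaf ⟨700, 2, 732, 0, []⟩) (.leaf ⟨922, 8, 1564, 17, [10488, 7372, 8033, 14593]⟩)))) (.node (.node (.node (.leaf ⟨162, 7, 114, 4, [1285, 1278, 999, 1000]⟩) (.leaf ⟨1130, 0, 922, 3, [9481, 3698, 2376, 2427, 7836]⟩)) (.node (.leaf ⟨646, 2, 647, 0, []⟩) (.leaf ⟨1455, 0, 1386, 3, [13577, 13554, 13043, 13046, 12688]⟩))) (.node (.node (.leaf ⟨326, 2, 427, 16, [3335, 3302]⟩) (.leaf ⟨1274, 1, 1046, 14, [11531, 11098, 8271, 10195, 8870]⟩)) (.node (.leaf ⟨432, 4, 840, 0, []⟩) (.leaf ⟨0, 12, 0, 0, []⟩))))) (.node (.node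 (.node (.node (.leaf ⟨94, 2, 85, 5, [775, 765, 760, 692]⟩) (.leaf ⟨1071, 7, 969, 4, [8965, 3487, 3494, 8160]⟩)) (.node (.leaf ⟨500, 2, 580, 45, [4829, 4857, 4875]⟩) (.leaf ⟨1418, 6, 1356, 2, [13067, 6966, 12416]⟩))) (.node (.node (.leaf ⟨399, 6, 328, 18, [2784, 2827, 2808, 637, 2201]⟩) (.leaf ⟨1112, 11, 1227, 13, [10553, 10546, 11019]⟩)) (.node (.leaf ⟨564, 9, 720, 21, [4787, 5258, 6897, 6268]⟩) (.leaf ⟨1606, 2, 1607, 0, []⟩)))) (.node (.node (.node (.leaf ⟨263, 1, 264, 0, []⟩) (.leaf ⟨1179, 6, 995, 2, [9995, 9986, 8340]⟩)) (.node (.leaf ⟨591, 9, 130, 27, [5899, 5331]⟩) (.leaf ⟨1522, 2, 1523, 0, []⟩))) (.node (.node (.leaf ⟨469, 1, 470, 0, []⟩) (.leaf ⟨1234, 11, 899, 13, [10787, 12029, 12041]⟩)) (.node (.leaf ⟨938, 0, 916, 3, [7945, 3053, 3060, 3333, 7792]⟩) (.leaf ⟨0, 12, 0, 0, []⟩))))))) (.node (.node (.node (.node (.node (.node (.leaf ⟨17, 1, 18, 0, []⟩) (.leaf ⟨268,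 4, 991, 0, []⟩)) (.node (.leaf ⟨487, 7, 240, 4, [4235, 3247, 3228, 2341]⟩) (.leaf ⟨1231, 1, 1357, 58, [10546, 7026, 11022, 12427]⟩))) (.node (.node (.leaf ⟨325, 2, 322, 6, [2185, 2171]⟩) (.leaf ⟨1213, 7, 774, 4, [10375, 6345, 6951, 7122]⟩)) (.node (.leaf ⟨721, 11, 666, 13, [6263, 6281, 5620]⟩) (.leaf ⟨1497, 5, 1556, 65, [13882, 13861, 14475]⟩)))) (.node (.node (.node (.leaf ⟨147, 0, 135, 35, [1163, 1161, 1156, 1148, 1080]⟩) (.leaf ⟨1120, 6, 821, 2, [9355, 2416, 7322]⟩)) (.node (.leaf ⟨564, 3, 628, 24, [5257, 5231]⟩) (.leaf ⟨1446, 1, 1418, 38, [13451, 13178, 13069]⟩))) (.node (.node (.leaf ⟨209, 11, 106, 37, [3202, 3211, 2072, 1741, 458, 190, 919]⟩) (.leaf ⟨1267, 6, 1247, 2, [11403, 11388, 10702]⟩)) (.node (.leaf ⟨818, 3, 815, 7, [7307, 1587, 7290, 7292]⟩) (.leaf ⟨0, 12, 0, 0, []⟩))))) (.node (.node (.node (.node (.leaf ⟨79, 2, 69, 5, [649, 639, 637, 550]⟩) (.leaf ⟨1050,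 7, 975, 4, [8839, 2084, 1819, 8208]⟩)) (.node (.leaf ⟨513, 1, 162, 53, [4485, 4735, 1239, 1291]⟩) (.leaf ⟨1407, 4, 587, 8, [12933, 12923, 12917, 12911, 12903, 6551]⟩))) (.node (.node (.leaf ⟨229, 1, 382, 15, [2699, 2681]⟩) (.leaf ⟨1259, 10, 1070, 9, [10889, 10167, 10176]⟩)) (.node (.leaf ⟨571, 3, 748, 24, [6789, 6777]⟩) (.leaf ⟨1596, 2, 1532, 50, [14987, 11551, 11558, 9181, 14183]⟩)))) (.node (.node (.node (.leaf ⟨229, 7, 223, 19, [1675, 1640, 1669]⟩) (.leaf ⟨1169, 6, 1090, 2, [9867, 9860, 9118]⟩)) (.node (.leaf ⟨660, 6, 542, 87, [5562, 5506, 3766, 5771, 5769]⟩) (.leaf ⟨1487, 7, 1484, 19, [13963, 13841, 13847]⟩))) (.node (.node (.leaf ⟨197, 7, 203, 20, [1771, 3721, 3718]⟩) (.leaf ⟨1302, 7, 888, 4, [11909, 4132, 1798, 7674]⟩)) (.node (.leaf ⟨920, 6, 853, 2, [7819, 4024, 7524]⟩) (.leaf ⟨0, 12, 0, 0, []⟩)))))) (.node (.node (.node (.node (.node (.leaf ⟨38, 6, 27, 18, [368,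 379, 242, 246, 250]⟩) (.leaf ⟨1020, 7, 813, 4, [8579, 6722, 5778, 7282]⟩)) (.node (.leaf ⟨516, 10, 163, 9, [4491, 1143, 1303]⟩) (.leaf ⟨1315, 3, 1385, 30, [12123, 12681]⟩))) (.node (.node (.leaf ⟨217, 9, 359, 21, [2318, 2324, 2443, 2441]⟩) (.leaf ⟨1239, 0, 1021, 3, [10631, 2992, 2350, 2155, 8590]⟩)) (.node (.leaf ⟨739, 2, 672, 6, [6537, 5651]⟩) (.leaf ⟨1514, 5, 1463, 90, [14723, 14727, 13667, 13659]⟩)))) (.node (.node (.node (.leaf ⟨174, 2, 125, 5, [1413, 1401, 381, 1044]⟩) (.leaf ⟨756, 7, 1146, 20, [8621, 9596, 9611]⟩)) (.node (.leaf ⟨655, 6, 599, 89, [5515, 5510, 5458]⟩) (.leaf ⟨1123, 9, 1471, 21, [12757, 12750, 13477, 13705]⟩))) (.node (.node (.leaf ⟨267, 7, 381, 25, [3458, 3180]⟩) (.leaf ⟨1284, 2, 1184, 5, [11653, 11641, 11636, 10046]⟩)) (.node (.leaf ⟨862, 4, 863, 0, []⟩) (.leaf ⟨0, 12, 0, 0, []⟩))))) (.node (.node (.node (.node (.leaf ⟨105, 7, 69, 4, [899, 890, 578,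 550]⟩) (.leaf ⟨1087, 6, 997, 2, [9099, 4166, 8352]⟩)) (.node (.leaf ⟨167, 8, 605, 17, [4587, 1414, 1311, 4999]⟩) (.leaf ⟨1222, 8, 965, 17, [13050, 13042, 13193, 13195]⟩))) (.node (.node (.leaf ⟨345, 7, 343, 69, [2336, 2238, 2955, 2497, 2315]⟩) (.leaf ⟨838, 10, 908, 9, [11147, 10041, 10044]⟩)) (.node (.leaf ⟨766, 4, 767, 0, []⟩) (.leaf ⟨1616, 9, 1170, 21, [15239, 12925, 13625, 13633]⟩)))) (.node (.node (.node (.leaf ⟨192, 2, 288, 45, [1887, 1915, 1931]⟩) (.leaf ⟨1191, 7, 1181, 4, [10119, 4051, 4064, 10020]⟩)) (.node (.leaf ⟨590, 2, 643, 16, [6022, 6008]⟩) (.leaf ⟨1533, 5, 1535, 55, [14191, 7155, 6169, 7622, 11110, 8093, 14215]⟩))) (.node (.node (.leaf ⟨110, 11, 474, 13, [968, 960, 3971]⟩) (.leaf ⟨1329, 9, 1062, 84, [12171, 4863, 5117, 3882, 7864, 11245, 8920]⟩)) (.node (.leaf ⟨952, 2, 839, 5, [8071, 8067, 8064, 7426]⟩) (.leaf ⟨0, 12, 0, 0, []⟩))))))))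

def factB7 : Arr (CFact) :=
  (.node (.node (.node (.node (.node (.node (.node (.leaf ⟨0, 4, 1, 0, []⟩) (.leaf ⟨889, 7, 970, 20, [7682, 8205, 8167]⟩)) (.node (.leaf ⟨279, 9, 69, 27, [4099, 3538]⟩) (.leaf ⟨1081, 1, 1341, 94, [9081, 9078, 11165, 12301]⟩))) (.node (.node (.leaf ⟨103, 1, 109, 15, [2054, 1702]⟩) (.leaf ⟨1199, 0, 1164, 3, [10251, 10242, 10090, 10018, 9812]⟩)) (.node (.leaf ⟨619, 2, 717, 45, [5478, 5490, 6155]⟩) (.leaf ⟨800, 1, 1547, 0, []⟩)))) (.node (.node (.node (.leaf ⟨123, 4, 124, 0, []⟩) (.leaf ⟨1104, 4, 1105, 0, []⟩)) (.node (.leaf ⟨602, 1, 614, 0, []⟩) (.leaf ⟨980, 1, 1437, 102, [9135, 11083, 9090, 12497, 13321]⟩))) (.node (.node (.leaf ⟨429, 0, 211, 11, [3081, 2498, 1614]⟩) (.leaf ⟨956, 8, 986, 17, [11099, 8753, 8756, 11273]⟩)) (.node (.leaf ⟨794, 4, 795, 0, []⟩) (.leaf ⟨1550, 2, 1626, 50, [14390, 10806, 11991, 11978, 15371]⟩))))) (.node (.node (.node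 (.node (.leaf ⟨62, 7, 62, 20, [524, 492, 525]⟩) (.leaf ⟨396, 5, 1036, 60, [3602, 8663, 8656, 7988, 8717]⟩)) (.node (.leaf ⟨537, 10, 147, 9, [4621, 1153, 1169]⟩) (.leaf ⟨813, 1, 1395, 48, [7519, 12508, 12813]⟩))) (.node (.node (.leaf ⟨371, 7, 272, 20, [2573, 2217, 2249]⟩) (.leaf ⟨1253, 3, 1214, 7, [10763, 4799, 10374, 10382]⟩)) (.node (.leaf ⟨673, 6, 745, 87, [5917, 5918, 3956, 5086, 6669]⟩) (.leaf ⟨824, 8, 1587, 0, []⟩)))) (.node (.node (.node (.leaf ⟨185, 2, 186, 0, []⟩) (.leaf ⟨1156, 6, 856, 2, [9741, 2518, 7546]⟩)) (.node (.leaf ⟨672, 0, 496, 10, [5645, 5642, 4433]⟩) (.leaf ⟨768, 8, 1492, 0, []⟩))) (.node (.node (.leaf ⟨398, 3, 426, 28, [3592, 3595, 3028]⟩) (.leaf ⟨725, 5, 1293, 60, [6322, 8994, 10133, 10130, 11787]⟩)) (.node (.leaf ⟨891, 3, 883, 7, [7693, 7688, 7672, 7650]⟩) (.leaf ⟨0, 12, 0, 0, []⟩)))))) (.node (.node (.node (.node (.node (.leaf ⟨29, 12, 28, 14, [262,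 264, 64, 265, 263, 259]⟩) (.leaf ⟨1009, 3, 1005, 7, [8457, 1851, 5170, 8428]⟩)) (.node (.leaf ⟨363, 0, 343, 10, [4359, 4350, 2318]⟩) (.leaf ⟨526, 4, 1373, 0, []⟩))) (.node (.node (.leaf ⟨217, 1, 343, 15, [2316, 2312]⟩) (.leaf ⟨1226, 0, 1138, 3, [10507, 3832, 1922, 4290, 9580]⟩)) (.node (.leaf ⟨732, 2, 699, 6, [6413, 5915]⟩) (.leaf ⟨1500, 11, 846, 100, [14599, 14605, 7837, 2425, 518, 2435, 7473]⟩)))) (.node (.node (.node (.leaf ⟨162, 4, 163, 0, []⟩) (.leaf ⟨1130, 3, 945, 7, [9481, 3689, 8004, 8008]⟩)) (.node (.leaf ⟨647, 7, 638, 20, [5389, 5362, 5298]⟩) (.leaf ⟨1455, 3, 1406, 7, [13577, 13556, 12916, 12922]⟩))) (.node (.node (.leaf ⟨326, 3, 355, 24, [3335, 3322]⟩) (.leaf ⟨1046, 8, 1161, 17, [11533, 11522, 7998, 10206]⟩)) (.node (.leaf ⟨840, 6, 806, 2, [7437, 3122, 7238]⟩) (.leaf ⟨0, 12, 0, 0, []⟩))))) (.node (.node (.node (.node (.leaf ⟨94, 4, 16, 36, [775, 770, 716, 211]⟩)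 (.leaf ⟨959, 7, 894, 4, [8113, 8969, 8966, 7710]⟩)) (.node (.leaf ⟨580, 2, 499, 6, [4877, 4439]⟩) (.leaf ⟨1418, 0, 1403, 3, [13067, 6966, 6382, 6406, 12902]⟩))) (.node (.node (.leaf ⟨353, 8, 77, 17, [2394, 2787, 2827, 2808]⟩) (.leaf ⟨755, 1, 1171, 14, [7027, 11019, 10518, 9651, 9898]⟩)) (.node (.leaf ⟨632, 12, 723, 17, [5237, 6897, 6270, 6171, 6286]⟩) (.leaf ⟨1607, 1, 909, 43, [15117, 15103, 7961, 11820, 11810]⟩)))) (.node (.node (.node (.leaf ⟨264, 2, 265, 0, []⟩) (.leaf ⟨1179, 0, 1159, 3, [9995, 9986, 8388, 9767, 9768]⟩)) (.node (.leaf ⟨142, 9, 698, 0, []⟩) (.leaf ⟨1523, 1, 845, 43, [14093, 14083, 7151, 9376, 9366]⟩))) (.node (.node (.leaf ⟨470, 6, 345, 18, [3853, 3849, 3646, 915, 2333]⟩) (.leaf ⟨1310, 4, 1311, 0, []⟩)) (.node (.leaf ⟨938, 3, 845, 7, [7945, 1755, 7458, 7462]⟩) (.leaf ⟨0, 12, 0, 0, []⟩))))))) (.node (.node (.node (.node (.node (.node (.leaf ⟨18, 6, 12,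 18, [141, 133, 94, 98, 117]⟩) (.leaf ⟨991, 4, 992, 0, []⟩)) (.node (.leaf ⟨240, 12, 338, 13, [4237, 4208, 2207, 2268]⟩) (.leaf ⟨1357, 0, 1319, 10, [12429, 10548, 12124]⟩))) (.node (.node (.leaf ⟨321, 6, 318, 18, [2168, 2189, 2176, 797, 2158]⟩) (.leaf ⟨1213, 4, 1214, 0, []⟩)) (.node (.leaf ⟨148, 9, 723, 0, []⟩) (.leaf ⟨1556, 5, 1501, 90, [14477, 13880, 13913, 13907]⟩)))) (.node (.node (.node (.leaf ⟨147, 3, 139, 7, [1163, 1158, 1096, 1098]⟩) (.leaf ⟨1120, 0, 844, 3, [9355, 2416, 1775, 3424, 7458]⟩)) (.node (.leaf ⟨632, 9, 550, 21, [5237, 5245, 4778, 4655]⟩) (.leaf ⟨705, 4, 1447, 0, []⟩))) (.node (.node (.leaf ⟨247, 12, 439, 72, [1737, 457, 2015, 680, 194, 919, 3213, 3202]⟩) (.leaf ⟨1267, 0, 780, 3, [11403, 11388, 10698, 8692, 7098]⟩)) (.node (.leaf ⟨818, 4, 819, 0, []⟩) (.leaf ⟨0, 12, 0, 0, []⟩))))) (.node (.node (.node (.node (.leaf ⟨79, 4, 80, 0, []⟩) (.leaf ⟨1050, 4,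 1051, 0, []⟩)) (.node (.leaf ⟨514, 12, 182, 22, [4487, 4735, 1369, 1513, 4721]⟩) (.leaf ⟨1360, 0, 1407, 31, [12440, 4913, 12941]⟩))) (.node (.node (.leaf ⟨382, 12, 262, 15, [2701, 1796]⟩) (.leaf ⟨765, 1, 1073, 22, [10879, 10889, 7689, 9003]⟩)) (.node (.leaf ⟨571, 6, 727, 26, [6789, 6351]⟩) (.leaf ⟨1596, 0, 1568, 10, [14987, 10621, 14649]⟩)))) (.node (.node (.node (.leaf ⟨44, 11, 230, 0, []⟩) (.leaf ⟨1169, 0, 956, 3, [9867, 9860, 9116, 9112, 8088]⟩)) (.node (.leaf ⟨548, 7, 543, 74, [5502, 5495, 5506, 3766, 5771]⟩) (.leaf ⟨779, 8, 1509, 0, []⟩))) (.node (.node (.leaf ⟨458, 10, 197, 9, [3683, 3686, 3725]⟩) (.leaf ⟨888, 11, 968, 13, [11917, 11910, 9979]⟩)) (.node (.leaf ⟨920, 0, 841, 3, [7819, 4024, 3135, 3136, 7448]⟩) (.leaf ⟨0, 12, 0, 0, []⟩)))))) (.node (.node (.node (.node (.node (.leaf ⟨26, 8, 25, 17, [250, 397, 379, 242]⟩) (.leaf ⟨286, 4, 1021, 0, []⟩)) (.node (.leaf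 ⟨516, 2, 517, 0, []⟩) (.leaf ⟨1385, 10, 972, 9, [12683, 11958, 9196]⟩))) (.node (.node (.leaf ⟨296, 11, 359, 13, [2327, 2443, 2441]⟩) (.leaf ⟨1239, 7, 1029, 4, [10631, 2992, 2350, 8664]⟩)) (.node (.leaf ⟨739, 0, 495, 11, [6537, 5654, 4857]⟩) (.leaf ⟨1507, 4, 1532, 54, [13942, 14733, 14184]⟩)))) (.node (.node (.node (.leaf ⟨174, 7, 156, 4, [1413, 1404, 1239, 1242]⟩) (.leaf ⟨800, 0, 1146, 11, [8681, 9594, 9611]⟩)) (.node (.leaf ⟨655, 0, 602, 10, [5515, 5495, 5135]⟩) (.leaf ⟨761, 8, 1472, 0, []⟩))) (.node (.node (.leaf ⟨267, 11, 74, 51, [3458, 3179]⟩) (.leaf ⟨1284, 7, 1052, 4, [11653, 11642, 10286, 8852]⟩)) (.node (.leaf ⟨863, 3, 859, 7, [7565, 7562, 7550, 7552]⟩) (.leaf ⟨0, 12, 0, 0, []⟩))))) (.node (.node (.node (.node (.leaf ⟨105, 4, 106, 0, []⟩) (.leaf ⟨1087, 0, 953, 3, [9099, 4166, 3454, 3483, 8080]⟩)) (.node (.leaf ⟨605, 5, 523, 52, [5005, 1335, 330, 62, 391, 1107,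 4510]⟩) (.leaf ⟨1427, 4, 1428, 0, []⟩))) (.node (.node (.leaf ⟨210, 10, 345, 9, [1613, 2315, 2957]⟩) (.leaf ⟨768, 1, 988, 48, [7421, 11147, 9912]⟩)) (.node (.leaf ⟨767, 4, 187, 8, [7053, 7051, 2960, 6462, 7049, 7047]⟩) (.leaf ⟨1576, 4, 1616, 42, [14739, 7298, 2292, 7262, 11094, 9878, 15245]⟩)))) (.node (.node (.node (.leaf ⟨288, 2, 191, 6, [1933, 1563]⟩) (.leaf ⟨961, 3, 1191, 30, [8141, 10123]⟩)) (.node (.leaf ⟨590, 3, 709, 24, [6022, 6005]⟩) (.leaf ⟨1535, 11, 906, 37, [14221, 14191, 7155, 5781, 1324, 6309, 8200]⟩))) (.node (.node (.leaf ⟨90, 9, 475, 0, []⟩) (.leaf ⟨1329, 3, 1324, 7, [12171, 4435, 12150, 12158]⟩)) (.node (.leaf ⟨952, 4, 613, 36, [8071, 1882, 4976, 5133]⟩) (.leaf ⟨0, 12, 0, 0, []⟩))))))))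

def factB8 : Arr (CFact) :=
  (.node (.node (.node (.node (.node (.node (.node (.leaf ⟨1, 6, 1, 2, [15, 1, 14]⟩) (.leaf ⟨265, 4, 975, 0, []⟩)) (.node (.leaf ⟨105, 8, 243, 17, [4087, 4095, 2851, 1724]⟩) (.leaf ⟨1341, 10, 867, 9, [12303, 9052, 8938]⟩))) (.node (.node (.leaf ⟨63, 9, 93, 21, [2042, 852, 566, 2003]⟩) (.leaf ⟨1199, 3, 899, 7, [10251, 10244, 7740, 7728]⟩)) (.node (.leaf ⟨222, 5, 717, 60, [2531, 5498, 5448, 5502, 6155]⟩) (.leaf ⟨1547, 10, 1256, 9, [14351, 10699, 10809]⟩)))) (.node (.node (.node (.leaf ⟨124, 3, 117, 7, [1039, 1036, 1004, 1006]⟩) (.leaf ⟨1105, 6, 1079, 2, [9231, 9229, 9036]⟩)) (.node (.leaf ⟨614, 2, 615, 0, []⟩) (.leaf ⟨919, 8, 980, 17, [12986, 12978, 13323, 13327]⟩))) (.node (.node (.leaf ⟨429, 1, 430, 0, []⟩) (.leaf ⟨1259, 4, 1260, 0, []⟩)) (.node (.leaf ⟨795, 4, 796, 0, []⟩) (.leaf ⟨1475, 0, 1626, 10, [13735, 9204, 15371]⟩))))) (.node (.node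 (.node (.node (.leaf ⟨62, 4, 63, 0, []⟩) (.leaf ⟨396, 4, 1037, 0, []⟩)) (.node (.leaf ⟨537, 2, 538, 0, []⟩) (.leaf ⟨1395, 10, 1238, 9, [12815, 7284, 10629]⟩))) (.node (.node (.leaf ⟨371, 0, 240, 11, [2573, 1747, 1718]⟩) (.leaf ⟨1253, 2, 1208, 5, [10763, 10757, 10754, 10334]⟩)) (.node (.leaf ⟨244, 4, 745, 67, [3289, 3285, 2588, 5083, 6669]⟩) (.leaf ⟨1587, 5, 1491, 52, [14863, 7335, 6425, 1216, 5884, 12665, 13832]⟩)))) (.node (.node (.node (.leaf ⟨186, 1, 187, 0, []⟩) (.leaf ⟨1156, 0, 899, 3, [9741, 2518, 1669, 1677, 7728]⟩)) (.node (.leaf ⟨300, 5, 672, 65, [2443, 5116, 5647]⟩) (.leaf ⟨1492, 1, 964, 53, [13839, 11150, 10145, 10148]⟩))) (.node (.node (.leaf ⟨396, 12, 421, 53, [2775, 2736, 3591, 3595, 2998]⟩) (.leaf ⟨1293, 10, 765, 88, [11791, 6326, 7022, 10948, 10612, 6457, 7049]⟩)) (.node (.leaf ⟨891, 2, 879, 5, [7693, 7687, 7684, 7640]⟩) (.leaf ⟨0, 12, 0, 0, []⟩)))))) (.node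 (.node (.node (.node (.node (.leaf ⟨28, 1, 28, 15, [271, 259]⟩) (.leaf ⟨1009, 4, 441, 36, [8457, 2253, 4234, 4206]⟩)) (.node (.leaf ⟨434, 12, 491, 22, [3143, 2485, 2501, 4365, 4359]⟩) (.leaf ⟨1373, 6, 1326, 2, [12559, 6703, 12184]⟩))) (.node (.node (.leaf ⟨217, 3, 297, 24, [2316, 2309]⟩) (.leaf ⟨1226, 7, 771, 4, [10507, 3832, 1922, 7072]⟩)) (.node (.leaf ⟨732, 1, 732, 12, [6413, 5930, 6381, 6379, 6373, 5680, 1210, 5904, 6415]⟩) (.leaf ⟨1552, 2, 1565, 0, []⟩)))) (.node (.node (.node (.leaf ⟨163, 6, 133, 2, [1295, 1288, 1072]⟩) (.leaf ⟨1130, 2, 837, 5, [9481, 3696, 3133, 7414]⟩)) (.node (.leaf ⟨647, 1, 648, 0, []⟩) (.leaf ⟨1455, 2, 1399, 5, [13577, 13551, 6372, 12864]⟩))) (.node (.node (.leaf ⟨326, 6, 352, 26, [3335, 3304]⟩) (.leaf ⟨460, 4, 1275, 0, []⟩)) (.node (.leaf ⟨840, 0, 786, 3, [7437, 3122, 2306, 3083, 7138]⟩) (.leaf ⟨0, 12, 0, 0, []⟩))))) (.node (.node (.node (.node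 (.leaf ⟨94, 7, 64, 4, [775, 768, 601, 532]⟩) (.leaf ⟨1071, 4, 1072, 0, []⟩)) (.node (.leaf ⟨122, 11, 581, 0, []⟩) (.leaf ⟨1418, 2, 1373, 5, [13067, 6973, 5420, 12558]⟩))) (.node (.node (.leaf ⟨400, 0, 252, 11, [2827, 2821, 1754]⟩) (.leaf ⟨1255, 1, 991, 94, [10796, 10546, 11019, 10994]⟩)) (.node (.leaf ⟨632, 8, 148, 46, [6926, 6287]⟩) (.leaf ⟨1607, 7, 1507, 20, [15117, 15104, 14368]⟩)))) (.node (.node (.node (.leaf ⟨265, 1, 266, 0, []⟩) (.leaf ⟨1179, 3, 1084, 7, [9995, 9988, 9066, 9076]⟩)) (.node (.leaf ⟨143, 1, 699, 0, []⟩) (.leaf ⟨1523, 6, 1481, 70, [14093, 14083, 10635, 13773]⟩))) (.node (.node (.leaf ⟨470, 0, 411, 10, [3853, 3850, 2942]⟩) (.leaf ⟨1311, 6, 1210, 2, [12047, 12030, 10342]⟩)) (.node (.leaf ⟨938, 2, 841, 5, [7945, 3391, 1962, 7448]⟩) (.leaf ⟨0, 12, 0, 0, []⟩))))))) (.node (.node (.node (.node (.node (.node (.leaf ⟨18, 0, 18, 10, [141, 139, 140]⟩) (.leaf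 ⟨992, 4, 993, 0, []⟩)) (.node (.leaf ⟨240, 11, 57, 51, [4238, 2269]⟩) (.leaf ⟨1357, 4, 1358, 0, []⟩))) (.node (.node (.leaf ⟨56, 9, 326, 0, []⟩) (.leaf ⟨1214, 6, 1024, 2, [10383, 10376, 8610]⟩)) (.node (.leaf ⟨148, 11, 724, 0, []⟩) (.leaf ⟨1556, 2, 1557, 0, []⟩)))) (.node (.node (.node (.leaf ⟨147, 7, 135, 34, [1163, 1156, 1148, 1080]⟩) (.leaf ⟨1120, 3, 1118, 7, [9355, 2163, 9326, 9334]⟩)) (.node (.leaf ⟨628, 3, 565, 30, [5261, 4790]⟩) (.leaf ⟨1447, 8, 864, 41, [13455, 5956, 5649, 2492, 8411, 11236, 7568]⟩))) (.node (.node (.leaf ⟨247, 1, 440, 15, [3214, 3206]⟩) (.leaf ⟨1267, 3, 1221, 7, [11403, 11390, 10476, 10430]⟩)) (.node (.leaf ⟨819, 3, 817, 7, [7311, 7308, 7305, 7302]⟩) (.leaf ⟨0, 12, 0, 0, []⟩))))) (.node (.node (.node (.node (.leaf ⟨80, 3, 71, 7, [655, 650, 626, 556]⟩) (.leaf ⟨1051, 3, 1047, 7, [8847, 8842, 8810, 8814]⟩)) (.node (.leaf ⟨182, 8, 114, 46, [4751,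 4487]⟩) (.leaf ⟨680, 4, 1408, 0, []⟩))) (.node (.node (.leaf ⟨229, 2, 384, 16, [2699, 2682]⟩) (.leaf ⟨1073, 10, 952, 9, [10895, 9415, 9424]⟩)) (.node (.leaf ⟨571, 8, 568, 46, [6789, 6306]⟩) (.leaf ⟨1596, 8, 1173, 17, [14987, 7394, 7423, 11147]⟩)))) (.node (.node (.node (.leaf ⟨230, 1, 74, 38, [1679, 599, 605]⟩) (.leaf ⟨1169, 3, 1060, 7, [9867, 9862, 8936, 8910]⟩)) (.node (.leaf ⟨686, 2, 541, 6, [5763, 4633]⟩) (.leaf ⟨1509, 1, 924, 53, [13967, 10939, 9730, 9534]⟩))) (.node (.node (.leaf ⟨84, 1, 461, 0, []⟩) (.leaf ⟨1290, 3, 1302, 30, [11785, 11915]⟩)) (.node (.leaf ⟨920, 3, 916, 7, [7819, 4028, 3648, 7792]⟩) (.leaf ⟨0, 12, 0, 0, []⟩)))))) (.node (.node (.node (.node (.node (.leaf ⟨25, 11, 38, 13, [382, 397, 369]⟩) (.leaf ⟨1021, 3, 761, 7, [8591, 1913, 7024, 7028]⟩)) (.node (.leaf ⟨517, 1, 518, 0, []⟩) (.leaf ⟨1385, 4, 1386, 0, []⟩))) (.node (.node (.leaf ⟨360, 2, 361, 0,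 []⟩) (.leaf ⟨1239, 4, 1240, 0, []⟩)) (.node (.leaf ⟨733, 6, 739, 33, [6432, 5912, 6541]⟩) (.leaf ⟨1463, 11, 1220, 37, [14733, 14038, 7515, 4645, 1008, 4670, 10413]⟩)))) (.node (.node (.node (.leaf ⟨174, 4, 175, 0, []⟩) (.leaf ⟨1146, 4, 1147, 0, []⟩)) (.node (.leaf ⟨539, 9, 654, 21, [4627, 4962, 5517, 5515]⟩) (.leaf ⟨1472, 1, 1016, 53, [13711, 10839, 7820, 8541]⟩))) (.node (.node (.leaf ⟨225, 6, 267, 18, [1662, 1651, 1649, 3441, 3463]⟩) (.leaf ⟨1117, 1, 1284, 53, [11205, 10933, 10154, 11661]⟩)) (.node (.leaf ⟨863, 4, 864, 0, []⟩) (.leaf ⟨0, 12, 0, 0, []⟩))))) (.node (.node (.node (.node (.leaf ⟨106, 6, 70, 2, [911, 902, 552]⟩) (.leaf ⟨1087, 4, 1088, 0, []⟩)) (.node (.leaf ⟨156, 1, 606, 0, []⟩) (.leaf ⟨1428, 6, 1405, 2, [13199, 13188, 12916]⟩))) (.node (.node (.leaf ⟨326, 5, 210, 55, [2193, 499, 2030, 618, 2339, 2337, 2959]⟩) (.leaf ⟨988, 10, 1039, 9, [11151, 7249, 8749]⟩))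 (.node (.leaf ⟨427, 4, 768, 0, []⟩) (.leaf ⟨1616, 4, 1561, 36, [15247, 14868, 14872, 14561]⟩)))) (.node (.node (.node (.leaf ⟨50, 11, 289, 0, []⟩) (.leaf ⟨1191, 4, 1192, 0, []⟩)) (.node (.leaf ⟨590, 7, 516, 25, [6022, 6006]⟩) (.leaf ⟨1294, 1, 1536, 0, []⟩))) (.node (.node (.leaf ⟨219, 2, 476, 0, []⟩) (.leaf ⟨1166, 1, 1329, 94, [9842, 9985, 9993, 12173]⟩)) (.node (.leaf ⟨261, 4, 953, 0, []⟩) (.leaf ⟨0, 12, 0, 0, []⟩))))))))

def factB9 : Arr (CFact) :=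
  (.node (.node (.node (.node (.node (.node (.node (.leaf ⟨1, 0, 1, 3, [15, 1, 7, 9, 14]⟩) (.leaf ⟨975, 3, 970, 7, [8209, 1807, 8160, 8164]⟩)) (.node (.leaf ⟨448, 8, 105, 17, [3550, 4109, 4106, 4086]⟩) (.leaf ⟨1341, 4, 1342, 0, []⟩))) (.node (.node (.leaf ⟨67, 8, 93, 17, [2003, 766, 614, 2003]⟩) (.leaf ⟨1199, 2, 954, 5, [10251, 10239, 10236, 8082]⟩)) (.node (.leaf ⟨717, 0, 660, 31, [6161, 1791, 5564]⟩) (.leaf ⟨1547, 2, 1509, 50, [14351, 9321, 11701, 7849, 13969]⟩)))) (.node (.node (.node (.leaf ⟨124, 4, 24, 8, [1039, 1035, 1029, 1025, 1021, 1013]⟩) (.leaf ⟨1105, 2, 1088, 5, [9231, 9223, 9220, 9104]⟩)) (.node (.leaf ⟨615, 1, 616, 0, []⟩) (.leaf ⟨1437, 4, 1438, 0, []⟩))) (.node (.node (.leaf ⟨430, 6, 296, 18, [3089, 3081, 1956, 1958, 1960]⟩) (.leaf ⟨1260, 6, 1077, 2, [11281, 10880, 9032]⟩)) (.node (.leaf ⟨796, 4, 797, 0, []⟩) (.leaf ⟨1626, 4, 1523, 54, [15377, 13781, 14097]⟩)))))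 (.node (.node (.node (.node (.leaf ⟨63, 3, 55, 7, [529, 524, 494, 496]⟩) (.leaf ⟨1037, 6, 1026, 2, [8721, 3602, 8630]⟩)) (.node (.leaf ⟨538, 1, 539, 0, []⟩) (.leaf ⟨1395, 4, 1396, 0, []⟩))) (.node (.node (.leaf ⟨371, 1, 372, 0, []⟩) (.leaf ⟨1253, 4, 423, 36, [10763, 4652, 6205, 3011]⟩)) (.node (.leaf ⟨168, 8, 671, 17, [6663, 6671, 5651, 5645]⟩) (.leaf ⟨1587, 1, 1215, 53, [14863, 10935, 10745, 10746]⟩)))) (.node (.node (.node (.leaf ⟨187, 2, 188, 0, []⟩) (.leaf ⟨1156, 3, 1093, 7, [9741, 3771, 9132, 9140]⟩)) (.node (.leaf ⟨672, 2, 673, 0, []⟩) (.leaf ⟨1201, 11, 1492, 13, [11719, 11714, 13841]⟩))) (.node (.node (.leaf ⟨396, 0, 288, 23, [3600, 3000]⟩) (.leaf ⟨952, 1, 1293, 101, [8072, 8052, 11793]⟩)) (.node (.leaf ⟨891, 4, 633, 36, [7693, 7690, 7648, 6912]⟩) (.leaf ⟨0, 12, 0, 0, []⟩)))))) (.node (.node (.node (.node (.node (.leaf ⟨28, 2, 30, 16, [271, 262]⟩) (.leaf ⟨623, 4,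 1010, 0, []⟩)) (.node (.leaf ⟨434, 0, 217, 23, [4368, 4350]⟩) (.leaf ⟨1373, 9, 1317, 84, [12559, 6628, 12224, 12289, 12287, 6045, 12082]⟩))) (.node (.node (.leaf ⟨217, 7, 215, 25, [2316, 2310]⟩) (.leaf ⟨1139, 7, 1022, 4, [9583, 10511, 10508, 8596]⟩)) (.node (.leaf ⟨678, 6, 732, 18, [6398, 5939, 5931, 6412, 6417]⟩) (.leaf ⟨1565, 1, 926, 43, [14609, 14416, 12471, 12477, 9346]⟩)))) (.node (.node (.node (.leaf ⟨163, 0, 133, 3, [1295, 1288, 1123, 1128, 1072]⟩) (.leaf ⟨1130, 7, 1016, 4, [9481, 3698, 2376, 8534]⟩)) (.node (.leaf ⟨648, 6, 592, 18, [5393, 5389, 5359, 1455, 4927]⟩) (.leaf ⟨1455, 4, 652, 36, [13577, 13558, 12894, 5437]⟩))) (.node (.node (.leaf ⟨326, 7, 325, 25, [3335, 3327]⟩) (.leaf ⟨1275, 0, 1123, 3, [11537, 3722, 3345, 3346, 9390]⟩)) (.node (.leaf ⟨840, 2, 795, 5, [7437, 7433, 7430, 7182]⟩) (.leaf ⟨0, 12, 0, 0, []⟩))))) (.node (.node (.node (.node (.leaf ⟨17, 4,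 95, 0, []⟩) (.leaf ⟨1072, 6, 959, 2, [8977, 8968, 8112]⟩)) (.node (.leaf ⟨581, 1, 176, 38, [4881, 1033, 1439]⟩) (.leaf ⟨1404, 7, 1357, 4, [12911, 13071, 13068, 12424]⟩))) (.node (.node (.leaf ⟨253, 0, 399, 10, [1759, 2833, 2785]⟩) (.leaf ⟨985, 1, 754, 22, [8290, 11019, 10781, 10774]⟩)) (.node (.leaf ⟨727, 11, 550, 13, [6923, 4778, 4655]⟩) (.leaf ⟨1607, 6, 1598, 70, [15117, 15103, 12097, 15019]⟩)))) (.node (.node (.node (.leaf ⟨266, 2, 220, 29, [1809, 1807, 1805, 1801, 1797, 1794, 1789, 468, 1640]⟩) (.leaf ⟨1179, 2, 1081, 5, [9995, 9983, 6503, 9046]⟩)) (.node (.leaf ⟨699, 6, 672, 18, [5905, 1114, 5636, 5640, 5644]⟩) (.leaf ⟨1523, 0, 1470, 11, [14093, 14086, 13984]⟩))) (.node (.node (.leaf ⟨447, 5, 470, 65, [3514, 3526, 3857]⟩) (.leaf ⟨1311, 0, 1116, 3, [12047, 12030, 10418, 10426, 9318]⟩)) (.node (.leaf ⟨917, 7, 923, 4, [7797, 7949, 7946, 7840]⟩) (.leaf ⟨0, 12, 0, 0, []⟩)))))))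 (.node (.node (.node (.node (.node (.node (.leaf ⟨10, 9, 17, 21, [94, 98, 143, 141]⟩) (.leaf ⟨993, 4, 994, 0, []⟩)) (.node (.leaf ⟨330, 12, 451, 20, [2213, 4209, 4204, 3577]⟩) (.leaf ⟨1358, 6, 1320, 2, [12433, 12430, 12126]⟩))) (.node (.node (.leaf ⟨56, 10, 327, 0, []⟩) (.leaf ⟨1214, 3, 1208, 7, [10383, 10378, 10328, 10334]⟩)) (.node (.leaf ⟨724, 1, 166, 38, [6289, 1176, 1327]⟩) (.leaf ⟨1557, 1, 943, 43, [14481, 14471, 9932, 11533, 11522]⟩)))) (.node (.node (.node (.leaf ⟨147, 4, 148, 0, []⟩) (.leaf ⟨1120, 7, 944, 4, [9355, 2416, 1775, 8004]⟩)) (.node (.leaf ⟨627, 9, 183, 21, [5226, 5261, 4788, 4666]⟩) (.leaf ⟨1447, 0, 1442, 3, [13455, 5960, 6561, 5352, 13388]⟩))) (.node (.node (.leaf ⟨247, 3, 438, 24, [3214, 3197]⟩) (.leaf ⟨1267, 2, 1217, 5, [11403, 11385, 11376, 10404]⟩)) (.node (.leaf ⟨275, 5, 819, 82, [1855, 2298, 7299, 7313]⟩) (.leaf ⟨0, 12, 0, 0, []⟩))))) (.node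 (.node (.node (.node (.leaf ⟨80, 2, 66, 5, [655, 649, 644, 544]⟩) (.leaf ⟨965, 0, 1051, 11, [8140, 8835, 8849]⟩)) (.node (.leaf ⟨513, 2, 513, 29, [4748, 1371, 4728, 4707, 4715, 1018, 4735, 1291, 4749]⟩) (.leaf ⟨1408, 6, 1318, 2, [12945, 6405, 12090]⟩))) (.node (.node (.leaf ⟨262, 3, 381, 24, [2703, 2677]⟩) (.leaf ⟨1073, 8, 1186, 17, [10895, 9415, 9418, 10205]⟩)) (.node (.leaf ⟨571, 10, 554, 47, [6789, 6301]⟩) (.leaf ⟨1467, 4, 1596, 77, [13685, 7074, 11067, 10375, 6275, 9910, 14993]⟩)))) (.node (.node (.node (.leaf ⟨45, 1, 231, 0, []⟩) (.leaf ⟨1169, 2, 1056, 5, [9867, 9857, 9854, 8882]⟩)) (.node (.leaf ⟨540, 6, 661, 18, [4630, 5777, 5758, 1360, 5569]⟩) (.leaf ⟨918, 11, 1509, 13, [7808, 7849, 13969]⟩))) (.node (.node (.leaf ⟨461, 3, 307, 44, [3729, 801, 2101, 2099, 2097]⟩) (.leaf ⟨1302, 4, 1303, 0, []⟩)) (.node (.leaf ⟨920, 4, 242, 36, [7819, 4363, 4385, 2851]⟩) (.leaf ⟨0,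 12, 0, 0, []⟩)))))) (.node (.node (.node (.node (.node (.leaf ⟨28, 7, 23, 20, [255, 397, 370]⟩) (.leaf ⟨757, 3, 1021, 30, [7031, 8593]⟩)) (.node (.leaf ⟨518, 2, 519, 0, []⟩) (.leaf ⟨1386, 6, 1365, 2, [12689, 12678, 12486]⟩))) (.node (.node (.leaf ⟨361, 1, 362, 0, []⟩) (.leaf ⟨1240, 6, 1022, 2, [10641, 10636, 8596]⟩)) (.node (.leaf ⟨706, 12, 680, 53, [5965, 5904, 5906, 6541, 6538]⟩) (.leaf ⟨817, 11, 1576, 0, []⟩)))) (.node (.node (.node (.leaf ⟨175, 6, 121, 2, [1425, 1416, 1024]⟩) (.leaf ⟨1147, 6, 801, 2, [9617, 9615, 7204]⟩)) (.node (.leaf ⟨655, 9, 181, 21, [5515, 5492, 4950, 4638]⟩) (.leaf ⟨916, 11, 1472, 13, [7794, 8537, 13713]⟩))) (.node (.node (.leaf ⟨446, 10, 230, 9, [3463, 3473, 1822]⟩) (.leaf ⟨1284, 10, 854, 9, [11665, 9328, 8398]⟩)) (.node (.leaf ⟨864, 3, 861, 7, [7569, 7566, 7554, 7556]⟩) (.leaf ⟨0, 12, 0, 0, []⟩))))) (.node (.node (.node (.node (.leaf ⟨106, 3,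 87, 7, [911, 904, 700, 708]⟩) (.leaf ⟨1088, 6, 954, 2, [9105, 9102, 8082]⟩)) (.node (.leaf ⟨606, 10, 156, 9, [5009, 1415, 1422]⟩) (.leaf ⟨1428, 3, 1333, 7, [13199, 13190, 12209, 12224]⟩))) (.node (.node (.leaf ⟨294, 8, 343, 17, [1957, 2928, 2941, 2318]⟩) (.leaf ⟨969, 10, 790, 9, [10919, 7380, 7163]⟩)) (.node (.leaf ⟨768, 3, 767, 7, [7057, 3341, 7050, 7052]⟩) (.leaf ⟨1613, 2, 1617, 0, []⟩)))) (.node (.node (.node (.leaf ⟨289, 1, 98, 38, [1937, 479, 823]⟩) (.leaf ⟨1192, 6, 1172, 2, [10129, 10120, 9900]⟩)) (.node (.leaf ⟨590, 11, 650, 51, [6022, 6013]⟩) (.leaf ⟨1536, 10, 988, 9, [14225, 11798, 8998]⟩))) (.node (.node (.leaf ⟨476, 2, 416, 6, [3985, 3887]⟩) (.leaf ⟨1324, 1, 1104, 14, [12175, 12177, 9836, 11078, 9225]⟩)) (.node (.leaf ⟨953, 4, 954, 0, []⟩) (.leaf ⟨0, 12, 0, 0, []⟩))))))))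

def factB10 : Arr (CFact) :=
  (.node (.node (.node (.node (.node (.node (.node (.leaf ⟨1, 7, 1, 4, [15, 1, 7, 14]⟩) (.leaf ⟨975, 2, 908, 5, [8209, 6178, 5258, 8198]⟩)) (.node (.leaf ⟨94, 10, 485, 0, []⟩) (.leaf ⟨1342, 9, 810, 84, [12307, 12304, 7584, 1671, 453, 1636, 7260]⟩))) (.node (.node (.leaf ⟨100, 10, 93, 9, [2043, 600, 773]⟩) (.leaf ⟨1199, 4, 684, 36, [10251, 10246, 8094, 6122]⟩)) (.node (.leaf ⟨546, 3, 717, 39, [5719, 6146, 6163]⟩) (.leaf ⟨1547, 3, 1503, 44, [14351, 10699, 11398, 8222, 13917]⟩)))) (.node (.node (.node (.leaf ⟨25, 4, 125, 0, []⟩) (.leaf ⟨1105, 4, 596, 36, [9231, 9224, 9126, 5491]⟩)) (.node (.leaf ⟨616, 2, 617, 0, []⟩) (.leaf ⟨1438, 0, 1335, 35, [13331, 13324, 12347, 12350, 12242]⟩))) (.node (.node (.leaf ⟨430, 0, 212, 10, [3089, 3086, 1616]⟩) (.leaf ⟨1260, 9, 1132, 84, [11281, 10892, 8962, 2540, 799, 2810, 9504]⟩)) (.node (.leaf ⟨797, 4, 409,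 8, [7187, 7185, 7183, 7181, 4336, 2886]⟩) (.leaf ⟨942, 8, 1627, 0, []⟩))))) (.node (.node (.node (.node (.leaf ⟨63, 4, 64, 0, []⟩) (.leaf ⟨1037, 0, 952, 3, [8721, 3602, 4302, 4294, 8070]⟩)) (.node (.leaf ⟨539, 2, 540, 0, []⟩) (.leaf ⟨1396, 6, 1367, 2, [12819, 12812, 12512]⟩))) (.node (.node (.leaf ⟨372, 6, 336, 18, [2579, 2573, 1744, 815, 2229]⟩) (.leaf ⟨426, 4, 1254, 0, []⟩)) (.node (.leaf ⟨732, 8, 168, 17, [6416, 6419, 6665, 6662]⟩) (.leaf ⟨1576, 2, 1587, 50, [14740, 9679, 10481, 10472, 14867]⟩)))) (.node (.node (.node (.leaf ⟨188, 1, 189, 0, []⟩) (.leaf ⟨1156, 7, 873, 4, [9741, 2518, 1669, 7612]⟩)) (.node (.leaf ⟨673, 4, 321, 85, [5651, 5649, 3400, 2166]⟩) (.leaf ⟨1486, 3, 1492, 44, [13806, 13125, 13137, 10148, 13841]⟩))) (.node (.node (.leaf ⟨396, 1, 420, 15, [3600, 2999]⟩) (.leaf ⟨725, 4, 1294, 0, []⟩)) (.node (.leaf ⟨633, 4, 892, 0, []⟩) (.leaf ⟨0, 12, 0, 0, []⟩))))))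 (.node (.node (.node (.node (.node (.leaf ⟨23, 8, 30, 17, [233, 34, 71, 265]⟩) (.leaf ⟨1010, 0, 931, 3, [8467, 5176, 4756, 4760, 7902]⟩)) (.node (.leaf ⟨434, 1, 363, 15, [4368, 4358]⟩) (.leaf ⟨1089, 1, 1373, 94, [11883, 11878, 12088, 12563]⟩))) (.node (.node (.leaf ⟨343, 2, 300, 29, [2319, 2320, 2304, 2301, 1616, 2294, 2285, 839, 1981]⟩) (.leaf ⟨1226, 4, 1227, 0, []⟩)) (.node (.leaf ⟨732, 9, 671, 21, [6417, 6414, 5906, 5645]⟩) (.leaf ⟨1565, 2, 1551, 6, [14609, 14415]⟩)))) (.node (.node (.node (.leaf ⟨163, 2, 159, 5, [1295, 1285, 1283, 1262]⟩) (.leaf ⟨1130, 4, 1131, 0, []⟩)) (.node (.leaf ⟨588, 11, 647, 13, [5329, 5395, 5393]⟩) (.leaf ⟨940, 11, 1455, 37, [7974, 5047, 6557, 6451, 5367, 5434, 13587]⟩))) (.node (.node (.leaf ⟨326, 11, 327, 51, [3335, 3328]⟩) (.leaf ⟨1275, 3, 832, 7, [11537, 3717, 7378, 7384]⟩)) (.node (.leaf ⟨840, 4, 282, 36, [7437, 3116, 2887, 2148]⟩) (.leaf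 ⟨0, 12, 0, 0, []⟩))))) (.node (.node (.node (.node (.leaf ⟨95, 6, 95, 2, [787, 139, 786]⟩) (.leaf ⟨1072, 3, 1068, 7, [8977, 8970, 8954, 8956]⟩)) (.node (.leaf ⟨123, 1, 582, 0, []⟩) (.leaf ⟨1418, 4, 1419, 0, []⟩))) (.node (.node (.leaf ⟨350, 0, 254, 11, [2783, 2835, 1762]⟩) (.leaf ⟨754, 10, 883, 9, [11027, 8943, 8946]⟩)) (.node (.leaf ⟨316, 5, 751, 65, [2140, 6197, 6887]⟩) (.leaf ⟨1607, 0, 1574, 11, [15117, 15106, 14905]⟩)))) (.node (.node (.node (.leaf ⟨230, 3, 265, 44, [1680, 604, 1640, 1811, 1809]⟩) (.leaf ⟨1179, 7, 860, 4, [9995, 9986, 8388, 7554]⟩)) (.node (.leaf ⟨699, 0, 504, 10, [5905, 1112, 4461]⟩) (.leaf ⟨1133, 11, 1523, 13, [9528, 9366, 14095]⟩))) (.node (.node (.leaf ⟨361, 2, 470, 71, [2907, 2910, 3857]⟩) (.leaf ⟨1311, 3, 1146, 7, [12047, 12032, 9604, 9608]⟩)) (.node (.leaf ⟨938, 4, 939, 0, []⟩) (.leaf ⟨0, 12, 0, 0, []⟩))))))) (.node (.node (.node (.node (.node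 (.node (.leaf ⟨18, 2, 19, 0, []⟩) (.leaf ⟨994, 4, 995, 0, []⟩)) (.node (.leaf ⟨330, 11, 79, 51, [4242, 3575]⟩) (.leaf ⟨1358, 4, 1359, 0, []⟩))) (.node (.node (.leaf ⟨327, 7, 321, 19, [2195, 2158, 2191]⟩) (.leaf ⟨1214, 7, 1033, 4, [10383, 10376, 8701, 8676]⟩)) (.node (.leaf ⟨724, 4, 463, 77, [6289, 1178, 395, 53, 178, 858, 4069]⟩) (.leaf ⟨1557, 6, 1535, 70, [14481, 14471, 11184, 14212]⟩)))) (.node (.node (.node (.leaf ⟨148, 6, 136, 2, [1171, 1164, 1084]⟩) (.leaf ⟨1120, 4, 1121, 0, []⟩)) (.node (.leaf ⟨568, 6, 627, 18, [4797, 4795, 4793, 5265, 5227]⟩) (.leaf ⟨1447, 3, 1417, 7, [13455, 5958, 13040, 13054]⟩))) (.node (.node (.leaf ⟨247, 5, 209, 73, [3214, 3203]⟩) (.leaf ⟨1267, 4, 569, 36, [11403, 11392, 10412, 5806]⟩)) (.node (.leaf ⟨275, 4, 820, 0, []⟩) (.leaf ⟨0, 12, 0, 0, []⟩))))) (.node (.node (.node (.node (.leaf ⟨80, 7, 80, 20, [656, 558, 657]⟩) (.leaf ⟨1051, 4, 1052,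 0, []⟩)) (.node (.leaf ⟨508, 6, 513, 18, [4696, 4471, 4729, 1370, 4749]⟩) (.leaf ⟨1408, 3, 1347, 7, [12945, 6392, 12344, 12358]⟩))) (.node (.node (.leaf ⟨262, 7, 264, 25, [2703, 2678]⟩) (.leaf ⟨942, 11, 1072, 37, [7994, 4305, 935, 2667, 10064, 10899, 9001]⟩)) (.node (.leaf ⟨726, 10, 551, 9, [6346, 6799, 4810]⟩) (.leaf ⟨1596, 3, 1516, 7, [14995, 13681, 14803, 14806]⟩)))) (.node (.node (.node (.leaf ⟨231, 10, 75, 9, [1683, 601, 617]⟩) (.leaf ⟨1169, 7, 871, 4, [9867, 9860, 9116, 7606]⟩)) (.node (.leaf ⟨165, 10, 594, 9, [5569, 5779, 4947]⟩) (.leaf ⟨1503, 3, 1509, 44, [13916, 8203, 9540, 9534, 13969]⟩))) (.node (.node (.leaf ⟨461, 0, 386, 10, [3729, 690, 2689]⟩) (.leaf ⟨1303, 6, 894, 2, [11923, 11912, 7710]⟩)) (.node (.leaf ⟨920, 7, 837, 4, [7819, 4024, 3135, 7414]⟩) (.leaf ⟨0, 12, 0, 0, []⟩)))))) (.node (.node (.node (.node (.node (.leaf ⟨23, 11, 35, 13, [403, 386, 340]⟩)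 (.leaf ⟨1021, 4, 1022, 0, []⟩)) (.node (.leaf ⟨519, 1, 520, 0, []⟩) (.leaf ⟨1386, 3, 1321, 7, [12689, 12680, 12126, 12130]⟩))) (.node (.node (.leaf ⟨362, 2, 214, 29, [2451, 2449, 2441, 2437, 2429, 520, 2284, 2288, 1620]⟩) (.leaf ⟨1240, 0, 772, 3, [10641, 10636, 10509, 10512, 7074]⟩)) (.node (.leaf ⟨680, 5, 588, 73, [6547, 5966]⟩) (.leaf ⟨1576, 1, 1122, 38, [14739, 9579, 9568]⟩)))) (.node (.node (.node (.leaf ⟨175, 0, 121, 3, [1425, 1416, 1195, 1200, 1024]⟩) (.leaf ⟨1147, 3, 1138, 7, [9617, 9610, 9592, 9580]⟩)) (.node (.leaf ⟨417, 4, 655, 42, [2970, 734, 3982, 4446, 5094, 1498, 5523]⟩) (.leaf ⟨1468, 3, 1472, 44, [13688, 8706, 10953, 8541, 13713]⟩))) (.node (.node (.leaf ⟨385, 7, 227, 20, [3465, 3473, 1664]⟩) (.leaf ⟨966, 11, 1117, 13, [10299, 11655, 11665]⟩)) (.node (.leaf ⟨864, 4, 865, 0, []⟩) (.leaf ⟨0, 12, 0, 0, []⟩))))) (.node (.node (.node (.node (.leaf ⟨106, 2, 91,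 5, [911, 899, 894, 744]⟩) (.leaf ⟨1088, 0, 869, 3, [9105, 9102, 9057, 9062, 7602]⟩)) (.node (.leaf ⟨606, 2, 606, 50, [5009, 1341, 4587, 1414, 5008]⟩) (.leaf ⟨1428, 2, 1327, 5, [13199, 13185, 13176, 12164]⟩))) (.node (.node (.leaf ⟨81, 10, 362, 9, [2923, 2929, 2461]⟩) (.leaf ⟨893, 11, 831, 13, [9177, 9172, 10919]⟩)) (.node (.leaf ⟨768, 4, 769, 0, []⟩) (.leaf ⟨1617, 1, 1312, 43, [15251, 15211, 7633, 12354, 12346]⟩)))) (.node (.node (.node (.leaf ⟨51, 1, 290, 0, []⟩) (.leaf ⟨1192, 0, 1066, 3, [10129, 10120, 9892, 8947, 8950]⟩)) (.node (.leaf ⟨638, 5, 711, 65, [5826, 5836, 6021]⟩) (.leaf ⟨1536, 0, 1529, 10, [14225, 11800, 14150]⟩))) (.node (.node (.leaf ⟨476, 0, 216, 11, [3985, 2433, 2469]⟩) (.leaf ⟨864, 11, 1324, 13, [10249, 10240, 12179]⟩)) (.node (.leaf ⟨954, 2, 899, 5, [8083, 8081, 1795, 7728]⟩) (.leaf ⟨0, 12, 0, 0, []⟩))))))))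

def factB11 : Arr (CFact) :=
  (.node (.node (.node (.node (.node (.node (.node (.leaf ⟨1, 4, 2, 0, []⟩) (.leaf ⟨975, 4, 976, 0, []⟩)) (.node (.leaf ⟨485, 7, 373, 19, [4117, 3277, 3285]⟩) (.leaf ⟨1267, 1, 1342, 94, [11410, 12007, 12017, 12309]⟩))) (.node (.node (.leaf ⟨75, 8, 55, 17, [2009, 674, 486, 2032]⟩) (.leaf ⟨1199, 7, 1079, 4, [10251, 10242, 10090, 9036]⟩)) (.node (.leaf ⟨544, 7, 546, 20, [4637, 6156, 6165]⟩) (.leaf ⟨1547, 6, 1506, 59, [14351, 13489, 13926, 13936]⟩)))) (.node (.node (.node (.leaf ⟨125, 6, 125, 2, [1045, 245, 1044]⟩) (.leaf ⟨596, 4, 1106, 0, []⟩)) (.node (.leaf ⟨617, 1, 618, 0, []⟩) (.leaf ⟨1438, 3, 1361, 7, [13331, 13320, 12492, 12442]⟩))) (.node (.node (.leaf ⟨210, 9, 429, 21, [1613, 1964, 3091, 3089]⟩) (.leaf ⟨1016, 8, 851, 41, [8535, 3331, 9504, 11285, 11281, 10887, 7506]⟩)) (.node (.leaf ⟨657, 12, 796, 91, [5544, 5131, 2893, 7189, 7187]⟩) (.leaf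 ⟨1627, 5, 1498, 52, [15381, 7987, 10986, 7410, 4230, 7527, 13894]⟩))))) (.node (.node (.node (.node (.leaf ⟨64, 3, 57, 7, [533, 530, 498, 500]⟩) (.leaf ⟨1037, 4, 750, 36, [8721, 3606, 4940, 6839]⟩)) (.node (.leaf ⟨540, 1, 541, 0, []⟩) (.leaf ⟨1396, 0, 1380, 3, [12819, 12812, 12502, 12595, 12604]⟩))) (.node (.node (.leaf ⟨372, 0, 241, 10, [2579, 2576, 1720]⟩) (.leaf ⟨1254, 6, 754, 2, [10773, 3027, 7004]⟩)) (.node (.leaf ⟨707, 8, 745, 17, [5970, 1276, 1353, 6663]⟩) (.leaf ⟨1504, 0, 1587, 10, [13924, 10540, 14867]⟩)))) (.node (.node (.node (.leaf ⟨189, 2, 190, 0, []⟩) (.leaf ⟨1156, 4, 1157, 0, []⟩)) (.node (.leaf ⟨673, 0, 575, 11, [5651, 5646, 4859]⟩) (.leaf ⟨1484, 6, 1492, 18, [13795, 13793, 13783, 8137, 13841]⟩))) (.node (.node (.leaf ⟨396, 2, 422, 16, [3600, 3002]⟩) (.leaf ⟨1294, 6, 1068, 2, [11797, 6322, 8992]⟩)) (.node (.leaf ⟨892, 3, 886, 7, [7701, 5239, 7660, 7664]⟩)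 (.leaf ⟨0, 12, 0, 0, []⟩)))))) (.node (.node (.node (.node (.node (.leaf ⟨30, 2, 27, 6, [275, 255]⟩) (.leaf ⟨1010, 3, 1006, 7, [8467, 5173, 8428, 8434]⟩)) (.node (.leaf ⟨434, 2, 290, 16, [4368, 4348]⟩) (.leaf ⟨1373, 10, 955, 9, [12565, 9116, 9112]⟩))) (.node (.node (.leaf ⟨300, 7, 296, 20, [2325, 2314, 1964]⟩) (.leaf ⟨1227, 6, 1139, 2, [10517, 10510, 9582]⟩)) (.node (.leaf ⟨701, 9, 702, 21, [5931, 6412, 6419, 6398]⟩) (.leaf ⟨1565, 0, 1498, 11, [14609, 14418, 13999]⟩)))) (.node (.node (.node (.leaf ⟨163, 7, 145, 4, [1295, 1288, 1123, 1140]⟩) (.leaf ⟨1131, 6, 923, 2, [9493, 9484, 7840]⟩)) (.node (.leaf ⟨648, 2, 649, 0, []⟩) (.leaf ⟨1455, 1, 1015, 38, [13589, 7976, 8523]⟩))) (.node (.node (.leaf ⟨325, 5, 415, 57, [3347, 2960, 1943, 2944]⟩) (.leaf ⟨1275, 2, 830, 5, [11537, 3877, 3874, 7370]⟩)) (.node (.leaf ⟨795, 7, 791, 20, [7443, 7438, 7242]⟩) (.leaf ⟨0, 12, 0, 0, []⟩)))))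 (.node (.node (.node (.node (.leaf ⟨95, 0, 83, 3, [787, 139, 202, 169, 682]⟩) (.leaf ⟨889, 0, 1072, 76, [7686, 8329, 7713, 8975, 8979]⟩)) (.node (.leaf ⟨582, 10, 177, 9, [4885, 1265, 1459]⟩) (.leaf ⟨1419, 6, 1404, 2, [13077, 13070, 12910]⟩))) (.node (.node (.leaf ⟨255, 0, 327, 10, [1765, 2837, 2383]⟩) (.leaf ⟨1144, 11, 985, 13, [10783, 10774, 11027]⟩)) (.node (.leaf ⟨751, 7, 550, 69, [6933, 2767, 6181, 6217, 6224]⟩) (.leaf ⟨886, 11, 1607, 13, [11819, 11810, 15119]⟩)))) (.node (.node (.node (.leaf ⟨221, 2, 266, 6, [1643, 1811]⟩) (.leaf ⟨1179, 4, 1180, 0, []⟩)) (.node (.leaf ⟨430, 5, 699, 65, [3090, 5101, 5909]⟩) (.leaf ⟨787, 1, 1524, 0, []⟩))) (.node (.node (.leaf ⟨469, 6, 213, 18, [3852, 3861, 2450, 2452, 1621]⟩) (.leaf ⟨1311, 2, 1143, 5, [12047, 12027, 12024, 9590]⟩)) (.node (.leaf ⟨939, 6, 917, 2, [7957, 7948, 7796]⟩) (.leaf ⟨0, 12, 0, 0, []⟩))))))) (.node (.node (.node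 (.node (.node (.node (.leaf ⟨19, 7, 14, 20, [149, 142, 118]⟩) (.leaf ⟨995, 4, 996, 0, []⟩)) (.node (.leaf ⟨337, 12, 442, 53, [2267, 2206, 4209, 4206, 3260]⟩) (.leaf ⟨1359, 4, 1360, 0, []⟩))) (.node (.node (.leaf ⟨56, 11, 328, 0, []⟩) (.leaf ⟨1214, 4, 1215, 0, []⟩)) (.node (.leaf ⟨718, 0, 724, 31, [6193, 3761, 6293]⟩) (.leaf ⟨1535, 7, 1521, 56, [14485, 14482, 14265]⟩)))) (.node (.node (.node (.leaf ⟨148, 3, 141, 7, [1171, 1166, 1100, 1102]⟩) (.leaf ⟨1121, 6, 845, 2, [9365, 9358, 7462]⟩)) (.node (.leaf ⟨129, 9, 567, 21, [5220, 5224, 5269, 4797]⟩) (.leaf ⟨844, 1, 1447, 48, [9359, 13398, 13459]⟩))) (.node (.node (.leaf ⟨247, 6, 334, 26, [3214, 3200]⟩) (.leaf ⟨569, 4, 1268, 0, []⟩)) (.node (.leaf ⟨820, 3, 814, 7, [7317, 1855, 3402, 7290]⟩) (.leaf ⟨0, 12, 0, 0, []⟩))))) (.node (.node (.node (.node (.leaf ⟨80, 4, 81, 0, []⟩) (.leaf ⟨1052, 6, 966, 2, [8853, 8851, 8142]⟩)) (.node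 (.leaf ⟨162, 10, 507, 9, [4749, 4757, 4690]⟩) (.leaf ⟨1408, 2, 1340, 5, [12945, 6548, 4908, 12286]⟩))) (.node (.node (.leaf ⟨385, 9, 221, 21, [2685, 2695, 1790, 1645]⟩) (.leaf ⟨1072, 1, 1036, 38, [10901, 8043, 8715]⟩)) (.node (.leaf ⟨166, 10, 749, 0, []⟩) (.leaf ⟨1596, 4, 1484, 36, [14995, 14325, 14316, 13797]⟩)))) (.node (.node (.node (.leaf ⟨231, 2, 232, 0, []⟩) (.leaf ⟨1169, 4, 1170, 0, []⟩)) (.node (.leaf ⟨165, 8, 538, 17, [5569, 5779, 4629, 4627]⟩) (.leaf ⟨1501, 6, 1509, 18, [13905, 13903, 13899, 7853, 13969]⟩))) (.node (.node (.leaf ⟨461, 9, 313, 21, [3729, 865, 861, 2115]⟩) (.leaf ⟨1303, 0, 970, 3, [11923, 11912, 8967, 8972, 8164]⟩)) (.node (.leaf ⟨243, 4, 921, 0, []⟩) (.leaf ⟨0, 12, 0, 0, []⟩)))))) (.node (.node (.node (.node (.node (.leaf ⟨27, 10, 28, 9, [251, 280, 403]⟩) (.leaf ⟨1022, 3, 763, 7, [8597, 8592, 7032, 7036]⟩)) (.node (.leaf ⟨520, 2, 521, 0, []⟩)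 (.leaf ⟨1386, 2, 1312, 5, [12689, 12675, 4846, 12066]⟩))) (.node (.node (.leaf ⟨215, 2, 362, 6, [1623, 2453]⟩) (.leaf ⟨1240, 7, 1227, 4, [10641, 10636, 10509, 10516]⟩)) (.node (.leaf ⟨587, 4, 676, 54, [5385, 6549, 6403]⟩) (.leaf ⟨1474, 6, 1576, 18, [13730, 11661, 11665, 9385, 14741]⟩)))) (.node (.node (.node (.leaf ⟨175, 3, 136, 7, [1425, 1418, 1080, 1084]⟩) (.leaf ⟨1147, 4, 1148, 0, []⟩)) (.node (.leaf ⟨655, 4, 203, 36, [5525, 2978, 3365, 1595]⟩) (.leaf ⟨1466, 6, 1472, 18, [13677, 13115, 13120, 9562, 13713]⟩))) (.node (.node (.leaf ⟨78, 9, 225, 21, [2689, 3467, 3473, 1663]⟩) (.leaf ⟨1284, 4, 1285, 0, []⟩)) (.node (.leaf ⟨865, 3, 856, 7, [7573, 7570, 7558, 7546]⟩) (.leaf ⟨0, 12, 0, 0, []⟩))))) (.node (.node (.node (.node (.leaf ⟨106, 4, 21, 36, [911, 906, 782, 212]⟩) (.leaf ⟨1088, 7, 1083, 4, [9105, 9102, 9057, 9066]⟩)) (.node (.leaf ⟨606, 0, 536, 10, [5009, 1244, 4607]⟩)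 (.leaf ⟨1428, 7, 1420, 4, [13199, 13188, 13079, 13086]⟩))) (.node (.node (.leaf ⟨70, 9, 416, 0, []⟩) (.leaf ⟨1085, 8, 831, 17, [10910, 10304, 8230, 10919]⟩)) (.node (.leaf ⟨769, 3, 765, 7, [7061, 7058, 7054, 7046]⟩) (.leaf ⟨1617, 2, 1614, 6, [15251, 15223]⟩)))) (.node (.node (.node (.leaf ⟨290, 6, 210, 18, [1941, 482, 1606, 1610, 1612]⟩) (.leaf ⟨1192, 3, 967, 7, [10129, 10122, 8142, 8148]⟩)) (.node (.leaf ⟨591, 2, 711, 71, [5834, 5402, 6021]⟩) (.leaf ⟨1536, 8, 1384, 17, [14225, 11798, 11569, 12669]⟩))) (.node (.node (.leaf ⟨393, 5, 476, 65, [3374, 2985, 3989]⟩) (.leaf ⟨1325, 12, 714, 84, [12161, 12181, 7572, 12153, 12151, 6987, 1448, 6713]⟩)) (.node (.leaf ⟨954, 4, 955, 0, []⟩) (.leaf ⟨0, 12, 0, 0, []⟩))))))))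

def factB12 : Arr (CFact) :=
  (.node (.node (.node (.node (.node (.node (.node (.leaf ⟨2, 6, 2, 2, [23, 19, 22]⟩) (.leaf ⟨976, 3, 972, 7, [8215, 8210, 8168, 8172]⟩)) (.node (.leaf ⟨336, 2, 485, 45, [2581, 2586, 4119]⟩) (.leaf ⟨1342, 10, 1147, 9, [12311, 11404, 10706]⟩))) (.node (.node (.leaf ⟨248, 5, 249, 49, [1739, 457, 2015, 680, 121, 459, 1740]⟩) (.leaf ⟨684, 4, 1200, 0, []⟩)) (.node (.leaf ⟨546, 11, 594, 13, [6167, 4951, 4949]⟩) (.leaf ⟨1500, 8, 800, 17, [13904, 13974, 14355, 14351]⟩)))) (.node (.node (.node (.leaf ⟨125, 4, 126, 0, []⟩) (.leaf ⟨1106, 0, 1064, 3, [9239, 6117, 6114, 5746, 8932]⟩)) (.node (.leaf ⟨618, 2, 619, 0, []⟩) (.leaf ⟨1438, 2, 1356, 5, [13331, 13317, 6388, 12416]⟩))) (.node (.node (.leaf ⟨345, 2, 430, 71, [2335, 2295, 3093]⟩) (.leaf ⟨1260, 0, 1162, 3, [11281, 10880, 10215, 10220, 9794]⟩)) (.node (.leaf ⟨657, 4, 797, 68, [7190, 7186]⟩) (.leaf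 ⟨1486, 6, 1627, 2, [14616, 14614, 15383]⟩))))) (.node (.node (.node (.node (.leaf ⟨64, 4, 10, 8, [533, 529, 523, 519, 515, 507]⟩) (.leaf ⟨1037, 7, 943, 4, [8721, 3602, 4302, 7996]⟩)) (.node (.leaf ⟨541, 2, 542, 0, []⟩) (.leaf ⟨1396, 2, 1395, 5, [12819, 12809, 5012, 12808]⟩))) (.node (.node (.leaf ⟨334, 9, 371, 21, [2224, 2226, 2581, 2579]⟩) (.leaf ⟨1254, 9, 1216, 84, [10773, 3023, 568, 3076, 3359, 3376, 10398]⟩)) (.node (.leaf ⟨712, 1, 746, 0, []⟩) (.leaf ⟨1587, 4, 1562, 54, [14871, 14299, 14565]⟩)))) (.node (.node (.node (.leaf ⟨190, 1, 191, 0, []⟩) (.leaf ⟨1157, 6, 900, 2, [9751, 9744, 7730]⟩)) (.node (.leaf ⟨375, 4, 673, 67, [3560, 3192, 2589, 5084, 5655]⟩) (.leaf ⟨1396, 9, 1492, 21, [12831, 11930, 11714, 13841]⟩))) (.node (.node (.leaf ⟨186, 0, 398, 11, [1551, 3026, 3599]⟩) (.leaf ⟨1294, 0, 908, 3, [11797, 6322, 6780, 6774, 8198]⟩)) (.node (.leaf ⟨892, 2, 880, 5, [7701,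 7699, 7696, 7642]⟩) (.leaf ⟨0, 12, 0, 0, []⟩)))))) (.node (.node (.node (.node (.node (.leaf ⟨26, 6, 23, 18, [250, 279, 264, 70, 232]⟩) (.leaf ⟨1010, 7, 911, 4, [8467, 5176, 4756, 7764]⟩)) (.node (.leaf ⟨434, 3, 291, 24, [4368, 4347]⟩) (.leaf ⟨1373, 4, 1374, 0, []⟩))) (.node (.node (.leaf ⟨58, 10, 344, 0, []⟩) (.leaf ⟨1227, 0, 1030, 35, [10517, 10512, 10353, 10354, 8666]⟩)) (.node (.leaf ⟨152, 11, 733, 0, []⟩) (.leaf ⟨1486, 5, 1565, 81, [14173, 14177, 14320, 14322, 14615]⟩)))) (.node (.node (.node (.leaf ⟨163, 4, 164, 0, []⟩) (.leaf ⟨1131, 3, 946, 7, [9493, 9486, 8015, 8018]⟩)) (.node (.leaf ⟨649, 1, 650, 0, []⟩) (.leaf ⟨670, 4, 1456, 0, []⟩))) (.node (.node (.leaf ⟨290, 4, 350, 54, [2944, 3351, 2385]⟩) (.leaf ⟨1275, 4, 1276, 0, []⟩)) (.node (.leaf ⟨208, 4, 841, 0, []⟩) (.leaf ⟨0, 12, 0, 0, []⟩))))) (.node (.node (.node (.node (.leaf ⟨95, 3, 60, 7, [787, 133, 506, 514]⟩)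 (.leaf ⟨960, 7, 890, 34, [8115, 8979, 8983, 7686]⟩)) (.node (.leaf ⟨582, 6, 518, 18, [4885, 1036, 4490, 4494, 4496]⟩) (.leaf ⟨1419, 2, 1377, 5, [13077, 13067, 6960, 12716]⟩))) (.node (.node (.leaf ⟨352, 7, 350, 20, [2410, 2829, 2782]⟩) (.leaf ⟨991, 10, 755, 9, [11025, 10790, 8703]⟩)) (.node (.leaf ⟨550, 12, 635, 13, [6935, 6882, 5221, 5278]⟩) (.leaf ⟨1134, 8, 1607, 17, [9541, 8202, 8182, 15119]⟩)))) (.node (.node (.node (.leaf ⟨224, 8, 265, 17, [1649, 1668, 1811, 1809]⟩) (.leaf ⟨1180, 6, 1160, 2, [10007, 9998, 9776]⟩)) (.node (.leaf ⟨674, 7, 672, 69, [5663, 2494, 5101, 5909, 5906]⟩) (.leaf ⟨1524, 6, 1519, 18, [14103, 7146, 7763, 8171, 14060]⟩))) (.node (.node (.leaf ⟨470, 7, 209, 20, [3861, 2458, 1610]⟩) (.leaf ⟨1311, 4, 626, 36, [12047, 12034, 9647, 5225]⟩)) (.node (.leaf ⟨939, 3, 846, 7, [7957, 7950, 7467, 7468]⟩) (.leaf ⟨0, 12, 0, 0, []⟩))))))) (.node (.node (.node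 (.node (.node (.node (.leaf ⟨19, 0, 19, 11, [149, 145, 148]⟩) (.leaf ⟨996, 4, 268, 8, [8343, 8341, 8339, 8337, 8335, 8333]⟩)) (.node (.leaf ⟨337, 0, 330, 23, [4246, 3264]⟩) (.leaf ⟨1360, 4, 520, 8, [12439, 12437, 12433, 12425, 12417, 6553]⟩))) (.node (.node (.leaf ⟨328, 1, 68, 38, [2199, 585, 578]⟩) (.leaf ⟨1215, 3, 1210, 7, [10391, 10386, 10338, 10342]⟩)) (.node (.leaf ⟨664, 6, 724, 86, [5592, 6187, 4152, 6293]⟩) (.leaf ⟨1526, 3, 1557, 28, [14116, 14217, 14485]⟩)))) (.node (.node (.node (.leaf ⟨148, 7, 118, 4, [1171, 1164, 1152, 1008]⟩) (.leaf ⟨1121, 3, 1119, 7, [9365, 9360, 9343, 9344]⟩)) (.node (.leaf ⟨632, 6, 566, 18, [5237, 5259, 4786, 4790, 4792]⟩) (.leaf ⟨1447, 4, 1448, 0, []⟩))) (.node (.node (.leaf ⟨247, 7, 406, 25, [3214, 3198]⟩) (.leaf ⟨1268, 6, 1258, 2, [11415, 6282, 10846]⟩)) (.node (.leaf ⟨820, 4, 574, 36, [7317, 3278, 4451, 5074]⟩) (.leaf ⟨0, 12, 0, 0, []⟩)))))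 (.node (.node (.node (.node (.leaf ⟨81, 3, 73, 7, [663, 656, 568, 588]⟩) (.leaf ⟨1052, 3, 1049, 7, [8853, 8848, 8833, 8830]⟩)) (.node (.leaf ⟨513, 7, 510, 20, [4755, 4757, 4709]⟩) (.leaf ⟨1005, 1, 1408, 14, [8463, 10863, 11417, 12292, 12951]⟩))) (.node (.node (.leaf ⟨384, 0, 308, 32, [2695, 2102, 2099]⟩) (.leaf ⟨1036, 10, 894, 9, [10903, 8978, 8974]⟩)) (.node (.leaf ⟨749, 7, 664, 19, [6807, 6291, 6297]⟩) (.leaf ⟨1596, 7, 1545, 4, [14995, 13775, 14097, 14347]⟩)))) (.node (.node (.node (.leaf ⟨232, 1, 100, 43, [1687, 1683, 487, 723, 847]⟩) (.leaf ⟨1170, 0, 1096, 3, [9879, 9870, 8271, 9161, 9162]⟩)) (.node (.leaf ⟨552, 2, 687, 0, []⟩) (.leaf ⟨1465, 0, 1509, 10, [13670, 7851, 13969]⟩))) (.node (.node (.leaf ⟨306, 3, 461, 39, [3461, 3466, 3733]⟩) (.leaf ⟨1303, 3, 1294, 7, [11923, 11914, 11791, 11796]⟩)) (.node (.leaf ⟨921, 0, 827, 3, [7831, 4101, 4108, 3567, 7352]⟩) (.leaf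 ⟨0, 12, 0, 0, []⟩)))))) (.node (.node (.node (.node (.node (.leaf ⟨32, 2, 40, 0, []⟩) (.leaf ⟨1022, 2, 754, 5, [8597, 8591, 1904, 7004]⟩)) (.node (.leaf ⟨521, 1, 522, 0, []⟩) (.leaf ⟨1386, 4, 692, 36, [12689, 12685, 12085, 5847]⟩))) (.node (.node (.leaf ⟨341, 8, 361, 17, [2305, 2307, 2453, 2451]⟩) (.leaf ⟨726, 5, 1240, 60, [6344, 10366, 10368, 10519, 10647]⟩)) (.node (.leaf ⟨520, 4, 731, 98, [6001, 5998, 6549, 6384]⟩) (.leaf ⟨819, 1, 1577, 0, []⟩)))) (.node (.node (.node (.leaf ⟨175, 2, 129, 5, [1425, 1413, 1411, 1054]⟩) (.leaf ⟨1148, 3, 1140, 7, [9623, 9620, 9582, 9584]⟩)) (.node (.leaf ⟨655, 2, 656, 0, []⟩) (.leaf ⟨764, 1, 1473, 0, []⟩))) (.node (.node (.leaf ⟨379, 11, 222, 13, [3175, 3445, 1644]⟩) (.leaf ⟨1285, 6, 1280, 2, [11671, 11656, 11602]⟩)) (.node (.leaf ⟨865, 4, 866, 0, []⟩) (.leaf ⟨0, 12, 0, 0, []⟩))))) (.node (.node (.node (.node (.leaf ⟨58, 0, 106, 31, [504,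 180, 919]⟩) (.leaf ⟨870, 7, 955, 4, [7605, 9109, 9106, 8086]⟩)) (.node (.leaf ⟨125, 10, 607, 0, []⟩) (.leaf ⟨1008, 1, 1428, 14, [8481, 12790, 12784, 12731, 13205]⟩))) (.node (.node (.leaf ⟨71, 1, 417, 0, []⟩) (.leaf ⟨932, 11, 1084, 37, [7917, 4114, 899, 1598, 7378, 11159, 9083]⟩)) (.node (.leaf ⟨211, 5, 769, 82, [1615, 6462, 7049, 7063]⟩) (.leaf ⟨1617, 4, 1542, 85, [15251, 15202, 14233, 14308]⟩)))) (.node (.node (.node (.leaf ⟨290, 8, 219, 17, [1941, 711, 751, 1639]⟩) (.leaf ⟨1192, 2, 958, 5, [10129, 10119, 2707, 8110]⟩)) (.node (.leaf ⟨590, 6, 526, 18, [6026, 6039, 5838, 5846, 5879]⟩) (.leaf ⟨1479, 5, 1536, 52, [13765, 8883, 11135, 10742, 13510, 8303, 14227]⟩))) (.node (.node (.leaf ⟨217, 6, 476, 87, [2322, 1628, 2983, 2985, 3989]⟩) (.leaf ⟨714, 4, 1326, 68, [12183, 12162]⟩)) (.node (.leaf ⟨955, 4, 956, 0, []⟩) (.leaf ⟨0, 12, 0, 0, []⟩))))))))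

def factB13 : Arr (CFact) :=
  (.node (.node (.node (.node (.node (.node (.node (.leaf ⟨2, 0, 2, 3, [23, 19, 17, 21, 22]⟩) (.leaf ⟨976, 2, 905, 5, [8215, 8209, 1813, 7746]⟩)) (.node (.leaf ⟨485, 2, 335, 6, [4121, 2227]⟩) (.leaf ⟨679, 5, 1342, 55, [5687, 1097, 4585, 1024, 4806, 9642, 12313]⟩))) (.node (.node (.leaf ⟨75, 10, 100, 9, [2009, 674, 857]⟩) (.leaf ⟨1200, 0, 867, 3, [10265, 5748, 5478, 6731, 7592]⟩)) (.node (.leaf ⟨148, 1, 718, 0, []⟩) (.leaf ⟨1508, 2, 1548, 0, []⟩)))) (.node (.node (.node (.leaf ⟨126, 4, 127, 0, []⟩) (.leaf ⟨1106, 2, 1089, 5, [9239, 9237, 9234, 9114]⟩)) (.node (.leaf ⟨619, 1, 178, 12, [5145, 5143, 5141, 5139, 5137, 5135, 5133, 5127, 1469]⟩) (.leaf ⟨1200, 1, 1438, 14, [10270, 11478, 11468, 12420, 13337]⟩))) (.node (.node (.leaf ⟨429, 6, 219, 18, [3088, 3097, 2332, 916, 1639]⟩) (.leaf ⟨1260, 3, 875, 7, [11281, 10882, 7621, 7622]⟩)) (.node (.leaf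 ⟨657, 5, 795, 73, [7190, 7185]⟩) (.leaf ⟨1546, 0, 1627, 3, [14956, 14126, 13883, 14009, 15383]⟩))))) (.node (.node (.node (.node (.leaf ⟨46, 0, 64, 31, [458, 125, 537]⟩) (.leaf ⟨291, 4, 1038, 0, []⟩)) (.node (.leaf ⟨542, 1, 543, 0, []⟩) (.leaf ⟨1396, 7, 1354, 4, [12819, 12812, 12502, 12400]⟩))) (.node (.node (.leaf ⟨372, 2, 373, 0, []⟩) (.leaf ⟨1254, 0, 798, 3, [10773, 3027, 2356, 2358, 7198]⟩)) (.node (.leaf ⟨746, 6, 734, 89, [6681, 6562, 6449]⟩) (.leaf ⟨848, 10, 1587, 88, [7490, 13285, 9835, 4197, 9210, 14570, 14873]⟩)))) (.node (.node (.node (.leaf ⟨191, 2, 192, 0, []⟩) (.leaf ⟨1157, 0, 992, 35, [9751, 9748, 8877, 8878, 8334]⟩)) (.node (.leaf ⟨673, 1, 674, 0, []⟩) (.leaf ⟨881, 1, 1493, 0, []⟩))) (.node (.node (.leaf ⟨422, 10, 420, 9, [3006, 3597, 3580]⟩) (.leaf ⟨1294, 3, 1287, 7, [11797, 6318, 6188, 11712]⟩)) (.node (.leaf ⟨892, 4, 227, 36, [7701, 6913, 6914, 1667]⟩)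 (.leaf ⟨0, 12, 0, 0, []⟩)))))) (.node (.node (.node (.node (.node (.leaf ⟨3, 8, 24, 17, [232, 281, 247, 243]⟩) (.leaf ⟨1010, 4, 1011, 0, []⟩)) (.node (.leaf ⟨434, 4, 472, 68, [4368, 4353]⟩) (.leaf ⟨1374, 8, 1084, 41, [12569, 12566, 8088, 11278, 8293, 11130, 9076]⟩))) (.node (.node (.leaf ⟨58, 11, 345, 0, []⟩) (.leaf ⟨572, 5, 1227, 65, [6237, 8698, 10521]⟩)) (.node (.leaf ⟨733, 1, 158, 38, [6425, 1215, 1257]⟩) (.leaf ⟨1559, 4, 1565, 67, [14529, 14472, 14113, 13891, 14615]⟩)))) (.node (.node (.node (.leaf ⟨164, 6, 134, 2, [1305, 1298, 1076]⟩) (.leaf ⟨1131, 2, 834, 5, [9493, 9481, 3963, 7402]⟩)) (.node (.leaf ⟨650, 2, 522, 29, [5401, 5399, 5393, 5389, 5359, 1074, 5290, 5292, 4504]⟩) (.leaf ⟨1456, 0, 1318, 3, [13593, 5638, 6965, 6974, 12090]⟩))) (.node (.node (.leaf ⟨192, 4, 328, 77, [1567, 946, 2061, 713, 2924, 3351, 2204]⟩) (.leaf ⟨1276, 6, 1124, 2, [11545, 11538, 9400]⟩))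 (.node (.leaf ⟨841, 4, 438, 36, [7449, 1610, 3221, 3218]⟩) (.leaf ⟨0, 12, 0, 0, []⟩))))) (.node (.node (.node (.node (.leaf ⟨95, 7, 77, 4, [787, 139, 202, 628]⟩) (.leaf ⟨1068, 0, 885, 32, [8981, 8983, 7682]⟩)) (.node (.leaf ⟨582, 2, 583, 0, []⟩) (.leaf ⟨1144, 1, 1419, 14, [12033, 12041, 9943, 12713, 13081]⟩))) (.node (.node (.leaf ⟨95, 10, 352, 9, [2177, 2385, 2841]⟩) (.leaf ⟨1055, 1, 778, 48, [8878, 11025, 10792]⟩)) (.node (.leaf ⟨550, 11, 129, 51, [6936, 5279]⟩) (.leaf ⟨848, 9, 1608, 0, []⟩)))) (.node (.node (.node (.leaf ⟨265, 6, 224, 18, [1808, 1815, 1644, 1646, 1648]⟩) (.leaf ⟨1180, 3, 1086, 7, [10007, 10000, 9082, 9088]⟩)) (.node (.leaf ⟨699, 2, 700, 0, []⟩) (.leaf ⟨1524, 2, 1525, 0, []⟩))) (.node (.node (.leaf ⟨470, 2, 360, 6, [3861, 2449]⟩) (.leaf ⟨1311, 7, 1220, 4, [12047, 12030, 10418, 10410]⟩)) (.node (.leaf ⟨939, 2, 842, 5, [7957, 7945, 4413, 7452]⟩) (.leaf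 ⟨0, 12, 0, 0, []⟩))))))) (.node (.node (.node (.node (.node (.node (.leaf ⟨19, 1, 20, 0, []⟩) (.leaf ⟨904, 0, 996, 31, [7740, 3167, 8345]⟩)) (.node (.leaf ⟨337, 1, 441, 15, [4246, 3261]⟩) (.leaf ⟨521, 4, 1361, 0, []⟩))) (.node (.node (.leaf ⟨204, 0, 328, 10, [1596, 962, 2201]⟩) (.leaf ⟨1215, 7, 1143, 34, [10391, 10384, 9599, 9590]⟩)) (.node (.leaf ⟨724, 7, 554, 74, [6297, 5592, 6187, 3732, 6183]⟩) (.leaf ⟨1285, 1, 1526, 102, [11672, 11609, 8001, 14483, 14489]⟩)))) (.node (.node (.node (.leaf ⟨148, 4, 28, 8, [1171, 1163, 1155, 1141, 1121, 1109]⟩) (.leaf ⟨495, 5, 1121, 82, [4856, 5085, 9351, 9369]⟩)) (.node (.leaf ⟨567, 7, 633, 20, [4795, 5273, 5238]⟩) (.leaf ⟨1448, 0, 1313, 3, [13465, 13458, 13390, 13324, 12068]⟩))) (.node (.node (.leaf ⟨440, 2, 441, 0, []⟩) (.leaf ⟨1268, 0, 1253, 3, [11415, 6282, 6281, 5626, 10762]⟩)) (.node (.leaf ⟨201, 4, 821, 0, []⟩) (.leaf ⟨0, 12,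 0, 0, []⟩))))) (.node (.node (.node (.node (.leaf ⟨81, 2, 70, 5, [663, 655, 652, 552]⟩) (.leaf ⟨1052, 4, 1053, 0, []⟩)) (.node (.leaf ⟨149, 11, 144, 13, [1409, 1402, 4745]⟩) (.leaf ⟨1408, 4, 1409, 0, []⟩))) (.node (.node (.leaf ⟨307, 0, 385, 10, [2096, 2713, 2684]⟩) (.leaf ⟨895, 9, 862, 40, [7713, 10905, 8719, 2775, 545, 3507, 7560]⟩)) (.node (.leaf ⟨749, 4, 224, 93, [6807, 1332, 347, 1179, 6177, 6179, 1817]⟩) (.leaf ⟨833, 10, 1597, 0, []⟩)))) (.node (.node (.node (.leaf ⟨82, 11, 232, 13, [715, 847, 1689]⟩) (.leaf ⟨1170, 3, 1062, 7, [9879, 9872, 8914, 8920]⟩)) (.node (.leaf ⟨687, 2, 551, 6, [5785, 4657]⟩) (.leaf ⟨1471, 2, 1510, 0, []⟩))) (.node (.node (.leaf ⟨313, 6, 305, 18, [2114, 864, 3728, 3737, 2093]⟩) (.leaf ⟨1303, 2, 1287, 5, [11923, 11909, 4136, 11712]⟩)) (.node (.leaf ⟨921, 4, 704, 36, [7831, 1726, 6672, 6661]⟩) (.leaf ⟨0, 12, 0, 0, []⟩)))))) (.node (.node (.node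 (.node (.node (.leaf ⟨40, 7, 30, 20, [409, 387, 274]⟩) (.leaf ⟨1022, 4, 565, 36, [8597, 8595, 7023, 5264]⟩)) (.node (.leaf ⟨522, 2, 523, 0, []⟩) (.leaf ⟨1152, 11, 1386, 100, [9696, 6969, 6973, 6002, 5987, 6042, 12697]⟩))) (.node (.node (.leaf ⟨361, 6, 208, 18, [2450, 2455, 1624, 990, 1606]⟩) (.leaf ⟨726, 4, 1241, 0, []⟩)) (.node (.leaf ⟨670, 5, 709, 65, [6383, 6553, 6001]⟩) (.leaf ⟨1577, 6, 1464, 18, [14745, 7312, 8836, 8145, 13661]⟩)))) (.node (.node (.node (.leaf ⟨175, 7, 151, 4, [1425, 1416, 1195, 1202]⟩) (.leaf ⟨1148, 4, 1149, 0, []⟩)) (.node (.leaf ⟨656, 7, 537, 20, [5529, 5516, 4960]⟩) (.leaf ⟨1473, 10, 1311, 9, [13721, 10414, 12059]⟩))) (.node (.node (.leaf ⟨261, 7, 266, 20, [2694, 3445, 1814]⟩) (.leaf ⟨1285, 0, 881, 3, [11671, 11656, 11592, 8227, 7644]⟩)) (.node (.leaf ⟨866, 3, 858, 7, [7577, 7574, 7548, 7550]⟩) (.leaf ⟨0, 12, 0, 0, []⟩))))) (.node (.node (.node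 (.node (.leaf ⟨22, 4, 107, 0, []⟩) (.leaf ⟨1088, 4, 1089, 0, []⟩)) (.node (.leaf ⟨607, 7, 605, 19, [5017, 4988, 5001]⟩) (.leaf ⟨1428, 4, 1429, 0, []⟩))) (.node (.node (.leaf ⟨417, 10, 89, 9, [2969, 559, 731]⟩) (.leaf ⟨1084, 1, 1128, 38, [11161, 8505, 9457]⟩)) (.node (.leaf ⟨211, 4, 770, 0, []⟩) (.leaf ⟨1617, 5, 1506, 82, [15251, 15207, 13934, 13936]⟩)))) (.node (.node (.node (.leaf ⟨290, 2, 291, 0, []⟩) (.leaf ⟨1192, 4, 748, 36, [10129, 10127, 8131, 6796]⟩)) (.node (.leaf ⟨584, 8, 692, 17, [4895, 6019, 6039, 5838]⟩) (.leaf ⟨1536, 2, 1537, 0, []⟩))) (.node (.node (.leaf ⟨91, 9, 343, 21, [1639, 3984, 3993, 2318]⟩) (.leaf ⟨714, 5, 1324, 73, [12183, 12161]⟩)) (.node (.leaf ⟨956, 2, 900, 5, [8089, 8087, 8084, 7730]⟩) (.leaf ⟨0, 12, 0, 0, []⟩))))))))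

def factB14 : Arr (CFact) :=
  (.node (.node (.node (.node (.node (.node (.node (.leaf ⟨2, 2, 1, 5, [23, 15, 4, 14]⟩) (.leaf ⟨976, 4, 977, 0, []⟩)) (.node (.leaf ⟨485, 0, 271, 11, [4121, 2235, 1842]⟩) (.leaf ⟨679, 4, 1343, 0, []⟩))) (.node (.node (.leaf ⟨53, 1, 302, 0, []⟩) (.leaf ⟨1200, 3, 903, 7, [10265, 5743, 8098, 7736]⟩)) (.node (.leaf ⟨718, 6, 552, 18, [6171, 1174, 5283, 5286, 4659]⟩) (.leaf ⟨1548, 1, 1034, 43, [14363, 13946, 7667, 10937, 8688]⟩)))) (.node (.node (.node (.leaf ⟨127, 4, 128, 0, []⟩) (.leaf ⟨1106, 4, 313, 36, [9239, 5490, 5496, 4172]⟩)) (.node (.leaf ⟨603, 3, 617, 44, [4980, 1463, 5147, 5145, 5143]⟩) (.leaf ⟨1438, 10, 1165, 9, [13339, 11337, 11346]⟩))) (.node (.node (.leaf ⟨300, 11, 429, 13, [2326, 3091, 3089]⟩) (.leaf ⟨1260, 2, 868, 5, [11281, 10875, 3442, 7600]⟩)) (.node (.leaf ⟨795, 0, 788, 31, [7195, 5534, 7152]⟩) (.leaf ⟨1614, 5, 1627, 83, [15222,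 15207, 13896, 15383]⟩))))) (.node (.node (.node (.node (.leaf ⟨11, 4, 65, 0, []⟩) (.leaf ⟨1038, 0, 810, 3, [8731, 2504, 2307, 3890, 7260]⟩)) (.node (.leaf ⟨543, 2, 544, 0, []⟩) (.leaf ⟨585, 5, 1396, 60, [5381, 12395, 12651, 12648, 12827]⟩))) (.node (.node (.leaf ⟨373, 0, 242, 11, [2587, 2582, 1722]⟩) (.leaf ⟨1254, 3, 1227, 7, [10773, 3837, 10506, 10516]⟩)) (.node (.leaf ⟨746, 2, 692, 50, [6681, 6650, 6641, 6637, 5838]⟩) (.leaf ⟨1477, 3, 1587, 99, [13875, 13867, 14568, 14873]⟩)))) (.node (.node (.node (.leaf ⟨192, 1, 108, 12, [1563, 1561, 1559, 1557, 1555, 1553, 1551, 1547, 943]⟩) (.leaf ⟨1157, 3, 1095, 7, [9751, 9746, 9146, 9154]⟩)) (.node (.leaf ⟨674, 0, 574, 10, [5659, 5654, 4827]⟩) (.leaf ⟨1493, 2, 1494, 0, []⟩))) (.node (.node (.leaf ⟨388, 7, 394, 20, [3011, 3597, 3582]⟩) (.leaf ⟨1294, 7, 1193, 4, [11797, 6322, 6780, 10142]⟩)) (.node (.leaf ⟨228, 4, 893, 0, []⟩) (.leaf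 ⟨0, 12, 0, 0, []⟩)))))) (.node (.node (.node (.node (.node (.leaf ⟨3, 9, 31, 0, []⟩) (.leaf ⟨1011, 6, 932, 2, [8475, 8468, 7904]⟩)) (.node (.leaf ⟨433, 8, 434, 17, [4012, 4000, 4361, 4373]⟩) (.leaf ⟨1374, 7, 1341, 34, [12569, 12560, 12291, 12296]⟩))) (.node (.node (.leaf ⟨345, 1, 106, 38, [2331, 842, 913]⟩) (.leaf ⟨572, 4, 1228, 0, []⟩)) (.node (.leaf ⟨675, 2, 733, 50, [5674, 5678, 5680, 1257, 6427]⟩) (.leaf ⟨1397, 1, 1566, 0, []⟩)))) (.node (.node (.node (.leaf ⟨164, 0, 146, 3, [1305, 1298, 1297, 1302, 1154]⟩) (.leaf ⟨1131, 4, 336, 36, [9493, 9488, 7410, 4226]⟩)) (.node (.leaf ⟨523, 2, 650, 6, [4507, 5403]⟩) (.leaf ⟨1456, 3, 1448, 7, [13593, 5963, 13454, 13464]⟩))) (.node (.node (.leaf ⟨299, 4, 260, 67, [1976, 1943, 2944, 3351, 2187]⟩) (.leaf ⟨1276, 0, 1036, 3, [11545, 11538, 9392, 8711, 8712]⟩)) (.node (.leaf ⟨475, 4, 842, 0, []⟩) (.leaf ⟨0, 12, 0, 0, []⟩))))) (.node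 (.node (.node (.node (.leaf ⟨56, 3, 95, 30, [517, 793]⟩) (.leaf ⟨886, 6, 1069, 2, [7665, 8987, 8958]⟩)) (.node (.leaf ⟨583, 7, 519, 20, [4891, 4888, 4498]⟩) (.leaf ⟨1409, 0, 1419, 32, [12958, 12710, 13081]⟩))) (.node (.node (.leaf ⟨68, 9, 404, 0, []⟩) (.leaf ⟨1074, 8, 1255, 17, [11002, 10252, 10098, 11025]⟩)) (.node (.leaf ⟨722, 12, 634, 21, [6243, 6885, 6882, 5221, 5276]⟩) (.leaf ⟨1608, 5, 1602, 55, [15131, 7485, 3726, 7246, 14542, 14999, 15070]⟩)))) (.node (.node (.node (.leaf ⟨263, 11, 266, 13, [1802, 1819, 1808]⟩) (.leaf ⟨1180, 2, 1078, 5, [10007, 9995, 9990, 9034]⟩)) (.node (.leaf ⟨700, 7, 673, 20, [5915, 5906, 5650]⟩) (.leaf ⟨1525, 1, 857, 43, [14107, 14103, 8635, 9971, 9958]⟩))) (.node (.node (.leaf ⟨106, 8, 362, 17, [2333, 3855, 3861, 2450]⟩) (.leaf ⟨1117, 11, 1311, 100, [9334, 11238, 9089, 10196, 8872, 6174, 12057]⟩)) (.node (.leaf ⟨939, 4, 449, 36, [7957, 7952,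 7450, 3553]⟩) (.leaf ⟨0, 12, 0, 0, []⟩))))))) (.node (.node (.node (.node (.node (.node (.leaf ⟨20, 6, 8, 18, [155, 149, 141, 136, 87]⟩) (.leaf ⟨877, 6, 996, 86, [7637, 7558, 3169, 8345]⟩)) (.node (.leaf ⟨337, 2, 245, 16, [4246, 3268]⟩) (.leaf ⟨1361, 3, 1356, 7, [12443, 4503, 6552, 12416]⟩))) (.node (.node (.leaf ⟨325, 9, 328, 21, [2176, 797, 578, 2201]⟩) (.leaf ⟨1215, 4, 389, 8, [10391, 10383, 10375, 10366, 10361, 10351]⟩)) (.node (.leaf ⟨554, 11, 665, 13, [6299, 6297, 5594]⟩) (.leaf ⟨1556, 3, 1526, 30, [14480, 14489]⟩)))) (.node (.node (.node (.leaf ⟨30, 4, 149, 0, []⟩) (.leaf ⟨815, 0, 1121, 11, [7482, 9349, 9369]⟩)) (.node (.leaf ⟨129, 8, 634, 0, []⟩) (.leaf ⟨1448, 3, 1413, 7, [13465, 13460, 13064, 13000]⟩))) (.node (.node (.leaf ⟨441, 6, 239, 70, [3227, 3217, 1737, 1714]⟩) (.leaf ⟨1268, 3, 1224, 7, [11415, 6525, 10452, 10460]⟩)) (.node (.leaf ⟨821, 4, 822, 0, []⟩)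 (.leaf ⟨0, 12, 0, 0, []⟩))))) (.node (.node (.node (.node (.leaf ⟨51, 7, 81, 20, [482, 591, 665]⟩) (.leaf ⟨1053, 3, 1044, 7, [8859, 8856, 8822, 8796]⟩)) (.node (.leaf ⟨140, 1, 140, 14, [1127, 4744, 1402, 4745, 1126]⟩) (.leaf ⟨1409, 3, 1349, 7, [12955, 12948, 12368, 12374]⟩))) (.node (.node (.leaf ⟨381, 3, 263, 30, [2707, 1800]⟩) (.leaf ⟨978, 1, 895, 94, [8232, 8953, 10199, 10907]⟩)) (.node (.leaf ⟨563, 0, 749, 31, [6179, 1818, 6811]⟩) (.leaf ⟨1597, 4, 1513, 93, [15003, 7398, 2472, 7521, 12596, 12604, 14030]⟩)))) (.node (.node (.node (.leaf ⟨55, 1, 233, 0, []⟩) (.leaf ⟨1170, 2, 1059, 5, [9879, 9867, 9864, 8904]⟩)) (.node (.leaf ⟨569, 1, 687, 53, [4805, 4776, 4778, 5787]⟩) (.leaf ⟨1510, 1, 840, 43, [13979, 13704, 13639, 13648, 7439]⟩))) (.node (.node (.leaf ⟨84, 9, 368, 21, [3728, 3737, 2550, 2547]⟩) (.leaf ⟨1303, 7, 1072, 4, [11923, 11912, 8967, 8976]⟩)) (.node (.leaf ⟨357,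 4, 922, 0, []⟩) (.leaf ⟨0, 12, 0, 0, []⟩)))))) (.node (.node (.node (.node (.node (.leaf ⟨40, 2, 34, 6, [409, 336]⟩) (.leaf ⟨565, 4, 1023, 0, []⟩)) (.node (.leaf ⟨523, 1, 184, 12, [4507, 4505, 4503, 4501, 4499, 4497, 4495, 4491, 1543]⟩) (.leaf ⟨1299, 10, 1386, 97, [11876, 12451, 12443, 5992, 5987, 6042, 12697]⟩))) (.node (.node (.leaf ⟨362, 7, 293, 20, [2455, 1953, 1954]⟩) (.leaf ⟨1241, 6, 1213, 2, [10651, 6344, 10374]⟩)) (.node (.leaf ⟨734, 4, 608, 67, [6448, 4912, 6001, 6555, 5638]⟩) (.leaf ⟨1577, 0, 1499, 10, [14745, 7844, 13898]⟩)))) (.node (.node (.node (.leaf ⟨175, 4, 176, 0, []⟩) (.leaf ⟨1149, 3, 1142, 7, [9627, 9624, 9586, 9588]⟩)) (.node (.leaf ⟨656, 1, 657, 0, []⟩) (.leaf ⟨1473, 6, 1461, 18, [13721, 7042, 10934, 7347, 13650]⟩))) (.node (.node (.leaf ⟨385, 12, 228, 17, [2685, 3445, 1643, 1641, 1672]⟩) (.leaf ⟨1285, 3, 1097, 7, [11671, 11658, 9206, 9170]⟩)) (.node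 (.leaf ⟨866, 4, 867, 0, []⟩) (.leaf ⟨0, 12, 0, 0, []⟩))))) (.node (.node (.node (.node (.leaf ⟨107, 6, 107, 2, [923, 305, 922]⟩) (.leaf ⟨1089, 6, 870, 2, [9115, 9108, 7604]⟩)) (.node (.leaf ⟨605, 2, 607, 45, [5000, 4996, 5019]⟩) (.leaf ⟨1429, 0, 1359, 35, [13211, 13206, 13088, 12973, 12436]⟩))) (.node (.node (.leaf ⟨417, 6, 390, 18, [2969, 562, 2736, 2742, 2746]⟩) (.leaf ⟨1233, 1, 982, 43, [10855, 10862, 9461, 11163, 9078]⟩)) (.node (.leaf ⟨770, 3, 766, 7, [7067, 1615, 2961, 7050]⟩) (.leaf ⟨1617, 0, 1616, 11, [15251, 15205, 15243]⟩)))) (.node (.node (.node (.leaf ⟨291, 7, 211, 20, [1947, 1942, 1614]⟩) (.leaf ⟨1192, 7, 884, 4, [10129, 10120, 9892, 7654]⟩)) (.node (.leaf ⟨693, 10, 516, 9, [5879, 6041, 6032]⟩) (.leaf ⟨1537, 1, 1367, 43, [14235, 14225, 11929, 12830, 12820]⟩))) (.node (.node (.leaf ⟨476, 10, 295, 88, [3991, 3819, 725, 221, 682, 3658, 3409]⟩) (.leaf ⟨1326, 9,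 1010, 40, [12185, 6103, 1154, 4613, 1193, 5196, 8466]⟩)) (.node (.leaf ⟨956, 4, 957, 0, []⟩) (.leaf ⟨0, 12, 0, 0, []⟩))))))))

def factB15 : Arr (CFact) :=
  (.node (.node (.node (.node (.node (.node (.node (.leaf ⟨2, 7, 2, 4, [23, 19, 17, 22]⟩) (.leaf ⟨977, 3, 974, 7, [8221, 8216, 8197, 8194]⟩)) (.node (.leaf ⟨244, 6, 485, 33, [2274, 3523, 4123]⟩) (.leaf ⟨1343, 8, 1307, 62, [12317, 6593, 5918, 4344, 4336, 4279, 11992]⟩))) (.node (.node (.leaf ⟨302, 10, 101, 9, [2077, 493, 867]⟩) (.leaf ⟨1200, 2, 955, 5, [10265, 10261, 10258, 8086]⟩)) (.node (.leaf ⟨718, 8, 626, 17, [6171, 1172, 1086, 5220]⟩) (.leaf ⟨1548, 7, 1500, 20, [14363, 13953, 13902]⟩)))) (.node (.node (.node (.leaf ⟨128, 4, 129, 0, []⟩) (.leaf ⟨314, 4, 1107, 0, []⟩)) (.node (.leaf ⟨616, 3, 603, 30, [5140, 5149]⟩) (.leaf ⟨1438, 4, 1439, 0, []⟩))) (.node (.node (.leaf ⟨430, 2, 431, 0, []⟩) (.leaf ⟨1260, 7, 1197,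 4, [11281, 10880, 10215, 10228]⟩)) (.node (.leaf ⟨195, 4, 798, 0, []⟩) (.leaf ⟨1487, 2, 1627, 5, [14245, 14241, 13999, 15383]⟩))))) (.node (.node (.node (.node (.leaf ⟨65, 6, 65, 2, [541, 97, 540]⟩) (.leaf ⟨1038, 3, 1035, 7, [8731, 1947, 3352, 8704]⟩)) (.node (.leaf ⟨544, 1, 181, 12, [4637, 4635, 4633, 4631, 4629, 4627, 4625, 4621, 1507]⟩) (.leaf ⟨1303, 1, 1396, 14, [11930, 11721, 7285, 12814, 12825]⟩))) (.node (.node (.leaf ⟨373, 1, 374, 0, []⟩) (.leaf ⟨1254, 7, 1144, 4, [10773, 3027, 2356, 9600]⟩)) (.node (.leaf ⟨746, 3, 693, 44, [6681, 6057, 5318, 5423, 5878]⟩) (.leaf ⟨1576, 3, 1477, 30, [14868, 14877]⟩)))) (.node (.node (.node (.leaf ⟨108, 11, 192, 13, [944, 937, 1565]⟩) (.leaf ⟨615, 5, 1157, 82, [5137, 9169, 9163, 9757]⟩)) (.node (.leaf ⟨295, 5, 674, 65, [1966, 5081, 5661]⟩) (.leaf ⟨1494, 1, 1070, 43, [13853, 13851, 7657, 10183, 10056]⟩))) (.node (.node (.leaf ⟨390,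 9, 453, 21, [2747, 3012, 3597, 3586]⟩) (.leaf ⟨768, 10, 1294, 9, [11150, 10145, 11805]⟩)) (.node (.leaf ⟨893, 4, 894, 0, []⟩) (.leaf ⟨0, 12, 0, 0, []⟩)))))) (.node (.node (.node (.node (.node (.leaf ⟨3, 10, 32, 0, []⟩) (.leaf ⟨1011, 0, 936, 35, [8475, 8472, 7879, 7925, 7928]⟩)) (.node (.leaf ⟨411, 11, 434, 13, [2912, 4365, 4373]⟩) (.leaf ⟨935, 1, 1374, 58, [8431, 9463, 11163, 12571]⟩))) (.node (.node (.leaf ⟨340, 0, 345, 10, [2285, 920, 2333]⟩) (.leaf ⟨1228, 6, 1223, 2, [10525, 6519, 10452]⟩)) (.node (.leaf ⟨573, 0, 733, 10, [4817, 1259, 6427]⟩) (.leaf ⟨1566, 2, 1488, 50, [14621, 12844, 12831, 11924, 13816]⟩)))) (.node (.node (.node (.leaf ⟨164, 2, 156, 5, [1305, 1295, 1290, 1242]⟩) (.leaf ⟨1131, 7, 939, 4, [9493, 9484, 7947, 7956]⟩)) (.node (.leaf ⟨649, 6, 516, 18, [5400, 5405, 4508, 1542, 4490]⟩) (.leaf ⟨1456, 2, 1413, 5, [13593, 6554, 6031, 13000]⟩))) (.node (.node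 (.leaf ⟨391, 4, 323, 36, [2755, 2940, 3351, 2185]⟩) (.leaf ⟨1276, 3, 833, 7, [11545, 11540, 7391, 7392]⟩)) (.node (.leaf ⟨842, 4, 843, 0, []⟩) (.leaf ⟨0, 12, 0, 0, []⟩))))) (.node (.node (.node (.node (.leaf ⟨95, 4, 96, 0, []⟩) (.leaf ⟨687, 12, 1067, 67, [6273, 6896, 5251, 7660, 8987, 8957]⟩)) (.node (.leaf ⟨583, 1, 584, 0, []⟩) (.leaf ⟨1419, 4, 1420, 0, []⟩))) (.node (.node (.leaf ⟨68, 10, 405, 0, []⟩) (.leaf ⟨1254, 10, 1199, 97, [10788, 11037, 9009, 10896, 8078, 5752, 10261]⟩)) (.node (.leaf ⟨634, 0, 627, 23, [6941, 6249]⟩) (.leaf ⟨1608, 1, 1477, 22, [15131, 13671, 14912, 14920]⟩)))) (.node (.node (.node (.leaf ⟨225, 7, 230, 20, [1651, 1819, 1813]⟩) (.leaf ⟨1180, 4, 369, 36, [10007, 10002, 9042, 2563]⟩)) (.node (.leaf ⟨700, 4, 205, 85, [5915, 5911, 3697, 3963]⟩) (.leaf ⟨1525, 7, 1520, 20, [14107, 14104, 14064]⟩))) (.node (.node (.leaf ⟨217, 10, 470, 9, [2318, 2314, 3865]⟩)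 (.leaf ⟨1311, 1, 854, 38, [12061, 9332, 7533]⟩)) (.node (.leaf ⟨449, 4, 940, 0, []⟩) (.leaf ⟨0, 12, 0, 0, []⟩))))))) (.node (.node (.node (.node (.node (.node (.leaf ⟨20, 0, 20, 10, [155, 153, 154]⟩) (.leaf ⟨995, 0, 876, 31, [8342, 8349, 7631]⟩)) (.node (.leaf ⟨337, 3, 246, 24, [4246, 3262]⟩) (.leaf ⟨936, 1, 1361, 102, [7930, 11199, 8612, 12420, 12445]⟩))) (.node (.node (.leaf ⟨57, 1, 329, 0, []⟩) (.leaf ⟨394, 4, 1216, 0, []⟩)) (.node (.leaf ⟨567, 2, 724, 45, [4802, 4660, 6299]⟩) (.leaf ⟨1526, 0, 1493, 32, [14493, 14474, 13853]⟩)))) (.node (.node (.node (.leaf ⟨149, 8, 149, 41, [1181, 269, 74, 10, 75, 268, 1180]⟩) (.leaf ⟨1121, 10, 832, 88, [9371, 6971, 6973, 4925, 1038, 4968, 7390]⟩)) (.node (.leaf ⟨129, 10, 635, 0, []⟩) (.leaf ⟨1033, 1, 1448, 102, [10659, 12284, 12797, 13008, 13469]⟩))) (.node (.node (.leaf ⟨249, 7, 441, 19, [1741, 1714, 3229]⟩) (.leaf ⟨1268, 2, 1218,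 5, [11415, 11413, 11410, 10406]⟩)) (.node (.leaf ⟨822, 4, 823, 0, []⟩) (.leaf ⟨0, 12, 0, 0, []⟩))))) (.node (.node (.node (.node (.leaf ⟨51, 0, 81, 11, [482, 593, 665]⟩) (.leaf ⟨1053, 7, 881, 34, [8859, 8854, 8147, 7644]⟩)) (.node (.leaf ⟨140, 8, 144, 17, [4764, 1131, 1410, 4745]⟩) (.leaf ⟨1409, 2, 1343, 5, [12955, 12945, 6587, 12316]⟩))) (.node (.node (.leaf ⟨380, 9, 107, 21, [2672, 2707, 1798, 1656]⟩) (.leaf ⟨1085, 1, 1204, 43, [9084, 9973, 8306, 10909, 10305]⟩)) (.node (.leaf ⟨668, 11, 749, 37, [6222, 3811, 6181, 5810, 6179, 1817, 6811]⟩) (.leaf ⟨1490, 0, 1597, 103, [14635, 14657, 14650, 14026, 15005]⟩)))) (.node (.node (.node (.leaf ⟨233, 9, 231, 21, [1693, 531, 600, 1682]⟩) (.leaf ⟨1170, 4, 653, 36, [9879, 9874, 8888, 5476]⟩)) (.node (.leaf ⟨555, 6, 569, 18, [4663, 4661, 4659, 5784, 5789]⟩) (.leaf ⟨1510, 7, 1472, 20, [13979, 13883, 13880]⟩))) (.node (.node (.leaf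 ⟨366, 11, 101, 13, [2522, 3739, 2114]⟩) (.leaf ⟨1303, 4, 1304, 0, []⟩)) (.node (.leaf ⟨922, 7, 825, 4, [7837, 3052, 3407, 7340]⟩) (.leaf ⟨0, 12, 0, 0, []⟩)))))) (.node (.node (.node (.node (.node (.leaf ⟨40, 1, 40, 12, [409, 340, 384, 250, 279, 264, 68, 328, 413]⟩) (.leaf ⟨1023, 3, 760, 7, [8605, 4791, 6196, 7024]⟩)) (.node (.leaf ⟨142, 11, 523, 13, [1386, 1537, 4509]⟩) (.leaf ⟨1386, 1, 1129, 38, [12699, 9698, 9471]⟩))) (.node (.node (.leaf ⟨218, 7, 361, 19, [1635, 1606, 2459]⟩) (.leaf ⟨1241, 0, 1032, 3, [10651, 6344, 5268, 6900, 8696]⟩)) (.node (.leaf ⟨608, 7, 610, 4, [6557, 6445, 5395, 6089]⟩) (.leaf ⟨1577, 9, 1311, 21, [14745, 7487, 7533, 12063]⟩)))) (.node (.node (.node (.leaf ⟨176, 6, 122, 2, [1437, 1428, 1028]⟩) (.leaf ⟨1149, 4, 348, 8, [9627, 9623, 9617, 9609, 9605, 9601]⟩)) (.node (.leaf ⟨657, 6, 594, 18, [5533, 5529, 5515, 5492, 4949]⟩) (.leaf ⟨1466, 5, 1473,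 55, [13678, 10329, 11015, 10451, 6522, 12057, 13723]⟩))) (.node (.node (.leaf ⟨228, 0, 307, 23, [3485, 2715]⟩) (.leaf ⟨1285, 2, 1182, 5, [11671, 11653, 11646, 10028]⟩)) (.node (.leaf ⟨867, 3, 860, 7, [7581, 7578, 7552, 7554]⟩) (.leaf ⟨0, 12, 0, 0, []⟩))))) (.node (.node (.node (.node (.leaf ⟨107, 0, 53, 3, [923, 305, 312, 224, 490]⟩) (.leaf ⟨1089, 4, 1090, 0, []⟩)) (.node (.leaf ⟨607, 2, 604, 6, [5021, 4997]⟩) (.leaf ⟨1429, 3, 1329, 7, [13211, 13202, 12228, 12170]⟩))) (.node (.node (.leaf ⟨417, 0, 196, 10, [2969, 560, 1577]⟩) (.leaf ⟨912, 1, 1094, 48, [9459, 11163, 9151]⟩)) (.node (.leaf ⟨770, 4, 188, 36, [7067, 2300, 2507, 1916]⟩) (.leaf ⟨1517, 2, 1618, 0, []⟩)))) (.node (.node (.node (.leaf ⟨291, 1, 292, 0, []⟩) (.leaf ⟨748, 4, 1193, 0, []⟩)) (.node (.leaf ⟨177, 9, 711, 21, [4927, 5420, 6041, 6026]⟩) (.leaf ⟨1537, 0, 1530, 11, [14235, 14228, 14156]⟩))) (.node (.node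 (.leaf ⟨476, 1, 477, 0, []⟩) (.leaf ⟨1253, 1, 1326, 94, [10768, 10336, 11180, 12189]⟩)) (.node (.leaf ⟨957, 4, 660, 8, [8093, 8089, 8087, 8083, 8081, 5564]⟩) (.leaf ⟨0, 12, 0, 0, []⟩))))))))

def factB16 : Arr (CFact) :=
  (.node (.node (.node (.node (.node (.node (.node (.leaf ⟨2, 4, 3, 0, []⟩) (.leaf ⟨977, 2, 909, 5, [8221, 8215, 8212, 7754]⟩)) (.node (.leaf ⟨369, 1, 486, 0, []⟩) (.leaf ⟨856, 1, 1343, 58, [9743, 9746, 12002, 12319]⟩))) (.node (.node (.leaf ⟨302, 0, 227, 10, [2077, 927, 1657]⟩) (.leaf ⟨1200, 4, 384, 36, [10265, 6123, 5565, 2694]⟩)) (.node (.leaf ⟨563, 11, 148, 13, [4784, 6173, 6171]⟩) (.leaf ⟨1548, 2, 1507, 6, [14363, 13945]⟩)))) (.node (.node (.node (.leaf ⟨129, 4, 130, 0, []⟩) (.leaf ⟨1107, 8, 905, 41, [9247, 2118, 496, 2046, 455, 1678, 7746]⟩)) (.node (.leaf ⟨617, 4, 415, 91, [5149, 4982, 2189, 3350]⟩) (.leaf ⟨1439, 6, 1336, 2, [13343, 13332, 12250]⟩)))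 (.node (.node (.leaf ⟨431, 7, 208, 20, [3103, 3090, 1962]⟩) (.leaf ⟨843, 10, 1260, 9, [11224, 10231, 11295]⟩)) (.node (.leaf ⟨798, 4, 799, 0, []⟩) (.leaf ⟨1539, 3, 1627, 7, [14268, 13759, 13891, 15383]⟩))))) (.node (.node (.node (.node (.leaf ⟨65, 4, 66, 0, []⟩) (.leaf ⟨1038, 4, 422, 36, [8731, 4377, 4378, 3901]⟩)) (.node (.leaf ⟨117, 8, 545, 0, []⟩) (.leaf ⟨1396, 10, 959, 9, [12831, 11924, 8975]⟩))) (.node (.node (.leaf ⟨374, 0, 243, 10, [2591, 2588, 1724]⟩) (.leaf ⟨1234, 3, 1254, 30, [10572, 10781]⟩)) (.node (.leaf ⟨746, 0, 648, 10, [6681, 6059, 5412]⟩) (.leaf ⟨824, 9, 1588, 0, []⟩)))) (.node (.node (.node (.leaf ⟨41, 8, 193, 0, []⟩) (.leaf ⟨615, 4, 1158, 0, []⟩)) (.node (.leaf ⟨674, 2, 675, 0, []⟩) (.leaf ⟨1494, 6, 1478, 70, [13853, 13851, 13569, 13754]⟩))) (.node (.node (.leaf ⟨422, 8, 80, 17, [3006, 3597, 3579, 2770]⟩) (.leaf ⟨1294, 4, 1295, 0, []⟩)) (.node (.leaf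 ⟨894, 4, 895, 0, []⟩) (.leaf ⟨0, 12, 0, 0, []⟩)))))) (.node (.node (.node (.node (.node (.leaf ⟨32, 7, 26, 19, [287, 232, 281]⟩) (.leaf ⟨1011, 3, 1008, 7, [8475, 8470, 8453, 8450]⟩)) (.node (.leaf ⟨406, 5, 363, 65, [4094, 4097, 4367]⟩) (.leaf ⟨1374, 4, 1375, 0, []⟩))) (.node (.node (.leaf ⟨345, 4, 335, 54, [2335, 2299, 2263]⟩) (.leaf ⟨1228, 0, 774, 3, [10525, 6519, 6516, 6953, 7122]⟩)) (.node (.leaf ⟨733, 2, 674, 71, [6431, 4822, 5661]⟩) (.leaf ⟨1566, 3, 1489, 44, [14621, 12838, 13831, 13829, 13827]⟩)))) (.node (.node (.node (.leaf ⟨164, 7, 164, 4, [1305, 1298, 1297, 1304]⟩) (.leaf ⟨403, 4, 1132, 0, []⟩)) (.node (.leaf ⟨526, 7, 649, 19, [4517, 4490, 5407]⟩) (.leaf ⟨1159, 1, 1456, 14, [9829, 12460, 12795, 13008, 13599]⟩))) (.node (.node (.leaf ⟨355, 5, 283, 65, [3075, 3359, 2752]⟩) (.leaf ⟨1276, 2, 828, 5, [11545, 11537, 3718, 7358]⟩)) (.node (.leaf ⟨843, 4, 208, 8, [7455,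 7453, 4446, 4444, 7451, 7449]⟩) (.leaf ⟨0, 12, 0, 0, []⟩))))) (.node (.node (.node (.node (.leaf ⟨96, 6, 84, 2, [799, 790, 688]⟩) (.leaf ⟨687, 4, 1068, 68, [8990, 8956]⟩)) (.node (.leaf ⟨584, 6, 523, 18, [4895, 4891, 4885, 1541, 4509]⟩) (.leaf ⟨1420, 6, 1410, 2, [13087, 13085, 12962]⟩))) (.node (.node (.leaf ⟨405, 7, 399, 19, [2847, 2201, 2829]⟩) (.leaf ⟨1105, 1, 1254, 101, [9232, 10263, 11039]⟩)) (.node (.leaf ⟨634, 1, 721, 15, [6941, 6243]⟩) (.leaf ⟨1589, 3, 1608, 44, [14898, 9568, 14741, 14878, 15135]⟩)))) (.node (.node (.node (.leaf ⟨264, 3, 230, 30, [1806, 1813]⟩) (.leaf ⟨1180, 7, 877, 4, [10007, 9998, 9770, 7630]⟩)) (.node (.leaf ⟨700, 0, 501, 11, [5915, 5908, 5097]⟩) (.leaf ⟨1478, 0, 1525, 10, [13755, 11856, 14109]⟩))) (.node (.node (.leaf ⟨216, 2, 471, 0, []⟩) (.leaf ⟨854, 10, 764, 9, [12063, 12048, 10423]⟩)) (.node (.leaf ⟨940, 6, 820, 2, [7967, 3558, 7316]⟩)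 (.leaf ⟨0, 12, 0, 0, []⟩))))))) (.node (.node (.node (.node (.node (.node (.leaf ⟨15, 12, 19, 22, [127, 76, 82, 157, 155]⟩) (.leaf ⟨269, 4, 997, 0, []⟩)) (.node (.leaf ⟨337, 6, 448, 26, [4246, 3548]⟩) (.leaf ⟨1361, 10, 1006, 9, [12447, 7930, 8439]⟩))) (.node (.node (.leaf ⟨329, 10, 69, 9, [2207, 901, 908]⟩) (.leaf ⟨1216, 6, 1112, 2, [10399, 2766, 9284]⟩)) (.node (.leaf ⟨724, 2, 566, 6, [6303, 4795]⟩) (.leaf ⟨1526, 8, 979, 17, [14491, 11672, 11604, 9976]⟩)))) (.node (.node (.node (.leaf ⟨125, 8, 125, 41, [1045, 435, 1180, 1182, 1181, 434, 1044]⟩) (.leaf ⟨788, 1, 1121, 101, [7277, 7389, 9375]⟩)) (.node (.leaf ⟨129, 11, 636, 0, []⟩) (.leaf ⟨1448, 10, 1024, 9, [13471, 10659, 10662]⟩))) (.node (.node (.leaf ⟨377, 0, 248, 3, [2624, 1747, 3229, 3231, 2073]⟩) (.leaf ⟨1268, 4, 452, 36, [11415, 5807, 6180, 3583]⟩)) (.node (.leaf ⟨823, 4, 824, 0, []⟩) (.leaf ⟨0, 12, 0, 0, []⟩)))))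 (.node (.node (.node (.node (.leaf ⟨81, 4, 82, 0, []⟩) (.leaf ⟨978, 0, 1053, 11, [8230, 8801, 8861]⟩)) (.node (.leaf ⟨140, 10, 128, 9, [4765, 1131, 1137]⟩) (.leaf ⟨1249, 1, 1409, 14, [10729, 11006, 9742, 12320, 12959]⟩))) (.node (.node (.leaf ⟨266, 6, 380, 18, [1809, 1807, 1805, 2717, 2673]⟩) (.leaf ⟨890, 1, 1053, 48, [8329, 10909, 8864]⟩)) (.node (.leaf ⟨554, 6, 749, 86, [5601, 6185, 1802, 6811]⟩) (.leaf ⟨1470, 4, 1597, 91, [13702, 14176, 14170, 15005]⟩)))) (.node (.node (.node (.leaf ⟨233, 2, 234, 0, []⟩) (.leaf ⟨1170, 7, 984, 4, [9879, 9870, 8271, 8278]⟩)) (.node (.leaf ⟨569, 2, 688, 0, []⟩) (.leaf ⟨1510, 2, 1470, 6, [13979, 13703]⟩))) (.node (.node (.leaf ⟨303, 9, 101, 21, [2086, 2090, 3739, 2114]⟩) (.leaf ⟨1304, 6, 971, 2, [11935, 11926, 8168]⟩)) (.node (.leaf ⟨922, 4, 923, 0, []⟩) (.leaf ⟨0, 12, 0, 0, []⟩)))))) (.node (.node (.node (.node (.node (.leaf ⟨40, 0, 40,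 11, [409, 339, 408]⟩) (.leaf ⟨1023, 2, 755, 5, [8605, 8603, 8600, 7006]⟩)) (.node (.leaf ⟨115, 8, 524, 0, []⟩) (.leaf ⟨1378, 7, 1386, 19, [12672, 12497, 12691]⟩))) (.node (.node (.leaf ⟨216, 12, 359, 53, [1631, 1606, 2459, 2449, 2441]⟩) (.leaf ⟨1241, 4, 1242, 0, []⟩)) (.node (.leaf ⟨503, 6, 498, 33, [5356, 6559, 5042]⟩) (.leaf ⟨1538, 4, 1577, 42, [14257, 7250, 11120, 8335, 12043, 12046, 14751]⟩)))) (.node (.node (.node (.leaf ⟨176, 0, 152, 3, [1437, 1428, 1427, 1434, 1208]⟩) (.leaf ⟨759, 0, 1149, 31, [7016, 2356, 9631]⟩)) (.node (.leaf ⟨601, 12, 656, 22, [4969, 4930, 4944, 5535, 5533]⟩) (.leaf ⟨1473, 2, 1474, 0, []⟩))) (.node (.node (.leaf ⟨228, 1, 384, 15, [3485, 2685]⟩) (.leaf ⟨1285, 7, 978, 4, [11671, 11656, 11592, 8228]⟩)) (.node (.leaf ⟨867, 4, 221, 8, [7581, 7577, 7573, 7569, 7565, 7561]⟩) (.leaf ⟨0, 12, 0, 0, []⟩))))) (.node (.node (.node (.node (.leaf ⟨107, 3,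 48, 7, [923, 310, 460, 466]⟩) (.leaf ⟨1090, 7, 1000, 34, [9119, 9116, 8382, 8360]⟩)) (.node (.leaf ⟨607, 1, 607, 12, [5021, 4998, 1344, 4587, 1418, 4599, 1078, 4988, 5023]⟩) (.leaf ⟨1429, 2, 1324, 5, [13211, 13199, 13192, 12158]⟩))) (.node (.node (.leaf ⟨417, 8, 388, 17, [2969, 559, 562, 2736]⟩) (.leaf ⟨782, 1, 995, 22, [10869, 11163, 10001, 9996]⟩)) (.node (.leaf ⟨189, 4, 771, 0, []⟩) (.leaf ⟨1618, 1, 1516, 43, [15263, 14052, 12399, 14330, 14816]⟩)))) (.node (.node (.node (.leaf ⟨292, 6, 215, 18, [1951, 1947, 1941, 989, 1625]⟩) (.leaf ⟨1193, 6, 988, 2, [10143, 6778, 8318]⟩)) (.node (.leaf ⟨693, 8, 708, 17, [5879, 6041, 6030, 5995]⟩) (.leaf ⟨1511, 4, 1537, 67, [14004, 13700, 13775, 14165, 14239]⟩))) (.node (.node (.leaf ⟨477, 6, 456, 89, [3999, 3996, 3701]⟩) (.leaf ⟨1329, 4, 1330, 0, []⟩)) (.node (.leaf ⟨683, 12, 901, 82, [6146, 8095, 8093, 8090, 7732]⟩) (.leaf ⟨0, 12,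 0, 0, []⟩))))))))

def factB17 : Arr (CFact) :=
  (.node (.node (.node (.node (.node (.node (.node (.leaf ⟨3, 6, 3, 2, [33, 27, 32]⟩) (.leaf ⟨880, 7, 977, 20, [7705, 8202, 8223]⟩)) (.node (.leaf ⟨486, 6, 302, 18, [4129, 2561, 2100, 806, 2076]⟩) (.leaf ⟨1343, 10, 873, 9, [12321, 9743, 9748]⟩))) (.node (.node (.leaf ⟨302, 2, 303, 0, []⟩) (.leaf ⟨1200, 7, 1106, 4, [10265, 5748, 5478, 9238]⟩)) (.node (.leaf ⟨265, 5, 563, 49, [2723, 541, 229, 52, 394, 1179, 6177]⟩) (.leaf ⟨1548, 4, 1467, 85, [14363, 13951, 13727, 13680]⟩)))) (.node (.node (.node (.leaf ⟨130, 4, 25, 8, [1057, 1055, 1053, 1051, 1049, 1045]⟩) (.leaf ⟨1107, 3, 778, 7, [9247, 2120, 7086, 7090]⟩)) (.node (.leaf ⟨594, 0, 616, 11, [4945, 4984, 5151]⟩) (.leaf ⟨1439, 0, 1401, 3, [13343, 13332, 12361, 12875, 12882]⟩))) (.node (.node (.leaf ⟨431, 2, 345, 6, [3103, 3097]⟩) (.leaf ⟨1045, 9, 783, 84, [8805, 10917, 7506, 11287,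 8535, 3079, 7126]⟩)) (.node (.leaf ⟨799, 4, 800, 0, []⟩) (.leaf ⟨1627, 1, 1628, 0, []⟩))))) (.node (.node (.node (.node (.leaf ⟨66, 4, 67, 0, []⟩) (.leaf ⟨1038, 7, 806, 4, [8731, 2504, 2307, 7238]⟩)) (.node (.leaf ⟨117, 9, 546, 0, []⟩) (.leaf ⟨960, 9, 839, 40, [8115, 12833, 12829, 4915, 12415, 12636, 7426]⟩))) (.node (.node (.leaf ⟨374, 2, 375, 0, []⟩) (.leaf ⟨763, 7, 1234, 20, [7038, 10775, 10785]⟩)) (.node (.leaf ⟨746, 9, 649, 21, [6681, 6650, 6646, 5401]⟩) (.leaf ⟨1588, 1, 1220, 22, [14881, 10935, 7043, 10414]⟩)))) (.node (.node (.node (.leaf ⟨41, 9, 194, 0, []⟩) (.leaf ⟨1158, 0, 875, 3, [9761, 5156, 4950, 6166, 7622]⟩)) (.node (.leaf ⟨675, 4, 474, 85, [5665, 5663, 3408, 3968]⟩) (.leaf ⟨887, 11, 1494, 13, [10063, 10056, 13855]⟩))) (.node (.node (.leaf ⟨394, 11, 452, 13, [3613, 3591, 3587]⟩) (.leaf ⟨1295, 6, 909, 2, [11809, 11800, 7754]⟩)) (.node (.leaf ⟨895, 4, 896,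 0, []⟩) (.leaf ⟨0, 12, 0, 0, []⟩)))))) (.node (.node (.node (.node (.node (.leaf ⟨8, 2, 33, 0, []⟩) (.leaf ⟨1011, 4, 273, 8, [8475, 8467, 5174, 3244, 8465, 8457]⟩)) (.node (.leaf ⟨363, 7, 340, 69, [4385, 3517, 3858, 3856, 2950]⟩) (.leaf ⟨1375, 4, 1376, 0, []⟩))) (.node (.node (.leaf ⟨335, 8, 76, 41, [2337, 2331, 504, 198, 855, 2075, 618]⟩) (.leaf ⟨1228, 7, 1023, 4, [10525, 6519, 6516, 8604]⟩)) (.node (.leaf ⟨705, 8, 158, 17, [5955, 5953, 6433, 6426]⟩) (.leaf ⟨1566, 9, 1537, 21, [14621, 12844, 12820, 14237]⟩)))) (.node (.node (.node (.leaf ⟨164, 4, 165, 0, []⟩) (.leaf ⟨1132, 6, 844, 2, [9505, 2821, 7458]⟩)) (.node (.leaf ⟨524, 12, 647, 53, [4513, 4490, 5407, 5399, 5393]⟩) (.leaf ⟨1456, 4, 1457, 0, []⟩))) (.node (.node (.leaf ⟨393, 4, 198, 80, [2762, 2899, 2366, 3361, 3066]⟩) (.leaf ⟨1276, 4, 454, 36, [11545, 11542, 7374, 3623]⟩)) (.node (.leaf ⟨251, 4, 844, 0, []⟩) (.leaf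 ⟨0, 12, 0, 0, []⟩))))) (.node (.node (.node (.node (.leaf ⟨96, 0, 48, 3, [799, 790, 685, 686, 466]⟩) (.leaf ⟨687, 5, 1066, 73, [8990, 8955]⟩)) (.node (.leaf ⟨521, 9, 583, 21, [4504, 4506, 4897, 4895]⟩) (.leaf ⟨1420, 2, 1374, 5, [13087, 13077, 13072, 12568]⟩))) (.node (.node (.leaf ⟨242, 2, 406, 0, []⟩) (.leaf ⟨1023, 1, 1079, 43, [8606, 11019, 10781, 11041, 9232]⟩)) (.node (.leaf ⟨634, 2, 555, 16, [6941, 6244]⟩) (.leaf ⟨1574, 2, 1608, 50, [14710, 8313, 14919, 14920, 15135]⟩)))) (.node (.node (.node (.leaf ⟨48, 8, 267, 0, []⟩) (.leaf ⟨1078, 7, 1163, 20, [10013, 10008, 9807]⟩)) (.node (.leaf ⟨450, 4, 700, 67, [4228, 3284, 3281, 4445, 5921]⟩) (.leaf ⟨787, 10, 1526, 0, []⟩))) (.node (.node (.leaf ⟨471, 2, 358, 6, [3873, 2468]⟩) (.leaf ⟨493, 4, 1312, 0, []⟩)) (.node (.leaf ⟨940, 3, 844, 7, [7967, 3554, 3393, 7458]⟩) (.leaf ⟨0, 12, 0, 0, []⟩))))))) (.node (.node (.node (.node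 (.node (.node (.leaf ⟨15, 0, 15, 23, [160, 153, 161]⟩) (.leaf ⟨997, 4, 998, 0, []⟩)) (.node (.leaf ⟨337, 7, 273, 25, [4246, 3273]⟩) (.leaf ⟨1361, 8, 1300, 17, [12447, 7930, 7889, 11886]⟩))) (.node (.node (.leaf ⟨329, 0, 246, 10, [2207, 975, 1733]⟩) (.leaf ⟨1216, 7, 760, 4, [10399, 2766, 2140, 7024]⟩)) (.node (.leaf ⟨665, 8, 568, 17, [5595, 6296, 6303, 4796]⟩) (.leaf ⟨805, 9, 1558, 0, []⟩)))) (.node (.node (.node (.leaf ⟨149, 0, 119, 3, [1181, 267, 343, 389, 1012]⟩) (.leaf ⟨815, 1, 795, 48, [9372, 9377, 7197]⟩)) (.node (.leaf ⟨636, 1, 141, 38, [5281, 1533, 1524]⟩) (.leaf ⟨1448, 4, 1449, 0, []⟩))) (.node (.node (.leaf ⟨245, 7, 250, 74, [2873, 2864, 2073, 3233, 2624]⟩) (.leaf ⟨453, 4, 1269, 0, []⟩)) (.node (.leaf ⟨824, 4, 294, 8, [7329, 7327, 7325, 7323, 3414, 2955]⟩) (.leaf ⟨0, 12, 0, 0, []⟩))))) (.node (.node (.node (.node (.leaf ⟨82, 6, 52, 2, [673, 671, 484]⟩) (.leaf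 ⟨1053, 4, 1054, 0, []⟩)) (.node (.leaf ⟨525, 5, 527, 55, [4515, 1003, 4743, 1020, 4590, 1005, 4518]⟩) (.leaf ⟨1409, 4, 1410, 0, []⟩))) (.node (.node (.leaf ⟨65, 9, 265, 21, [2664, 2670, 2721, 1809]⟩) (.leaf ⟨1044, 1, 1018, 14, [8861, 10913, 9003, 10895, 8561]⟩)) (.node (.leaf ⟨664, 11, 555, 13, [6809, 6817, 4662]⟩) (.leaf ⟨1514, 3, 1597, 99, [14723, 14729, 14025, 15005]⟩)))) (.node (.node (.node (.leaf ⟨234, 1, 235, 0, []⟩) (.leaf ⟨368, 4, 1171, 0, []⟩)) (.node (.leaf ⟨688, 7, 556, 20, [5793, 5791, 4664]⟩) (.leaf ⟨1461, 4, 1510, 64, [13725, 13910, 13912, 13983]⟩))) (.node (.node (.leaf ⟨366, 2, 462, 0, []⟩) (.leaf ⟨1304, 0, 1099, 3, [11935, 11926, 8807, 9185, 9186]⟩)) (.node (.leaf ⟨923, 4, 243, 8, [7841, 7837, 4020, 5950, 7835, 7831]⟩) (.leaf ⟨0, 12, 0, 0, []⟩)))))) (.node (.node (.node (.node (.node (.leaf ⟨24, 6, 40, 18, [242, 380, 341, 408, 415]⟩) (.leaf ⟨1023, 4,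 1024, 0, []⟩)) (.node (.leaf ⟨115, 9, 525, 0, []⟩) (.leaf ⟨1344, 6, 1378, 89, [12331, 12700, 12705]⟩))) (.node (.node (.leaf ⟨216, 1, 360, 15, [2464, 2440]⟩) (.leaf ⟨1242, 6, 1033, 2, [10657, 10654, 8676]⟩)) (.node (.leaf ⟨712, 10, 587, 88, [6061, 4592, 1093, 406, 1108, 5926, 6551]⟩) (.leaf ⟨1577, 2, 1578, 0, []⟩)))) (.node (.node (.node (.leaf ⟨176, 3, 131, 7, [1437, 1430, 1088, 1060]⟩) (.leaf ⟨570, 12, 1148, 91, [5622, 6199, 4272, 9631, 9627]⟩)) (.node (.leaf ⟨601, 1, 657, 15, [5536, 5532]⟩) (.leaf ⟨1474, 1, 1184, 43, [13729, 13721, 8619, 10933, 10154]⟩))) (.node (.node (.leaf ⟨228, 2, 386, 16, [3485, 2686]⟩) (.leaf ⟨900, 9, 805, 21, [11106, 11677, 11672, 11609]⟩)) (.node (.leaf ⟨685, 12, 866, 91, [6732, 5770, 1815, 7585, 7581]⟩) (.leaf ⟨0, 12, 0, 0, []⟩))))) (.node (.node (.node (.node (.leaf ⟨107, 7, 65, 4, [923, 305, 312, 540]⟩) (.leaf ⟨1090, 4, 1091, 0, []⟩)) (.node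 (.leaf ⟨607, 0, 533, 11, [5021, 5002, 4534]⟩) (.leaf ⟨1429, 4, 1430, 0, []⟩))) (.node (.node (.leaf ⟨417, 2, 418, 0, []⟩) (.leaf ⟨931, 1, 1109, 102, [9447, 10864, 10110, 11169, 9265]⟩)) (.node (.leaf ⟨771, 4, 772, 0, []⟩) (.leaf ⟨1618, 2, 1534, 6, [15263, 14204]⟩)))) (.node (.node (.node (.leaf ⟨292, 2, 293, 0, []⟩) (.leaf ⟨1193, 0, 1183, 3, [10143, 6778, 6321, 6337, 10038]⟩)) (.node (.leaf ⟨711, 7, 646, 69, [6037, 5373, 5986, 5984, 5363]⟩) (.leaf ⟨1354, 11, 1537, 13, [12827, 12820, 14237]⟩))) (.node (.node (.leaf ⟨477, 2, 410, 50, [3999, 3986, 3885, 3879, 2902]⟩) (.leaf ⟨1330, 3, 1326, 7, [12193, 12174, 12187, 12184]⟩)) (.node (.leaf ⟨683, 4, 902, 68, [8096, 7734]⟩) (.leaf ⟨0, 12, 0, 0, []⟩))))))))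

def factB18 : Arr (CFact) :=
  (.node (.node (.node (.node (.node (.node (.node (.leaf ⟨3, 0, 3, 3, [33, 27, 25, 31, 32]⟩) (.leaf ⟨977, 4, 978, 0, []⟩)) (.node (.leaf ⟨486, 0, 262, 10, [4129, 2564, 1796]⟩) (.leaf ⟨1343, 4, 1344, 0, []⟩))) (.node (.node (.leaf ⟨303, 0, 224, 11, [2083, 2080, 1666]⟩) (.leaf ⟨386, 4, 1201, 0, []⟩)) (.node (.leaf ⟨558, 4, 394, 93, [5810, 6179, 2723, 541, 326, 556, 3381]⟩) (.leaf ⟨1524, 4, 1548, 91, [14106, 14327, 14324, 14371]⟩)))) (.node (.node (.node (.leaf ⟨26, 4, 131, 0, []⟩) (.leaf ⟨1107, 2, 774, 5, [9247, 6201, 6949, 7122]⟩)) (.node (.leaf ⟨615, 0, 595, 10, [5138, 5155, 4948]⟩) (.leaf ⟨1439, 3, 1363, 7, [13343, 13334, 12454, 12468]⟩))) (.node (.node (.leaf ⟨431, 0, 213, 11, [3103, 3092, 1618]⟩) (.leaf ⟨1260, 4, 1261, 0, []⟩)) (.node (.leaf ⟨800, 4, 801, 0, []⟩) (.leaf ⟨1628, 2, 1536, 50, [15395, 15393, 14270, 11799, 14224]⟩))))) (.node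 (.node (.node (.node (.leaf ⟨67, 4, 68, 0, []⟩) (.leaf ⟨351, 4, 1039, 0, []⟩)) (.node (.leaf ⟨117, 10, 547, 0, []⟩) (.leaf ⟨585, 4, 1397, 0, []⟩))) (.node (.node (.leaf ⟨375, 0, 244, 11, [2595, 2592, 1726]⟩) (.leaf ⟨1254, 4, 1255, 0, []⟩)) (.node (.leaf ⟨494, 5, 746, 65, [5067, 6088, 6689]⟩) (.leaf ⟨1574, 6, 1588, 105, [14718, 14736, 14883]⟩)))) (.node (.node (.node (.leaf ⟨41, 10, 195, 0, []⟩) (.leaf ⟨1158, 3, 1092, 7, [9761, 5137, 5506, 9132]⟩)) (.node (.leaf ⟨675, 0, 502, 11, [5665, 5660, 5075]⟩) (.leaf ⟨1494, 4, 1471, 77, [13859, 7672, 3479, 639, 2178, 9390, 13708]⟩))) (.node (.node (.leaf ⟨418, 2, 454, 0, []⟩) (.leaf ⟨1295, 8, 779, 62, [11809, 11807, 7060, 11100, 10129, 11141, 7094]⟩)) (.node (.leaf ⟨896, 4, 897, 0, []⟩) (.leaf ⟨0, 12, 0, 0, []⟩)))))) (.node (.node (.node (.node (.node (.leaf ⟨33, 7, 21, 20, [291, 189, 186]⟩) (.leaf ⟨508, 4, 1012, 0, []⟩)) (.node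 (.leaf ⟨218, 10, 363, 9, [2942, 2950, 4387]⟩) (.leaf ⟨1376, 4, 1377, 0, []⟩))) (.node (.node (.leaf ⟨240, 5, 239, 55, [2251, 2337, 2331, 504, 325, 537, 1717]⟩) (.leaf ⟨1228, 4, 1229, 0, []⟩)) (.node (.leaf ⟨733, 7, 732, 20, [6429, 5924, 6412]⟩) (.leaf ⟨1530, 4, 1566, 42, [14161, 12543, 6649, 13643, 13996, 14240, 14627]⟩)))) (.node (.node (.node (.leaf ⟨165, 6, 147, 2, [1315, 1308, 1162]⟩) (.leaf ⟨1132, 0, 821, 3, [9505, 2821, 1752, 3417, 7322]⟩)) (.node (.leaf ⟨524, 1, 648, 15, [5410, 5392]⟩) (.leaf ⟨1457, 0, 1432, 3, [13603, 13594, 12947, 13245, 13248]⟩))) (.node (.node (.leaf ⟨204, 5, 418, 81, [2202, 3355, 2151, 2899, 2983]⟩) (.leaf ⟨1045, 11, 1276, 37, [8810, 11534, 9787, 3742, 870, 3919, 11555]⟩)) (.node (.leaf ⟨844, 3, 843, 7, [7459, 4411, 7452, 7454]⟩) (.leaf ⟨0, 12, 0, 0, []⟩))))) (.node (.node (.node (.node (.leaf ⟨96, 3, 62, 7, [799, 792, 518, 522]⟩) (.leaf ⟨909,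 7, 1069, 34, [7755, 8204, 8987, 8958]⟩)) (.node (.leaf ⟨584, 2, 585, 0, []⟩) (.leaf ⟨1347, 1, 1420, 14, [12949, 12953, 8430, 12574, 13091]⟩))) (.node (.node (.leaf ⟨406, 1, 378, 43, [2851, 1724, 1726, 1728, 2651]⟩) (.leaf ⟨1216, 1, 954, 22, [10777, 11041, 9234, 9106]⟩)) (.node (.leaf ⟨634, 3, 556, 24, [6941, 6247]⟩) (.leaf ⟨1608, 4, 1502, 85, [15139, 14714, 14468, 13906]⟩)))) (.node (.node (.node (.leaf ⟨48, 9, 268, 0, []⟩) (.leaf ⟨370, 4, 1181, 0, []⟩)) (.node (.leaf ⟨675, 6, 700, 66, [5666, 4417, 4446, 5921]⟩) (.leaf ⟨1526, 7, 1519, 19, [14115, 14102, 14104]⟩))) (.node (.node (.leaf ⟨471, 4, 460, 85, [3873, 2984, 3365, 3716]⟩) (.leaf ⟨1312, 4, 1313, 0, []⟩)) (.node (.leaf ⟨940, 2, 843, 5, [7967, 7965, 7962, 7454]⟩) (.leaf ⟨0, 12, 0, 0, []⟩))))))) (.node (.node (.node (.node (.node (.node (.leaf ⟨15, 1, 20, 15, [160, 154]⟩) (.leaf ⟨998, 2, 991, 5, [8355, 8353, 3450, 8332]⟩))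 (.node (.leaf ⟨337, 8, 275, 46, [4246, 3266]⟩) (.leaf ⟨1361, 9, 1114, 21, [12447, 8489, 8486, 11181]⟩))) (.node (.node (.leaf ⟨329, 2, 330, 0, []⟩) (.leaf ⟨1216, 4, 1217, 0, []⟩)) (.node (.leaf ⟨631, 8, 166, 17, [5236, 5272, 6305, 6290]⟩) (.leaf ⟨1558, 1, 906, 22, [14499, 11608, 11606, 8952]⟩)))) (.node (.node (.node (.leaf ⟨149, 3, 144, 7, [1181, 275, 1108, 1120]⟩) (.leaf ⟨495, 4, 1122, 0, []⟩)) (.node (.leaf ⟨554, 2, 636, 50, [4662, 4664, 4666, 1524, 5283]⟩) (.leaf ⟨1449, 6, 1314, 2, [13475, 13466, 12070]⟩))) (.node (.node (.leaf ⟨249, 2, 377, 71, [2865, 2868, 3233]⟩) (.leaf ⟨1269, 9, 1264, 84, [11427, 3847, 10772, 10776, 10399, 3618, 11356]⟩)) (.node (.leaf ⟨733, 12, 823, 91, [6432, 5663, 1959, 7331, 7329]⟩) (.leaf ⟨0, 12, 0, 0, []⟩))))) (.node (.node (.node (.node (.leaf ⟨82, 3, 75, 7, [673, 664, 602, 610]⟩) (.leaf ⟨1054, 6, 979, 2, [8867, 8865, 8234]⟩)) (.node (.leaf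 ⟨507, 10, 182, 9, [4729, 1513, 1521]⟩) (.leaf ⟨1410, 3, 1345, 7, [12963, 12956, 12380, 12334]⟩))) (.node (.node (.leaf ⟨381, 8, 222, 17, [2673, 2721, 1815, 1644]⟩) (.leaf ⟨850, 11, 1044, 13, [7504, 8555, 10915]⟩)) (.node (.leaf ⟨749, 2, 632, 71, [6813, 5258, 5251]⟩) (.leaf ⟨1597, 6, 1545, 33, [15011, 14188, 14343]⟩)))) (.node (.node (.node (.leaf ⟨235, 2, 236, 0, []⟩) (.leaf ⟨1171, 6, 883, 2, [9891, 2548, 7650]⟩)) (.node (.leaf ⟨563, 10, 688, 9, [4786, 4788, 5795]⟩) (.leaf ⟨1510, 6, 1469, 2, [13987, 13933, 13935]⟩))) (.node (.node (.leaf ⟨462, 7, 309, 20, [3747, 2539, 2098]⟩) (.leaf ⟨1304, 3, 1296, 7, [11935, 11928, 11808, 11824]⟩)) (.node (.leaf ⟨819, 0, 923, 31, [7315, 1862, 7843]⟩) (.leaf ⟨0, 12, 0, 0, []⟩)))))) (.node (.node (.node (.node (.node (.leaf ⟨31, 12, 40, 22, [285, 232, 238, 418, 415]⟩) (.leaf ⟨1024, 3, 762, 7, [8611, 8606, 7028, 7032]⟩)) (.node (.leaf ⟨115,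 10, 526, 0, []⟩) (.leaf ⟨1364, 6, 1377, 86, [12679, 12688, 12705, 12583]⟩))) (.node (.node (.leaf ⟨216, 3, 358, 24, [2464, 2437]⟩) (.leaf ⟨1242, 0, 1229, 3, [10657, 10654, 8700, 10531, 10532]⟩)) (.node (.leaf ⟨674, 9, 158, 21, [5659, 6536, 6545, 6426]⟩) (.leaf ⟨1578, 6, 1475, 70, [14755, 14745, 10497, 13734]⟩)))) (.node (.node (.node (.leaf ⟨176, 2, 126, 5, [1437, 1425, 1420, 1048]⟩) (.leaf ⟨570, 3, 1140, 24, [9634, 9624]⟩)) (.node (.leaf ⟨601, 3, 655, 24, [5536, 5529]⟩) (.leaf ⟨1474, 7, 1462, 20, [13729, 13724, 13654]⟩))) (.node (.node (.leaf ⟨228, 3, 267, 24, [3485, 3465]⟩) (.leaf ⟨1285, 4, 1286, 0, []⟩)) (.node (.leaf ⟨685, 3, 858, 24, [7586, 7578]⟩) (.leaf ⟨0, 12, 0, 0, []⟩))))) (.node (.node (.node (.node (.leaf ⟨44, 3, 107, 30, [469, 929]⟩) (.leaf ⟨1091, 0, 1086, 35, [9123, 9120, 8384, 9097, 9088]⟩)) (.node (.leaf ⟨606, 6, 607, 18, [5009, 1311, 4999, 5020, 5025]⟩)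 (.leaf ⟨1430, 6, 1360, 2, [13219, 13212, 12438]⟩))) (.node (.node (.leaf ⟨418, 7, 391, 20, [2979, 2972, 2750]⟩) (.leaf ⟨876, 1, 803, 48, [8351, 11169, 7212]⟩)) (.node (.leaf ⟨772, 4, 773, 0, []⟩) (.leaf ⟨1618, 4, 1576, 85, [15263, 14048, 13959, 14879]⟩)))) (.node (.node (.node (.leaf ⟨293, 1, 294, 0, []⟩) (.leaf ⟨1193, 3, 964, 7, [10143, 6771, 6185, 8134]⟩)) (.node (.leaf ⟨145, 8, 712, 0, []⟩) (.leaf ⟨1537, 4, 1487, 42, [14243, 12405, 5900, 1057, 5280, 8318, 13814]⟩))) (.node (.node (.leaf ⟨477, 3, 411, 44, [3999, 3993, 2318, 2479, 2942]⟩) (.leaf ⟨1330, 4, 1331, 0, []⟩)) (.node (.leaf ⟨683, 5, 900, 73, [8096, 7733]⟩) (.leaf ⟨0, 12, 0, 0, []⟩))))))))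

def factB19 : Arr (CFact) :=
  (.node (.node (.node (.node (.node (.node (.node (.leaf ⟨3, 7, 3, 4, [33, 27, 25, 32]⟩) (.leaf ⟨978, 3, 969, 7, [8229, 8222, 8184, 8160]⟩)) (.node (.leaf ⟨486, 3, 480, 79, [4129, 2562, 2097, 3731, 3729, 865, 2115, 4062, 4055]⟩) (.leaf ⟨1344, 9, 1118, 84, [12325, 12322, 7616, 10191, 8149, 11668, 9334]⟩))) (.node (.node (.leaf ⟨303, 1, 304, 0, []⟩) (.leaf ⟨1201, 0, 1050, 3, [10277, 3733, 4041, 4143, 8838]⟩)) (.node (.leaf ⟨554, 4, 386, 98, [5601, 5610, 6179, 2728]⟩) (.leaf ⟨800, 10, 1549, 0, []⟩)))) (.node (.node (.node (.leaf ⟨131, 6, 131, 2, [1061, 249, 1060]⟩) (.leaf ⟨1107, 4, 1108, 0, []⟩)) (.node (.leaf ⟨127, 9, 620, 0, []⟩) (.leaf ⟨1439, 2, 1360, 5, [13343, 13331, 13322, 12438]⟩))) (.node (.node (.leaf ⟨218, 6, 431, 33, [2478, 2957, 3107]⟩) (.leaf ⟨1261, 0, 864, 3, [11301, 11288, 10079, 10086, 7568]⟩)) (.node (.leaf ⟨801, 4, 802, 0,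 []⟩) (.leaf ⟨1628, 3, 1537, 44, [15395, 15385, 13806, 12534, 14237]⟩))))) (.node (.node (.node (.node (.leaf ⟨68, 4, 69, 0, []⟩) (.leaf ⟨1039, 6, 804, 2, [8741, 3935, 7222]⟩)) (.node (.leaf ⟨117, 11, 548, 0, []⟩) (.leaf ⟨1397, 6, 1350, 2, [12837, 5381, 12386]⟩))) (.node (.node (.leaf ⟨375, 1, 376, 0, []⟩) (.leaf ⟨1255, 6, 799, 2, [10789, 10778, 7200]⟩)) (.node (.leaf ⟨746, 7, 520, 69, [6693, 6404, 6548, 5384, 4912]⟩) (.leaf ⟨1577, 3, 1588, 44, [14745, 9675, 10481, 10474, 14883]⟩)))) (.node (.node (.node (.leaf ⟨41, 11, 196, 0, []⟩) (.leaf ⟨1158, 7, 859, 4, [9761, 5156, 4950, 7596]⟩)) (.node (.leaf ⟨271, 4, 675, 67, [1844, 3193, 3280, 4451, 5669]⟩) (.leaf ⟨1217, 1, 1495, 0, []⟩))) (.node (.node (.leaf ⟨454, 2, 417, 6, [3621, 2979]⟩) (.leaf ⟨1295, 0, 1174, 3, [11809, 11800, 8204, 9919, 9920]⟩)) (.node (.leaf ⟨897, 4, 898, 0, []⟩) (.leaf ⟨0, 12, 0, 0, []⟩)))))) (.node (.node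 (.node (.node (.node (.leaf ⟨33, 2, 7, 6, [291, 83]⟩) (.leaf ⟨1012, 6, 1010, 2, [8485, 5177, 8466]⟩)) (.node (.leaf ⟨252, 2, 492, 0, []⟩) (.leaf ⟨1377, 4, 1378, 0, []⟩))) (.node (.node (.leaf ⟨196, 2, 346, 0, []⟩) (.leaf ⟨1229, 6, 775, 2, [10533, 10528, 7080]⟩)) (.node (.leaf ⟨153, 11, 734, 0, []⟩) (.leaf ⟨1201, 1, 1567, 0, []⟩)))) (.node (.node (.node (.leaf ⟨165, 0, 117, 3, [1315, 1308, 1156, 1151, 1006]⟩) (.leaf ⟨1132, 3, 925, 7, [9505, 2817, 7846, 7856]⟩)) (.node (.leaf ⟨524, 3, 646, 24, [5410, 5389]⟩) (.leaf ⟨1457, 3, 1450, 7, [13603, 13596, 13474, 13490]⟩))) (.node (.node (.leaf ⟨352, 5, 293, 82, [2410, 3355, 2509, 1954]⟩) (.leaf ⟨1276, 1, 889, 38, [11557, 9185, 9180]⟩)) (.node (.leaf ⟨844, 4, 845, 0, []⟩) (.leaf ⟨0, 12, 0, 0, []⟩))))) (.node (.node (.node (.node (.leaf ⟨96, 2, 53, 5, [799, 787, 136, 490]⟩) (.leaf ⟨1068, 7, 988, 4, [8993, 6323, 6320, 8318]⟩)) (.node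 (.leaf ⟨585, 1, 586, 0, []⟩) (.leaf ⟨1320, 0, 1420, 32, [12735, 12740, 13091]⟩))) (.node (.node (.leaf ⟨406, 2, 241, 6, [2851, 1723]⟩) (.leaf ⟨954, 10, 1231, 9, [11045, 10400, 10553]⟩)) (.node (.leaf ⟨634, 6, 726, 26, [6941, 6357]⟩) (.leaf ⟨849, 9, 1609, 0, []⟩)))) (.node (.node (.node (.leaf ⟨48, 10, 269, 0, []⟩) (.leaf ⟨1181, 6, 905, 2, [10021, 2571, 7746]⟩)) (.node (.leaf ⟨143, 9, 676, 21, [5904, 5914, 5925, 5674]⟩) (.leaf ⟨1348, 1, 1527, 0, []⟩))) (.node (.node (.leaf ⟨299, 6, 471, 86, [2896, 3371, 3715, 3877]⟩) (.leaf ⟨1313, 4, 1314, 0, []⟩)) (.node (.leaf ⟨940, 4, 504, 36, [7967, 3552, 4445, 5096]⟩) (.leaf ⟨0, 12, 0, 0, []⟩))))))) (.node (.node (.node (.node (.node (.node (.leaf ⟨15, 3, 18, 24, [160, 149]⟩) (.leaf ⟨998, 4, 999, 0, []⟩)) (.node (.leaf ⟨195, 1, 488, 0, []⟩) (.leaf ⟨1361, 4, 1362, 0, []⟩))) (.node (.node (.leaf ⟨330, 1, 331, 0, []⟩) (.leaf ⟨1217, 4,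 1218, 0, []⟩)) (.node (.leaf ⟨556, 9, 724, 21, [4666, 1530, 1327, 6291]⟩) (.leaf ⟨1521, 6, 1558, 105, [14487, 14222, 14501]⟩)))) (.node (.node (.node (.leaf ⟨140, 3, 149, 30, [1127, 1189]⟩) (.leaf ⟨1122, 0, 946, 3, [9381, 6543, 6545, 6436, 8018]⟩)) (.node (.leaf ⟨636, 2, 553, 6, [5285, 4661]⟩) (.leaf ⟨1449, 8, 1035, 41, [13475, 13472, 8616, 11204, 9327, 2825, 8704]⟩))) (.node (.node (.leaf ⟨377, 7, 329, 20, [3237, 2644, 2616]⟩) (.leaf ⟨1269, 0, 1112, 3, [11427, 4269, 4266, 4285, 9284]⟩)) (.node (.leaf ⟨733, 4, 824, 68, [7332, 7328]⟩) (.leaf ⟨0, 12, 0, 0, []⟩))))) (.node (.node (.node (.node (.leaf ⟨82, 2, 67, 5, [673, 663, 658, 546]⟩) (.leaf ⟨1054, 3, 1046, 7, [8867, 8860, 8804, 8810]⟩)) (.node (.leaf ⟨508, 11, 119, 13, [4690, 4711, 4715]⟩) (.leaf ⟨1410, 2, 1341, 5, [12963, 12955, 12950, 12296]⟩))) (.node (.node (.leaf ⟨385, 6, 264, 18, [2685, 2705, 1796, 1800, 1804]⟩)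 (.leaf ⟨831, 1, 969, 48, [8557, 10915, 8800]⟩)) (.node (.leaf ⟨749, 3, 633, 39, [6813, 4783, 5246]⟩) (.leaf ⟨1597, 3, 1515, 30, [15011, 14040]⟩)))) (.node (.node (.node (.leaf ⟨236, 1, 109, 12, [1701, 1699, 1697, 1693, 853, 1689, 1687, 1683, 955]⟩) (.leaf ⟨1171, 3, 1051, 7, [9891, 2543, 8838, 8846]⟩)) (.node (.leaf ⟨688, 1, 689, 0, []⟩) (.leaf ⟨1038, 11, 1510, 13, [8738, 7439, 13981]⟩))) (.node (.node (.leaf ⟨462, 2, 365, 6, [3747, 2521]⟩) (.leaf ⟨1304, 2, 1291, 5, [11935, 11923, 11921, 11750]⟩)) (.node (.leaf ⟨356, 4, 924, 0, []⟩) (.leaf ⟨0, 12, 0, 0, []⟩)))))) (.node (.node (.node (.node (.node (.leaf ⟨31, 0, 31, 23, [420, 417, 421]⟩) (.leaf ⟨1024, 2, 759, 5, [8611, 8605, 5265, 7020]⟩)) (.node (.leaf ⟨115, 11, 527, 0, []⟩) (.leaf ⟨1343, 0, 1377, 95, [12677, 12688, 12705, 12583]⟩))) (.node (.node (.leaf ⟨216, 7, 341, 25, [2464, 2438]⟩) (.leaf ⟨1242, 7, 1024, 4, [10657,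 10654, 8700, 8610]⟩)) (.node (.leaf ⟨680, 2, 740, 0, []⟩) (.leaf ⟨1578, 0, 1500, 11, [14755, 14748, 13902]⟩)))) (.node (.node (.node (.leaf ⟨176, 7, 176, 4, [1437, 1428, 1427, 1436]⟩) (.leaf ⟨1140, 12, 627, 16, [9637, 5624]⟩)) (.node (.leaf ⟨601, 7, 537, 25, [5536, 5530]⟩) (.leaf ⟨1101, 1, 1475, 0, []⟩))) (.node (.node (.leaf ⟨228, 6, 264, 26, [3485, 2726]⟩) (.leaf ⟨1286, 6, 882, 2, [11685, 11674, 7646]⟩)) (.node (.leaf ⟨858, 12, 544, 16, [7589, 6729]⟩) (.leaf ⟨0, 12, 0, 0, []⟩))))) (.node (.node (.node (.node (.leaf ⟨107, 4, 108, 0, []⟩) (.leaf ⟨1091, 4, 654, 8, [9123, 9119, 9115, 9105, 9099, 5497]⟩)) (.node (.leaf ⟨156, 9, 607, 21, [5008, 5012, 5028, 5025]⟩) (.leaf ⟨1430, 0, 1322, 3, [13219, 13212, 12979, 12984, 12134]⟩))) (.node (.node (.leaf ⟨418, 0, 193, 11, [2979, 2974, 2365]⟩) (.leaf ⟨803, 10, 903, 9, [11173, 9771, 9774]⟩)) (.node (.leaf ⟨773, 4, 774, 0, []⟩) (.leaf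 ⟨1618, 5, 1490, 82, [15263, 15183, 15179, 14426]⟩)))) (.node (.node (.node (.leaf ⟨294, 2, 295, 0, []⟩) (.leaf ⟨1193, 2, 959, 5, [10143, 10139, 10136, 8112]⟩)) (.node (.leaf ⟨712, 5, 646, 52, [6053, 1141, 4763, 1192, 4612, 1155, 5361]⟩) (.leaf ⟨1201, 10, 1537, 97, [10284, 11850, 8605, 6829, 8318, 13814, 14245]⟩))) (.node (.node (.leaf ⟨477, 0, 360, 10, [3999, 3988, 2466]⟩) (.leaf ⟨1331, 3, 1328, 7, [12197, 12194, 12164, 12166]⟩)) (.node (.leaf ⟨904, 3, 957, 99, [7740, 1794, 5564, 8095]⟩) (.leaf ⟨0, 12, 0, 0, []⟩))))))))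

def factB20 : Arr (CFact) :=
  (.node (.node (.node (.node (.node (.node (.node (.leaf ⟨3, 4, 4, 0, []⟩) (.leaf ⟨978, 2, 906, 5, [8229, 8221, 8218, 7748]⟩)) (.node (.leaf ⟨486, 2, 479, 29, [4129, 2561, 2100, 804, 2512, 3771, 3768, 4035, 4038]⟩) (.leaf ⟨1344, 4, 516, 8, [12325, 12317, 12314, 12307, 12297, 12287]⟩))) (.node (.node (.leaf ⟨304, 0, 223, 10, [2087, 2084, 1649]⟩) (.leaf ⟨1201, 3, 894, 7, [10277, 3491, 7708, 7710]⟩)) (.node (.leaf ⟨263, 5, 666, 65, [2692, 6183, 5601]⟩) (.leaf ⟨1549, 7, 1506, 19, [14375, 14350, 14358]⟩)))) (.node (.node (.node (.leaf ⟨131, 3, 126, 7, [1061, 247, 1044, 1048]⟩) (.leaf ⟨1108, 3, 780, 7, [9255, 9250, 7094, 7098]⟩)) (.node (.leaf ⟨127, 10, 621, 0, []⟩) (.leaf ⟨1439, 7, 1348, 4, [13343, 13332, 12361, 12368]⟩))) (.node (.node (.leaf ⟨208, 11, 411, 13, [3105, 3111, 2942]⟩) (.leaf ⟨1261, 3, 877, 7, [11301, 11290, 7626, 7630]⟩)) (.node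 (.leaf ⟨802, 4, 803, 0, []⟩) (.leaf ⟨1628, 0, 1594, 10, [15395, 15387, 14965]⟩))))) (.node (.node (.node (.node (.leaf ⟨69, 4, 70, 0, []⟩) (.leaf ⟨1039, 0, 828, 3, [8741, 3935, 3937, 3724, 7358]⟩)) (.node (.leaf ⟨548, 1, 147, 38, [4647, 1323, 1316]⟩) (.leaf ⟨1397, 0, 1372, 3, [12837, 5381, 4889, 6633, 12550]⟩))) (.node (.node (.leaf ⟨376, 0, 245, 10, [2599, 2596, 1728]⟩) (.leaf ⟨1255, 0, 778, 35, [10789, 10782, 10681, 10682, 7090]⟩)) (.node (.leaf ⟨520, 12, 744, 13, [6695, 6682, 6440, 6658]⟩) (.leaf ⟨1578, 2, 1588, 50, [14762, 14768, 13721, 10414, 14883]⟩)))) (.node (.node (.node (.leaf ⟨196, 1, 59, 38, [1575, 513, 509]⟩) (.leaf ⟨1158, 4, 1159, 0, []⟩)) (.node (.leaf ⟨675, 8, 161, 41, [5671, 2657, 5113, 4737, 1237, 437, 1274]⟩) (.leaf ⟨1495, 10, 1113, 9, [13863, 12007, 12014]⟩))) (.node (.node (.leaf ⟨454, 1, 454, 12, [3621, 2988, 3589, 3587, 3579, 2770, 656, 2968, 3623]⟩)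 (.leaf ⟨1295, 3, 1289, 7, [11809, 11802, 11724, 11732]⟩)) (.node (.leaf ⟨898, 4, 228, 8, [7719, 7717, 7715, 7713, 7711, 7709]⟩) (.leaf ⟨0, 12, 0, 0, []⟩)))))) (.node (.node (.node (.node (.node (.leaf ⟨33, 1, 33, 12, [291, 86, 137, 209, 212, 174, 51, 76, 295]⟩) (.leaf ⟨1012, 3, 936, 7, [8485, 4471, 7922, 7928]⟩)) (.node (.leaf ⟨492, 7, 474, 20, [4391, 3407, 3968]⟩) (.leaf ⟨1378, 4, 526, 8, [12583, 12581, 12579, 12577, 12569, 12559]⟩))) (.node (.node (.leaf ⟨346, 7, 283, 20, [2343, 2124, 1917]⟩) (.leaf ⟨1229, 7, 1142, 4, [10533, 10528, 9653, 9588]⟩)) (.node (.leaf ⟨734, 1, 159, 38, [6439, 1223, 1265]⟩) (.leaf ⟨1567, 10, 964, 9, [14631, 11563, 11570]⟩)))) (.node (.node (.node (.leaf ⟨165, 2, 160, 5, [1315, 1305, 1300, 1266]⟩) (.leaf ⟨1132, 2, 921, 5, [9505, 3524, 2280, 7830]⟩)) (.node (.leaf ⟨524, 7, 638, 25, [5410, 5390]⟩) (.leaf ⟨1457, 2, 1416, 5, [13603, 13593, 5640,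 13040]⟩))) (.node (.node (.leaf ⟨193, 4, 253, 54, [2983, 3365, 1761]⟩) (.leaf ⟨461, 4, 1277, 0, []⟩)) (.node (.leaf ⟨845, 3, 841, 7, [7463, 7460, 7456, 7448]⟩) (.leaf ⟨0, 12, 0, 0, []⟩))))) (.node (.node (.node (.node (.leaf ⟨96, 4, 97, 0, []⟩) (.leaf ⟨1072, 4, 1073, 0, []⟩)) (.node (.leaf ⟨586, 2, 587, 0, []⟩) (.leaf ⟨1420, 10, 1313, 9, [13093, 12360, 12356]⟩))) (.node (.node (.leaf ⟨377, 2, 280, 29, [2628, 2660, 2853, 2851, 1724, 2281, 2272, 653, 1877]⟩) (.leaf ⟨1079, 10, 1223, 9, [11043, 8701, 10459]⟩)) (.node (.leaf ⟨634, 7, 565, 25, [6941, 6258]⟩) (.leaf ⟨1609, 5, 1601, 55, [15143, 7491, 14874, 14872, 14573, 7687, 15053]⟩)))) (.node (.node (.node (.leaf ⟨269, 7, 222, 19, [1831, 1788, 1790]⟩) (.leaf ⟨1181, 0, 985, 3, [10021, 2571, 2675, 3469, 8288]⟩)) (.node (.leaf ⟨700, 9, 161, 84, [5923, 4233, 5114, 4746, 1237, 437, 1274]⟩) (.leaf ⟨1527, 2, 1522, 50, [14119, 12991,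 12998, 7143, 14082]⟩))) (.node (.node (.leaf ⟨358, 7, 432, 20, [3875, 3879, 3119]⟩) (.leaf ⟨1314, 4, 1315, 0, []⟩)) (.node (.leaf ⟨940, 7, 921, 4, [7967, 3558, 1862, 7830]⟩) (.leaf ⟨0, 12, 0, 0, []⟩))))))) (.node (.node (.node (.node (.node (.node (.leaf ⟨15, 7, 14, 25, [160, 150]⟩) (.leaf ⟨999, 4, 1000, 0, []⟩)) (.node (.leaf ⟨488, 2, 347, 50, [4263, 2373, 2145, 2899, 2362]⟩) (.leaf ⟨1362, 9, 1271, 84, [12455, 12448, 8453, 3563, 9351, 11463, 11466]⟩))) (.node (.node (.leaf ⟨331, 6, 250, 18, [2215, 2213, 2207, 535, 1745]⟩) (.leaf ⟨1218, 4, 1219, 0, []⟩)) (.node (.leaf ⟨572, 8, 724, 17, [4814, 1249, 1331, 6291]⟩) (.leaf ⟨1524, 3, 1558, 44, [14103, 7381, 10918, 8162, 14501]⟩)))) (.node (.node (.node (.leaf ⟨149, 4, 150, 0, []⟩) (.leaf ⟨1122, 3, 1117, 7, [9381, 4856, 5090, 9326]⟩)) (.node (.leaf ⟨568, 8, 141, 17, [4797, 4802, 5287, 5282]⟩) (.leaf ⟨1449, 0, 1348, 3, [13475,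 13466, 12873, 12874, 12368]⟩))) (.node (.node (.leaf ⟨280, 2, 249, 6, [2857, 3237]⟩) (.leaf ⟨1269, 3, 1245, 7, [11427, 3595, 10678, 10688]⟩)) (.node (.leaf ⟨733, 5, 822, 73, [7332, 7327]⟩) (.leaf ⟨0, 12, 0, 0, []⟩))))) (.node (.node (.node (.node (.leaf ⟨82, 4, 14, 36, [673, 666, 554, 123]⟩) (.leaf ⟨1054, 4, 718, 8, [8867, 8859, 8853, 8847, 8839, 6192]⟩)) (.node (.leaf ⟨121, 1, 562, 0, []⟩) (.leaf ⟨1218, 1, 1410, 14, [10467, 10503, 9053, 12302, 12967]⟩))) (.node (.node (.leaf ⟨265, 7, 386, 20, [1807, 2727, 2686]⟩) (.leaf ⟨1195, 9, 1044, 21, [10184, 7273, 8555, 10915]⟩)) (.node (.leaf ⟨175, 9, 555, 21, [5241, 6823, 6817, 4662]⟩) (.leaf ⟨1500, 2, 1598, 0, []⟩)))) (.node (.node (.node (.leaf ⟨52, 9, 236, 21, [723, 883, 949, 1703]⟩) (.leaf ⟨1171, 7, 985, 4, [9891, 2548, 3472, 8288]⟩)) (.node (.leaf ⟨689, 6, 550, 18, [5799, 5793, 5788, 5786, 4655]⟩) (.leaf ⟨780, 8, 1511, 0,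 []⟩))) (.node (.node (.leaf ⟨462, 0, 266, 11, [3747, 2524, 1814]⟩) (.leaf ⟨1304, 7, 1046, 4, [11935, 11926, 8807, 8810]⟩)) (.node (.leaf ⟨924, 6, 842, 2, [7847, 4407, 7452]⟩) (.leaf ⟨0, 12, 0, 0, []⟩)))))) (.node (.node (.node (.node (.node (.leaf ⟨31, 1, 31, 15, [420, 415, 421]⟩) (.leaf ⟨1024, 4, 1025, 0, []⟩)) (.node (.leaf ⟨527, 1, 163, 38, [4519, 1138, 1297]⟩) (.leaf ⟨1377, 1, 1176, 48, [12711, 12321, 9947]⟩))) (.node (.node (.leaf ⟨216, 8, 217, 46, [2464, 2445]⟩) (.leaf ⟨1242, 4, 1243, 0, []⟩)) (.node (.leaf ⟨740, 7, 677, 20, [6567, 6403, 5678]⟩) (.leaf ⟨1552, 5, 1578, 65, [14597, 14598, 14759]⟩)))) (.node (.node (.node (.leaf ⟨176, 4, 177, 0, []⟩) (.leaf ⟨570, 4, 1149, 68, [9634, 9626]⟩)) (.node (.leaf ⟨657, 2, 613, 29, [5539, 5540, 5515, 5491, 4954, 5476, 5441, 1082, 5126]⟩) (.leaf ⟨1475, 10, 898, 9, [13735, 9202, 8827]⟩))) (.node (.node (.leaf ⟨228, 7, 227, 25,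 [3485, 3476]⟩) (.leaf ⟨1286, 3, 1099, 7, [11685, 11676, 9178, 9186]⟩)) (.node (.leaf ⟨685, 4, 867, 68, [7586, 7580]⟩) (.leaf ⟨0, 12, 0, 0, []⟩))))) (.node (.node (.node (.node (.leaf ⟨108, 6, 54, 2, [935, 926, 494]⟩) (.leaf ⟨984, 6, 1091, 86, [8287, 7610, 6864, 9127]⟩)) (.node (.leaf ⟨607, 9, 164, 21, [5025, 5022, 5001, 4998]⟩) (.leaf ⟨1430, 3, 1331, 7, [13219, 13214, 12192, 12196]⟩))) (.node (.node (.leaf ⟨216, 4, 418, 67, [2470, 2888, 2882, 1628, 2983]⟩) (.leaf ⟨803, 8, 912, 17, [11173, 9771, 9772, 11167]⟩)) (.node (.leaf ⟨774, 4, 775, 0, []⟩) (.leaf ⟨1618, 0, 1484, 11, [15263, 14446, 14449]⟩)))) (.node (.node (.node (.leaf ⟨295, 1, 296, 0, []⟩) (.leaf ⟨1193, 4, 1194, 0, []⟩)) (.node (.leaf ⟨525, 6, 712, 2, [4770, 5365, 6055]⟩) (.leaf ⟨1486, 2, 1538, 0, []⟩))) (.node (.node (.leaf ⟨433, 12, 476, 53, [3141, 2485, 2905, 4003, 3999]⟩) (.leaf ⟨1331, 4, 1332, 0, []⟩)) (.node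 (.leaf ⟨955, 2, 903, 92, [8088, 8092, 8103, 7739]⟩) (.leaf ⟨0, 12, 0, 0, []⟩))))))))

def factB21 : Arr (CFact) :=
  (.node (.node (.node (.node (.node (.node (.node (.leaf ⟨4, 6, 4, 2, [41, 37, 40]⟩) (.leaf ⟨978, 4, 979, 0, []⟩)) (.node (.leaf ⟨478, 6, 307, 18, [4038, 4137, 4129, 2562, 2097]⟩) (.leaf ⟨1299, 1, 1344, 94, [11874, 9218, 11232, 12327]⟩))) (.node (.node (.leaf ⟨304, 2, 305, 0, []⟩) (.leaf ⟨1201, 2, 988, 5, [10277, 6183, 5284, 8318]⟩)) (.node (.leaf ⟨461, 5, 552, 60, [3732, 6183, 5601, 5610, 4784]⟩) (.leaf ⟨1502, 2, 1549, 45, [13931, 13936, 14377]⟩)))) (.node (.node (.node (.leaf ⟨131, 7, 113, 4, [1061, 249, 280, 996]⟩) (.leaf ⟨1108, 2, 771, 5, [9255, 9247, 2123, 7072]⟩)) (.node (.leaf ⟨128, 1, 622, 0, []⟩) (.leaf ⟨938, 10, 1439, 9, [12214, 12371, 13353]⟩))) (.node (.node (.leaf ⟨431, 1, 432, 0, []⟩) (.leaf ⟨1261, 2, 872, 5, [11301, 11281, 10891, 7608]⟩)) (.node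 (.leaf ⟨803, 4, 195, 8, [7209, 7207, 7205, 7203, 7201, 7199]⟩) (.leaf ⟨1628, 9, 1383, 21, [15395, 15393, 14450, 14452]⟩))))) (.node (.node (.node (.node (.leaf ⟨70, 4, 11, 8, [553, 551, 549, 547, 545, 541]⟩) (.leaf ⟨1039, 3, 1036, 7, [8741, 2387, 8704, 8712]⟩)) (.node (.leaf ⟨118, 1, 549, 0, []⟩) (.leaf ⟨1397, 3, 1395, 7, [12837, 4901, 5375, 12808]⟩))) (.node (.node (.leaf ⟨376, 2, 329, 29, [2599, 2595, 2591, 2587, 2579, 2573, 1744, 534, 2206]⟩) (.leaf ⟨1255, 3, 1228, 7, [10789, 10780, 10523, 10524]⟩)) (.node (.leaf ⟨520, 11, 159, 51, [6696, 6659]⟩) (.leaf ⟨1588, 7, 1476, 20, [14889, 14756, 13742]⟩)))) (.node (.node (.node (.leaf ⟨42, 1, 197, 0, []⟩) (.leaf ⟨1159, 6, 876, 2, [9769, 9762, 7626]⟩)) (.node (.leaf ⟨675, 1, 676, 0, []⟩) (.leaf ⟨1495, 2, 1496, 0, []⟩))) (.node (.node (.leaf ⟨396, 6, 454, 18, [3604, 2995, 2989, 3620, 3625]⟩) (.leaf ⟨1295, 7, 886, 4, [11809, 11800,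 8204, 7664]⟩)) (.node (.leaf ⟨553, 12, 897, 91, [4660, 6182, 3491, 7721, 7719]⟩) (.leaf ⟨0, 12, 0, 0, []⟩)))))) (.node (.node (.node (.node (.node (.leaf ⟨33, 0, 33, 11, [291, 85, 290]⟩) (.leaf ⟨1012, 2, 934, 5, [8485, 5110, 3542, 7914]⟩)) (.node (.leaf ⟨492, 2, 251, 6, [4391, 1755]⟩) (.leaf ⟨535, 4, 1379, 0, []⟩))) (.node (.node (.leaf ⟨108, 10, 346, 9, [1565, 1887, 2345]⟩) (.leaf ⟨1229, 4, 1230, 0, []⟩)) (.node (.leaf ⟨651, 2, 734, 50, [6091, 6085, 4885, 1265, 6441]⟩) (.leaf ⟨1567, 6, 1490, 89, [14631, 14246, 14434]⟩)))) (.node (.node (.node (.leaf ⟨165, 7, 117, 4, [1315, 1308, 1156, 1006]⟩) (.leaf ⟨1132, 7, 814, 4, [9505, 2821, 1752, 7290]⟩)) (.node (.leaf ⟨524, 10, 588, 47, [5410, 5397]⟩) (.leaf ⟨1063, 1, 1457, 14, [9853, 11061, 10443, 13050, 13609]⟩))) (.node (.node (.leaf ⟨254, 5, 362, 82, [1763, 3369, 1629, 2454]⟩) (.leaf ⟨1277, 6, 1201, 2, [11561, 3732, 10276]⟩))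 (.node (.leaf ⟨753, 5, 845, 82, [6989, 4444, 7451, 7465]⟩) (.leaf ⟨0, 12, 0, 0, []⟩))))) (.node (.node (.node (.node (.leaf ⟨97, 6, 49, 2, [809, 802, 470]⟩) (.leaf ⟨1073, 6, 890, 2, [9001, 8983, 7686]⟩)) (.node (.leaf ⟨587, 1, 588, 0, []⟩) (.leaf ⟨1420, 4, 1421, 0, []⟩))) (.node (.node (.leaf ⟨280, 7, 276, 20, [2857, 2627, 1860]⟩) (.leaf ⟨1083, 1, 883, 43, [9070, 11043, 8608, 11022, 9892]⟩)) (.node (.leaf ⟨634, 10, 570, 47, [6941, 6261]⟩) (.leaf ⟨1609, 1, 1417, 22, [15143, 13282, 13278, 13057]⟩)))) (.node (.node (.node (.leaf ⟨49, 1, 270, 0, []⟩) (.leaf ⟨1100, 3, 1181, 39, [9194, 8315, 10025]⟩)) (.node (.leaf ⟨700, 1, 701, 0, []⟩) (.leaf ⟨1527, 3, 1523, 44, [14119, 12370, 12215, 7950, 14095]⟩))) (.node (.node (.leaf ⟨360, 9, 410, 21, [2467, 3872, 3879, 2902]⟩) (.leaf ⟨1315, 4, 1316, 0, []⟩)) (.node (.leaf ⟨254, 4, 941, 0, []⟩) (.leaf ⟨0, 12, 0, 0, []⟩))))))) (.node (.node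 (.node (.node (.node (.node (.leaf ⟨17, 11, 15, 13, [134, 157, 165]⟩) (.leaf ⟨1000, 2, 992, 5, [8361, 8359, 8356, 8334]⟩)) (.node (.leaf ⟨488, 6, 314, 18, [4263, 2370, 1938, 828, 2116]⟩) (.leaf ⟨1362, 3, 1358, 7, [12455, 12444, 12424, 12432]⟩))) (.node (.node (.leaf ⟨331, 2, 332, 0, []⟩) (.leaf ⟨1219, 4, 1220, 0, []⟩)) (.node (.leaf ⟨559, 1, 725, 0, []⟩) (.leaf ⟨1525, 2, 1558, 50, [14108, 7563, 10198, 8952, 14501]⟩)))) (.node (.node (.node (.leaf ⟨150, 6, 120, 2, [1193, 1186, 1020]⟩) (.leaf ⟨1122, 4, 470, 36, [9381, 4430, 5117, 3867]⟩)) (.node (.leaf ⟨130, 1, 637, 0, []⟩) (.leaf ⟨1449, 3, 1415, 7, [13475, 13468, 13014, 13024]⟩))) (.node (.node (.leaf ⟨375, 8, 79, 17, [2615, 2645, 3241, 1876]⟩) (.leaf ⟨1269, 2, 1241, 5, [11427, 6203, 6340, 10650]⟩)) (.node (.leaf ⟨824, 6, 817, 2, [7335, 6431, 7302]⟩) (.leaf ⟨0, 12, 0, 0, []⟩))))) (.node (.node (.node (.node (.leaf ⟨15,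 4, 83, 0, []⟩) (.leaf ⟨304, 4, 1055, 0, []⟩)) (.node (.leaf ⟨562, 6, 551, 18, [4777, 1026, 4650, 4652, 4654]⟩) (.leaf ⟨1387, 8, 1218, 17, [12731, 12299, 12967, 12969]⟩))) (.node (.node (.leaf ⟨386, 11, 223, 13, [2729, 1818, 1649]⟩) (.leaf ⟨1018, 8, 1185, 17, [10915, 8798, 7676, 10183]⟩)) (.node (.leaf ⟨632, 7, 636, 20, [6821, 6817, 5284]⟩) (.leaf ⟨1598, 1, 1273, 43, [15017, 13904, 13906, 13908, 11509]⟩)))) (.node (.node (.node (.leaf ⟨45, 9, 237, 0, []⟩) (.leaf ⟨1047, 3, 1171, 30, [8849, 9895]⟩)) (.node (.leaf ⟨558, 12, 688, 22, [4671, 4650, 4652, 5801, 5799]⟩) (.leaf ⟨1511, 1, 1407, 53, [13993, 13038, 13537, 13540]⟩))) (.node (.node (.leaf ⟨366, 10, 462, 9, [2526, 2528, 3749]⟩) (.leaf ⟨978, 10, 1304, 9, [10908, 8813, 11945]⟩)) (.node (.leaf ⟨924, 0, 848, 3, [7847, 4407, 4414, 3964, 7484]⟩) (.leaf ⟨0, 12, 0, 0, []⟩)))))) (.node (.node (.node (.node (.node (.leaf ⟨31, 2,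 34, 16, [420, 412]⟩) (.leaf ⟨1025, 3, 764, 7, [8617, 8612, 7036, 7040]⟩)) (.node (.leaf ⟨116, 1, 528, 0, []⟩) (.leaf ⟨1376, 12, 644, 76, [12580, 12711, 12317, 6590, 5933, 5934]⟩))) (.node (.node (.leaf ⟨216, 10, 296, 47, [2464, 2447]⟩) (.leaf ⟨1243, 6, 1230, 2, [10665, 10660, 10538]⟩)) (.node (.leaf ⟨740, 2, 707, 6, [6567, 6392]⟩) (.leaf ⟨1578, 1, 1579, 0, []⟩)))) (.node (.node (.node (.leaf ⟨177, 6, 153, 2, [1449, 1440, 1216]⟩) (.leaf ⟨570, 5, 1147, 73, [9634, 9623]⟩)) (.node (.leaf ⟨602, 2, 657, 6, [5133, 5545]⟩) (.leaf ⟨1475, 8, 1017, 17, [13735, 9202, 9927, 10927]⟩))) (.node (.node (.leaf ⟨228, 9, 221, 27, [3485, 2710]⟩) (.leaf ⟨1286, 2, 1185, 5, [11685, 11671, 11660, 10054]⟩)) (.node (.leaf ⟨685, 5, 865, 73, [7586, 7577]⟩) (.leaf ⟨0, 12, 0, 0, []⟩))))) (.node (.node (.node (.node (.leaf ⟨108, 0, 102, 3, [935, 926, 493, 867, 870]⟩) (.leaf ⟨1090, 0, 983, 31, [9122,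 9129, 8279]⟩)) (.node (.leaf ⟨604, 7, 606, 20, [5023, 5029, 5012]⟩) (.leaf ⟨1430, 2, 1328, 5, [13219, 13211, 13204, 12166]⟩))) (.node (.node (.leaf ⟨418, 9, 89, 40, [2985, 2891, 554, 227, 23, 128, 724]⟩) (.leaf ⟨904, 9, 921, 40, [7739, 11175, 7210, 4271, 821, 3540, 7830]⟩)) (.node (.leaf ⟨775, 4, 776, 0, []⟩) (.leaf ⟨880, 10, 1619, 0, []⟩)))) (.node (.node (.node (.leaf ⟨296, 2, 208, 29, [1961, 1959, 1957, 1955, 1951, 1947, 1941, 482, 1606]⟩) (.leaf ⟨1194, 6, 1184, 2, [10153, 10146, 10046]⟩)) (.node (.leaf ⟨524, 0, 712, 3, [5832, 5376, 6019, 6050, 6055]⟩) (.leaf ⟨1538, 1, 804, 43, [14249, 13806, 12623, 12632, 8742]⟩))) (.node (.node (.leaf ⟨433, 0, 216, 23, [4008, 3988]⟩) (.leaf ⟨1332, 3, 1323, 7, [12201, 12198, 12168, 12150]⟩)) (.node (.leaf ⟨902, 3, 953, 99, [7736, 8105, 8087, 8083]⟩) (.leaf ⟨0, 12, 0, 0, []⟩))))))))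

def factB22 : Arr (CFact) :=
  (.node (.node (.node (.node (.node (.node (.node (.leaf ⟨4, 0, 4, 3, [41, 37, 35, 39, 40]⟩) (.leaf ⟨979, 3, 971, 7, [8235, 8230, 8164, 8168]⟩)) (.node (.leaf ⟨465, 12, 303, 28, [4044, 4137, 4130, 2082]⟩) (.leaf ⟨1344, 10, 859, 9, [12331, 11866, 9766]⟩))) (.node (.node (.leaf ⟨305, 1, 306, 0, []⟩) (.leaf ⟨1201, 4, 1202, 0, []⟩)) (.node (.leaf ⟨664, 4, 479, 54, [5592, 6187, 4041]⟩) (.leaf ⟨1549, 1, 1069, 43, [14379, 13908, 9278, 10936, 8988]⟩)))) (.node (.node (.node (.leaf ⟨131, 4, 132, 0, []⟩) (.leaf ⟨761, 7, 1108, 20, [7030, 8629, 9257]⟩)) (.node (.leaf ⟨622, 10, 140, 9, [5163, 1130, 1135]⟩) (.leaf ⟨812, 1, 1439, 53, [11710, 13233, 13220, 13351]⟩))) (.node (.node (.leaf ⟨432, 2, 409, 50, [3115, 3106, 2332, 912, 2880]⟩) (.leaf ⟨1261, 7, 1188, 4, [11301, 11288, 10079, 10088]⟩)) (.node (.leaf ⟨782, 0, 803, 31, [7110, 4274, 7211]⟩) (.leaf ⟨1607,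 4, 1628, 42, [15127, 7668, 15175, 15179, 14541, 12646, 15403]⟩))))) (.node (.node (.node (.node (.leaf ⟨12, 4, 71, 0, []⟩) (.leaf ⟨1039, 7, 807, 4, [8741, 3935, 3937, 7246]⟩)) (.node (.leaf ⟨549, 2, 550, 0, []⟩) (.leaf ⟨1397, 2, 1396, 5, [12837, 12828, 12824, 12818]⟩))) (.node (.node (.leaf ⟨330, 2, 376, 6, [2213, 2603]⟩) (.leaf ⟨1255, 2, 1231, 5, [10789, 10773, 3599, 10544]⟩)) (.node (.leaf ⟨714, 12, 741, 28, [6104, 6685, 6682, 6600]⟩) (.leaf ⟨1588, 4, 1482, 85, [14889, 14761, 14654, 14658]⟩)))) (.node (.node (.node (.leaf ⟨197, 10, 42, 9, [1579, 737, 742]⟩) (.leaf ⟨1159, 3, 1094, 7, [9769, 9764, 9140, 9146]⟩)) (.node (.leaf ⟨676, 0, 610, 10, [5675, 5668, 5070]⟩) (.leaf ⟨1496, 1, 825, 43, [13867, 13863, 10437, 10963, 9662]⟩))) (.node (.node (.leaf ⟨419, 9, 420, 21, [2989, 3620, 3627, 3604]⟩) (.leaf ⟨939, 1, 1295, 48, [8550, 10926, 11815]⟩)) (.node (.leaf ⟨553, 4, 898,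 68, [7722, 7718]⟩) (.leaf ⟨0, 12, 0, 0, []⟩)))))) (.node (.node (.node (.node (.node (.leaf ⟨11, 6, 33, 18, [95, 91, 87, 290, 297]⟩) (.leaf ⟨1012, 7, 927, 4, [8485, 5177, 5209, 7876]⟩)) (.node (.leaf ⟨492, 6, 205, 70, [4391, 1758, 3386, 3959]⟩) (.leaf ⟨1379, 6, 1351, 2, [12587, 4993, 12390]⟩))) (.node (.node (.leaf ⟨346, 1, 347, 0, []⟩) (.leaf ⟨1230, 0, 1215, 35, [10539, 10536, 10463, 10464, 10390]⟩)) (.node (.leaf ⟨592, 0, 734, 10, [4926, 1452, 6441]⟩) (.leaf ⟨1567, 2, 1555, 50, [14631, 10282, 11151, 7249, 14463]⟩)))) (.node (.node (.node (.leaf ⟨165, 4, 166, 0, []⟩) (.leaf ⟨1132, 4, 1133, 0, []⟩)) (.node (.leaf ⟨592, 2, 526, 45, [5395, 5398, 5409]⟩) (.leaf ⟨1457, 4, 1458, 0, []⟩))) (.node (.node (.leaf ⟨253, 7, 198, 34, [3369, 2898, 2763, 3362]⟩) (.leaf ⟨1277, 0, 878, 3, [11561, 3732, 2693, 1802, 7638]⟩)) (.node (.leaf ⟨753, 4, 846, 0, []⟩) (.leaf ⟨0, 12, 0, 0, []⟩)))))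 (.node (.node (.node (.node (.leaf ⟨97, 0, 49, 3, [809, 802, 641, 646, 470]⟩) (.leaf ⟨1073, 3, 1070, 7, [9001, 8980, 8958, 8960]⟩)) (.node (.leaf ⟨588, 2, 516, 29, [4907, 4905, 4903, 4901, 4895, 4891, 4885, 1036, 4490]⟩) (.leaf ⟨1421, 6, 1321, 2, [13099, 13095, 12130]⟩))) (.node (.node (.leaf ⟨331, 10, 280, 9, [2215, 2257, 2859]⟩) (.leaf ⟨865, 1, 1213, 48, [9051, 11043, 10377]⟩)) (.node (.leaf ⟨634, 11, 157, 51, [6941, 6530]⟩) (.leaf ⟨1571, 2, 1609, 50, [14678, 8107, 12781, 13057, 15147]⟩)))) (.node (.node (.node (.leaf ⟨270, 10, 79, 9, [1835, 811, 818]⟩) (.leaf ⟨1181, 4, 1182, 0, []⟩)) (.node (.leaf ⟨701, 6, 677, 18, [5931, 5915, 5905, 1211, 5681]⟩) (.leaf ⟨1527, 6, 1495, 18, [14119, 12372, 12311, 11410, 13862]⟩))) (.node (.node (.leaf ⟨471, 1, 416, 58, [3879, 2893, 2881, 2966]⟩) (.leaf ⟨1316, 4, 1317, 0, []⟩)) (.node (.leaf ⟨941, 0, 766, 3, [7979, 2837, 2384, 3347, 7050]⟩)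 (.leaf ⟨0, 12, 0, 0, []⟩))))))) (.node (.node (.node (.node (.node (.node (.leaf ⟨20, 2, 21, 0, []⟩) (.leaf ⟨1000, 4, 1001, 0, []⟩)) (.node (.leaf ⟨488, 0, 453, 10, [4263, 3585, 3586]⟩) (.leaf ⟨1165, 1, 1362, 94, [9830, 9148, 11478, 12457]⟩))) (.node (.node (.leaf ⟨332, 1, 333, 0, []⟩) (.leaf ⟨1220, 4, 558, 8, [10411, 10409, 10407, 10405, 10399, 6181]⟩)) (.node (.leaf ⟨725, 2, 663, 50, [6315, 6278, 6218, 6212, 5580]⟩) (.leaf ⟨1479, 0, 1558, 10, [13760, 9902, 14501]⟩)))) (.node (.node (.node (.leaf ⟨150, 3, 146, 7, [1193, 1188, 1140, 1154]⟩) (.leaf ⟨1122, 7, 824, 4, [9381, 6543, 6545, 7334]⟩)) (.node (.leaf ⟨637, 3, 521, 44, [5291, 1537, 4509, 4507, 4505]⟩) (.leaf ⟨1449, 7, 1401, 4, [13475, 13466, 12873, 12882]⟩))) (.node (.node (.leaf ⟨329, 5, 441, 75, [3239, 2624, 1747, 3229]⟩) (.leaf ⟨1269, 7, 1107, 4, [11427, 4269, 4266, 9246]⟩)) (.node (.leaf ⟨202, 4, 825, 0, []⟩)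 (.leaf ⟨0, 12, 0, 0, []⟩))))) (.node (.node (.node (.node (.leaf ⟨83, 6, 83, 2, [683, 163, 682]⟩) (.leaf ⟨1055, 6, 873, 2, [8875, 2088, 7612]⟩)) (.node (.leaf ⟨562, 8, 560, 17, [4777, 1427, 1430, 4677]⟩) (.leaf ⟨1358, 0, 1410, 32, [12459, 12464, 12967]⟩))) (.node (.node (.leaf ⟨78, 10, 224, 9, [2689, 2693, 1802]⟩) (.leaf ⟨1184, 11, 1017, 100, [10054, 10923, 8553, 3072, 550, 4111, 8549]⟩)) (.node (.leaf ⟨636, 11, 565, 13, [6827, 5272, 4793]⟩) (.leaf ⟨1598, 2, 1499, 6, [15017, 13903]⟩)))) (.node (.node (.node (.leaf ⟨45, 11, 238, 0, []⟩) (.leaf ⟨1171, 4, 1172, 0, []⟩)) (.node (.leaf ⟨558, 1, 689, 15, [5802, 5798]⟩) (.leaf ⟨1460, 11, 1511, 13, [13644, 12935, 13995]⟩))) (.node (.node (.leaf ⟨462, 1, 463, 0, []⟩) (.leaf ⟨1157, 1, 1304, 14, [9791, 10207, 10589, 11763, 11943]⟩)) (.node (.leaf ⟨924, 3, 923, 7, [7847, 3057, 7836, 7840]⟩) (.leaf ⟨0, 12, 0, 0, []⟩)))))) (.node (.node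 (.node (.node (.node (.leaf ⟨31, 3, 32, 24, [420, 409]⟩) (.leaf ⟨1025, 2, 756, 5, [8617, 8611, 8608, 7008]⟩)) (.node (.leaf ⟨528, 10, 146, 9, [4523, 1157, 1161]⟩) (.leaf ⟨644, 4, 1377, 68, [12715, 12580]⟩))) (.node (.node (.leaf ⟨300, 2, 218, 45, [2443, 2448, 2463]⟩) (.leaf ⟨1243, 0, 1225, 3, [10665, 10660, 10534, 10469, 10470]⟩)) (.node (.leaf ⟨740, 1, 740, 12, [6567, 6539, 6537, 5658, 6433, 6426, 1282, 5971, 6571]⟩) (.leaf ⟨1579, 3, 1474, 44, [14763, 14756, 13735, 10051, 13731]⟩)))) (.node (.node (.node (.leaf ⟨177, 0, 159, 3, [1449, 1440, 1257, 1261, 1262]⟩) (.leaf ⟨627, 4, 1141, 68, [9639, 9586]⟩)) (.node (.leaf ⟨601, 6, 616, 18, [5538, 5547, 5134, 5136, 5138]⟩) (.leaf ⟨1475, 9, 1266, 21, [13735, 11659, 11654, 11396]⟩))) (.node (.node (.leaf ⟨266, 11, 221, 13, [3483, 1790, 1645]⟩) (.leaf ⟨1286, 4, 724, 36, [11685, 11678, 10036, 6305]⟩)) (.node (.leaf ⟨544, 4, 859,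 68, [7591, 7552]⟩) (.leaf ⟨0, 12, 0, 0, []⟩))))) (.node (.node (.node (.node (.leaf ⟨108, 3, 50, 7, [935, 928, 470, 474]⟩) (.leaf ⟨311, 4, 1092, 0, []⟩)) (.node (.leaf ⟨606, 11, 164, 13, [5035, 5001, 4998]⟩) (.leaf ⟨1430, 4, 734, 36, [13219, 13216, 12187, 6708]⟩))) (.node (.node (.leaf ⟨418, 1, 419, 0, []⟩) (.leaf ⟨1114, 1, 1010, 48, [9305, 11171, 8469]⟩)) (.node (.leaf ⟨776, 4, 189, 8, [7083, 7081, 7079, 7077, 7075, 7073]⟩) (.leaf ⟨1619, 4, 1505, 93, [15275, 7644, 11748, 7647, 14558, 15112, 15110]⟩)))) (.node (.node (.node (.leaf ⟨209, 2, 296, 6, [1611, 1963]⟩) (.leaf ⟨1194, 0, 886, 3, [10153, 10146, 10040, 9918, 7664]⟩)) (.node (.leaf ⟨535, 5, 712, 83, [4550, 5830, 5414, 6055]⟩) (.leaf ⟨1538, 2, 1492, 6, [14249, 13844]⟩))) (.node (.node (.leaf ⟨433, 1, 477, 15, [4008, 3998]⟩) (.leaf ⟨869, 1, 1332, 102, [9143, 12002, 11998, 12156, 12203]⟩)) (.node (.leaf ⟨902, 6, 875,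 2, [8099, 5718, 7622]⟩) (.leaf ⟨0, 12, 0, 0, []⟩))))))))

def factB23 : Arr (CFact) :=
  (.node (.node (.node (.node (.node (.node (.node (.leaf ⟨4, 2, 2, 5, [41, 33, 28, 22]⟩) (.leaf ⟨979, 2, 910, 5, [8235, 8229, 8224, 7756]⟩)) (.node (.leaf ⟨303, 7, 479, 25, [4141, 4044]⟩) (.leaf ⟨517, 4, 1345, 0, []⟩))) (.node (.node (.leaf ⟨306, 2, 307, 0, []⟩) (.leaf ⟨1202, 6, 1051, 2, [10285, 10278, 8846]⟩)) (.node (.leaf ⟨666, 7, 718, 69, [6185, 4043, 6189, 5592, 6173]⟩) (.leaf ⟨1549, 2, 1501, 6, [14379, 13907]⟩)))) (.node (.node (.node (.leaf ⟨132, 3, 128, 7, [1069, 1064, 1050, 1052]⟩) (.leaf ⟨1108, 4, 1109, 0, []⟩)) (.node (.leaf ⟨622, 0, 507, 10, [5163, 1367, 4728]⟩) (.leaf ⟨1439, 10, 1019, 9, [13357, 7276, 8577]⟩))) (.node (.node (.leaf ⟨432, 3, 299, 44, [3115, 3111, 2942, 2911, 2903]⟩) (.leaf ⟨1003, 1, 1261, 48, [8404, 11221, 11303]⟩)) (.node (.leaf ⟨721, 12, 802, 91, [6885,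 6933, 2372, 7211, 7209]⟩) (.leaf ⟨1628, 4, 1603, 36, [15405, 15285, 15276, 15077]⟩))))) (.node (.node (.node (.node (.leaf ⟨71, 6, 71, 2, [557, 101, 556]⟩) (.leaf ⟨1039, 4, 1040, 0, []⟩)) (.node (.leaf ⟨550, 1, 551, 0, []⟩) (.leaf ⟨1397, 4, 708, 36, [12837, 5978, 5987, 5983]⟩))) (.node (.node (.leaf ⟨375, 6, 271, 18, [2598, 2605, 2214, 2249, 1847]⟩) (.leaf ⟨1255, 4, 1256, 0, []⟩)) (.node (.leaf ⟨714, 0, 526, 23, [6700, 6604]⟩) (.leaf ⟨1462, 10, 1588, 9, [13656, 13746, 14891]⟩)))) (.node (.node (.node (.leaf ⟨197, 2, 198, 0, []⟩) (.leaf ⟨1159, 7, 903, 4, [9769, 9762, 8109, 7736]⟩)) (.node (.leaf ⟨676, 2, 677, 0, []⟩) (.leaf ⟨1472, 0, 1496, 10, [13712, 8538, 13869]⟩))) (.node (.node (.leaf ⟨80, 11, 455, 0, []⟩) (.leaf ⟨1295, 10, 923, 9, [11821, 7958, 7954]⟩)) (.node (.leaf ⟨553, 5, 896, 73, [7722, 7717]⟩) (.leaf ⟨0, 12, 0, 0, []⟩)))))) (.node (.node (.node (.node (.node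 (.leaf ⟨22, 12, 33, 22, [231, 109, 122, 300, 297]⟩) (.leaf ⟨1012, 4, 1013, 0, []⟩)) (.node (.leaf ⟨492, 1, 492, 12, [4391, 1758, 3933, 3928, 3717, 1596, 964, 1748, 4395]⟩) (.leaf ⟨1379, 3, 1371, 7, [12587, 4549, 12530, 12536]⟩))) (.node (.node (.leaf ⟨347, 6, 289, 18, [2349, 2343, 1576, 827, 1939]⟩) (.leaf ⟨1230, 4, 397, 8, [10539, 10533, 10525, 10522, 10517, 10507]⟩)) (.node (.leaf ⟨691, 8, 734, 17, [5819, 1391, 1392, 6441]⟩) (.leaf ⟨1567, 3, 1560, 44, [14631, 11563, 12669, 12660, 14533]⟩)))) (.node (.node (.node (.leaf ⟨166, 6, 118, 2, [1325, 1318, 1008]⟩) (.leaf ⟨1133, 6, 822, 2, [9517, 9508, 7324]⟩)) (.node (.leaf ⟨526, 2, 640, 6, [5421, 5327]⟩) (.leaf ⟨1458, 0, 1405, 3, [13613, 13604, 13250, 13075, 12916]⟩))) (.node (.node (.leaf ⟨393, 6, 418, 66, [3362, 3373, 3369, 2983]⟩) (.leaf ⟨1277, 3, 1072, 7, [11561, 3730, 8964, 8976]⟩)) (.node (.leaf ⟨846, 3, 842, 7, [7469,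 6989, 4447, 7452]⟩) (.leaf ⟨0, 12, 0, 0, []⟩))))) (.node (.node (.node (.node (.leaf ⟨97, 3, 64, 7, [809, 804, 528, 532]⟩) (.leaf ⟨1046, 0, 1073, 76, [8814, 8834, 8117, 8984, 9003]⟩)) (.node (.leaf ⟨517, 2, 588, 6, [4495, 4909]⟩) (.leaf ⟨1421, 2, 1378, 5, [13099, 13087, 13080, 12582]⟩))) (.node (.node (.leaf ⟨277, 12, 378, 53, [1867, 1834, 1838, 2855, 2852]⟩) (.leaf ⟨998, 1, 1240, 58, [9069, 9070, 11043, 10972]⟩)) (.node (.leaf ⟨503, 1, 752, 0, []⟩) (.leaf ⟨1591, 0, 1609, 10, [14923, 13063, 15147]⟩)))) (.node (.node (.node (.leaf ⟨270, 6, 241, 18, [1835, 472, 1714, 1718, 1720]⟩) (.leaf ⟨1182, 6, 986, 2, [10029, 10024, 8292]⟩)) (.node (.leaf ⟨701, 0, 644, 10, [5931, 5920, 5340]⟩) (.leaf ⟨1527, 0, 1471, 10, [14119, 13481, 13705]⟩))) (.node (.node (.leaf ⟨416, 2, 219, 50, [3885, 3874, 2429, 747, 1639]⟩) (.leaf ⟨1317, 4, 493, 8, [12077, 12075, 12073, 12071, 12069, 12067]⟩))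 (.node (.leaf ⟨941, 3, 791, 7, [7979, 1763, 7160, 7164]⟩) (.leaf ⟨0, 12, 0, 0, []⟩))))))) (.node (.node (.node (.node (.node (.node (.leaf ⟨21, 1, 4, 12, [173, 165, 166, 141, 133, 94, 123, 108, 47]⟩) (.leaf ⟨1001, 4, 542, 8, [8365, 8361, 8359, 8355, 8353, 5489]⟩)) (.node (.leaf ⟨98, 8, 195, 17, [1939, 2351, 4265, 4263]⟩) (.leaf ⟨1358, 1, 1208, 14, [12459, 12461, 9824, 10505, 10386]⟩))) (.node (.node (.leaf ⟨333, 2, 334, 0, []⟩) (.leaf ⟨764, 6, 1220, 86, [9282, 9280, 5809, 10413]⟩)) (.node (.leaf ⟨725, 3, 664, 44, [6315, 6281, 5620, 5599, 5595]⟩) (.leaf ⟨1558, 4, 1554, 54, [14509, 14269, 14450]⟩)))) (.node (.node (.node (.leaf ⟨150, 2, 137, 5, [1193, 1181, 278, 1092]⟩) (.leaf ⟨325, 4, 1123, 0, []⟩)) (.node (.leaf ⟨520, 3, 637, 30, [4502, 5293]⟩) (.leaf ⟨1401, 11, 916, 13, [13485, 13476, 12107]⟩))) (.node (.node (.leaf ⟨441, 0, 331, 76, [3245, 2210, 2648, 3234, 2217]⟩) (.leaf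 ⟨1030, 10, 1269, 9, [11013, 10322, 11437]⟩)) (.node (.leaf ⟨825, 3, 822, 7, [7341, 1591, 7322, 7324]⟩) (.leaf ⟨0, 12, 0, 0, []⟩))))) (.node (.node (.node (.node (.leaf ⟨83, 7, 47, 4, [683, 163, 188, 460]⟩) (.leaf ⟨1055, 0, 991, 3, [8875, 2088, 1668, 3169, 8332]⟩)) (.node (.leaf ⟨562, 2, 563, 0, []⟩) (.leaf ⟨1405, 7, 1410, 20, [12918, 12854, 12965]⟩))) (.node (.node (.leaf ⟨65, 10, 387, 0, []⟩) (.leaf ⟨1017, 1, 1174, 38, [10925, 10052, 9923]⟩)) (.node (.leaf ⟨559, 10, 632, 9, [6314, 6320, 6827]⟩) (.leaf ⟨1598, 4, 1491, 85, [15017, 14599, 14603, 13828]⟩)))) (.node (.node (.node (.leaf ⟨238, 1, 75, 38, [1709, 773, 766]⟩) (.leaf ⟨1172, 0, 906, 35, [9901, 9896, 8943, 8944, 7748]⟩)) (.node (.leaf ⟨558, 3, 569, 24, [5802, 5793]⟩) (.leaf ⟨1498, 3, 1511, 44, [13892, 7477, 13549, 13540, 13995]⟩))) (.node (.node (.leaf ⟨463, 2, 370, 50, [3757, 3750, 2513, 757, 2569]⟩) (.leaf ⟨1304,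 10, 857, 9, [11949, 9752, 8277]⟩)) (.node (.leaf ⟨924, 7, 834, 4, [7847, 4407, 4414, 7402]⟩) (.leaf ⟨0, 12, 0, 0, []⟩)))))) (.node (.node (.node (.node (.node (.leaf ⟨31, 6, 24, 26, [420, 419]⟩) (.leaf ⟨1025, 4, 286, 36, [8617, 8614, 7016, 1905]⟩)) (.node (.leaf ⟨528, 2, 529, 0, []⟩) (.leaf ⟨644, 5, 1375, 73, [12715, 12579]⟩))) (.node (.node (.leaf ⟨218, 2, 343, 6, [2477, 2325]⟩) (.leaf ⟨1243, 7, 776, 4, [10665, 10660, 10534, 7082]⟩)) (.node (.leaf ⟨740, 0, 578, 11, [6567, 6405, 4854]⟩) (.leaf ⟨1579, 0, 1501, 10, [14763, 14758, 13904]⟩)))) (.node (.node (.node (.leaf ⟨177, 3, 133, 7, [1449, 1442, 1068, 1072]⟩) (.leaf ⟨627, 5, 1139, 73, [9639, 9585]⟩)) (.node (.leaf ⟨657, 0, 601, 11, [5547, 5519, 5541]⟩) (.leaf ⟨1475, 2, 1476, 0, []⟩))) (.node (.node (.leaf ⟨221, 7, 446, 20, [1643, 1669, 3441]⟩) (.leaf ⟨1286, 7, 968, 4, [11685, 11674, 8151, 8154]⟩)) (.node (.leaf ⟨544,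 5, 857, 73, [7591, 7551]⟩) (.leaf ⟨0, 12, 0, 0, []⟩))))) (.node (.node (.node (.node (.leaf ⟨108, 2, 41, 5, [935, 923, 308, 444]⟩) (.leaf ⟨1092, 6, 980, 2, [9133, 3766, 8248]⟩)) (.node (.leaf ⟨607, 10, 604, 9, [5024, 5029, 5035]⟩) (.leaf ⟨1217, 11, 1430, 100, [10406, 12971, 12723, 6715, 5837, 6446, 13229]⟩))) (.node (.node (.leaf ⟨419, 6, 395, 18, [2989, 2979, 2969, 657, 2771]⟩) (.leaf ⟨1094, 10, 928, 9, [11167, 8437, 8438]⟩)) (.node (.leaf ⟨190, 4, 777, 0, []⟩) (.leaf ⟨1608, 0, 1619, 31, [15140, 13931, 15277]⟩)))) (.node (.node (.node (.leaf ⟨295, 6, 212, 18, [1960, 1965, 1612, 1614, 1616]⟩) (.leaf ⟨1194, 3, 966, 7, [10153, 10148, 8138, 8142]⟩)) (.node (.leaf ⟨584, 7, 712, 4, [5986, 5984, 5363, 6055]⟩) (.leaf ⟨1538, 0, 1512, 11, [14249, 14173, 14168]⟩))) (.node (.node (.leaf ⟨433, 2, 416, 16, [4008, 3986]⟩) (.leaf ⟨1315, 6, 1332, 59, [12114, 11485, 12156, 12203]⟩)) (.node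 (.leaf ⟨262, 4, 958, 0, []⟩) (.leaf ⟨0, 12, 0, 0, []⟩))))))))

def factB24 : Arr (CFact) :=
  (.node (.node (.node (.node (.node (.node (.node (.leaf ⟨4, 7, 4, 4, [41, 37, 35, 40]⟩) (.leaf ⟨979, 4, 563, 36, [8235, 8232, 8201, 5259]⟩)) (.node (.leaf ⟨464, 12, 369, 53, [3781, 3728, 4041, 4137, 4129]⟩) (.leaf ⟨1345, 3, 1341, 7, [12335, 4495, 12286, 12296]⟩))) (.node (.node (.leaf ⟨307, 1, 308, 0, []⟩) (.leaf ⟨1202, 3, 896, 7, [10285, 10280, 7712, 7714]⟩)) (.node (.leaf ⟨303, 5, 718, 75, [4142, 6189, 5592, 6173]⟩) (.leaf ⟨1549, 0, 1474, 11, [14379, 13911, 13728]⟩)))) (.node (.node (.node (.leaf ⟨132, 4, 133, 0, []⟩) (.leaf ⟨1109, 3, 782, 7, [9263, 9256, 7121, 7118]⟩)) (.node (.leaf ⟨622, 9, 173, 21, [5163, 1071, 1123, 4744]⟩) (.leaf ⟨1439, 4, 1440, 0, []⟩))) (.node (.node (.leaf ⟨432, 6, 291, 18, [3115, 3103, 3089, 3084, 1951]⟩) (.leaf ⟨1261, 10, 1118, 9, [11311, 8402, 9341]⟩))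 (.node (.leaf ⟨721, 4, 803, 68, [7214, 7208]⟩) (.leaf ⟨0, 12, 0, 0, []⟩))))) (.node (.node (.node (.node (.leaf ⟨71, 0, 59, 3, [557, 101, 215, 130, 506]⟩) (.leaf ⟨1040, 6, 829, 2, [8751, 8744, 7362]⟩)) (.node (.leaf ⟨551, 2, 552, 0, []⟩) (.leaf ⟨1397, 7, 1384, 4, [12837, 5381, 4889, 12656]⟩))) (.node (.node (.leaf ⟨376, 7, 239, 20, [2605, 2257, 1858]⟩) (.leaf ⟨1256, 6, 779, 2, [10799, 10792, 7094]⟩)) (.node (.leaf ⟨714, 1, 742, 15, [6700, 6606]⟩) (.leaf ⟨824, 11, 1589, 0, []⟩)))) (.node (.node (.node (.leaf ⟨198, 1, 199, 0, []⟩) (.leaf ⟨1159, 4, 1160, 0, []⟩)) (.node (.leaf ⟨677, 1, 152, 12, [5679, 5675, 5665, 5659, 5651, 5645, 5641, 5637, 1213]⟩) (.leaf ⟨1270, 8, 1496, 17, [11461, 8417, 8420, 13869]⟩))) (.node (.node (.leaf ⟨455, 1, 86, 38, [3631, 661, 703]⟩) (.leaf ⟨1295, 4, 1296, 0, []⟩)) (.node (.leaf ⟨229, 4, 899, 0, []⟩) (.leaf ⟨0, 12, 0, 0, []⟩)))))) (.node (.node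 (.node (.node (.node (.leaf ⟨22, 0, 22, 23, [302, 299, 303]⟩) (.leaf ⟨1013, 0, 1006, 35, [8495, 8492, 7878, 8433, 8434]⟩)) (.node (.leaf ⟨492, 0, 356, 11, [4391, 3053, 3056]⟩) (.leaf ⟨1379, 2, 1369, 5, [12587, 6060, 6650, 12526]⟩))) (.node (.node (.leaf ⟨347, 2, 348, 0, []⟩) (.leaf ⟨398, 4, 1231, 0, []⟩)) (.node (.leaf ⟨734, 7, 587, 20, [6443, 6094, 4904]⟩) (.leaf ⟨1567, 0, 1545, 10, [14631, 10278, 14341]⟩)))) (.node (.node (.node (.leaf ⟨166, 0, 148, 3, [1325, 1318, 1153, 1169, 1170]⟩) (.leaf ⟨1133, 0, 945, 3, [9517, 9508, 9357, 9362, 8008]⟩)) (.node (.leaf ⟨133, 9, 651, 0, []⟩) (.leaf ⟨1458, 3, 1446, 7, [13613, 13606, 13500, 13442]⟩))) (.node (.node (.leaf ⟨391, 11, 394, 13, [2981, 3375, 2764]⟩) (.leaf ⟨1277, 2, 1068, 5, [11561, 6186, 5784, 8992]⟩)) (.node (.leaf ⟨846, 4, 209, 36, [7469, 6992, 5100, 1965]⟩) (.leaf ⟨0, 12, 0, 0, []⟩))))) (.node (.node (.node (.node (.leaf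 ⟨97, 2, 57, 5, [809, 799, 797, 500]⟩) (.leaf ⟨1073, 4, 1074, 0, []⟩)) (.node (.leaf ⟨587, 6, 520, 18, [4906, 4911, 4496, 4498, 4500]⟩) (.leaf ⟨1421, 7, 1359, 4, [13099, 13095, 12435, 12436]⟩))) (.node (.node (.leaf ⟨277, 0, 249, 23, [2862, 2638]⟩) (.leaf ⟨1139, 11, 998, 13, [10514, 10643, 11055]⟩)) (.node (.leaf ⟨752, 2, 644, 50, [6959, 5356, 5071, 4453, 5340]⟩) (.leaf ⟨1609, 4, 1574, 54, [15151, 14932, 14885]⟩)))) (.node (.node (.node (.leaf ⟨270, 8, 250, 17, [1835, 811, 814, 1745]⟩) (.leaf ⟨1182, 0, 884, 3, [10029, 10024, 8943, 8946, 7654]⟩)) (.node (.leaf ⟨701, 8, 673, 17, [5931, 5925, 5665, 5659]⟩) (.leaf ⟨1527, 8, 1275, 17, [14119, 12370, 12198, 12216]⟩))) (.node (.node (.leaf ⟨416, 6, 362, 18, [3885, 3873, 2466, 2448, 2450]⟩) (.leaf ⟨693, 12, 1316, 91, [6687, 6693, 4427, 12079, 12077]⟩)) (.node (.leaf ⟨941, 2, 806, 5, [7979, 3370, 2452, 7238]⟩) (.leaf ⟨0, 12, 0,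 0, []⟩))))))) (.node (.node (.node (.node (.node (.node (.leaf ⟨21, 0, 21, 11, [173, 159, 172]⟩) (.leaf ⟨957, 0, 1001, 31, [8094, 5772, 8367]⟩)) (.node (.leaf ⟨488, 3, 348, 79, [4263, 2373, 2145, 2146, 1879, 941, 1565, 1932, 2355]⟩) (.leaf ⟨1362, 0, 1341, 10, [12461, 9826, 12302]⟩))) (.node (.node (.leaf ⟨334, 1, 335, 0, []⟩) (.leaf ⟨1219, 0, 763, 31, [10410, 10415, 7041]⟩)) (.node (.leaf ⟨725, 6, 636, 18, [6315, 6277, 4814, 1206, 5283]⟩) (.leaf ⟨1095, 10, 1558, 97, [9162, 11869, 11865, 6510, 7282, 14458, 14511]⟩)))) (.node (.node (.node (.leaf ⟨150, 7, 120, 4, [1193, 1186, 1015, 1020]⟩) (.leaf ⟨1123, 6, 950, 2, [9391, 2187, 8054]⟩)) (.node (.leaf ⟨130, 9, 588, 21, [5290, 5295, 4913, 4906]⟩) (.leaf ⟨917, 9, 800, 84, [7797, 13487, 12890, 12892, 10789, 11071, 7202]⟩))) (.node (.node (.leaf ⟨273, 0, 440, 32, [2253, 3247, 3227]⟩) (.leaf ⟨976, 1, 1269, 94, [8218, 10023, 11367,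 11429]⟩)) (.node (.leaf ⟨825, 4, 826, 0, []⟩) (.leaf ⟨0, 12, 0, 0, []⟩))))) (.node (.node (.node (.node (.leaf ⟨83, 4, 84, 0, []⟩) (.leaf ⟨1055, 7, 856, 4, [8875, 2088, 1668, 7546]⟩)) (.node (.leaf ⟨563, 7, 552, 20, [4783, 4778, 4656]⟩) (.leaf ⟨1410, 4, 1411, 0, []⟩))) (.node (.node (.leaf ⟨66, 1, 388, 0, []⟩) (.leaf ⟨1174, 10, 819, 9, [10927, 8544, 7349]⟩)) (.node (.leaf ⟨540, 2, 750, 0, []⟩) (.leaf ⟨1598, 0, 1588, 11, [15017, 14759, 14888]⟩)))) (.node (.node (.node (.leaf ⟨88, 8, 238, 17, [722, 675, 676, 1711]⟩) (.leaf ⟨1172, 3, 1053, 7, [9901, 9894, 8852, 8858]⟩)) (.node (.leaf ⟨558, 7, 556, 25, [5802, 5794]⟩) (.leaf ⟨1468, 6, 1511, 18, [13688, 10611, 12886, 12939, 13995]⟩))) (.node (.node (.leaf ⟨463, 6, 303, 18, [3757, 3747, 2526, 2535, 2087]⟩) (.leaf ⟨784, 9, 1157, 21, [7763, 8171, 11937, 11949]⟩)) (.node (.leaf ⟨924, 4, 925, 0, []⟩) (.leaf ⟨0, 12, 0, 0, []⟩))))))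 (.node (.node (.node (.node (.node (.leaf ⟨31, 7, 30, 25, [420, 410]⟩) (.leaf ⟨776, 0, 1025, 31, [7084, 1923, 8623]⟩)) (.node (.leaf ⟨529, 1, 530, 0, []⟩) (.leaf ⟨1297, 11, 1377, 13, [11844, 9943, 12713]⟩))) (.node (.node (.leaf ⟨61, 9, 363, 0, []⟩) (.leaf ⟨1243, 4, 419, 8, [10665, 10657, 10651, 10648, 10641, 10631]⟩)) (.node (.leaf ⟨671, 6, 740, 18, [5644, 6541, 6538, 6566, 6573]⟩) (.leaf ⟨1579, 2, 1473, 29, [14763, 14755, 14745, 7312, 8836, 10161, 10932, 8618, 13720]⟩)))) (.node (.node (.node (.leaf ⟨177, 2, 130, 5, [1449, 1437, 1432, 1056]⟩) (.leaf ⟨1139, 10, 896, 97, [9647, 5266, 1523, 4726, 1374, 6784, 7726]⟩)) (.node (.leaf ⟨615, 10, 537, 9, [5138, 5549, 5542]⟩) (.leaf ⟨1476, 1, 1002, 43, [13743, 13735, 11659, 11665, 9328]⟩))) (.node (.node (.leaf ⟨387, 12, 221, 19, [2735, 2664, 3435, 3503]⟩) (.leaf ⟨1090, 10, 1286, 9, [11624, 11614, 11695]⟩)) (.node (.leaf ⟨222,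 4, 868, 0, []⟩) (.leaf ⟨0, 12, 0, 0, []⟩))))) (.node (.node (.node (.node (.leaf ⟨108, 7, 54, 4, [935, 926, 493, 494]⟩) (.leaf ⟨1092, 0, 868, 3, [9133, 3766, 3455, 1832, 7600]⟩)) (.node (.leaf ⟨126, 1, 608, 0, []⟩) (.leaf ⟨1430, 1, 1113, 38, [13231, 11459, 11450]⟩))) (.node (.node (.leaf ⟨419, 0, 347, 10, [2989, 2982, 2362]⟩) (.leaf ⟨1175, 9, 1095, 84, [9929, 10928, 7315, 4261, 7896, 11183, 9154]⟩)) (.node (.leaf ⟨777, 3, 772, 7, [7087, 1559, 7072, 7074]⟩) (.leaf ⟨1539, 4, 1619, 91, [14273, 13960, 13937, 15277]⟩)))) (.node (.node (.node (.leaf ⟨211, 8, 293, 17, [1616, 1967, 1959, 1957]⟩) (.leaf ⟨1194, 2, 963, 5, [10153, 10143, 6797, 8128]⟩)) (.node (.leaf ⟨712, 3, 527, 28, [6063, 5983, 5989]⟩) (.leaf ⟨807, 11, 1538, 13, [8749, 8742, 14251]⟩))) (.node (.node (.leaf ⟨433, 3, 219, 24, [4008, 3985]⟩) (.leaf ⟨651, 5, 1332, 82, [6707, 12186, 12159, 12203]⟩)) (.node (.leaf ⟨958,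 4, 959, 0, []⟩) (.leaf ⟨0, 12, 0, 0, []⟩))))))))

def factB25 : Arr (CFact) :=
  (.node (.node (.node (.node (.node (.node (.node (.leaf ⟨1, 2, 4, 6, [29, 47]⟩) (.leaf ⟨968, 0, 979, 31, [8158, 5610, 8241]⟩)) (.node (.leaf ⟨369, 9, 84, 27, [4145, 3781]⟩) (.leaf ⟨1345, 4, 707, 36, [12335, 4910, 6549, 6392]⟩))) (.node (.node (.leaf ⟨308, 2, 309, 0, []⟩) (.leaf ⟨1202, 2, 985, 5, [10285, 10277, 3467, 8288]⟩)) (.node (.leaf ⟨718, 11, 564, 13, [6191, 5610, 4786]⟩) (.leaf ⟨1295, 11, 1549, 13, [11818, 8988, 14381]⟩)))) (.node (.node (.node (.leaf ⟨133, 3, 130, 7, [1073, 1070, 1054, 1056]⟩) (.leaf ⟨1109, 2, 775, 5, [9263, 9255, 9252, 7080]⟩)) (.node (.leaf ⟨272, 4, 622, 42, [3565, 4445, 4443, 997, 404, 1400, 5169]⟩) (.leaf ⟨1440, 9, 1047, 84, [13361, 13358, 8574, 6874, 8727, 11333, 8814]⟩))) (.node (.node (.leaf ⟨432, 0, 214, 10, [3115, 3108, 1620]⟩) (.leaf ⟨1092, 8, 1003, 17, [11083,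 9095, 11307, 11311]⟩)) (.node (.leaf ⟨721, 5, 801, 73, [7214, 7207]⟩) (.leaf ⟨0, 12, 0, 0, []⟩))))) (.node (.node (.node (.node (.leaf ⟨71, 3, 66, 7, [557, 99, 540, 544]⟩) (.leaf ⟨1040, 0, 839, 3, [8751, 8744, 7360, 7425, 7426]⟩)) (.node (.leaf ⟨552, 1, 553, 0, []⟩) (.leaf ⟨1039, 10, 1397, 9, [12633, 12659, 12849]⟩))) (.node (.node (.leaf ⟨278, 12, 376, 22, [1869, 1834, 1842, 2607, 2598]⟩) (.leaf ⟨1256, 0, 1251, 3, [10799, 10792, 10691, 10741, 10742]⟩)) (.node (.leaf ⟨714, 2, 651, 16, [6700, 6602]⟩) (.leaf ⟨1589, 1, 1137, 38, [14897, 9389, 9569]⟩)))) (.node (.node (.node (.leaf ⟨199, 2, 200, 0, []⟩) (.leaf ⟨1160, 3, 1096, 7, [9777, 9772, 9154, 9162]⟩)) (.node (.leaf ⟨677, 0, 581, 11, [5679, 5676, 5064]⟩) (.leaf ⟨1496, 5, 1477, 72, [13873, 11449, 11439, 8699, 6925, 7045, 13750]⟩))) (.node (.node (.leaf ⟨393, 2, 455, 50, [2764, 2768, 2770, 703, 3633]⟩) (.leaf ⟨1296, 9, 831,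 84, [11825, 11822, 7842, 4113, 899, 1598, 7378]⟩)) (.node (.leaf ⟨899, 4, 900, 0, []⟩) (.leaf ⟨0, 12, 0, 0, []⟩)))))) (.node (.node (.node (.node (.node (.leaf ⟨22, 1, 22, 15, [302, 297, 303]⟩) (.leaf ⟨1013, 3, 937, 7, [8495, 8488, 7937, 7938]⟩)) (.node (.leaf ⟨492, 10, 458, 9, [4399, 4396, 3964]⟩) (.leaf ⟨1379, 7, 1353, 4, [12587, 4993, 5001, 12396]⟩))) (.node (.node (.leaf ⟨348, 1, 288, 12, [2353, 2349, 2343, 1576, 510, 2116, 2120, 1560, 1935]⟩) (.leaf ⟨1231, 6, 760, 2, [10545, 3609, 7024]⟩)) (.node (.leaf ⟨519, 10, 734, 9, [4500, 4913, 6449]⟩) (.leaf ⟨1567, 9, 1423, 21, [14631, 10282, 10145, 13136]⟩)))) (.node (.node (.node (.leaf ⟨166, 2, 157, 5, [1325, 1315, 1310, 1246]⟩) (.leaf ⟨1133, 3, 926, 7, [9517, 9510, 7865, 7866]⟩)) (.node (.leaf ⟨133, 11, 652, 0, []⟩) (.leaf ⟨1458, 2, 1414, 5, [13613, 13603, 13598, 13014]⟩))) (.node (.node (.leaf ⟨424, 12, 394, 22, [3017,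 2968, 2978, 3375, 2764]⟩) (.leaf ⟨1277, 7, 964, 4, [11561, 3732, 2693, 8134]⟩)) (.node (.leaf ⟨213, 4, 847, 0, []⟩) (.leaf ⟨0, 12, 0, 0, []⟩))))) (.node (.node (.node (.node (.leaf ⟨97, 7, 79, 4, [809, 802, 641, 648]⟩) (.leaf ⟨1074, 6, 1047, 2, [9009, 9007, 8814]⟩)) (.node (.leaf ⟨519, 8, 585, 17, [4500, 4913, 4905, 4903]⟩) (.leaf ⟨1359, 11, 1187, 13, [13105, 13100, 12148]⟩))) (.node (.node (.leaf ⟨277, 1, 406, 15, [2862, 2853]⟩) (.leaf ⟨1244, 1, 799, 43, [10684, 11055, 8356, 11025, 10790]⟩)) (.node (.leaf ⟨752, 3, 645, 44, [6959, 6560, 4436, 4879, 5349]⟩) (.leaf ⟨849, 11, 1610, 0, []⟩)))) (.node (.node (.node (.leaf ⟨270, 2, 271, 0, []⟩) (.leaf ⟨1182, 2, 1097, 5, [10029, 10021, 4189, 9170]⟩)) (.node (.leaf ⟨701, 2, 702, 0, []⟩) (.leaf ⟨1527, 9, 822, 21, [14119, 12991, 13289, 13300]⟩))) (.node (.node (.leaf ⟨214, 7, 219, 20, [2453, 3889, 3886]⟩) (.leaf ⟨693, 4, 1317, 68,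 [12080, 12076]⟩)) (.node (.leaf ⟨941, 4, 942, 0, []⟩) (.leaf ⟨0, 12, 0, 0, []⟩))))))) (.node (.node (.node (.node (.node (.node (.leaf ⟨4, 11, 21, 13, [48, 42, 175]⟩) (.leaf ⟨686, 12, 993, 82, [5763, 8367, 8365, 8362, 8336]⟩)) (.node (.leaf ⟨190, 6, 195, 18, [1560, 1935, 2355, 4273, 4263]⟩) (.leaf ⟨1330, 1, 1320, 43, [12194, 12191, 10768, 12463, 12434]⟩))) (.node (.node (.leaf ⟨335, 2, 336, 0, []⟩) (.leaf ⟨1209, 6, 1219, 87, [10340, 9274, 9283, 7041, 10417]⟩)) (.node (.leaf ⟨725, 0, 687, 10, [6315, 6283, 5788]⟩) (.leaf ⟨1558, 7, 1557, 19, [14513, 14212, 14485]⟩)))) (.node (.node (.node (.leaf ⟨150, 4, 151, 0, []⟩) (.leaf ⟨1123, 3, 851, 7, [9391, 2185, 7498, 7506]⟩)) (.node (.leaf ⟨519, 2, 638, 0, []⟩) (.leaf ⟨1449, 4, 1450, 0, []⟩))) (.node (.node (.leaf ⟨247, 0, 274, 10, [3216, 3249, 1852]⟩) (.leaf ⟨865, 8, 976, 17, [11052, 10653, 11435, 11441]⟩)) (.node (.leaf ⟨826,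 3, 824, 7, [7345, 7342, 7337, 7334]⟩) (.leaf ⟨0, 12, 0, 0, []⟩))))) (.node (.node (.node (.node (.leaf ⟨84, 0, 78, 35, [689, 686, 463, 633, 638]⟩) (.leaf ⟨1055, 4, 1056, 0, []⟩)) (.node (.leaf ⟨563, 1, 564, 0, []⟩) (.leaf ⟨1411, 6, 1359, 2, [12977, 12973, 12436]⟩))) (.node (.node (.leaf ⟨388, 10, 66, 9, [2737, 873, 878]⟩) (.leaf ⟨1215, 11, 1194, 100, [10396, 3917, 871, 2079, 8796, 10921, 10165]⟩)) (.node (.leaf ⟨750, 1, 717, 43, [6833, 4630, 4632, 4634, 6156]⟩) (.leaf ⟨1569, 4, 1598, 91, [14666, 14673, 14421, 15023]⟩)))) (.node (.node (.node (.leaf ⟨46, 1, 239, 0, []⟩) (.leaf ⟨1172, 2, 1044, 5, [9901, 9891, 2544, 8796]⟩)) (.node (.leaf ⟨558, 11, 563, 51, [5802, 5797]⟩) (.leaf ⟨1469, 2, 1511, 50, [13694, 10754, 12140, 12935, 13995]⟩))) (.node (.node (.leaf ⟨463, 0, 265, 10, [3757, 3752, 1809]⟩) (.leaf ⟨1304, 8, 829, 17, [11949, 9752, 8091, 11099]⟩)) (.node (.leaf ⟨925,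 6, 849, 2, [7857, 7850, 7490]⟩) (.leaf ⟨0, 12, 0, 0, []⟩)))))) (.node (.node (.node (.node (.node (.leaf ⟨30, 11, 25, 13, [433, 430, 242]⟩) (.leaf ⟨756, 0, 779, 11, [8621, 8625, 7097]⟩)) (.node (.leaf ⟨530, 2, 531, 0, []⟩) (.leaf ⟨692, 4, 1387, 0, []⟩))) (.node (.node (.leaf ⟨61, 11, 364, 0, []⟩) (.leaf ⟨917, 11, 1243, 37, [7798, 3519, 3858, 3871, 2754, 3383, 10673]⟩)) (.node (.leaf ⟨679, 12, 740, 22, [5687, 5636, 5640, 6576, 6573]⟩) (.leaf ⟨1525, 5, 1579, 90, [14327, 14329, 13726, 14769]⟩)))) (.node (.node (.node (.leaf ⟨177, 7, 159, 4, [1449, 1440, 1257, 1262]⟩) (.leaf ⟨1047, 1, 1139, 101, [9011, 9016, 9649]⟩)) (.node (.leaf ⟨160, 9, 657, 21, [4981, 5151, 5549, 5538]⟩) (.leaf ⟨1463, 6, 1476, 18, [13657, 13655, 13651, 8395, 13745]⟩))) (.node (.node (.leaf ⟨221, 11, 65, 51, [3505, 2735]⟩) (.leaf ⟨1111, 11, 842, 100, [9280, 6310, 11693, 11697, 9122, 11246, 7455]⟩)) (.node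 (.leaf ⟨868, 4, 869, 0, []⟩) (.leaf ⟨0, 12, 0, 0, []⟩))))) (.node (.node (.node (.node (.leaf ⟨108, 4, 109, 0, []⟩) (.leaf ⟨1092, 7, 997, 4, [9133, 3766, 3455, 8352]⟩)) (.node (.leaf ⟨608, 3, 498, 44, [5041, 1491, 4441, 4439, 4437]⟩) (.leaf ⟨610, 4, 1431, 0, []⟩))) (.node (.node (.leaf ⟨419, 2, 420, 0, []⟩) (.leaf ⟨1058, 1, 1014, 58, [8900, 8265, 11165, 10845]⟩)) (.node (.leaf ⟨777, 4, 778, 0, []⟩) (.leaf ⟨1606, 3, 1619, 99, [15114, 14003, 13934, 15277]⟩)))) (.node (.node (.node (.leaf ⟨51, 8, 297, 0, []⟩) (.leaf ⟨1194, 7, 1174, 4, [10153, 10146, 10040, 9920]⟩)) (.node (.leaf ⟨163, 9, 640, 21, [4521, 6065, 6057, 5318]⟩) (.leaf ⟨1489, 6, 1538, 70, [13825, 13817, 11269, 14251]⟩))) (.node (.node (.leaf ⟨433, 4, 393, 68, [4008, 3991]⟩) (.leaf ⟨1332, 10, 1167, 88, [12209, 5425, 1073, 5216, 8428, 11068, 9857]⟩)) (.node (.leaf ⟨959, 4, 960, 0, []⟩) (.leaf ⟨0, 12, 0, 0, []⟩))))))))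

def factB26 : Arr (CFact) :=
  (.node (.node (.node (.node (.node (.node (.node (.leaf ⟨4, 4, 5, 0, []⟩) (.leaf ⟨971, 0, 960, 32, [8237, 8243, 8156]⟩)) (.node (.leaf ⟨479, 11, 311, 13, [4143, 3761, 3769]⟩) (.leaf ⟨1011, 11, 1345, 37, [8482, 4217, 4235, 2653, 6672, 6679, 12339]⟩))) (.node (.node (.leaf ⟨309, 1, 96, 12, [2099, 2097, 2095, 2093, 2091, 2087, 2083, 2077, 807]⟩) (.leaf ⟨1202, 4, 1203, 0, []⟩)) (.node (.leaf ⟨564, 4, 186, 42, [6195, 6193, 3744, 859, 316, 506, 2127]⟩) (.leaf ⟨800, 11, 1550, 0, []⟩)))) (.node (.node (.node (.leaf ⟨133, 4, 134, 0, []⟩) (.leaf ⟨1109, 4, 1110, 0, []⟩)) (.node (.leaf ⟨622, 2, 623, 0, []⟩) (.leaf ⟨1440, 0, 1315, 35, [13361, 13352, 12370, 12212, 12072]⟩))) (.node (.node (.leaf ⟨298, 12, 431, 22, [1973, 1940, 1946, 3121, 3115]⟩) (.leaf ⟨1261, 4, 1262, 0, []⟩)) (.node (.leaf ⟨803, 6, 759, 2, [7217, 6250, 7020]⟩) (.leaf ⟨0, 12, 0, 0, []⟩)))))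 (.node (.node (.node (.node (.leaf ⟨66, 0, 54, 32, [563, 560, 510]⟩) (.leaf ⟨1040, 3, 1037, 7, [8751, 8746, 8719, 8720]⟩)) (.node (.leaf ⟨553, 2, 554, 0, []⟩) (.leaf ⟨586, 4, 1398, 0, []⟩))) (.node (.node (.leaf ⟨278, 0, 245, 23, [2610, 2600]⟩) (.leaf ⟨1256, 3, 1230, 7, [10799, 10794, 10532, 10538]⟩)) (.node (.leaf ⟨714, 3, 734, 24, [6700, 6601]⟩) (.leaf ⟨1589, 4, 1468, 77, [14897, 7330, 2962, 9577, 10958, 7010, 13686]⟩)))) (.node (.node (.node (.leaf ⟨200, 1, 201, 0, []⟩) (.leaf ⟨1160, 7, 996, 34, [9777, 9770, 8351, 8342]⟩)) (.node (.leaf ⟨138, 8, 678, 0, []⟩) (.leaf ⟨1468, 2, 1497, 0, []⟩))) (.node (.node (.leaf ⟨281, 0, 455, 10, [1879, 705, 3633]⟩) (.leaf ⟨1296, 0, 1185, 3, [11825, 11814, 9922, 10053, 10054]⟩)) (.node (.leaf ⟨900, 4, 901, 0, []⟩) (.leaf ⟨0, 12, 0, 0, []⟩)))))) (.node (.node (.node (.node (.node (.leaf ⟨22, 2, 7, 16, [302, 294]⟩) (.leaf ⟨1013, 2, 931,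 5, [8495, 8485, 4709, 7902]⟩)) (.node (.leaf ⟨475, 12, 492, 22, [3983, 3691, 3963, 4397, 4399]⟩) (.leaf ⟨852, 10, 1379, 9, [12508, 12502, 12595]⟩))) (.node (.node (.leaf ⟨185, 6, 348, 18, [1547, 943, 1565, 1932, 2355]⟩) (.leaf ⟨1231, 0, 1107, 3, [10545, 3609, 2141, 4284, 9246]⟩)) (.node (.leaf ⟨660, 1, 735, 0, []⟩) (.leaf ⟨1468, 4, 1567, 42, [13691, 9400, 13036, 12391, 5039, 13122, 14643]⟩)))) (.node (.node (.node (.leaf ⟨166, 4, 32, 36, [1325, 1320, 1270, 428]⟩) (.leaf ⟨1133, 2, 922, 5, [9517, 9505, 3059, 7836]⟩)) (.node (.leaf ⟨652, 1, 145, 38, [5427, 1139, 1143]⟩) (.leaf ⟨870, 1, 1458, 14, [7629, 11172, 7220, 13022, 13619]⟩))) (.node (.node (.leaf ⟨394, 8, 71, 46, [3379, 3017]⟩) (.leaf ⟨1277, 4, 1278, 0, []⟩)) (.node (.leaf ⟨847, 6, 837, 2, [7475, 3127, 7414]⟩) (.leaf ⟨0, 12, 0, 0, []⟩))))) (.node (.node (.node (.node (.leaf ⟨97, 4, 98, 0, []⟩) (.leaf ⟨1074, 0, 972,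 3, [9009, 9007, 8812, 8326, 8172]⟩)) (.node (.leaf ⟨123, 8, 589, 0, []⟩) (.leaf ⟨825, 9, 1360, 40, [7341, 3704, 7322, 11240, 10089, 13107, 12438]⟩))) (.node (.node (.leaf ⟨277, 2, 248, 16, [2862, 2661]⟩) (.leaf ⟨772, 1, 1167, 48, [10645, 11055, 9851]⟩)) (.node (.leaf ⟨752, 6, 608, 18, [6959, 5355, 4882, 1444, 5040]⟩) (.leaf ⟨1610, 1, 855, 38, [15155, 7537, 7541]⟩)))) (.node (.node (.node (.leaf ⟨271, 7, 242, 20, [1843, 1838, 1722]⟩) (.leaf ⟨1182, 4, 566, 36, [10029, 10027, 9199, 4795]⟩)) (.node (.leaf ⟨702, 0, 645, 11, [5939, 5934, 5344]⟩) (.leaf ⟨1520, 4, 1527, 77, [14069, 8164, 11271, 7359, 3953, 11536, 14129]⟩))) (.node (.node (.leaf ⟨471, 0, 416, 76, [3876, 3722, 3366, 2461, 3889]⟩) (.leaf ⟨693, 5, 1315, 73, [12080, 12075]⟩)) (.node (.leaf ⟨942, 6, 767, 2, [7987, 7980, 7052]⟩) (.leaf ⟨0, 12, 0, 0, []⟩))))))) (.node (.node (.node (.node (.node (.node (.leaf ⟨9, 6, 21,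 18, [87, 83, 77, 50, 175]⟩) (.leaf ⟨686, 4, 994, 68, [8370, 8338]⟩)) (.node (.leaf ⟨186, 7, 488, 20, [1551, 2356, 4273]⟩) (.leaf ⟨1362, 4, 1363, 0, []⟩))) (.node (.node (.leaf ⟨336, 1, 97, 12, [2227, 2225, 2223, 2221, 2219, 2215, 2213, 2207, 817]⟩) (.leaf ⟨1208, 0, 1218, 103, [10336, 9307, 7036, 10417, 10409]⟩)) (.node (.leaf ⟨555, 9, 559, 21, [4663, 5284, 6321, 6315]⟩) (.leaf ⟨805, 11, 1559, 0, []⟩)))) (.node (.node (.node (.leaf ⟨151, 3, 148, 7, [1203, 1196, 1162, 1170]⟩) (.leaf ⟨1123, 2, 1041, 5, [9391, 3350, 2927, 8762]⟩)) (.node (.leaf ⟨638, 2, 518, 6, [5299, 4499]⟩) (.leaf ⟨1450, 6, 1349, 2, [13491, 13480, 12374]⟩))) (.node (.node (.leaf ⟨250, 11, 406, 13, [3235, 2873, 2866]⟩) (.leaf ⟨975, 10, 797, 97, [8214, 11443, 7573, 11251, 7456, 2885, 7189]⟩)) (.node (.leaf ⟨819, 7, 826, 20, [7312, 7339, 7347]⟩) (.leaf ⟨0, 12, 0, 0, []⟩))))) (.node (.node (.node (.node (.leaf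 ⟨84, 4, 85, 0, []⟩) (.leaf ⟨1056, 6, 992, 2, [8883, 8878, 8334]⟩)) (.node (.leaf ⟨564, 6, 556, 18, [4787, 4783, 4777, 1529, 4667]⟩) (.leaf ⟨1411, 3, 1346, 7, [12977, 12964, 12338, 12344]⟩))) (.node (.node (.leaf ⟨388, 0, 314, 10, [2737, 564, 2116]⟩) (.leaf ⟨1194, 1, 1025, 38, [10931, 10394, 9597]⟩)) (.node (.leaf ⟨750, 7, 545, 20, [6833, 5778, 6761]⟩) (.leaf ⟨835, 1, 1599, 0, []⟩)))) (.node (.node (.node (.leaf ⟨239, 10, 64, 9, [1715, 777, 784]⟩) (.leaf ⟨1172, 4, 557, 36, [9901, 9899, 8833, 6355]⟩)) (.node (.leaf ⟨689, 2, 572, 29, [5805, 5806, 5788, 5785, 4658, 5287, 5282, 1207, 4815]⟩) (.leaf ⟨1511, 7, 1470, 20, [14003, 13989, 13984]⟩))) (.node (.node (.leaf ⟨311, 12, 462, 22, [2109, 2076, 2082, 3761, 3757]⟩) (.leaf ⟨1304, 4, 1305, 0, []⟩)) (.node (.leaf ⟨925, 3, 921, 7, [7857, 7852, 7842, 7830]⟩) (.leaf ⟨0, 12, 0, 0, []⟩)))))) (.node (.node (.node (.node (.node (.leaf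 ⟨32, 10, 31, 9, [340, 342, 433]⟩) (.leaf ⟨780, 6, 757, 2, [7099, 8627, 7010]⟩)) (.node (.leaf ⟨531, 1, 532, 0, []⟩) (.leaf ⟨1387, 9, 860, 40, [12723, 6715, 5837, 5822, 12329, 12332, 7554]⟩))) (.node (.node (.leaf ⟨364, 1, 73, 38, [2483, 587, 591]⟩) (.leaf ⟨1243, 1, 1131, 38, [10675, 7954, 9495]⟩)) (.node (.leaf ⟨679, 0, 578, 23, [6578, 6574]⟩) (.leaf ⟨1532, 4, 1579, 36, [14735, 13944, 13951, 14769]⟩)))) (.node (.node (.node (.leaf ⟨177, 4, 178, 0, []⟩) (.leaf ⟨1141, 6, 774, 2, [9645, 6943, 7122]⟩)) (.node (.leaf ⟨135, 8, 658, 0, []⟩) (.leaf ⟨1225, 9, 1476, 21, [10480, 9680, 9328, 13745]⟩))) (.node (.node (.leaf ⟨249, 1, 447, 0, []⟩) (.leaf ⟨842, 1, 1116, 38, [11699, 10585, 10576]⟩)) (.node (.leaf ⟨869, 4, 870, 0, []⟩) (.leaf ⟨0, 12, 0, 0, []⟩))))) (.node (.node (.node (.node (.leaf ⟨109, 6, 103, 2, [947, 938, 880]⟩) (.leaf ⟨1092, 4, 1093, 0, []⟩)) (.node (.leaf ⟨608, 8,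 573, 17, [5041, 1491, 1494, 4816]⟩) (.leaf ⟨1431, 6, 1403, 2, [13235, 5677, 12902]⟩))) (.node (.node (.leaf ⟨420, 0, 348, 11, [2995, 2992, 2352]⟩) (.leaf ⟨1014, 10, 1179, 9, [11187, 8900, 10005]⟩)) (.node (.leaf ⟨778, 3, 774, 7, [7091, 7088, 7076, 7078]⟩) (.leaf ⟨1619, 3, 1607, 30, [15283, 15116]⟩)))) (.node (.node (.node (.leaf ⟨51, 9, 298, 0, []⟩) (.leaf ⟨1194, 4, 1195, 0, []⟩)) (.node (.leaf ⟨145, 9, 713, 0, []⟩) (.leaf ⟨1395, 8, 1538, 17, [12815, 7284, 7227, 14251]⟩))) (.node (.node (.leaf ⟨357, 5, 477, 65, [3060, 3652, 4007]⟩) (.leaf ⟨1331, 0, 1314, 31, [12200, 12207, 12073]⟩)) (.node (.leaf ⟨960, 4, 961, 0, []⟩) (.leaf ⟨0, 12, 0, 0, []⟩))))))))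

def factB27 : Arr (CFact) :=
  (.node (.node (.node (.node (.node (.node (.node (.leaf ⟨5, 6, 5, 2, [53, 45, 52]⟩) (.leaf ⟨961, 6, 972, 2, [8117, 8245, 8172]⟩)) (.node (.leaf ⟨302, 11, 479, 13, [2552, 4139, 4038]⟩) (.leaf ⟨1345, 1, 1013, 38, [12341, 9467, 9456]⟩))) (.node (.node (.leaf ⟨261, 0, 309, 10, [1789, 803, 2101]⟩) (.leaf ⟨1203, 3, 898, 7, [10293, 10288, 7727, 7724]⟩)) (.node (.leaf ⟨488, 5, 626, 57, [4277, 6197, 4788, 5223]⟩) (.leaf ⟨1550, 1, 1256, 38, [14389, 8692, 10801]⟩)))) (.node (.node (.node (.leaf ⟨134, 3, 125, 7, [1077, 1074, 1058, 1044]⟩) (.leaf ⟨1110, 3, 777, 7, [9269, 9264, 7110, 7086]⟩)) (.node (.leaf ⟨623, 5, 329, 82, [5173, 5171, 2647, 2616]⟩) (.leaf ⟨1440, 3, 1364, 7, [13361, 13348, 12473, 12478]⟩))) (.node (.node (.leaf ⟨298, 0, 213, 23, [3124, 3108]⟩) (.leaf ⟨1262, 6, 865, 2, [11317, 11302, 7572]⟩)) (.node (.leaf ⟨473, 4, 804, 0, []⟩) (.leaf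 ⟨0, 12, 0, 0, []⟩))))) (.node (.node (.node (.node (.leaf ⟨55, 6, 67, 2, [497, 565, 546]⟩) (.leaf ⟨1040, 7, 784, 4, [8751, 8744, 7360, 7128]⟩)) (.node (.leaf ⟨554, 1, 555, 0, []⟩) (.leaf ⟨1398, 6, 1345, 2, [12853, 5382, 12334]⟩))) (.node (.node (.leaf ⟨278, 1, 375, 15, [2610, 2599]⟩) (.leaf ⟨1256, 2, 1235, 5, [10799, 10789, 10785, 10574]⟩)) (.node (.leaf ⟨714, 6, 521, 26, [6700, 6619]⟩) (.leaf ⟨1526, 4, 1589, 91, [14493, 14477, 13877, 14901]⟩)))) (.node (.node (.node (.leaf ⟨201, 2, 202, 0, []⟩) (.leaf ⟨1160, 4, 365, 8, [9777, 9769, 9761, 9758, 9751, 9741]⟩)) (.node (.leaf ⟨138, 9, 679, 0, []⟩) (.leaf ⟨1497, 1, 1108, 43, [13877, 13688, 8735, 10828, 10556]⟩))) (.node (.node (.leaf ⟨388, 8, 455, 17, [2737, 873, 874, 3633]⟩) (.leaf ⟨1296, 3, 1291, 7, [11825, 11816, 11738, 11750]⟩)) (.node (.leaf ⟨901, 4, 902, 0, []⟩) (.leaf ⟨0, 12, 0, 0, []⟩)))))) (.node (.node (.node (.node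 (.node (.leaf ⟨22, 3, 8, 24, [302, 291]⟩) (.leaf ⟨1013, 4, 280, 36, [8495, 8490, 7910, 3241]⟩)) (.node (.leaf ⟨475, 0, 356, 23, [4404, 4400]⟩) (.leaf ⟨1183, 1, 1379, 102, [10040, 11146, 8065, 12547, 12591]⟩))) (.node (.node (.leaf ⟨348, 7, 195, 56, [2357, 1547, 1572]⟩) (.leaf ⟨1231, 2, 1228, 5, [10545, 6223, 6220, 10524]⟩)) (.node (.leaf ⟨735, 6, 681, 18, [6453, 6122, 5744, 1232, 5690]⟩) (.leaf ⟨813, 11, 1568, 0, []⟩)))) (.node (.node (.node (.leaf ⟨34, 4, 167, 0, []⟩) (.leaf ⟨1133, 4, 678, 36, [9517, 9512, 7834, 6401]⟩)) (.node (.leaf ⟨587, 2, 652, 50, [4906, 4908, 4491, 1143, 5429]⟩) (.leaf ⟨1458, 4, 1459, 0, []⟩))) (.node (.node (.leaf ⟨419, 8, 391, 17, [2989, 3375, 2761, 2757]⟩) (.leaf ⟨1278, 6, 879, 2, [11573, 11564, 7640]⟩)) (.node (.leaf ⟨847, 3, 818, 7, [7475, 1619, 3395, 7306]⟩) (.leaf ⟨0, 12, 0, 0, []⟩))))) (.node (.node (.node (.node (.leaf ⟨98, 6, 50, 2, [821,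 812, 474]⟩) (.leaf ⟨1074, 3, 1065, 7, [9009, 9004, 8962, 8940]⟩)) (.node (.leaf ⟨123, 9, 590, 0, []⟩) (.leaf ⟨1096, 1, 1421, 53, [11869, 12330, 12706, 13103]⟩))) (.node (.node (.leaf ⟨277, 4, 371, 68, [2862, 2637]⟩) (.leaf ⟨1167, 10, 1212, 9, [11061, 10443, 10448]⟩)) (.node (.leaf ⟨752, 0, 731, 10, [6959, 6377, 6378]⟩) (.leaf ⟨1610, 4, 1540, 77, [15155, 7496, 2949, 663, 3630, 8044, 14283]⟩)))) (.node (.node (.node (.leaf ⟨271, 1, 272, 0, []⟩) (.leaf ⟨566, 4, 1183, 0, []⟩)) (.node (.leaf ⟨702, 1, 703, 0, []⟩) (.leaf ⟨1175, 10, 1520, 88, [9934, 3741, 689, 3712, 11536, 14129, 14133]⟩))) (.node (.node (.leaf ⟨415, 7, 416, 69, [3351, 2187, 3357, 2896, 3889]⟩) (.leaf ⟨1317, 9, 1012, 40, [12083, 6100, 6082, 4617, 1021, 4775, 8484]⟩)) (.node (.leaf ⟨942, 3, 793, 7, [7987, 7982, 7179, 7176]⟩) (.leaf ⟨0, 12, 0, 0, []⟩))))))) (.node (.node (.node (.node (.node (.node (.leaf ⟨20,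 12, 15, 14, [172, 174, 42, 175, 173, 165]⟩) (.leaf ⟨686, 5, 992, 73, [8370, 8337]⟩)) (.node (.leaf ⟨488, 11, 194, 13, [4277, 2141, 2145]⟩) (.leaf ⟨1363, 3, 1360, 7, [12469, 12458, 12436, 12438]⟩))) (.node (.node (.leaf ⟨85, 11, 336, 13, [698, 811, 2229]⟩) (.leaf ⟨764, 7, 1210, 4, [7041, 10417, 10419, 10342]⟩)) (.node (.leaf ⟨725, 8, 628, 17, [6315, 6281, 5624, 5226]⟩) (.leaf ⟨1559, 1, 1040, 38, [14517, 7365, 8753]⟩)))) (.node (.node (.node (.leaf ⟨151, 2, 141, 5, [1203, 1193, 1191, 1102]⟩) (.leaf ⟨1123, 7, 941, 4, [9391, 2187, 3384, 7978]⟩)) (.node (.leaf ⟨589, 1, 638, 53, [4917, 4884, 4888, 5301]⟩) (.leaf ⟨1450, 0, 1337, 3, [13491, 13480, 12370, 12367, 12260]⟩))) (.node (.node (.leaf ⟨330, 10, 245, 9, [2214, 2216, 3235]⟩) (.leaf ⟨789, 1, 975, 101, [7517, 7522, 11445]⟩)) (.node (.leaf ⟨270, 5, 826, 82, [2232, 2955, 7331, 7347]⟩) (.leaf ⟨0, 12, 0, 0, []⟩))))) (.node (.node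 (.node (.node (.leaf ⟨85, 6, 79, 2, [693, 690, 648]⟩) (.leaf ⟨900, 0, 1056, 76, [8101, 5718, 7620, 8386, 8885]⟩)) (.node (.leaf ⟨564, 2, 565, 0, []⟩) (.leaf ⟨1411, 2, 1344, 5, [12977, 12963, 12958, 12324]⟩))) (.node (.node (.leaf ⟨388, 2, 389, 0, []⟩) (.leaf ⟨756, 1, 824, 43, [8621, 10933, 10160, 8837, 7339]⟩)) (.node (.leaf ⟨750, 2, 539, 6, [6833, 4629]⟩) (.leaf ⟨1599, 3, 1592, 44, [15029, 9337, 11233, 7566, 14939]⟩)))) (.node (.node (.node (.leaf ⟨239, 2, 240, 0, []⟩) (.leaf ⟨557, 4, 1173, 0, []⟩)) (.node (.leaf ⟨572, 7, 568, 20, [5813, 5800, 4800]⟩) (.leaf ⟨1035, 8, 1252, 17, [13689, 14000, 14003, 13694]⟩))) (.node (.node (.leaf ⟨311, 0, 266, 23, [3764, 3752]⟩) (.leaf ⟨1305, 6, 1100, 2, [11957, 11938, 9192]⟩)) (.node (.leaf ⟨925, 7, 855, 4, [7857, 7850, 7533, 7538]⟩) (.leaf ⟨0, 12, 0, 0, []⟩)))))) (.node (.node (.node (.node (.node (.leaf ⟨38, 7, 34, 20, [379, 431,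 426]⟩) (.leaf ⟨288, 4, 1026, 0, []⟩)) (.node (.leaf ⟨532, 2, 533, 0, []⟩) (.leaf ⟨1387, 3, 1318, 7, [12723, 6685, 6693, 12090]⟩))) (.node (.node (.leaf ⟨295, 2, 364, 50, [1960, 1962, 1607, 591, 2485]⟩) (.leaf ⟨420, 4, 1244, 0, []⟩)) (.node (.leaf ⟨679, 1, 679, 15, [6578, 6573, 6579]⟩) (.leaf ⟨819, 10, 1580, 0, []⟩)))) (.node (.node (.node (.leaf ⟨178, 6, 160, 2, [1461, 1452, 1266]⟩) (.leaf ⟨778, 7, 1145, 20, [7092, 9653, 9607]⟩)) (.node (.leaf ⟨135, 9, 659, 0, []⟩) (.leaf ⟨764, 10, 1477, 0, []⟩))) (.node (.node (.leaf ⟨447, 2, 372, 50, [3509, 3236, 2628, 2630, 2578]⟩) (.leaf ⟨1116, 10, 834, 9, [11701, 7849, 7854]⟩)) (.node (.leaf ⟨870, 4, 871, 0, []⟩) (.leaf ⟨0, 12, 0, 0, []⟩))))) (.node (.node (.node (.node (.leaf ⟨109, 0, 103, 3, [947, 938, 872, 879, 880]⟩) (.leaf ⟨1093, 6, 869, 2, [9141, 9136, 7602]⟩)) (.node (.leaf ⟨608, 9, 504, 21, [5041, 1065, 1063, 4461]⟩) (.leaf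 ⟨1431, 0, 1356, 3, [13235, 5677, 6402, 6384, 12416]⟩))) (.node (.node (.leaf ⟨420, 1, 421, 0, []⟩) (.leaf ⟨932, 1, 1142, 43, [8515, 11187, 8935, 10502, 10462]⟩)) (.node (.leaf ⟨778, 4, 779, 0, []⟩) (.leaf ⟨1550, 6, 1619, 59, [14390, 12640, 15119, 15285]⟩)))) (.node (.node (.node (.leaf ⟨51, 10, 299, 0, []⟩) (.leaf ⟨1195, 6, 887, 2, [10165, 10156, 7668]⟩)) (.node (.leaf ⟨713, 5, 583, 55, [6069, 1141, 4763, 1192, 4614, 5378, 5324]⟩) (.leaf ⟨1538, 5, 1521, 52, [14261, 12809, 5010, 1246, 6521, 8241, 14078]⟩))) (.node (.node (.leaf ⟨435, 12, 469, 28, [3146, 4003, 4000, 3848]⟩) (.leaf ⟨938, 1, 1331, 48, [7948, 12106, 12213]⟩)) (.node (.leaf ⟨961, 4, 962, 0, []⟩) (.leaf ⟨0, 12, 0, 0, []⟩))))))))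

def factB28 : Arr (CFact) :=
  (.node (.node (.node (.node (.node (.node (.node (.leaf ⟨5, 0, 5, 3, [53, 45, 43, 49, 52]⟩) (.leaf ⟨266, 4, 980, 0, []⟩)) (.node (.leaf ⟨461, 7, 463, 20, [3730, 4139, 4034]⟩) (.leaf ⟨707, 4, 1346, 0, []⟩))) (.node (.node (.leaf ⟨302, 8, 309, 17, [2077, 492, 807, 2101]⟩) (.leaf ⟨1203, 2, 989, 5, [10293, 10285, 10282, 8302]⟩)) (.node (.leaf ⟨556, 4, 314, 54, [5223, 6199, 4266]⟩) (.leaf ⟨842, 8, 1550, 17, [11700, 10577, 10807, 14391]⟩)))) (.node (.node (.node (.leaf ⟨134, 4, 135, 0, []⟩) (.leaf ⟨1110, 2, 772, 5, [9269, 9263, 9258, 7074]⟩)) (.node (.leaf ⟨623, 0, 508, 11, [5173, 5166, 4470]⟩) (.leaf ⟨1440, 2, 1357, 5, [13361, 13343, 13336, 12424]⟩))) (.node (.node (.leaf ⟨298, 1, 432, 15, [3124, 3114]⟩) (.leaf ⟨1262, 0, 1105, 3, [11317, 11302, 8923, 9227, 9230]⟩)) (.node (.leaf ⟨804, 0, 783, 3, [7223, 3934, 3033, 3431, 7126]⟩) (.leaf ⟨0, 12,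 0, 0, []⟩))))) (.node (.node (.node (.node (.leaf ⟨71, 4, 72, 0, []⟩) (.leaf ⟨1040, 4, 291, 8, [8751, 8741, 4943, 4941, 8737, 8731]⟩)) (.node (.leaf ⟨555, 2, 556, 0, []⟩) (.leaf ⟨1398, 9, 1268, 40, [12853, 5896, 1058, 399, 1089, 6529, 11414]⟩))) (.node (.node (.leaf ⟨278, 2, 329, 16, [2610, 2602]⟩) (.leaf ⟨1256, 7, 1246, 4, [10799, 10792, 10691, 10696]⟩)) (.node (.leaf ⟨714, 9, 177, 27, [6700, 6615]⟩) (.leaf ⟨1574, 3, 1589, 99, [14714, 14637, 14645, 14901]⟩)))) (.node (.node (.node (.leaf ⟨202, 1, 203, 0, []⟩) (.leaf ⟨1059, 0, 1160, 31, [8908, 2517, 9783]⟩)) (.node (.leaf ⟨138, 10, 680, 0, []⟩) (.leaf ⟨1497, 2, 1472, 6, [13877, 13716]⟩))) (.node (.node (.leaf ⟨455, 2, 392, 71, [3637, 1882, 2759]⟩) (.leaf ⟨1296, 4, 480, 8, [11825, 11809, 11797, 11790, 11781, 11765]⟩)) (.node (.leaf ⟨902, 4, 903, 0, []⟩) (.leaf ⟨0, 12, 0, 0, []⟩)))))) (.node (.node (.node (.node (.node (.leaf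 ⟨22, 6, 11, 26, [302, 301]⟩) (.leaf ⟨1013, 7, 932, 34, [8495, 8486, 8468, 7904]⟩)) (.node (.leaf ⟨475, 1, 475, 15, [4404, 4399, 4405]⟩) (.leaf ⟨1366, 11, 1183, 13, [12506, 12589, 12599]⟩))) (.node (.node (.leaf ⟨346, 12, 193, 21, [2348, 2352, 2357, 1547, 1568]⟩) (.leaf ⟨1231, 7, 1112, 4, [10545, 3609, 2141, 9284]⟩)) (.node (.leaf ⟨735, 8, 540, 17, [6453, 5772, 4633, 4631]⟩) (.leaf ⟨1568, 1, 1238, 38, [14647, 8589, 10619]⟩)))) (.node (.node (.node (.leaf ⟨167, 6, 167, 2, [1335, 335, 1334]⟩) (.leaf ⟨1133, 7, 1121, 4, [9517, 9508, 9357, 9364]⟩)) (.node (.leaf ⟨516, 0, 652, 10, [4491, 1145, 5429]⟩) (.leaf ⟨1459, 6, 1406, 2, [13623, 13614, 12922]⟩))) (.node (.node (.leaf ⟨260, 6, 254, 2, [3357, 2896, 3371]⟩) (.leaf ⟨1278, 0, 976, 3, [11573, 11564, 8841, 8844, 8214]⟩)) (.node (.leaf ⟨847, 4, 443, 36, [7475, 2289, 2299, 3286]⟩) (.leaf ⟨0, 12, 0, 0, []⟩))))) (.node (.node (.node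 (.node (.leaf ⟨98, 0, 80, 3, [821, 812, 811, 818, 654]⟩) (.leaf ⟨1074, 7, 896, 4, [9009, 9007, 8812, 7714]⟩)) (.node (.leaf ⟨123, 10, 591, 0, []⟩) (.leaf ⟨1421, 4, 1422, 0, []⟩))) (.node (.node (.leaf ⟨277, 6, 245, 26, [2862, 2650]⟩) (.leaf ⟨1245, 1, 777, 102, [10690, 11035, 9855, 11061, 7089]⟩)) (.node (.leaf ⟨752, 8, 496, 17, [6959, 6560, 4435, 4433]⟩) (.leaf ⟨1599, 0, 1610, 31, [15036, 14281, 15159]⟩)))) (.node (.node (.node (.leaf ⟨272, 6, 246, 18, [1847, 1843, 1835, 977, 1733]⟩) (.leaf ⟨1183, 6, 1173, 2, [10039, 6267, 9910]⟩)) (.node (.leaf ⟨703, 0, 580, 10, [5943, 5940, 5348]⟩) (.leaf ⟨788, 11, 1528, 0, []⟩))) (.node (.node (.leaf ⟨416, 4, 257, 67, [3895, 2929, 2498, 2961, 3336]⟩) (.leaf ⟨903, 1, 1317, 94, [10269, 11337, 11350, 12087]⟩)) (.node (.leaf ⟨942, 2, 804, 5, [7987, 7979, 3926, 7222]⟩) (.leaf ⟨0, 12, 0, 0, []⟩))))))) (.node (.node (.node (.node (.node (.node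 (.leaf ⟨15, 1, 15, 15, [183, 165]⟩) (.leaf ⟨996, 3, 1001, 99, [8344, 3451, 5489, 8367]⟩)) (.node (.leaf ⟨317, 12, 186, 19, [2157, 2116, 4267, 4277]⟩) (.leaf ⟨701, 5, 1363, 82, [6381, 6553, 12441, 12471]⟩))) (.node (.node (.leaf ⟨270, 3, 334, 44, [1835, 811, 2229, 2227, 2225]⟩) (.leaf ⟨1218, 6, 1109, 86, [10421, 10338, 10340, 9269]⟩)) (.node (.leaf ⟨725, 9, 551, 21, [6315, 6278, 6224, 4654]⟩) (.leaf ⟨1521, 3, 1559, 44, [14076, 11753, 11762, 10592, 14519]⟩)))) (.node (.node (.node (.leaf ⟨151, 4, 152, 0, []⟩) (.leaf ⟨1123, 4, 1124, 0, []⟩)) (.node (.leaf ⟨522, 6, 589, 18, [4505, 4503, 4501, 5298, 5303]⟩) (.leaf ⟨1450, 3, 1416, 7, [13491, 13482, 13033, 13040]⟩))) (.node (.node (.leaf ⟨406, 4, 404, 77, [3253, 2625, 2623, 533, 2005, 548, 2844]⟩) (.leaf ⟨1269, 4, 1270, 0, []⟩)) (.node (.leaf ⟨270, 4, 827, 0, []⟩) (.leaf ⟨0, 12, 0, 0, []⟩))))) (.node (.node (.node (.node (.leaf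 ⟨85, 0, 79, 3, [693, 690, 640, 647, 648]⟩) (.leaf ⟨1056, 4, 597, 54, [8887, 8101, 5716]⟩)) (.node (.leaf ⟨565, 1, 566, 0, []⟩) (.leaf ⟨1411, 7, 1321, 4, [12977, 12973, 12434, 12130]⟩))) (.node (.node (.leaf ⟨389, 0, 189, 11, [2743, 2740, 2123]⟩) (.leaf ⟨776, 1, 886, 48, [8624, 10933, 10156]⟩)) (.node (.leaf ⟨750, 0, 735, 11, [6833, 6723, 6720]⟩) (.leaf ⟨1599, 9, 1158, 21, [15029, 8007, 9707, 11085]⟩)))) (.node (.node (.node (.leaf ⟨240, 1, 241, 0, []⟩) (.leaf ⟨1173, 0, 988, 3, [9911, 6266, 5273, 6826, 8318]⟩)) (.node (.leaf ⟨141, 10, 690, 0, []⟩) (.leaf ⟨1498, 7, 1497, 20, [13998, 14001, 13876]⟩))) (.node (.node (.leaf ⟨311, 1, 463, 15, [3764, 3756]⟩) (.leaf ⟨1305, 9, 869, 84, [11957, 11950, 7599, 5451, 9887, 11080, 7602]⟩)) (.node (.leaf ⟨410, 5, 925, 82, [4003, 5950, 7835, 7861]⟩) (.leaf ⟨0, 12, 0, 0, []⟩)))))) (.node (.node (.node (.node (.node (.leaf ⟨34, 11, 26, 13,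 [439, 396, 251]⟩) (.leaf ⟨1026, 0, 949, 3, [8631, 3603, 3626, 3643, 8044]⟩)) (.node (.leaf ⟨533, 1, 534, 0, []⟩) (.leaf ⟨1387, 2, 1313, 5, [12723, 12697, 12694, 12068]⟩))) (.node (.node (.leaf ⟨208, 0, 364, 10, [1607, 593, 2485]⟩) (.leaf ⟨1244, 6, 1144, 2, [10679, 2996, 9600]⟩)) (.node (.leaf ⟨679, 2, 707, 16, [6578, 6570]⟩) (.leaf ⟨1580, 7, 1464, 19, [14775, 14744, 14746]⟩)))) (.node (.node (.node (.leaf ⟨178, 0, 154, 3, [1461, 1452, 1264, 1222, 1226]⟩) (.leaf ⟨1147, 10, 845, 88, [9643, 4807, 1025, 4582, 1488, 7000, 7466]⟩)) (.node (.leaf ⟨135, 10, 660, 0, []⟩) (.leaf ⟨1477, 7, 1461, 19, [13751, 13720, 13724]⟩))) (.node (.node (.leaf ⟨447, 3, 373, 44, [3509, 2644, 2614, 2595, 2591]⟩) (.leaf ⟨835, 8, 872, 62, [7405, 11703, 9324, 6890, 11623, 11626, 7608]⟩)) (.node (.leaf ⟨871, 4, 872, 0, []⟩) (.leaf ⟨0, 12, 0, 0, []⟩))))) (.node (.node (.node (.node (.leaf ⟨109, 3, 52,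 7, [947, 940, 480, 484]⟩) (.leaf ⟨1093, 0, 954, 35, [9141, 9138, 9101, 9102, 8082]⟩)) (.node (.leaf ⟨497, 3, 608, 30, [4434, 5043]⟩) (.leaf ⟨1431, 3, 1335, 7, [13235, 5357, 12234, 12242]⟩))) (.node (.node (.leaf ⟨421, 0, 288, 10, [2999, 2996, 2354]⟩) (.leaf ⟨1109, 9, 1058, 21, [11171, 7941, 8509, 11187]⟩)) (.node (.leaf ⟨779, 3, 776, 7, [7095, 7092, 7080, 7082]⟩) (.leaf ⟨882, 10, 1620, 0, []⟩)))) (.node (.node (.node (.leaf ⟨299, 7, 210, 19, [1975, 1940, 1942]⟩) (.leaf ⟨1195, 0, 910, 3, [10165, 10156, 8988, 8997, 7756]⟩)) (.node (.leaf ⟨524, 6, 713, 2, [5832, 5376, 6071]⟩) (.leaf ⟨1521, 11, 943, 100, [14263, 14261, 12809, 5036, 1314, 5782, 8003]⟩))) (.node (.node (.leaf ⟨435, 0, 218, 23, [4022, 3850]⟩) (.leaf ⟨1328, 1, 1275, 14, [12199, 12215, 7946, 10488, 11543]⟩)) (.node (.leaf ⟨962, 4, 963, 0, []⟩) (.leaf ⟨0, 12, 0, 0, []⟩))))))))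

def factB29 : Arr (CFact) :=
  (.node (.node (.node (.node (.node (.node (.node (.leaf ⟨5, 3, 3, 7, [53, 51, 22, 32]⟩) (.leaf ⟨980, 3, 863, 7, [8249, 1815, 7560, 7564]⟩)) (.node (.leaf ⟨305, 9, 479, 21, [2092, 2094, 4139, 4038]⟩) (.leaf ⟨1346, 6, 1312, 2, [12345, 5973, 12066]⟩))) (.node (.node (.leaf ⟨53, 8, 310, 0, []⟩) (.leaf ⟨1203, 7, 966, 34, [10293, 10286, 8851, 8142]⟩)) (.node (.leaf ⟨662, 4, 453, 67, [5576, 4788, 5223, 6199, 4268]⟩) (.leaf ⟨1550, 5, 1533, 52, [14393, 7453, 4418, 7484, 12603, 10047, 14194]⟩)))) (.node (.node (.node (.leaf ⟨135, 3, 127, 7, [1081, 1078, 1048, 1050]⟩) (.leaf ⟨1110, 4, 1111, 0, []⟩)) (.node (.leaf ⟨623, 1, 623, 48, [5176, 4696, 5177]⟩) (.leaf ⟨1440, 4, 637, 36, [13361, 13350, 12440, 5294]⟩))) (.node (.node (.leaf ⟨298, 2, 345, 16, [3124, 3106]⟩) (.leaf ⟨1262, 3, 873, 7, [11317, 11304, 7634, 7612]⟩)) (.node (.leaf ⟨804, 2, 793, 5, [7223,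 5456, 4960, 7176]⟩) (.leaf ⟨0, 12, 0, 0, []⟩))))) (.node (.node (.node (.node (.leaf ⟨72, 6, 60, 2, [569, 560, 514]⟩) (.leaf ⟨297, 4, 1041, 0, []⟩)) (.node (.leaf ⟨556, 1, 183, 12, [4665, 4663, 4661, 4659, 4657, 4655, 4653, 4651, 1531]⟩) (.leaf ⟨1398, 4, 730, 36, [12853, 4904, 6550, 6375]⟩))) (.node (.node (.leaf ⟨278, 3, 330, 24, [2610, 2605]⟩) (.leaf ⟨1256, 4, 1257, 0, []⟩)) (.node (.leaf ⟨522, 10, 692, 9, [4505, 6711, 6104]⟩) (.leaf ⟨826, 10, 1590, 0, []⟩)))) (.node (.node (.node (.leaf ⟨203, 2, 204, 0, []⟩) (.leaf ⟨366, 4, 1161, 0, []⟩)) (.node (.leaf ⟨139, 1, 681, 0, []⟩) (.leaf ⟨1497, 6, 1471, 70, [13877, 13688, 13479, 13705]⟩))) (.node (.node (.leaf ⟨455, 7, 454, 20, [3635, 3374, 3620]⟩) (.leaf ⟨906, 11, 1296, 37, [8201, 6308, 1325, 5443, 5499, 4060, 11833]⟩)) (.node (.leaf ⟨903, 4, 904, 0, []⟩) (.leaf ⟨0, 12, 0, 0, []⟩)))))) (.node (.node (.node (.node (.node (.leaf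 ⟨22, 7, 21, 25, [302, 292]⟩) (.leaf ⟨280, 4, 1014, 0, []⟩)) (.node (.leaf ⟨475, 2, 251, 16, [4404, 4394]⟩) (.leaf ⟨1184, 9, 848, 84, [10047, 12601, 12512, 12514, 7247, 3727, 7484]⟩))) (.node (.node (.leaf ⟨193, 1, 347, 15, [2361, 2348]⟩) (.leaf ⟨1231, 4, 1232, 0, []⟩)) (.node (.leaf ⟨617, 11, 660, 13, [5701, 6455, 6453]⟩) (.leaf ⟨1568, 4, 1492, 77, [14647, 7288, 4380, 10627, 12817, 12818, 13848]⟩)))) (.node (.node (.node (.leaf ⟨167, 0, 137, 3, [1335, 335, 332, 382, 1092]⟩) (.leaf ⟨678, 4, 1134, 0, []⟩)) (.node (.leaf ⟨523, 9, 652, 21, [4508, 1542, 1143, 5429]⟩) (.leaf ⟨1459, 0, 1421, 3, [13623, 13614, 13201, 13206, 13098]⟩))) (.node (.node (.leaf ⟨253, 9, 254, 40, [3369, 2368, 946, 2056, 673, 2964, 3371]⟩) (.leaf ⟨1278, 3, 1074, 7, [11573, 11566, 9000, 9008]⟩)) (.node (.leaf ⟨815, 3, 847, 99, [7305, 5073, 4450, 7481]⟩) (.leaf ⟨0, 12, 0, 0, []⟩))))) (.node (.node (.node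 (.node (.leaf ⟨98, 3, 59, 7, [821, 814, 536, 506]⟩) (.leaf ⟨551, 5, 1074, 82, [5787, 8994, 8951, 9015]⟩)) (.node (.leaf ⟨591, 7, 518, 19, [4921, 4884, 4888]⟩) (.leaf ⟨1422, 2, 1375, 5, [13113, 13099, 13090, 12576]⟩))) (.node (.node (.leaf ⟨277, 7, 331, 25, [2862, 2634]⟩) (.leaf ⟨1213, 9, 772, 21, [11053, 8257, 9849, 11061]⟩)) (.node (.leaf ⟨752, 9, 495, 21, [6959, 5356, 5066, 4428]⟩) (.leaf ⟨1605, 2, 1610, 92, [15096, 14577, 14581, 15159]⟩)))) (.node (.node (.node (.leaf ⟨272, 2, 273, 0, []⟩) (.leaf ⟨1183, 2, 1098, 5, [10039, 10037, 10034, 9178]⟩)) (.node (.leaf ⟨703, 2, 704, 0, []⟩) (.leaf ⟨1528, 1, 832, 38, [14137, 8577, 8566]⟩))) (.node (.node (.leaf ⟨257, 7, 260, 4, [3897, 3893, 3879, 3356]⟩) (.leaf ⟨494, 4, 1318, 0, []⟩)) (.node (.leaf ⟨942, 4, 489, 36, [7987, 7984, 7244, 4297]⟩) (.leaf ⟨0, 12, 0, 0, []⟩))))))) (.node (.node (.node (.node (.node (.node (.leaf ⟨15,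 2, 21, 16, [183, 172]⟩) (.leaf ⟨999, 2, 995, 92, [8360, 8364, 8377, 8343]⟩)) (.node (.leaf ⟨186, 11, 54, 51, [4281, 2157]⟩) (.leaf ⟨1363, 10, 841, 88, [12473, 5936, 5657, 3259, 3245, 3195, 7451]⟩))) (.node (.node (.leaf ⟨270, 0, 336, 10, [1835, 813, 2229]⟩) (.leaf ⟨1219, 7, 1115, 4, [10409, 10421, 10336, 9308]⟩)) (.node (.leaf ⟨175, 8, 559, 17, [5241, 5583, 6317, 6315]⟩) (.leaf ⟨1541, 0, 1559, 10, [14290, 8755, 14519]⟩)))) (.node (.node (.node (.leaf ⟨152, 3, 143, 7, [1209, 1204, 1178, 1108]⟩) (.leaf ⟨1124, 0, 948, 35, [9401, 9398, 8707, 8708, 8034]⟩)) (.node (.leaf ⟨589, 2, 639, 0, []⟩) (.leaf ⟨1450, 7, 1332, 4, [13491, 13480, 12370, 12200]⟩))) (.node (.node (.leaf ⟨441, 11, 375, 13, [3231, 2644, 2614]⟩) (.leaf ⟨1270, 6, 1113, 2, [11449, 11430, 9292]⟩)) (.node (.leaf ⟨827, 3, 821, 7, [7353, 2232, 3415, 7322]⟩) (.leaf ⟨0, 12, 0, 0, []⟩))))) (.node (.node (.node (.node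 (.leaf ⟨85, 7, 49, 4, [693, 690, 640, 470]⟩) (.leaf ⟨949, 10, 1056, 97, [8050, 4641, 1007, 4570, 1162, 5505, 8889]⟩)) (.node (.leaf ⟨566, 2, 567, 0, []⟩) (.leaf ⟨919, 1, 1411, 14, [9711, 11085, 11867, 12330, 12983]⟩))) (.node (.node (.leaf ⟨389, 1, 390, 0, []⟩) (.leaf ⟨1155, 1, 779, 102, [9730, 9541, 7702, 10937, 7097]⟩)) (.node (.leaf ⟨290, 5, 750, 65, [1942, 6462, 6841]⟩) (.leaf ⟨1462, 4, 1599, 42, [14894, 14892, 13786, 7177, 5553, 9760, 15033]⟩)))) (.node (.node (.node (.leaf ⟨241, 2, 242, 0, []⟩) (.leaf ⟨1173, 3, 1050, 7, [9911, 6270, 6193, 8838]⟩)) (.node (.leaf ⟨142, 1, 691, 0, []⟩) (.leaf ⟨783, 1, 1512, 0, []⟩))) (.node (.node (.leaf ⟨311, 2, 365, 16, [3764, 3750]⟩) (.leaf ⟨1305, 0, 891, 3, [11957, 11938, 9188, 8984, 7692]⟩)) (.node (.leaf ⟨410, 4, 926, 0, []⟩) (.leaf ⟨0, 12, 0, 0, []⟩)))))) (.node (.node (.node (.node (.node (.leaf ⟨24, 8, 31, 17, [242, 333, 427,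 425]⟩) (.leaf ⟨1026, 3, 787, 7, [8631, 1933, 3354, 7144]⟩)) (.node (.leaf ⟨534, 2, 535, 0, []⟩) (.leaf ⟨1327, 1, 1387, 14, [12227, 12232, 10534, 12101, 12729]⟩))) (.node (.node (.leaf ⟨215, 9, 364, 21, [1624, 990, 591, 2485]⟩) (.leaf ⟨1244, 0, 777, 3, [10679, 2996, 2357, 1927, 7086]⟩)) (.node (.leaf ⟨679, 3, 680, 24, [6578, 6567]⟩) (.leaf ⟨1476, 2, 1580, 45, [13747, 13658, 14777]⟩)))) (.node (.node (.node (.leaf ⟨178, 3, 135, 7, [1461, 1454, 1076, 1080]⟩) (.leaf ⟨1133, 1, 1147, 101, [9518, 8426, 9657]⟩)) (.node (.leaf ⟨660, 7, 614, 19, [5561, 5440, 5446]⟩) (.leaf ⟨1298, 1, 1478, 0, []⟩))) (.node (.node (.leaf ⟨447, 6, 339, 18, [3509, 3241, 1876, 652, 2273]⟩) (.leaf ⟨794, 1, 1286, 102, [7501, 10205, 10070, 11116, 11689]⟩)) (.node (.leaf ⟨872, 4, 600, 8, [7609, 7607, 7605, 7603, 7601, 6861]⟩) (.leaf ⟨0, 12, 0, 0, []⟩))))) (.node (.node (.node (.node (.leaf ⟨109, 2, 45, 5,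 [947, 935, 933, 454]⟩) (.leaf ⟨1093, 4, 1094, 0, []⟩)) (.node (.leaf ⟨504, 6, 496, 18, [4460, 1064, 5040, 5049, 4433]⟩) (.leaf ⟨1431, 2, 1392, 5, [13235, 6088, 5398, 12782]⟩))) (.node (.node (.leaf ⟨421, 2, 422, 0, []⟩) (.leaf ⟨1142, 10, 1128, 9, [11191, 8477, 9467]⟩)) (.node (.leaf ⟨779, 4, 780, 0, []⟩) (.leaf ⟨1620, 4, 1512, 93, [15289, 7648, 6918, 8159, 11919, 7680, 14015]⟩)))) (.node (.node (.node (.leaf ⟨51, 11, 300, 0, []⟩) (.leaf ⟨1195, 3, 968, 7, [10165, 10158, 8148, 8154]⟩)) (.node (.leaf ⟨525, 0, 713, 3, [4770, 5365, 5362, 4893, 6071]⟩) (.leaf ⟨793, 9, 1539, 0, []⟩))) (.node (.node (.leaf ⟨435, 1, 470, 15, [4022, 3852]⟩) (.leaf ⟨1331, 8, 1147, 17, [12215, 7946, 9525, 9658]⟩)) (.node (.leaf ⟨963, 4, 262, 8, [8121, 8119, 8117, 8115, 8113, 8111]⟩) (.leaf ⟨0, 12, 0, 0, []⟩))))))))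

def factB30 : Arr (CFact) :=
  (.node (.node (.node (.node (.node (.node (.node (.leaf ⟨5, 7, 5, 4, [53, 45, 43, 52]⟩) (.leaf ⟨980, 2, 859, 5, [8249, 5771, 4636, 7596]⟩)) (.node (.leaf ⟨308, 12, 483, 17, [2097, 4139, 4033, 2568, 4082]⟩) (.leaf ⟨1346, 9, 994, 84, [12345, 5969, 1120, 4767, 1101, 5756, 8372]⟩))) (.node (.node (.leaf ⟨53, 9, 311, 0, []⟩) (.leaf ⟨977, 0, 1203, 32, [8224, 8323, 10297]⟩)) (.node (.leaf ⟨388, 5, 550, 65, [3591, 6203, 5578]⟩) (.leaf ⟨801, 1, 1551, 0, []⟩)))) (.node (.node (.node (.leaf ⟨135, 4, 136, 0, []⟩) (.leaf ⟨1111, 3, 779, 7, [9275, 9270, 7090, 7094]⟩)) (.node (.leaf ⟨132, 9, 623, 84, [1069, 5053, 5080, 2895, 553, 2209, 5175]⟩) (.leaf ⟨1234, 1, 1440, 14, [10572, 11018, 10547, 12428, 13369]⟩))) (.node (.node (.leaf ⟨298, 3, 430, 24, [3124, 3103]⟩) (.leaf ⟨1262, 2, 869, 5, [11317, 11301, 11292, 7602]⟩)) (.node (.leaf ⟨804, 7, 768, 4, [7223,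 3934, 3033, 7056]⟩) (.leaf ⟨0, 12, 0, 0, []⟩))))) (.node (.node (.node (.node (.leaf ⟨72, 0, 42, 3, [569, 560, 509, 512, 448]⟩) (.leaf ⟨1041, 6, 1038, 2, [8763, 2505, 8730]⟩)) (.node (.leaf ⟨118, 8, 557, 0, []⟩) (.leaf ⟨908, 8, 1369, 62, [8199, 6786, 11414, 12857, 12853, 6656, 12526]⟩))) (.node (.node (.leaf ⟨278, 7, 239, 25, [2610, 2608]⟩) (.leaf ⟨1257, 6, 1252, 2, [10811, 10802, 10750]⟩)) (.node (.leaf ⟨736, 2, 747, 0, []⟩) (.leaf ⟨1590, 4, 1551, 93, [14907, 7351, 1840, 7943, 12254, 12250, 14407]⟩)))) (.node (.node (.node (.leaf ⟨204, 1, 110, 12, [1595, 1593, 1591, 1589, 1587, 1585, 1583, 1579, 967]⟩) (.leaf ⟨1161, 6, 862, 2, [9787, 2524, 7560]⟩)) (.node (.leaf ⟨681, 2, 655, 50, [5691, 1167, 4649, 5502, 5514]⟩) (.leaf ⟨1495, 0, 1497, 32, [13866, 13871, 13881]⟩))) (.node (.node (.leaf ⟨81, 11, 456, 0, []⟩) (.leaf ⟨1296, 1, 1182, 38, [11835, 8948, 10031]⟩)) (.node (.leaf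 ⟨904, 4, 229, 8, [7739, 7737, 7735, 7733, 7731, 7729]⟩) (.leaf ⟨0, 12, 0, 0, []⟩)))))) (.node (.node (.node (.node (.node (.leaf ⟨21, 11, 10, 13, [315, 312, 95]⟩) (.leaf ⟨1014, 6, 937, 2, [8507, 3791, 7938]⟩)) (.node (.leaf ⟨475, 3, 252, 24, [4404, 4391]⟩) (.leaf ⟨1379, 4, 1380, 0, []⟩))) (.node (.node (.leaf ⟨193, 3, 196, 24, [2361, 2343]⟩) (.leaf ⟨1232, 6, 1108, 2, [10555, 10548, 9254]⟩)) (.node (.leaf ⟨538, 7, 735, 19, [5473, 5690, 6455]⟩) (.leaf ⟨1483, 2, 1568, 92, [14436, 14263, 14252, 14651]⟩)))) (.node (.node (.node (.leaf ⟨167, 3, 156, 7, [1335, 427, 1236, 1242]⟩) (.leaf ⟨1134, 0, 817, 3, [9531, 6396, 6998, 6990, 7302]⟩)) (.node (.leaf ⟨652, 2, 586, 71, [5433, 4494, 5383]⟩) (.leaf ⟨1459, 3, 1447, 7, [13623, 13616, 13448, 13454]⟩))) (.node (.node (.leaf ⟨252, 9, 83, 21, [1758, 1762, 3385, 1786]⟩) (.leaf ⟨1278, 2, 1065, 5, [11573, 11561, 3737, 8940]⟩)) (.node (.leaf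 ⟨458, 4, 848, 0, []⟩) (.leaf ⟨0, 12, 0, 0, []⟩))))) (.node (.node (.node (.node (.leaf ⟨98, 2, 54, 5, [821, 809, 806, 494]⟩) (.leaf ⟨551, 4, 1075, 0, []⟩)) (.node (.leaf ⟨123, 11, 592, 0, []⟩) (.leaf ⟨1422, 4, 592, 36, [13113, 13102, 12584, 5421]⟩))) (.node (.node (.leaf ⟨69, 8, 407, 0, []⟩) (.leaf ⟨1005, 9, 1168, 84, [8429, 5164, 1102, 5289, 10366, 11063, 9856]⟩)) (.node (.leaf ⟨592, 4, 752, 67, [5328, 5999, 6000, 6552, 6967]⟩) (.leaf ⟨1583, 3, 1610, 99, [14820, 13743, 14284, 15159]⟩)))) (.node (.node (.node (.leaf ⟨273, 1, 274, 0, []⟩) (.leaf ⟨1183, 7, 908, 4, [10039, 6267, 6896, 8198]⟩)) (.node (.leaf ⟨704, 0, 499, 11, [5947, 5944, 4878]⟩) (.leaf ⟨1528, 4, 1488, 42, [14137, 7153, 5482, 1461, 4887, 12656, 13823]⟩))) (.node (.node (.leaf ⟨422, 2, 472, 0, []⟩) (.leaf ⟨1318, 9, 1224, 40, [12091, 6978, 1050, 5158, 9048, 11048, 10460]⟩)) (.node (.leaf ⟨489, 4, 943, 0, []⟩)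 (.leaf ⟨0, 12, 0, 0, []⟩))))))) (.node (.node (.node (.node (.node (.node (.leaf ⟨15, 6, 8, 26, [183, 156]⟩) (.leaf ⟨994, 3, 997, 99, [8340, 8379, 8359, 8355]⟩)) (.node (.leaf ⟨316, 7, 314, 20, [2372, 4275, 2121]⟩) (.leaf ⟨1119, 1, 1363, 101, [9346, 7874, 12475]⟩))) (.node (.node (.leaf ⟨239, 9, 336, 21, [1715, 473, 811, 2229]⟩) (.leaf ⟨1108, 0, 1217, 31, [9262, 10425, 10407]⟩)) (.node (.leaf ⟨690, 7, 725, 19, [5817, 5283, 6321]⟩) (.leaf ⟨1161, 8, 1559, 17, [10207, 10589, 10592, 14519]⟩)))) (.node (.node (.node (.leaf ⟨152, 2, 138, 5, [1209, 1203, 1198, 1096]⟩) (.leaf ⟨1124, 3, 852, 7, [9401, 9394, 7512, 7514]⟩)) (.node (.leaf ⟨639, 7, 523, 20, [5307, 5305, 4506]⟩) (.leaf ⟨1450, 4, 643, 8, [13491, 13475, 13465, 13455, 13449, 13443]⟩))) (.node (.node (.leaf ⟨441, 1, 442, 0, []⟩) (.leaf ⟨1270, 0, 761, 3, [11449, 11430, 10401, 10402, 7028]⟩)) (.node (.leaf ⟨827, 4, 674, 36,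 [7353, 1842, 5670, 5665]⟩) (.leaf ⟨0, 12, 0, 0, []⟩))))) (.node (.node (.node (.node (.leaf ⟨85, 4, 86, 0, []⟩) (.leaf ⟨597, 4, 1057, 0, []⟩)) (.node (.leaf ⟨567, 1, 568, 0, []⟩) (.leaf ⟨1411, 4, 1412, 0, []⟩))) (.node (.node (.leaf ⟨390, 0, 188, 10, [2747, 2744, 1557]⟩) (.leaf ⟨1246, 11, 1155, 13, [10809, 10800, 10939]⟩)) (.node (.leaf ⟨613, 6, 750, 87, [5735, 5730, 2498, 6462, 6841]⟩) (.leaf ⟨1599, 4, 1493, 36, [15035, 14728, 14730, 13853]⟩)))) (.node (.node (.node (.leaf ⟨242, 1, 243, 0, []⟩) (.leaf ⟨1173, 2, 1045, 5, [9911, 9909, 9906, 8804]⟩)) (.node (.leaf ⟨691, 0, 523, 10, [5819, 1539, 4509]⟩) (.leaf ⟨1512, 10, 1042, 9, [14011, 7361, 8783]⟩))) (.node (.node (.leaf ⟨311, 3, 366, 24, [3764, 3747]⟩) (.leaf ⟨1305, 3, 1292, 7, [11957, 11940, 11832, 11764]⟩)) (.node (.leaf ⟨926, 0, 837, 3, [7867, 2906, 2458, 3137, 7414]⟩) (.leaf ⟨0, 12, 0, 0, []⟩)))))) (.node (.node (.node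 (.node (.node (.leaf ⟨7, 4, 41, 0, []⟩) (.leaf ⟨1026, 4, 659, 36, [8631, 1934, 4939, 5727]⟩)) (.node (.leaf ⟨535, 1, 179, 12, [4539, 4537, 4535, 4533, 4531, 4529, 4527, 4523, 1486]⟩) (.leaf ⟨1387, 4, 1388, 0, []⟩))) (.node (.node (.leaf ⟨300, 8, 364, 17, [1980, 832, 664, 2485]⟩) (.leaf ⟨1244, 3, 1240, 7, [10679, 2995, 10630, 10640]⟩)) (.node (.leaf ⟨679, 6, 671, 26, [6578, 6577]⟩) (.leaf ⟨1489, 4, 1580, 64, [14258, 14254, 14017, 14777]⟩)))) (.node (.node (.node (.leaf ⟨178, 2, 127, 5, [1461, 1449, 1444, 1050]⟩) (.leaf ⟨354, 4, 1150, 0, []⟩)) (.node (.leaf ⟨261, 5, 660, 60, [2102, 5501, 5449, 5446, 5563]⟩) (.leaf ⟨1478, 10, 992, 9, [13755, 11854, 8386]⟩))) (.node (.node (.leaf ⟨447, 0, 406, 10, [3509, 2865, 2866]⟩) (.leaf ⟨1286, 10, 811, 9, [11707, 7501, 7504]⟩)) (.node (.leaf ⟨223, 4, 873, 0, []⟩) (.leaf ⟨0, 12, 0, 0, []⟩))))) (.node (.node (.node (.node (.leaf ⟨109, 7,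 67, 4, [947, 938, 872, 546]⟩) (.leaf ⟨1094, 6, 955, 2, [9147, 9144, 8086]⟩)) (.node (.leaf ⟨574, 11, 131, 13, [4824, 5051, 4460]⟩) (.leaf ⟨1431, 7, 1408, 4, [13235, 5677, 6402, 12944]⟩))) (.node (.node (.leaf ⟨422, 0, 191, 11, [3003, 3000, 1934]⟩) (.leaf ⟨775, 11, 932, 13, [10469, 10462, 11191]⟩)) (.node (.leaf ⟨780, 3, 771, 7, [7099, 7096, 7084, 7072]⟩) (.leaf ⟨1557, 0, 1620, 31, [15067, 15064, 15291]⟩)))) (.node (.node (.node (.leaf ⟨300, 1, 99, 38, [1979, 668, 833]⟩) (.leaf ⟨1195, 2, 960, 5, [10165, 10153, 10150, 8114]⟩)) (.node (.leaf ⟨691, 7, 713, 4, [5836, 6021, 6018, 6071]⟩) (.leaf ⟨1539, 5, 1479, 55, [14267, 7177, 4622, 1170, 6929, 7658, 13762]⟩))) (.node (.node (.leaf ⟨435, 3, 456, 24, [4022, 3849]⟩) (.leaf ⟨1331, 9, 766, 21, [12215, 7952, 8417, 10991]⟩)) (.node (.leaf ⟨892, 0, 963, 31, [7706, 1799, 8123]⟩) (.leaf ⟨0, 12, 0, 0, []⟩))))))))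

def factB31 : Arr (CFact) :=
  (.node (.node (.node (.node (.node (.node (.node (.leaf ⟨5, 4, 6, 0, []⟩) (.leaf ⟨980, 4, 981, 0, []⟩)) (.node (.leaf ⟨308, 8, 92, 46, [4156, 4083]⟩) (.leaf ⟨1346, 0, 1334, 3, [12345, 5973, 5347, 5353, 12234]⟩))) (.node (.node (.leaf ⟨53, 10, 312, 0, []⟩) (.leaf ⟨1203, 4, 1204, 0, []⟩)) (.node (.leaf ⟨626, 7, 689, 69, [6199, 4268, 6203, 5578, 5801]⟩) (.leaf ⟨1551, 10, 1247, 9, [14397, 9619, 10707]⟩)))) (.node (.node (.node (.leaf ⟨136, 3, 129, 7, [1085, 1082, 1052, 1054]⟩) (.leaf ⟨1111, 2, 776, 5, [9275, 9269, 9266, 7082]⟩)) (.node (.leaf ⟨622, 7, 623, 4, [5171, 4211, 4208, 5175]⟩) (.leaf ⟨640, 4, 1441, 0, []⟩))) (.node (.node (.leaf ⟨298, 6, 218, 26, [3124, 3111]⟩) (.leaf ⟨1262, 4, 619, 36, [11317, 11306, 7610, 6858]⟩)) (.node (.leaf ⟨804, 4, 805, 0, []⟩) (.leaf ⟨0, 12, 0, 0, []⟩))))) (.node (.node (.node (.node (.leaf ⟨72, 3, 68, 7, [569,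 562, 546, 548]⟩) (.leaf ⟨1041, 0, 830, 3, [8763, 2505, 3121, 3881, 7370]⟩)) (.node (.leaf ⟨118, 9, 558, 0, []⟩) (.leaf ⟨1350, 9, 1294, 40, [12387, 6643, 12526, 12861, 8199, 6339, 11796]⟩))) (.node (.node (.leaf ⟨64, 9, 377, 0, []⟩) (.leaf ⟨1257, 0, 1147, 3, [10811, 10802, 10744, 9612, 9616]⟩)) (.node (.leaf ⟨747, 7, 616, 20, [6717, 6477, 5151]⟩) (.leaf ⟨1503, 0, 1590, 31, [14090, 14401, 14909]⟩)))) (.node (.node (.node (.leaf ⟨104, 11, 204, 13, [896, 961, 1597]⟩) (.leaf ⟨1161, 3, 1157, 7, [9787, 2521, 9740, 9750]⟩)) (.node (.leaf ⟨681, 3, 601, 44, [5691, 1119, 5126, 5545, 5539]⟩) (.leaf ⟨1207, 11, 1497, 13, [10561, 10556, 13879]⟩))) (.node (.node (.leaf ⟨456, 1, 87, 38, [3645, 669, 711]⟩) (.leaf ⟨482, 4, 1297, 0, []⟩)) (.node (.leaf ⟨861, 6, 904, 86, [7636, 7634, 1677, 7741]⟩) (.leaf ⟨0, 12, 0, 0, []⟩)))))) (.node (.node (.node (.node (.node (.leaf ⟨8, 10, 22, 9, [86,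 180, 315]⟩) (.leaf ⟨1014, 0, 930, 3, [8507, 3791, 3788, 4259, 7894]⟩)) (.node (.leaf ⟨475, 6, 205, 26, [4404, 4396]⟩) (.leaf ⟨1380, 3, 1372, 7, [12605, 12590, 12543, 12550]⟩))) (.node (.node (.leaf ⟨193, 7, 283, 25, [2361, 2344]⟩) (.leaf ⟨1232, 2, 1226, 5, [10555, 10545, 3839, 10506]⟩)) (.node (.leaf ⟨210, 5, 735, 75, [1977, 5130, 5697, 6455]⟩) (.leaf ⟨1552, 4, 1568, 91, [14608, 14617, 13844, 14651]⟩)))) (.node (.node (.node (.leaf ⟨167, 7, 125, 4, [1335, 335, 332, 1044]⟩) (.leaf ⟨1134, 3, 924, 7, [9531, 6665, 6666, 7846]⟩)) (.node (.leaf ⟨652, 7, 521, 20, [5431, 4912, 4502]⟩) (.leaf ⟨1459, 2, 1417, 5, [13623, 13613, 13608, 13054]⟩))) (.node (.node (.leaf ⟨296, 4, 252, 61, [2475, 2984, 2986, 725, 221, 682, 3389]⟩) (.leaf ⟨1278, 7, 1051, 4, [11573, 11564, 8841, 8846]⟩)) (.node (.leaf ⟨848, 3, 819, 7, [7485, 3672, 7306, 7310]⟩) (.leaf ⟨0, 12, 0, 0, []⟩))))) (.node (.node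 (.node (.node (.leaf ⟨98, 4, 99, 0, []⟩) (.leaf ⟨1075, 3, 1069, 7, [9021, 5787, 8992, 8958]⟩)) (.node (.leaf ⟨592, 1, 177, 38, [4925, 1222, 1451]⟩) (.leaf ⟨815, 11, 1422, 100, [7305, 5045, 6557, 6451, 5367, 4928, 13117]⟩))) (.node (.node (.leaf ⟨69, 10, 408, 0, []⟩) (.leaf ⟨799, 10, 1254, 9, [11059, 10680, 10783]⟩)) (.node (.leaf ⟨752, 7, 494, 4, [6973, 6444, 6683, 6693]⟩) (.leaf ⟨1000, 1, 1611, 0, []⟩)))) (.node (.node (.node (.leaf ⟨274, 2, 275, 0, []⟩) (.leaf ⟨1183, 4, 1184, 0, []⟩)) (.node (.leaf ⟨477, 5, 704, 65, [4000, 5089, 5949]⟩) (.leaf ⟨1217, 10, 1528, 97, [10406, 12971, 12723, 6639, 12656, 13823, 14141]⟩))) (.node (.node (.leaf ⟨472, 1, 102, 43, [3901, 3006, 3010, 2737, 873]⟩) (.leaf ⟨1318, 3, 1313, 7, [12091, 4427, 12066, 12068]⟩)) (.node (.leaf ⟨943, 3, 790, 7, [7997, 4293, 3368, 7160]⟩) (.leaf ⟨0, 12, 0, 0, []⟩))))))) (.node (.node (.node (.node (.node (.node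 (.leaf ⟨7, 9, 21, 21, [77, 50, 42, 175]⟩) (.leaf ⟨870, 0, 999, 32, [7629, 8351, 8379]⟩)) (.node (.leaf ⟨488, 8, 188, 17, [4263, 4275, 1559, 1557]⟩) (.leaf ⟨701, 4, 1364, 0, []⟩))) (.node (.node (.leaf ⟨335, 0, 334, 32, [2226, 2235, 2232]⟩) (.leaf ⟨395, 4, 1221, 0, []⟩)) (.node (.leaf ⟨566, 12, 690, 20, [6305, 6297, 6319, 6333]⟩) (.leaf ⟨1559, 5, 1465, 52, [14525, 9787, 3777, 9132, 11314, 8401, 13672]⟩)))) (.node (.node (.node (.leaf ⟨152, 7, 152, 20, [1210, 1110, 1211]⟩) (.leaf ⟨1124, 2, 1042, 5, [9401, 9391, 2188, 8774]⟩)) (.node (.leaf ⟨583, 10, 639, 9, [4894, 4896, 5309]⟩) (.leaf ⟨1191, 11, 1450, 37, [10128, 11125, 9187, 12617, 12610, 5887, 13501]⟩))) (.node (.node (.leaf ⟨442, 3, 246, 44, [3261, 3228, 1715, 979, 1733]⟩) (.leaf ⟨1270, 3, 1247, 7, [11449, 11432, 10696, 10702]⟩)) (.node (.leaf ⟨203, 4, 828, 0, []⟩) (.leaf ⟨0, 12, 0, 0, []⟩))))) (.node (.node (.node (.node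 (.leaf ⟨86, 6, 80, 2, [701, 696, 654]⟩) (.leaf ⟨1057, 0, 859, 3, [8893, 6129, 6139, 6167, 7596]⟩)) (.node (.leaf ⟨568, 2, 549, 29, [4797, 4795, 4793, 4791, 4787, 4783, 4777, 1026, 4650]⟩) (.leaf ⟨1412, 3, 1348, 7, [12989, 12980, 12358, 12368]⟩))) (.node (.node (.leaf ⟨390, 2, 391, 0, []⟩) (.leaf ⟨922, 9, 1247, 40, [7837, 2425, 518, 2480, 9739, 10941, 10702]⟩)) (.node (.leaf ⟨717, 10, 659, 9, [6835, 6845, 5735]⟩) (.leaf ⟨1599, 2, 1600, 0, []⟩)))) (.node (.node (.node (.leaf ⟨243, 2, 244, 0, []⟩) (.leaf ⟨1173, 7, 885, 4, [9911, 6266, 5273, 7660]⟩)) (.node (.leaf ⟨691, 9, 516, 21, [5819, 1147, 1142, 4490]⟩) (.leaf ⟨1512, 8, 889, 17, [14011, 7361, 11553, 11558]⟩))) (.node (.node (.leaf ⟨311, 7, 309, 25, [3764, 3748]⟩) (.leaf ⟨1305, 2, 1288, 5, [11957, 11935, 11930, 11724]⟩)) (.node (.leaf ⟨926, 3, 922, 7, [7867, 4003, 4021, 7836]⟩) (.leaf ⟨0, 12, 0, 0, []⟩)))))) (.node (.node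 (.node (.node (.node (.leaf ⟨41, 6, 41, 2, [445, 81, 444]⟩) (.leaf ⟨900, 11, 1026, 37, [8101, 5736, 1315, 4601, 1080, 5558, 8637]⟩)) (.node (.leaf ⟨137, 11, 535, 13, [1485, 1476, 4541]⟩) (.leaf ⟨1388, 3, 1320, 7, [12733, 12726, 12120, 12126]⟩))) (.node (.node (.leaf ⟨295, 0, 296, 32, [2486, 2489, 1963]⟩) (.leaf ⟨1244, 7, 754, 4, [10679, 2996, 2357, 7004]⟩)) (.node (.leaf ⟨679, 7, 677, 25, [6578, 6568]⟩) (.leaf ⟨1580, 0, 1550, 35, [14781, 14443, 14451, 14275, 14395]⟩)))) (.node (.node (.node (.leaf ⟨178, 4, 35, 36, [1461, 1456, 1058, 380]⟩) (.leaf ⟨1150, 6, 825, 2, [9661, 2415, 7340]⟩)) (.node (.leaf ⟨135, 11, 661, 0, []⟩) (.leaf ⟨1478, 2, 1479, 0, []⟩))) (.node (.node (.leaf ⟨447, 9, 241, 21, [3509, 3236, 2627, 1720]⟩) (.leaf ⟨812, 9, 1113, 40, [7275, 11709, 11692, 6313, 10522, 11021, 9292]⟩)) (.node (.leaf ⟨873, 3, 869, 7, [7613, 1647, 7600, 7602]⟩) (.leaf ⟨0, 12, 0,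 0, []⟩))))) (.node (.node (.node (.node (.leaf ⟨109, 4, 110, 0, []⟩) (.leaf ⟨1094, 0, 1084, 3, [9147, 9144, 9107, 9110, 9076]⟩)) (.node (.leaf ⟨574, 2, 609, 0, []⟩) (.leaf ⟨1309, 1, 1431, 14, [12024, 11191, 8477, 12790, 13243]⟩))) (.node (.node (.leaf ⟨422, 1, 423, 0, []⟩) (.leaf ⟨1024, 1, 928, 48, [9599, 11191, 7918]⟩)) (.node (.leaf ⟨780, 4, 781, 0, []⟩) (.leaf ⟨1494, 2, 1620, 92, [13860, 14176, 14168, 15291]⟩)))) (.node (.node (.node (.leaf ⟨103, 1, 301, 0, []⟩) (.leaf ⟨1195, 4, 381, 36, [10165, 10160, 8122, 2706]⟩)) (.node (.leaf ⟨648, 10, 691, 9, [5413, 6072, 6077]⟩) (.leaf ⟨1539, 1, 1068, 22, [14267, 11720, 11803, 11798]⟩))) (.node (.node (.leaf ⟨435, 6, 213, 26, [4022, 3862]⟩) (.leaf ⟨1033, 10, 1330, 97, [8678, 11206, 7803, 3349, 7050, 12221, 12197]⟩)) (.node (.leaf ⟨571, 12, 962, 91, [6794, 6185, 1801, 8123, 8121]⟩) (.leaf ⟨0, 12, 0, 0, []⟩))))))))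

def factB32 : Arr (CFact) :=
  (.node (.node (.node (.node (.node (.node (.node (.leaf ⟨6, 6, 6, 2, [63, 57, 62]⟩) (.leaf ⟨981, 3, 865, 7, [8255, 8250, 7568, 7572]⟩)) (.node (.leaf ⟨482, 6, 369, 18, [4078, 4075, 4055, 4135, 4129]⟩) (.leaf ⟨1346, 3, 1344, 7, [12345, 6585, 12316, 12324]⟩))) (.node (.node (.leaf ⟨53, 11, 313, 0, []⟩) (.leaf ⟨1204, 6, 978, 2, [10303, 10301, 8228]⟩)) (.node (.leaf ⟨398, 5, 689, 75, [3592, 6203, 5578, 5801]⟩) (.leaf ⟨1551, 6, 1522, 18, [14397, 8687, 10968, 8648, 14082]⟩)))) (.node (.node (.node (.leaf ⟨136, 4, 26, 8, [1085, 1081, 1077, 1073, 1069, 1061]⟩) (.leaf ⟨1111, 4, 556, 36, [9275, 9272, 7125, 6948]⟩)) (.node (.leaf ⟨623, 2, 624, 0, []⟩) (.leaf ⟨1441, 0, 1317, 3, [13375, 6097, 6094, 5849, 12082]⟩))) (.node (.node (.leaf ⟨298, 7, 208, 25, [3124, 3104]⟩) (.leaf ⟨798, 1, 1262, 48, [10779, 11041, 11321]⟩)) (.node (.leaf ⟨805, 6, 784, 2, [7231,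 7224, 7128]⟩) (.leaf ⟨0, 12, 0, 0, []⟩))))) (.node (.node (.node (.node (.leaf ⟨72, 7, 60, 4, [569, 560, 509, 514]⟩) (.leaf ⟨1041, 4, 390, 36, [8763, 2321, 2754, 2751]⟩)) (.node (.leaf ⟨118, 10, 559, 0, []⟩) (.leaf ⟨730, 4, 1399, 0, []⟩))) (.node (.node (.leaf ⟨377, 5, 250, 55, [2623, 533, 2044, 680, 121, 459, 1742]⟩) (.leaf ⟨1257, 3, 1226, 7, [10811, 10804, 10542, 10506]⟩)) (.node (.leaf ⟨747, 2, 735, 6, [6717, 6467]⟩) (.leaf ⟨1465, 2, 1590, 92, [14527, 14618, 14612, 14909]⟩)))) (.node (.node (.node (.leaf ⟨42, 8, 205, 0, []⟩) (.leaf ⟨1095, 3, 1161, 30, [9757, 9791]⟩)) (.node (.leaf ⟨681, 0, 613, 10, [5691, 1132, 5126]⟩) (.leaf ⟨771, 9, 1498, 0, []⟩))) (.node (.node (.leaf ⟨456, 4, 349, 77, [3645, 672, 2057, 947, 1566, 3354, 2379]⟩) (.leaf ⟨1297, 0, 873, 3, [11839, 4080, 3166, 1676, 7612]⟩)) (.node (.leaf ⟨903, 0, 860, 31, [7738, 7743, 7557]⟩) (.leaf ⟨0, 12, 0, 0, []⟩))))))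 (.node (.node (.node (.node (.node (.leaf ⟨9, 11, 22, 13, [225, 313, 307]⟩) (.leaf ⟨1014, 3, 935, 7, [8507, 2857, 5114, 7922]⟩)) (.node (.leaf ⟨475, 7, 474, 25, [4404, 4392]⟩) (.leaf ⟨1380, 2, 1366, 5, [12605, 12587, 4550, 12500]⟩))) (.node (.node (.leaf ⟨193, 11, 108, 51, [2361, 2347]⟩) (.leaf ⟨1232, 7, 1207, 4, [10555, 10548, 10323, 10328]⟩)) (.node (.leaf ⟨735, 11, 546, 13, [6461, 5460, 5465]⟩) (.leaf ⟨1568, 7, 1567, 4, [14655, 14418, 14001, 14644]⟩)))) (.node (.node (.node (.leaf ⟨164, 3, 167, 30, [1310, 1341]⟩) (.leaf ⟨1134, 2, 923, 5, [9531, 9527, 9524, 7840]⟩)) (.node (.leaf ⟨135, 1, 653, 0, []⟩) (.leaf ⟨1170, 1, 1459, 53, [11126, 12781, 13057, 13631]⟩))) (.node (.node (.leaf ⟨251, 5, 247, 83, [1754, 3391, 1965, 3221]⟩) (.leaf ⟨1112, 1, 1278, 53, [9286, 11027, 8943, 11581]⟩)) (.node (.leaf ⟨848, 2, 817, 5, [7485, 4454, 5072, 7302]⟩) (.leaf ⟨0, 12, 0, 0, []⟩)))))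 (.node (.node (.node (.node (.leaf ⟨99, 6, 81, 2, [831, 824, 662]⟩) (.leaf ⟨1075, 4, 307, 36, [9021, 4656, 6187, 3730]⟩)) (.node (.leaf ⟨523, 8, 592, 17, [4508, 1536, 1457, 4927]⟩) (.leaf ⟨1422, 1, 1136, 38, [13119, 8012, 9557]⟩))) (.node (.node (.leaf ⟨70, 1, 409, 0, []⟩) (.leaf ⟨799, 8, 1047, 17, [11059, 10680, 9602, 9651]⟩)) (.node (.leaf ⟨494, 12, 612, 13, [6975, 6964, 5041, 5124]⟩) (.leaf ⟨1611, 2, 1561, 50, [15167, 8362, 11116, 9188, 14544]⟩)))) (.node (.node (.node (.leaf ⟨275, 1, 276, 0, []⟩) (.leaf ⟨1184, 0, 1069, 35, [10047, 10044, 8204, 8987, 8958]⟩)) (.node (.leaf ⟨674, 6, 704, 87, [5912, 5649, 3650, 5089, 5949]⟩) (.leaf ⟨1528, 7, 1527, 19, [14143, 13862, 14125]⟩))) (.node (.node (.leaf ⟨472, 7, 393, 20, [3901, 3014, 2760]⟩) (.leaf ⟨1273, 8, 846, 62, [11507, 12038, 10460, 12093, 12091, 7002, 7468]⟩)) (.node (.leaf ⟨943, 2, 805, 5, [7997, 7995, 7992, 7230]⟩)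 (.leaf ⟨0, 12, 0, 0, []⟩))))))) (.node (.node (.node (.node (.node (.node (.leaf ⟨4, 8, 18, 17, [175, 181, 137, 140]⟩) (.leaf ⟨1000, 6, 871, 2, [8361, 8383, 7606]⟩)) (.node (.leaf ⟨314, 11, 187, 13, [4285, 2140, 1552]⟩) (.leaf ⟨1364, 3, 1357, 7, [12479, 6381, 12416, 12424]⟩))) (.node (.node (.leaf ⟨333, 12, 271, 30, [2222, 2233, 1842]⟩) (.leaf ⟨1221, 6, 1029, 2, [10431, 2772, 8664]⟩)) (.node (.leaf ⟨566, 7, 725, 25, [6334, 6332]⟩) (.leaf ⟨1556, 7, 1559, 34, [14478, 13974, 13977, 14527]⟩)))) (.node (.node (.node (.leaf ⟨152, 4, 153, 0, []⟩) (.leaf ⟨1124, 4, 467, 36, [9401, 9396, 8768, 3801]⟩)) (.node (.leaf ⟨639, 1, 640, 0, []⟩) (.leaf ⟨1450, 1, 905, 38, [13503, 10124, 10022]⟩))) (.node (.node (.leaf ⟨442, 0, 330, 10, [3261, 3246, 2215]⟩) (.leaf ⟨1270, 2, 1239, 5, [11449, 11427, 3588, 10630]⟩)) (.node (.leaf ⟨828, 6, 783, 2, [7359, 2413, 7126]⟩) (.leaf ⟨0, 12, 0, 0, []⟩)))))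 (.node (.node (.node (.node (.leaf ⟨86, 0, 50, 3, [701, 696, 695, 698, 474]⟩) (.leaf ⟨1057, 7, 875, 4, [8893, 6129, 6139, 7622]⟩)) (.node (.leaf ⟨550, 2, 568, 6, [4653, 4799]⟩) (.leaf ⟨1412, 2, 1342, 5, [12989, 12977, 12966, 12306]⟩))) (.node (.node (.leaf ⟨391, 0, 283, 11, [2751, 2748, 1917]⟩) (.leaf ⟨1247, 1, 1019, 22, [10943, 10488, 7387, 8567]⟩)) (.node (.leaf ⟨717, 8, 601, 17, [6835, 6845, 5545, 5539]⟩) (.leaf ⟨1600, 1, 1160, 43, [15039, 15029, 8007, 10984, 10008]⟩)))) (.node (.node (.node (.leaf ⟨244, 1, 245, 0, []⟩) (.leaf ⟨1173, 4, 1174, 0, []⟩)) (.node (.leaf ⟨604, 5, 691, 65, [5001, 5006, 5821]⟩) (.leaf ⟨1464, 5, 1512, 55, [13665, 10343, 11011, 8882, 11118, 8785, 14013]⟩))) (.node (.node (.leaf ⟨311, 11, 366, 51, [3764, 3755]⟩) (.leaf ⟨1305, 4, 663, 36, [11957, 11942, 11758, 5591]⟩)) (.node (.leaf ⟨926, 4, 244, 36, [7867, 2910, 3527, 2275]⟩) (.leaf ⟨0, 12, 0,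 0, []⟩)))))) (.node (.node (.node (.node (.node (.leaf ⟨41, 4, 42, 0, []⟩) (.leaf ⟨784, 3, 1026, 99, [7141, 3081, 5731, 8637]⟩)) (.node (.leaf ⟨534, 12, 533, 14, [4538, 4540, 1476, 4541, 4539, 4537]⟩) (.leaf ⟨1388, 2, 1317, 5, [12733, 12723, 5846, 12082]⟩))) (.node (.node (.leaf ⟨209, 0, 294, 32, [1964, 2495, 1959]⟩) (.leaf ⟨1244, 4, 1245, 0, []⟩)) (.node (.leaf ⟨700, 10, 679, 9, [5930, 5932, 6591]⟩) (.leaf ⟨1580, 2, 1475, 5, [14781, 14587, 14581, 14285]⟩)))) (.node (.node (.node (.leaf ⟨178, 7, 124, 4, [1461, 1452, 1264, 1038]⟩) (.leaf ⟨1150, 0, 818, 3, [9661, 2415, 3406, 1756, 7306]⟩)) (.node (.leaf ⟨661, 1, 165, 38, [5567, 1169, 1317]⟩) (.leaf ⟨1479, 1, 1172, 43, [13759, 13755, 11860, 10201, 10130]⟩))) (.node (.node (.leaf ⟨319, 5, 447, 65, [3324, 3257, 3517]⟩) (.leaf ⟨479, 4, 1287, 0, []⟩)) (.node (.leaf ⟨873, 4, 874, 0, []⟩) (.leaf ⟨0, 12, 0, 0, []⟩))))) (.node (.node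 (.node (.node (.leaf ⟨110, 6, 104, 2, [959, 950, 888]⟩) (.leaf ⟨1094, 7, 1089, 4, [9147, 9144, 9107, 9114]⟩)) (.node (.leaf ⟨609, 7, 500, 20, [5055, 4861, 4438]⟩) (.leaf ⟨1431, 4, 1432, 0, []⟩))) (.node (.node (.leaf ⟨423, 0, 190, 10, [3007, 3004, 1561]⟩) (.leaf ⟨928, 10, 1033, 9, [11199, 10385, 10388]⟩)) (.node (.leaf ⟨781, 3, 773, 7, [7103, 7100, 7074, 7076]⟩) (.leaf ⟨1515, 4, 1620, 91, [15015, 15004, 14021, 15291]⟩)))) (.node (.node (.node (.leaf ⟨301, 10, 67, 9, [1983, 949, 956]⟩) (.leaf ⟨1195, 7, 1070, 4, [10165, 10156, 8988, 8960]⟩)) (.node (.leaf ⟨713, 3, 583, 28, [6077, 6017, 6018]⟩) (.leaf ⟨1487, 3, 1539, 44, [13812, 8715, 10903, 8980, 14271]⟩))) (.node (.node (.leaf ⟨370, 2, 478, 0, []⟩) (.leaf ⟨651, 4, 1333, 0, []⟩)) (.node (.leaf ⟨571, 4, 963, 68, [8126, 8120]⟩) (.leaf ⟨0, 12, 0, 0, []⟩))))))))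

def factB33 : Arr (CFact) :=
  (.node (.node (.node (.node (.node (.node (.node (.leaf ⟨6, 0, 6, 3, [63, 57, 55, 61, 62]⟩) (.leaf ⟨981, 2, 856, 5, [8255, 8249, 1810, 7546]⟩)) (.node (.leaf ⟨478, 7, 486, 20, [4033, 4065, 4135]⟩) (.leaf ⟨877, 1, 1346, 102, [8348, 11226, 11875, 12330, 12353]⟩))) (.node (.node (.leaf ⟨313, 1, 101, 38, [2113, 867, 861]⟩) (.leaf ⟨1204, 3, 893, 7, [10303, 10294, 7720, 7708]⟩)) (.node (.leaf ⟨689, 0, 558, 31, [6209, 3807, 6181]⟩) (.leaf ⟨1551, 0, 1469, 10, [14397, 10760, 13695]⟩)))) (.node (.node (.node (.leaf ⟨118, 0, 136, 31, [1010, 281, 1089]⟩) (.leaf ⟨764, 0, 1111, 31, [7044, 4788, 9281]⟩)) (.node (.leaf ⟨624, 2, 622, 6, [5185, 5173]⟩) (.leaf ⟨1441, 3, 1374, 7, [13375, 5423, 12558, 12568]⟩))) (.node (.node (.leaf ⟨292, 8, 410, 17, [1951, 3121, 3118, 2902]⟩) (.leaf ⟨1164, 11, 798, 13, [9820, 11319, 11329]⟩)) (.node (.leaf ⟨805, 2, 790, 5,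 [7231, 7223, 3932, 7160]⟩) (.leaf ⟨0, 12, 0, 0, []⟩))))) (.node (.node (.node (.node (.leaf ⟨56, 6, 68, 33, [517, 577, 574]⟩) (.leaf ⟨1041, 7, 840, 4, [8763, 2505, 3121, 7436]⟩)) (.node (.leaf ⟨118, 11, 560, 0, []⟩) (.leaf ⟨1399, 6, 1334, 2, [12865, 6376, 12234]⟩))) (.node (.node (.leaf ⟨240, 6, 377, 2, [2340, 1746, 2625]⟩) (.leaf ⟨1257, 2, 1232, 5, [10811, 10799, 10796, 10554]⟩)) (.node (.leaf ⟨747, 0, 540, 11, [6717, 6473, 4628]⟩) (.leaf ⟨1577, 4, 1590, 91, [14754, 14761, 14415, 14909]⟩)))) (.node (.node (.node (.leaf ⟨42, 9, 206, 0, []⟩) (.leaf ⟨1161, 4, 1162, 0, []⟩)) (.node (.leaf ⟨471, 5, 681, 65, [3879, 5130, 5697]⟩) (.leaf ⟨1498, 5, 1478, 55, [13889, 7073, 4309, 4939, 5766, 8374, 13757]⟩))) (.node (.node (.leaf ⟨300, 0, 456, 31, [3400, 2377, 3649]⟩) (.leaf ⟨1297, 3, 1088, 7, [11839, 4171, 9098, 9104]⟩)) (.node (.leaf ⟨230, 4, 905, 0, []⟩) (.leaf ⟨0, 12, 0, 0, []⟩))))))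 (.node (.node (.node (.node (.node (.leaf ⟨12, 7, 7, 20, [99, 313, 308]⟩) (.leaf ⟨1014, 2, 932, 5, [8507, 8503, 8500, 7904]⟩)) (.node (.leaf ⟨475, 10, 458, 47, [4404, 4402]⟩) (.leaf ⟨1380, 4, 697, 36, [12605, 12592, 12520, 5862]⟩))) (.node (.node (.leaf ⟨195, 3, 289, 28, [2359, 2353, 2350]⟩) (.leaf ⟨1232, 4, 1233, 0, []⟩)) (.node (.leaf ⟨735, 2, 736, 0, []⟩) (.leaf ⟨1568, 2, 1482, 6, [14653, 13793]⟩)))) (.node (.node (.node (.leaf ⟨167, 4, 168, 0, []⟩) (.leaf ⟨1134, 4, 411, 36, [9531, 6400, 5951, 4004]⟩)) (.node (.leaf ⟨653, 10, 165, 9, [5441, 1152, 1323]⟩) (.leaf ⟨1459, 4, 1460, 0, []⟩))) (.node (.node (.leaf ⟨200, 5, 212, 75, [1757, 3391, 2495, 1966]⟩) (.leaf ⟨1278, 10, 760, 9, [11585, 10401, 10402]⟩)) (.node (.leaf ⟨848, 4, 849, 0, []⟩) (.leaf ⟨0, 12, 0, 0, []⟩))))) (.node (.node (.node (.node (.leaf ⟨99, 0, 87, 3, [831, 824, 703, 707, 708]⟩) (.leaf ⟨1075, 7, 892, 4,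 [9021, 5585, 5582, 7700]⟩)) (.node (.leaf ⟨124, 1, 593, 0, []⟩) (.leaf ⟨607, 4, 1423, 0, []⟩))) (.node (.node (.leaf ⟨409, 0, 215, 10, [2881, 987, 1625]⟩) (.leaf ⟨954, 8, 1244, 17, [11045, 10400, 9288, 11059]⟩)) (.node (.leaf ⟨494, 11, 126, 51, [6976, 5125]⟩) (.leaf ⟨1611, 3, 1562, 44, [15167, 8384, 11744, 11920, 14563]⟩)))) (.node (.node (.node (.leaf ⟨276, 2, 239, 29, [1857, 1855, 1853, 1851, 1847, 1843, 1835, 472, 1714]⟩) (.leaf ⟨1184, 2, 1101, 5, [10047, 10039, 4794, 9200]⟩)) (.node (.leaf ⟨704, 1, 705, 0, []⟩) (.leaf ⟨1481, 2, 1528, 45, [14097, 14123, 14145]⟩))) (.node (.node (.leaf ⟨472, 2, 396, 6, [3901, 3607]⟩) (.leaf ⟨1179, 1, 1318, 94, [10002, 9052, 10502, 12093]⟩)) (.node (.leaf ⟨943, 4, 538, 36, [7997, 4296, 5455, 4963]⟩) (.leaf ⟨0, 12, 0, 0, []⟩))))))) (.node (.node (.node (.node (.node (.node (.leaf ⟨14, 8, 21, 17, [108, 24, 47, 175]⟩) (.leaf ⟨874, 7, 992,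 20, [7618, 8385, 8362]⟩)) (.node (.leaf ⟨189, 7, 347, 20, [2122, 4267, 4264]⟩) (.leaf ⟨891, 1, 1364, 102, [8330, 11260, 10551, 12428, 12481]⟩))) (.node (.node (.leaf ⟨271, 1, 332, 15, [2241, 2221]⟩) (.leaf ⟨1221, 0, 771, 3, [10431, 2772, 2351, 4291, 7072]⟩)) (.node (.leaf ⟨725, 11, 631, 13, [6337, 5273, 5237]⟩) (.leaf ⟨1555, 2, 1560, 0, []⟩)))) (.node (.node (.node (.leaf ⟨153, 3, 145, 7, [1217, 1210, 1120, 1140]⟩) (.leaf ⟨1124, 7, 1028, 34, [9401, 9392, 8645, 8652]⟩)) (.node (.leaf ⟨640, 6, 517, 18, [5313, 5307, 5302, 5300, 4497]⟩) (.leaf ⟨905, 10, 1315, 9, [13505, 13492, 12378]⟩))) (.node (.node (.leaf ⟨442, 8, 275, 17, [3261, 3228, 1859, 1857]⟩) (.leaf ⟨1270, 7, 1217, 4, [11449, 11430, 10401, 10404]⟩)) (.node (.leaf ⟨828, 4, 829, 0, []⟩) (.leaf ⟨0, 12, 0, 0, []⟩))))) (.node (.node (.node (.node (.leaf ⟨86, 7, 86, 4, [701, 696, 695, 700]⟩) (.leaf ⟨1057, 4, 1058, 0, []⟩))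 (.node (.leaf ⟨567, 6, 553, 18, [4796, 4801, 4654, 4656, 4658]⟩) (.leaf ⟨1412, 4, 588, 36, [12989, 12982, 12328, 4909]⟩))) (.node (.node (.leaf ⟨217, 4, 391, 67, [2322, 1953, 2503, 2507, 2753]⟩) (.leaf ⟨791, 1, 757, 48, [8569, 10945, 10711]⟩)) (.node (.leaf ⟨600, 12, 717, 53, [4967, 4930, 4934, 6839, 6834]⟩) (.leaf ⟨1600, 2, 1592, 6, [15039, 15030]⟩)))) (.node (.node (.node (.leaf ⟨245, 2, 246, 0, []⟩) (.leaf ⟨1174, 6, 989, 2, [9921, 9912, 8302]⟩)) (.node (.leaf ⟨638, 6, 691, 66, [5368, 5018, 5006, 5821]⟩) (.leaf ⟨1512, 11, 1352, 37, [14017, 13665, 10343, 12116, 12085, 5892, 12395]⟩))) (.node (.node (.leaf ⟨368, 7, 370, 20, [2543, 3761, 3758]⟩) (.leaf ⟨1305, 7, 961, 4, [11957, 11938, 9188, 8116]⟩)) (.node (.leaf ⟨926, 7, 841, 4, [7867, 2906, 2458, 7448]⟩) (.leaf ⟨0, 12, 0, 0, []⟩)))))) (.node (.node (.node (.node (.node (.leaf ⟨42, 4, 43, 0, []⟩) (.leaf ⟨352, 4, 1027,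 0, []⟩)) (.node (.leaf ⟨533, 1, 533, 15, [4545, 4537]⟩) (.leaf ⟨927, 1, 1388, 14, [7898, 11886, 11878, 12088, 12737]⟩))) (.node (.node (.leaf ⟨293, 0, 210, 10, [1956, 2497, 1612]⟩) (.leaf ⟨1245, 6, 778, 2, [10689, 10682, 7090]⟩)) (.node (.leaf ⟨705, 7, 707, 20, [5958, 6589, 6584]⟩) (.leaf ⟨1251, 1, 1580, 14, [10748, 10348, 9203, 13734, 14785]⟩)))) (.node (.node (.node (.leaf ⟨38, 4, 179, 0, []⟩) (.leaf ⟨1150, 3, 1121, 7, [9661, 2401, 9354, 9364]⟩)) (.node (.leaf ⟨537, 0, 661, 10, [4621, 1319, 5569]⟩) (.leaf ⟨884, 11, 1479, 13, [10141, 10130, 13761]⟩))) (.node (.node (.leaf ⟨335, 7, 339, 69, [3420, 3311, 3257, 3517, 3514]⟩) (.leaf ⟨1287, 6, 964, 2, [11713, 4042, 8134]⟩)) (.node (.leaf ⟨874, 3, 871, 7, [7617, 7614, 7604, 7606]⟩) (.leaf ⟨0, 12, 0, 0, []⟩))))) (.node (.node (.node (.node (.leaf ⟨110, 0, 68, 3, [959, 950, 949, 956, 548]⟩) (.leaf ⟨1094, 4, 1095, 0, []⟩)) (.node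 (.leaf ⟨609, 2, 573, 6, [5055, 4823]⟩) (.leaf ⟨1432, 6, 1357, 2, [13249, 13238, 12424]⟩))) (.node (.node (.leaf ⟨423, 2, 388, 29, [3007, 3003, 2999, 2995, 2989, 2979, 2969, 562, 2736]⟩) (.leaf ⟨912, 11, 1024, 13, [7935, 7930, 11199]⟩)) (.node (.leaf ⟨781, 4, 782, 0, []⟩) (.leaf ⟨1493, 3, 1620, 99, [14694, 14685, 14016, 15291]⟩)))) (.node (.node (.node (.leaf ⟨301, 3, 234, 44, [1983, 949, 1703, 1701, 1699]⟩) (.leaf ⟨769, 11, 1195, 37, [7065, 1968, 5731, 6869, 6860, 2725, 10175]⟩)) (.node (.leaf ⟨713, 4, 536, 67, [6077, 5827, 5373, 5375, 5014]⟩) (.leaf ⟨1533, 0, 1539, 10, [14192, 8987, 14271]⟩))) (.node (.node (.leaf ⟨478, 2, 463, 6, [4033, 3759]⟩) (.leaf ⟨1333, 3, 1327, 7, [12225, 6707, 12184, 12164]⟩)) (.node (.leaf ⟨571, 5, 961, 73, [8126, 8119]⟩) (.leaf ⟨0, 12, 0, 0, []⟩))))))))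

def factB34 : Arr (CFact) :=
  (.node (.node (.node (.node (.node (.node (.node (.leaf ⟨6, 3, 5, 7, [63, 58, 40, 52]⟩) (.leaf ⟨981, 4, 982, 0, []⟩)) (.node (.leaf ⟨481, 12, 310, 21, [4055, 4135, 4130, 2077, 2106]⟩) (.leaf ⟨1335, 7, 1313, 4, [12243, 12351, 12346, 12068]⟩))) (.node (.node (.leaf ⟨54, 1, 314, 0, []⟩) (.leaf ⟨1204, 2, 986, 5, [10303, 10293, 10290, 8292]⟩)) (.node (.leaf ⟨558, 6, 662, 63, [6211, 6209, 3609, 6197, 5577]⟩) (.leaf ⟨1348, 9, 801, 21, [14118, 14120, 14401, 14397]⟩)))) (.node (.node (.node (.leaf ⟨27, 4, 137, 0, []⟩) (.leaf ⟨316, 4, 1112, 0, []⟩)) (.node (.leaf ⟨624, 5, 487, 82, [5185, 5174, 3244, 4207]⟩) (.leaf ⟨1441, 4, 645, 36, [13375, 5326, 6972, 6962]⟩))) (.node (.node (.leaf ⟨73, 8, 433, 0, []⟩) (.leaf ⟨1046, 10, 1037, 97, [8814, 11073, 7201, 11331, 9818, 6876, 8727]⟩)) (.node (.leaf ⟨805, 4, 214, 36, [7231, 7226, 7170, 1623]⟩) (.leaf ⟨0,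 12, 0, 0, []⟩))))) (.node (.node (.node (.node (.leaf ⟨67, 0, 55, 31, [548, 579, 499]⟩) (.leaf ⟨851, 3, 1041, 99, [7512, 6746, 4987, 8769]⟩)) (.node (.leaf ⟨560, 1, 136, 38, [4675, 1177, 1172]⟩) (.leaf ⟨1399, 0, 1312, 3, [12865, 6376, 6560, 4870, 12066]⟩))) (.node (.node (.leaf ⟨377, 1, 248, 58, [2627, 1719, 1715, 1738]⟩) (.leaf ⟨1257, 4, 559, 36, [10811, 10806, 10582, 6279]⟩)) (.node (.leaf ⟨537, 6, 747, 33, [4624, 6460, 6721]⟩) (.leaf ⟨1573, 3, 1590, 99, [14845, 14837, 14833, 14909]⟩)))) (.node (.node (.node (.leaf ⟨42, 10, 207, 0, []⟩) (.leaf ⟨1162, 3, 1158, 7, [9795, 9790, 9759, 9760]⟩)) (.node (.leaf ⟨681, 7, 617, 69, [5699, 3892, 5201, 5468, 5460]⟩) (.leaf ⟨1498, 1, 837, 22, [13889, 10954, 7479, 7476]⟩))) (.node (.node (.leaf ⟨354, 5, 360, 75, [3333, 3649, 3651, 2443]⟩) (.leaf ⟨1297, 7, 899, 4, [11839, 4080, 3166, 7728]⟩)) (.node (.leaf ⟨905, 4, 906, 0, []⟩) (.leaf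 ⟨0, 12, 0, 0, []⟩)))))) (.node (.node (.node (.node (.node (.leaf ⟨10, 8, 9, 17, [94, 313, 310, 86]⟩) (.leaf ⟨1014, 4, 277, 36, [8507, 3240, 2073, 2869]⟩)) (.node (.leaf ⟨474, 11, 254, 13, [4417, 4414, 3958]⟩) (.leaf ⟨1380, 7, 1371, 34, [12605, 12588, 12533, 12536]⟩))) (.node (.node (.leaf ⟨316, 3, 195, 30, [2138, 2371]⟩) (.leaf ⟨1233, 2, 1229, 5, [10563, 10555, 10550, 10532]⟩)) (.node (.leaf ⟨736, 1, 621, 43, [6467, 6453, 6147, 5725, 5732]⟩) (.leaf ⟨1260, 1, 1569, 0, []⟩)))) (.node (.node (.node (.leaf ⟨168, 6, 138, 2, [1347, 1338, 1096]⟩) (.leaf ⟨892, 1, 1134, 48, [8124, 8837, 9533]⟩)) (.node (.leaf ⟨653, 3, 598, 44, [5441, 1152, 4620, 4961, 4959]⟩) (.leaf ⟨1460, 0, 1412, 3, [13635, 13626, 13100, 12985, 12988]⟩))) (.node (.node (.leaf ⟨212, 11, 87, 37, [3395, 1776, 3370, 2965, 672, 2012, 713]⟩) (.leaf ⟨1278, 9, 1079, 21, [11585, 9290, 8700, 11042]⟩)) (.node (.leaf ⟨849,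 3, 820, 7, [7491, 7486, 7315, 7316]⟩) (.leaf ⟨0, 12, 0, 0, []⟩))))) (.node (.node (.node (.node (.leaf ⟨99, 3, 61, 7, [831, 826, 514, 518]⟩) (.leaf ⟨308, 4, 1076, 0, []⟩)) (.node (.leaf ⟨593, 10, 160, 9, [4931, 1229, 1269]⟩) (.leaf ⟨1423, 6, 1370, 2, [13123, 5026, 12530]⟩))) (.node (.node (.leaf ⟨409, 9, 208, 21, [2881, 595, 590, 1606]⟩) (.leaf ⟨1091, 10, 953, 88, [9126, 5521, 4941, 3610, 10678, 11075, 8083]⟩)) (.node (.leaf ⟨497, 7, 644, 20, [5048, 6965, 6960]⟩) (.leaf ⟨1611, 0, 1535, 10, [15167, 9159, 14212]⟩)))) (.node (.node (.node (.leaf ⟨240, 2, 276, 6, [1719, 1859]⟩) (.leaf ⟨1184, 7, 989, 34, [10047, 10040, 9912, 8302]⟩)) (.node (.leaf ⟨705, 10, 672, 9, [5955, 5953, 5912]⟩) (.leaf ⟨1528, 2, 1480, 6, [14147, 13771]⟩))) (.node (.node (.leaf ⟨472, 0, 192, 11, [3901, 3004, 1562]⟩) (.leaf ⟨1313, 1, 775, 14, [12095, 12099, 9996, 11169, 7108]⟩)) (.node (.leaf ⟨256, 4,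 944, 0, []⟩) (.leaf ⟨0, 12, 0, 0, []⟩))))))) (.node (.node (.node (.node (.node (.node (.leaf ⟨9, 10, 14, 9, [87, 189, 168]⟩) (.leaf ⟨994, 6, 859, 2, [8373, 5765, 7596]⟩)) (.node (.leaf ⟨193, 2, 489, 0, []⟩) (.leaf ⟨1364, 10, 1074, 9, [12483, 8330, 9017]⟩))) (.node (.node (.leaf ⟨332, 12, 272, 15, [2243, 1846]⟩) (.leaf ⟨1221, 3, 1217, 7, [10431, 2769, 10398, 10404]⟩)) (.node (.leaf ⟨662, 2, 726, 0, []⟩) (.leaf ⟨1560, 1, 1382, 43, [14531, 14462, 7287, 12814, 12810]⟩)))) (.node (.node (.node (.leaf ⟨153, 2, 142, 5, [1217, 1209, 1206, 1104]⟩) (.leaf ⟨467, 4, 1125, 0, []⟩)) (.node (.leaf ⟨525, 12, 639, 22, [4515, 4490, 4494, 5315, 5313]⟩) (.leaf ⟨1040, 9, 906, 84, [8751, 12850, 12846, 6049, 12084, 13507, 7748]⟩))) (.node (.node (.leaf ⟨442, 2, 245, 29, [3261, 3227, 3217, 3218, 3189, 622, 2273, 2275, 1728]⟩) (.leaf ⟨841, 1, 1270, 102, [8417, 10991, 8573, 10945, 11455]⟩)) (.node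 (.leaf ⟨829, 7, 805, 34, [7363, 7360, 7225, 7230]⟩) (.leaf ⟨0, 12, 0, 0, []⟩))))) (.node (.node (.node (.node (.leaf ⟨86, 4, 87, 0, []⟩) (.leaf ⟨1058, 6, 860, 2, [8899, 8894, 7554]⟩)) (.node (.leaf ⟨121, 8, 569, 0, []⟩) (.leaf ⟨830, 11, 1412, 37, [7374, 2976, 6204, 6938, 1056, 5296, 12995]⟩))) (.node (.node (.leaf ⟨391, 1, 392, 0, []⟩) (.leaf ⟨757, 10, 1237, 9, [10947, 7509, 10615]⟩)) (.node (.leaf ⟨600, 0, 660, 23, [6850, 6162]⟩) (.leaf ⟨1600, 4, 1463, 85, [15039, 15036, 14694, 14688]⟩)))) (.node (.node (.node (.leaf ⟨246, 1, 111, 12, [1731, 1729, 1727, 1725, 1723, 1721, 1719, 1715, 979]⟩) (.leaf ⟨1174, 3, 1052, 7, [9921, 9914, 8846, 8852]⟩)) (.node (.leaf ⟨691, 2, 591, 45, [5827, 5300, 4923]⟩) (.leaf ⟨1512, 2, 1513, 0, []⟩))) (.node (.node (.leaf ⟨84, 8, 464, 0, []⟩) (.leaf ⟨961, 11, 774, 13, [11971, 11958, 11265]⟩)) (.node (.leaf ⟨625, 4, 927, 0, []⟩) (.leaf ⟨0, 12,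 0, 0, []⟩)))))) (.node (.node (.node (.node (.node (.leaf ⟨43, 4, 44, 0, []⟩) (.leaf ⟨1027, 0, 950, 3, [8643, 3723, 3720, 3898, 8054]⟩)) (.node (.leaf ⟨533, 2, 535, 16, [4545, 4538]⟩) (.leaf ⟨1388, 0, 1374, 10, [12739, 7925, 12574]⟩))) (.node (.node (.leaf ⟨294, 3, 364, 39, [2497, 1611, 2488]⟩) (.leaf ⟨1245, 3, 1241, 7, [10689, 10684, 10649, 10650]⟩)) (.node (.leaf ⟨707, 11, 731, 13, [6595, 6391, 6378]⟩) (.leaf ⟨1580, 10, 1146, 9, [14787, 10744, 9612]⟩)))) (.node (.node (.node (.leaf ⟨179, 6, 179, 2, [1475, 361, 1474]⟩) (.leaf ⟨1150, 2, 1119, 5, [9661, 3652, 2448, 9344]⟩)) (.node (.leaf ⟨661, 2, 621, 71, [5571, 4624, 5469]⟩) (.leaf ⟨1056, 8, 1479, 17, [11097, 8799, 9907, 13761]⟩))) (.node (.node (.leaf ⟨403, 5, 339, 75, [3319, 3257, 3517, 3514]⟩) (.leaf ⟨1287, 0, 975, 3, [11713, 4042, 2692, 2729, 8208]⟩)) (.node (.leaf ⟨546, 5, 874, 82, [6857, 7611, 7609, 7619]⟩) (.leaf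 ⟨0, 12, 0, 0, []⟩))))) (.node (.node (.node (.node (.leaf ⟨110, 3, 47, 7, [959, 952, 488, 460]⟩) (.leaf ⟨1095, 6, 1085, 2, [9155, 9150, 9082]⟩)) (.node (.leaf ⟨574, 10, 609, 9, [4826, 4828, 5057]⟩) (.leaf ⟨1432, 3, 1337, 7, [13249, 13240, 12250, 12260]⟩))) (.node (.node (.leaf ⟨389, 2, 423, 6, [2743, 3011]⟩) (.leaf ⟨1025, 8, 1117, 41, [8617, 11203, 7783, 2282, 551, 2161, 9326]⟩)) (.node (.leaf ⟨782, 3, 775, 7, [7107, 7104, 7078, 7080]⟩) (.leaf ⟨1611, 6, 1620, 86, [15172, 14221, 14198, 15291]⟩)))) (.node (.node (.node (.leaf ⟨301, 6, 236, 18, [1983, 882, 722, 953, 1703]⟩) (.leaf ⟨884, 10, 1195, 88, [7659, 6928, 1171, 6871, 6860, 2725, 10175]⟩)) (.node (.leaf ⟨582, 3, 713, 30, [4890, 6081]⟩) (.leaf ⟨1060, 1, 1540, 0, []⟩))) (.node (.node (.leaf ⟨478, 0, 264, 11, [4033, 2571, 1825]⟩) (.leaf ⟨1333, 4, 498, 36, [12225, 6442, 6556, 5042]⟩)) (.node (.leaf ⟨963, 6, 898, 2, [8129,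 6790, 7724]⟩) (.leaf ⟨0, 12, 0, 0, []⟩))))))))

def factB35 : Arr (CFact) :=
  (.node (.node (.node (.node (.node (.node (.node (.leaf ⟨6, 2, 3, 5, [63, 53, 46, 32]⟩) (.leaf ⟨982, 3, 867, 7, [8261, 8256, 7595, 7592]⟩)) (.node (.leaf ⟨310, 0, 269, 23, [4165, 4058]⟩) (.leaf ⟨1346, 4, 1347, 0, []⟩))) (.node (.node (.leaf ⟨314, 10, 54, 9, [2117, 937, 944]⟩) (.leaf ⟨1204, 4, 1205, 0, []⟩)) (.node (.leaf ⟨668, 12, 689, 22, [5631, 4677, 5574, 6213, 5804]⟩) (.leaf ⟨1551, 8, 1336, 17, [14397, 9619, 9620, 12256]⟩)))) (.node (.node (.node (.leaf ⟨137, 6, 137, 2, [1093, 253, 1092]⟩) (.leaf ⟨1112, 9, 754, 84, [9285, 2900, 3361, 2421, 515, 1549, 7004]⟩)) (.node (.leaf ⟨624, 1, 149, 12, [5185, 5179, 5173, 5163, 1410, 4745, 1126, 4765, 1190]⟩) (.leaf ⟨995, 11, 1441, 100, [8342, 11235, 7353, 3571, 5084, 5350, 13381]⟩))) (.node (.node (.leaf ⟨73, 9, 434, 0, []⟩) (.leaf ⟨619, 4, 1263, 0,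 []⟩)) (.node (.leaf ⟨214, 4, 806, 0, []⟩) (.leaf ⟨0, 12, 0, 0, []⟩))))) (.node (.node (.node (.node (.leaf ⟨68, 7, 68, 34, [549, 567, 581, 548]⟩) (.leaf ⟨322, 4, 1042, 0, []⟩)) (.node (.leaf ⟨549, 0, 560, 10, [4651, 1090, 4677]⟩) (.leaf ⟨1399, 4, 1400, 0, []⟩))) (.node (.node (.leaf ⟨248, 6, 371, 59, [2629, 2623, 1745, 2572]⟩) (.leaf ⟨1257, 7, 757, 4, [10811, 10802, 10744, 7010]⟩)) (.node (.leaf ⟨685, 1, 747, 53, [5755, 5690, 6455, 6721]⟩) (.leaf ⟨1590, 1, 898, 14, [14917, 14697, 11387, 11397, 10294]⟩)))) (.node (.node (.node (.leaf ⟨43, 1, 208, 0, []⟩) (.leaf ⟨1162, 2, 1092, 5, [9795, 9787, 3773, 9132]⟩)) (.node (.leaf ⟨594, 2, 682, 0, []⟩) (.leaf ⟨853, 11, 1498, 13, [7528, 7476, 13893]⟩))) (.node (.node (.leaf ⟨360, 7, 430, 69, [3653, 2415, 3409, 2494, 3091]⟩) (.leaf ⟨1105, 3, 1297, 30, [9234, 11843]⟩)) (.node (.leaf ⟨906, 4, 907, 0, []⟩) (.leaf ⟨0, 12, 0, 0, []⟩))))))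 (.node (.node (.node (.node (.node (.leaf ⟨11, 10, 12, 9, [95, 124, 323]⟩) (.leaf ⟨1014, 7, 1009, 4, [8507, 3791, 3788, 8456]⟩)) (.node (.leaf ⟨198, 8, 475, 17, [1584, 1753, 4411, 4409]⟩) (.leaf ⟨970, 1, 1380, 14, [8211, 11447, 7517, 12508, 12609]⟩))) (.node (.node (.leaf ⟨60, 1, 349, 0, []⟩) (.leaf ⟨1233, 7, 1218, 34, [10563, 10556, 10428, 10406]⟩)) (.node (.leaf ⟨736, 4, 427, 85, [6467, 6463, 2961, 3340]⟩) (.leaf ⟨1569, 9, 1329, 21, [14661, 11292, 9837, 12176]⟩)))) (.node (.node (.node (.leaf ⟨168, 3, 158, 7, [1347, 1340, 1246, 1254]⟩) (.leaf ⟨428, 4, 1135, 0, []⟩)) (.node (.leaf ⟨653, 6, 614, 18, [5441, 1082, 5126, 5132, 5134]⟩) (.leaf ⟨1460, 3, 1449, 7, [13635, 13628, 13464, 13474]⟩))) (.node (.node (.leaf ⟨253, 8, 200, 62, [3369, 2368, 946, 2061, 713, 3397, 3395]⟩) (.leaf ⟨1278, 4, 1279, 0, []⟩)) (.node (.leaf ⟨849, 2, 814, 5, [7491, 7485, 3677, 7290]⟩) (.leaf ⟨0,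 12, 0, 0, []⟩))))) (.node (.node (.node (.node (.leaf ⟨99, 2, 58, 5, [831, 821, 816, 502]⟩) (.leaf ⟨1076, 7, 862, 4, [9029, 2713, 3445, 7560]⟩)) (.node (.leaf ⟨593, 6, 539, 18, [4931, 1040, 4620, 4624, 4626]⟩) (.leaf ⟨1423, 0, 1379, 3, [13123, 5026, 4610, 4618, 12586]⟩))) (.node (.node (.leaf ⟨194, 5, 409, 57, [2150, 2509, 1952, 2883]⟩) (.leaf ⟨868, 1, 1091, 101, [9837, 9844, 11077]⟩)) (.node (.leaf ⟨611, 12, 580, 53, [5123, 5040, 6965, 6962, 5348]⟩) (.leaf ⟨1611, 8, 887, 17, [15167, 8384, 10890, 10889]⟩)))) (.node (.node (.node (.leaf ⟨275, 6, 243, 18, [1856, 1861, 1720, 1722, 1724]⟩) (.leaf ⟨1184, 4, 1185, 0, []⟩)) (.node (.leaf ⟨705, 3, 671, 44, [5955, 5953, 5659, 5651, 5645]⟩) (.leaf ⟨908, 1, 1529, 0, []⟩))) (.node (.node (.leaf ⟨399, 5, 472, 65, [2828, 3355, 3909]⟩) (.leaf ⟨1142, 11, 1313, 13, [10537, 10534, 12101]⟩)) (.node (.leaf ⟨944, 3, 835, 7, [8005, 3961, 7402,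 7404]⟩) (.leaf ⟨0, 12, 0, 0, []⟩))))))) (.node (.node (.node (.node (.node (.node (.leaf ⟨9, 8, 17, 17, [87, 189, 166, 141]⟩) (.leaf ⟨474, 4, 1002, 0, []⟩)) (.node (.leaf ⟨489, 7, 281, 20, [4293, 2898, 2146]⟩) (.leaf ⟨1364, 4, 1365, 0, []⟩))) (.node (.node (.leaf ⟨271, 2, 334, 16, [2241, 2222]⟩) (.leaf ⟨1221, 7, 1138, 4, [10431, 2772, 2351, 9580]⟩)) (.node (.leaf ⟨726, 2, 560, 6, [6341, 5575]⟩) (.leaf ⟨1560, 4, 1557, 85, [14531, 14468, 14479, 14480]⟩)))) (.node (.node (.node (.leaf ⟨123, 7, 153, 20, [1036, 1143, 1219]⟩) (.leaf ⟨1125, 6, 765, 2, [9413, 3802, 7046]⟩)) (.node (.leaf ⟨525, 1, 640, 15, [5316, 5312]⟩) (.leaf ⟨1251, 8, 989, 41, [10743, 11775, 7748, 13509, 8751, 11153, 8302]⟩))) (.node (.node (.leaf ⟨406, 8, 441, 17, [2867, 2872, 3269, 3261]⟩) (.leaf ⟨1270, 10, 1119, 9, [11461, 8417, 9353]⟩)) (.node (.leaf ⟨358, 5, 829, 60, [2432, 7262, 7264, 7233, 7365]⟩) (.leaf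 ⟨0, 12, 0, 0, []⟩))))) (.node (.node (.node (.node (.leaf ⟨87, 6, 51, 2, [709, 704, 480]⟩) (.leaf ⟨1058, 7, 995, 4, [8899, 8894, 8389, 8340]⟩)) (.node (.leaf ⟨121, 9, 570, 0, []⟩) (.leaf ⟨1412, 1, 770, 38, [12997, 7376, 7142]⟩))) (.node (.node (.leaf ⟨392, 0, 282, 10, [2757, 2752, 1885]⟩) (.leaf ⟨1252, 11, 791, 13, [10758, 8628, 10947]⟩)) (.node (.leaf ⟨600, 1, 750, 15, [6850, 6835]⟩) (.leaf ⟨1600, 5, 1531, 82, [15039, 15035, 14025, 14171]⟩)))) (.node (.node (.node (.leaf ⟨105, 11, 246, 13, [908, 973, 1733]⟩) (.leaf ⟨1174, 2, 1049, 5, [9921, 9911, 6354, 8830]⟩)) (.node (.leaf ⟨532, 5, 524, 60, [5003, 5006, 5821, 5827, 5417]⟩) (.leaf ⟨1513, 1, 1282, 43, [14021, 14011, 7157, 11446, 11631]⟩))) (.node (.node (.leaf ⟨84, 10, 465, 0, []⟩) (.leaf ⟨775, 8, 1168, 41, [7081, 11973, 8131, 6800, 10366, 11063, 9856]⟩)) (.node (.leaf ⟨927, 6, 911, 2, [7877, 5210, 7764]⟩) (.leaf ⟨0,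 12, 0, 0, []⟩)))))) (.node (.node (.node (.node (.node (.leaf ⟨44, 4, 45, 0, []⟩) (.leaf ⟨1027, 3, 788, 7, [8643, 2410, 7144, 7148]⟩)) (.node (.leaf ⟨535, 2, 532, 6, [4549, 4535]⟩) (.leaf ⟨1362, 7, 1388, 20, [12458, 12434, 12735]⟩))) (.node (.node (.leaf ⟨341, 0, 292, 32, [2302, 2499, 1955]⟩) (.leaf ⟨799, 0, 1245, 11, [8675, 10655, 10693]⟩)) (.node (.leaf ⟨678, 10, 705, 9, [6398, 5974, 6595]⟩) (.leaf ⟨820, 1, 1581, 0, []⟩)))) (.node (.node (.node (.leaf ⟨179, 8, 179, 41, [1475, 401, 1044, 1184, 1045, 400, 1474]⟩) (.leaf ⟨1150, 7, 938, 4, [9661, 2415, 3406, 7944]⟩)) (.node (.leaf ⟨560, 2, 662, 0, []⟩) (.leaf ⟨1394, 1, 1480, 0, []⟩))) (.node (.node (.leaf ⟨339, 5, 411, 75, [3523, 2337, 2335, 2951]⟩) (.leaf ⟨1287, 7, 1201, 4, [11713, 4042, 2692, 10276]⟩)) (.node (.leaf ⟨546, 4, 875, 0, []⟩) (.leaf ⟨0, 12, 0, 0, []⟩))))) (.node (.node (.node (.node (.leaf ⟨110, 2, 42, 5, [959,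 947, 942, 448]⟩) (.leaf ⟨1095, 0, 1000, 3, [9155, 9150, 9078, 9075, 8360]⟩)) (.node (.leaf ⟨609, 1, 610, 0, []⟩) (.leaf ⟨1432, 2, 1390, 5, [13249, 13235, 5064, 12760]⟩))) (.node (.node (.leaf ⟨422, 6, 392, 18, [3006, 3013, 2746, 2750, 2756]⟩) (.leaf ⟨1034, 9, 918, 40, [8679, 11201, 7897, 2267, 501, 2194, 7802]⟩)) (.node (.leaf ⟨782, 4, 190, 8, [7107, 7103, 7099, 7095, 7091, 7087]⟩) (.leaf ⟨1620, 1, 1125, 101, [15301, 15180, 14589]⟩)))) (.node (.node (.node (.leaf ⟨301, 0, 236, 10, [1983, 951, 1703]⟩) (.leaf ⟨1185, 1, 884, 101, [10056, 10177, 10181]⟩)) (.node (.leaf ⟨584, 9, 648, 21, [4895, 6081, 6073, 5412]⟩) (.leaf ⟨1540, 10, 1102, 9, [14277, 10877, 10884]⟩))) (.node (.node (.leaf ⟨478, 1, 479, 0, []⟩) (.leaf ⟨1224, 11, 1333, 37, [10470, 10483, 8129, 4809, 1028, 4864, 12229]⟩)) (.node (.leaf ⟨263, 4, 964, 0, []⟩) (.leaf ⟨0, 12, 0, 0, []⟩))))))))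

def factB36 : Arr (CFact) :=
  (.node (.node (.node (.node (.node (.node (.node (.leaf ⟨6, 7, 6, 4, [63, 57, 55, 62]⟩) (.leaf ⟨982, 2, 860, 5, [8261, 8255, 8252, 7554]⟩)) (.node (.leaf ⟨310, 1, 480, 15, [4165, 4055]⟩) (.leaf ⟨1347, 6, 1335, 2, [12359, 12350, 12242]⟩))) (.node (.node (.leaf ⟨314, 3, 190, 44, [2117, 937, 1565, 1563, 1561]⟩) (.leaf ⟨1205, 3, 895, 7, [10311, 10306, 7710, 7712]⟩)) (.node (.leaf ⟨668, 0, 558, 23, [6214, 6210]⟩) (.leaf ⟨1550, 4, 1503, 77, [14389, 7204, 14405, 12369, 12876, 7082, 13914]⟩)))) (.node (.node (.node (.leaf ⟨137, 4, 138, 0, []⟩) (.leaf ⟨1112, 3, 799, 7, [9285, 2372, 7198, 7200]⟩)) (.node (.leaf ⟨624, 0, 510, 11, [5185, 5176, 4709]⟩) (.leaf ⟨1441, 1, 860, 38, [13383, 8903, 8900]⟩))) (.node (.node (.leaf ⟨73, 10, 435, 0, []⟩) (.leaf ⟨1263, 6, 1200, 2, [11335, 5749, 10264]⟩)) (.node (.leaf ⟨806, 0, 770, 3, [7239, 3123, 3120, 1948, 7066]⟩)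 (.leaf ⟨0, 12, 0, 0, []⟩))))) (.node (.node (.node (.node (.leaf ⟨56, 7, 56, 4, [499, 581, 567, 498]⟩) (.leaf ⟨1042, 6, 838, 2, [8775, 3941, 7418]⟩)) (.node (.leaf ⟨119, 1, 561, 0, []⟩) (.leaf ⟨1400, 6, 1313, 2, [12871, 12868, 12068]⟩))) (.node (.node (.leaf ⟨64, 10, 378, 0, []⟩) (.leaf ⟨1154, 11, 1257, 100, [9724, 6984, 1049, 4596, 1424, 6330, 10821]⟩)) (.node (.leaf ⟨544, 2, 685, 29, [4638, 1504, 4930, 5727, 5724, 6146, 6452, 6721, 6727]⟩) (.leaf ⟨1590, 6, 1477, 33, [14917, 14849, 14878]⟩)))) (.node (.node (.node (.leaf ⟨208, 10, 91, 9, [1607, 591, 753]⟩) (.leaf ⟨1162, 7, 1103, 34, [9795, 9788, 9213, 9216]⟩)) (.node (.leaf ⟨682, 7, 613, 20, [5703, 5535, 5544]⟩) (.leaf ⟨1469, 3, 1498, 44, [13694, 10813, 10826, 8010, 13893]⟩))) (.node (.node (.leaf ⟨295, 10, 360, 9, [1960, 3091, 3655]⟩) (.leaf ⟨1297, 1, 1202, 14, [11847, 11040, 10774, 11027, 10291]⟩)) (.node (.leaf ⟨907,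 4, 908, 0, []⟩) (.leaf ⟨0, 12, 0, 0, []⟩)))))) (.node (.node (.node (.node (.node (.leaf ⟨5, 1, 34, 0, []⟩) (.leaf ⟨279, 4, 1015, 0, []⟩)) (.node (.leaf ⟨113, 1, 493, 0, []⟩) (.leaf ⟨1380, 10, 1098, 9, [12615, 8807, 9185]⟩))) (.node (.node (.leaf ⟨349, 6, 320, 18, [2375, 516, 2158, 2162, 2164]⟩) (.leaf ⟨1233, 4, 1234, 0, []⟩)) (.node (.leaf ⟨539, 0, 736, 31, [4942, 3033, 6471]⟩) (.leaf ⟨1534, 4, 1569, 42, [14201, 7158, 4356, 5116, 4862, 12170, 14663]⟩)))) (.node (.node (.node (.leaf ⟨168, 2, 161, 5, [1347, 1335, 337, 1274]⟩) (.leaf ⟨1135, 6, 814, 2, [9543, 3046, 7290]⟩)) (.node (.leaf ⟨653, 0, 548, 10, [5441, 1165, 4649]⟩) (.leaf ⟨1460, 2, 1415, 5, [13635, 13623, 13618, 13024]⟩))) (.node (.node (.leaf ⟨300, 4, 320, 67, [2326, 3091, 3092, 3395, 2418]⟩) (.leaf ⟨1279, 6, 977, 2, [11591, 11576, 8220]⟩)) (.node (.leaf ⟨849, 4, 213, 36, [7491, 7488, 7298, 2288]⟩) (.leaf ⟨0,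 12, 0, 0, []⟩))))) (.node (.node (.node (.node (.leaf ⟨99, 7, 87, 4, [831, 824, 703, 708]⟩) (.leaf ⟨1076, 4, 1077, 0, []⟩)) (.node (.leaf ⟨353, 5, 593, 55, [2830, 629, 113, 32, 284, 1271, 4933]⟩) (.leaf ⟨1423, 3, 1354, 7, [13123, 5021, 12396, 12400]⟩))) (.node (.node (.leaf ⟨341, 6, 409, 66, [2507, 2367, 1629, 2883]⟩) (.leaf ⟨1170, 11, 868, 13, [9888, 9128, 11079]⟩)) (.node (.leaf ⟨580, 9, 126, 27, [6983, 5123]⟩) (.leaf ⟨1611, 9, 888, 21, [15167, 8362, 8885, 11097]⟩)))) (.node (.node (.node (.leaf ⟨242, 8, 273, 17, [1724, 1863, 1855, 1853]⟩) (.leaf ⟨1185, 6, 1070, 2, [10055, 10048, 8960]⟩)) (.node (.leaf ⟨705, 0, 498, 10, [5955, 5948, 4437]⟩) (.leaf ⟨1529, 10, 1173, 9, [14151, 8204, 9919]⟩))) (.node (.node (.leaf ⟨391, 6, 472, 87, [2981, 3365, 2202, 3355, 3909]⟩) (.leaf ⟨1314, 9, 941, 84, [12071, 12103, 9590, 11211, 8391, 4420, 7978]⟩)) (.node (.leaf ⟨944, 4, 945, 0, []⟩)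 (.leaf ⟨0, 12, 0, 0, []⟩))))))) (.node (.node (.node (.node (.node (.node (.leaf ⟨21, 2, 18, 6, [187, 166]⟩) (.leaf ⟨1002, 0, 918, 3, [8391, 3974, 2191, 2197, 7802]⟩)) (.node (.leaf ⟨489, 2, 196, 6, [4293, 2364]⟩) (.leaf ⟨1365, 8, 1103, 41, [12487, 12484, 9019, 6329, 11790, 11789, 9216]⟩))) (.node (.node (.leaf ⟨272, 3, 331, 24, [2245, 2219]⟩) (.leaf ⟨1221, 4, 1222, 0, []⟩)) (.node (.leaf ⟨726, 0, 568, 11, [6341, 5578, 4800]⟩) (.leaf ⟨1560, 0, 1544, 11, [14531, 14465, 14333]⟩)))) (.node (.node (.node (.leaf ⟨123, 0, 153, 11, [1036, 1145, 1219]⟩) (.leaf ⟨1125, 0, 943, 3, [9413, 3802, 1881, 4295, 7996]⟩)) (.node (.leaf ⟨525, 3, 589, 24, [5316, 5307]⟩) (.leaf ⟨1115, 10, 1450, 9, [12115, 12206, 13499]⟩))) (.node (.node (.leaf ⟨273, 7, 442, 20, [1851, 1848, 3263]⟩) (.leaf ⟨1270, 9, 788, 21, [11461, 7465, 9367, 9377]⟩)) (.node (.leaf ⟨829, 0, 769, 31, [7367, 2430, 7064]⟩) (.leaf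 ⟨0, 12, 0, 0, []⟩))))) (.node (.node (.node (.node (.leaf ⟨87, 4, 88, 0, []⟩) (.leaf ⟨1058, 4, 1059, 0, []⟩)) (.node (.leaf ⟨121, 10, 571, 0, []⟩) (.leaf ⟨590, 4, 1413, 0, []⟩))) (.node (.node (.leaf ⟨392, 2, 393, 0, []⟩) (.leaf ⟨853, 1, 941, 102, [7821, 10838, 7030, 10947, 7983]⟩)) (.node (.leaf ⟨600, 2, 546, 16, [6850, 6165]⟩) (.leaf ⟨1583, 0, 1600, 31, [14820, 13747, 15045]⟩)))) (.node (.node (.node (.leaf ⟨46, 8, 247, 0, []⟩) (.leaf ⟨1174, 4, 1175, 0, []⟩)) (.node (.leaf ⟨524, 5, 589, 90, [5831, 4534, 5378, 5320]⟩) (.leaf ⟨1513, 4, 1462, 85, [14021, 14017, 13666, 13654]⟩))) (.node (.node (.leaf ⟨85, 1, 466, 0, []⟩) (.leaf ⟨663, 4, 1306, 0, []⟩)) (.node (.leaf ⟨927, 4, 928, 0, []⟩) (.leaf ⟨0, 12, 0, 0, []⟩)))))) (.node (.node (.node (.node (.node (.leaf ⟨45, 4, 46, 0, []⟩) (.leaf ⟨1027, 2, 786, 5, [8643, 3366, 3080, 7138]⟩)) (.node (.leaf ⟨531, 6, 528, 18, [4532, 4551,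 4540, 1487, 4522]⟩) (.leaf ⟨1388, 4, 1389, 0, []⟩))) (.node (.node (.leaf ⟨291, 0, 297, 10, [1950, 2503, 2305]⟩) (.leaf ⟨1245, 4, 1246, 0, []⟩)) (.node (.leaf ⟨734, 2, 741, 0, []⟩) (.leaf ⟨1581, 9, 864, 21, [14791, 7493, 7859, 11221]⟩)))) (.node (.node (.node (.leaf ⟨179, 0, 125, 3, [1475, 361, 396, 383, 1044]⟩) (.leaf ⟨1150, 4, 1151, 0, []⟩)) (.node (.leaf ⟨662, 7, 564, 20, [5575, 5229, 5261]⟩) (.leaf ⟨1480, 0, 1466, 10, [13767, 12802, 13676]⟩))) (.node (.node (.leaf ⟨447, 7, 274, 69, [3521, 2416, 3414, 2239, 2262]⟩) (.leaf ⟨793, 1, 1287, 48, [7173, 11446, 11717]⟩)) (.node (.leaf ⟨875, 3, 868, 7, [7623, 6857, 6860, 7600]⟩) (.leaf ⟨0, 12, 0, 0, []⟩))))) (.node (.node (.node (.node (.leaf ⟨110, 7, 110, 4, [959, 950, 949, 958]⟩) (.leaf ⟨1095, 7, 983, 4, [9155, 9150, 9078, 8268]⟩)) (.node (.leaf ⟨610, 2, 581, 50, [5063, 5058, 4817, 1439, 4883]⟩) (.leaf ⟨1432, 7, 1419, 4,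 [13249, 13238, 13069, 13076]⟩))) (.node (.node (.leaf ⟨71, 9, 424, 0, []⟩) (.leaf ⟨834, 9, 776, 40, [7403, 3979, 898, 4115, 7916, 11197, 7082]⟩)) (.node (.leaf ⟨555, 12, 781, 91, [4664, 6200, 2120, 7111, 7107]⟩) (.leaf ⟨1533, 2, 1621, 0, []⟩)))) (.node (.node (.node (.leaf ⟨234, 9, 103, 21, [1698, 1700, 1989, 1983]⟩) (.leaf ⟨1195, 1, 808, 38, [10179, 8795, 8786]⟩)) (.node (.leaf ⟨610, 5, 648, 55, [5099, 1061, 441, 1334, 4995, 5824, 6079]⟩) (.leaf ⟨1540, 6, 1493, 18, [14277, 8912, 11097, 7679, 13850]⟩))) (.node (.node (.leaf ⟨479, 6, 461, 18, [4039, 4033, 2568, 760, 3728]⟩) (.leaf ⟨1333, 1, 1229, 38, [12231, 10468, 10535]⟩)) (.node (.leaf ⟨964, 3, 959, 7, [8135, 1801, 8110, 8112]⟩) (.leaf ⟨0, 12, 0, 0, []⟩))))))))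

def factB37 : Arr (CFact) :=
  (.node (.node (.node (.node (.node (.node (.node (.leaf ⟨6, 4, 0, 8, [63, 53, 41, 33, 23, 15]⟩) (.leaf ⟨955, 0, 982, 32, [8104, 7744, 8265]⟩)) (.node (.leaf ⟨310, 2, 482, 16, [4165, 4074]⟩) (.leaf ⟨1347, 3, 1340, 7, [12359, 12352, 12328, 12286]⟩))) (.node (.node (.leaf ⟨189, 3, 314, 30, [1558, 2121]⟩) (.leaf ⟨1205, 2, 990, 5, [10311, 10303, 10296, 8304]⟩)) (.node (.leaf ⟨668, 1, 558, 15, [6214, 5805]⟩) (.leaf ⟨923, 10, 1550, 97, [7842, 4113, 899, 3978, 7402, 13920, 14409]⟩)))) (.node (.node (.node (.leaf ⟨138, 4, 139, 0, []⟩) (.leaf ⟨1112, 2, 1032, 5, [9285, 6932, 6894, 8696]⟩)) (.node (.leaf ⟨622, 6, 624, 18, [5163, 1410, 4745, 1189, 5191]⟩) (.leaf ⟨1420, 3, 1441, 44, [13093, 12360, 12247, 7582, 13385]⟩))) (.node (.node (.leaf ⟨435, 7, 410, 19, [3145, 2485, 2905]⟩) (.leaf ⟨1263, 0, 1190, 3, [11335, 5749, 6115, 6142, 10106]⟩)) (.node (.leaf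 ⟨806, 2, 791, 5, [7239, 7237, 7234, 7164]⟩) (.leaf ⟨0, 12, 0, 0, []⟩))))) (.node (.node (.node (.node (.leaf ⟨43, 7, 61, 4, [451, 573, 570, 518]⟩) (.leaf ⟨1042, 0, 807, 3, [8775, 3941, 3946, 3725, 7246]⟩)) (.node (.leaf ⟨561, 6, 507, 18, [4681, 1018, 4462, 4466, 4468]⟩) (.leaf ⟨1400, 7, 1347, 4, [12871, 12868, 12347, 12358]⟩))) (.node (.node (.leaf ⟨378, 7, 331, 19, [2633, 1745, 2217]⟩) (.leaf ⟨1257, 1, 945, 38, [10825, 9726, 9556]⟩)) (.node (.leaf ⟨685, 7, 596, 20, [6729, 4951, 4952]⟩) (.leaf ⟨1378, 1, 1591, 0, []⟩)))) (.node (.node (.node (.leaf ⟨208, 2, 209, 0, []⟩) (.leaf ⟨1162, 4, 1163, 0, []⟩)) (.node (.leaf ⟨682, 2, 593, 6, [5703, 4945]⟩) (.leaf ⟨923, 1, 1499, 0, []⟩))) (.node (.node (.leaf ⟨83, 9, 202, 84, [683, 171, 786, 2408, 3652, 3657, 3408]⟩) (.leaf ⟨1202, 9, 1023, 21, [11849, 11847, 9232, 11043]⟩)) (.node (.leaf ⟨908, 4, 909, 0, []⟩) (.leaf ⟨0, 12, 0, 0,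 []⟩)))))) (.node (.node (.node (.node (.node (.leaf ⟨34, 10, 5, 9, [329, 55, 61]⟩) (.leaf ⟨1015, 6, 921, 2, [8521, 4100, 7830]⟩)) (.node (.leaf ⟨493, 2, 494, 0, []⟩) (.leaf ⟨697, 4, 1381, 0, []⟩))) (.node (.node (.leaf ⟨349, 8, 328, 17, [2375, 571, 574, 2201]⟩) (.leaf ⟨1234, 0, 1115, 35, [10569, 10566, 10424, 9304, 9308]⟩)) (.node (.leaf ⟨188, 4, 736, 91, [1917, 3361, 3070, 6471]⟩) (.leaf ⟨1569, 2, 1570, 0, []⟩)))) (.node (.node (.node (.leaf ⟨168, 7, 138, 4, [1347, 1338, 1095, 1096]⟩) (.leaf ⟨1135, 0, 944, 3, [9543, 3046, 1753, 3425, 8004]⟩)) (.node (.leaf ⟨653, 8, 544, 17, [5441, 1152, 1507, 4639]⟩) (.leaf ⟨1460, 4, 709, 36, [13635, 13630, 13064, 6030]⟩))) (.node (.node (.leaf ⟨274, 4, 199, 36, [2298, 2295, 3395, 1587]⟩) (.leaf ⟨1279, 3, 1075, 7, [11591, 11578, 9019, 9020]⟩)) (.node (.leaf ⟨323, 4, 850, 0, []⟩) (.leaf ⟨0, 12, 0, 0, []⟩))))) (.node (.node (.node (.node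 (.leaf ⟨58, 7, 70, 20, [839, 832, 666]⟩) (.leaf ⟨1077, 4, 1078, 0, []⟩)) (.node (.leaf ⟨593, 5, 191, 90, [4937, 2399, 3355, 1563]⟩) (.leaf ⟨1423, 2, 1350, 5, [13123, 5369, 5300, 12386]⟩))) (.node (.node (.leaf ⟨70, 10, 216, 9, [2880, 2889, 2471]⟩) (.leaf ⟨1086, 1, 1092, 48, [9125, 11079, 9137]⟩)) (.node (.leaf ⟨176, 10, 497, 9, [4883, 5343, 6981]⟩) (.leaf ⟨1553, 4, 1611, 42, [14439, 8719, 2775, 545, 1658, 7674, 15177]⟩)))) (.node (.node (.node (.leaf ⟨49, 8, 277, 0, []⟩) (.leaf ⟨1185, 2, 1099, 5, [10055, 10047, 10042, 9186]⟩)) (.node (.leaf ⟨705, 2, 670, 29, [5955, 5947, 5943, 5939, 5931, 5915, 5905, 1114, 5636]⟩) (.leaf ⟨1529, 6, 1515, 18, [14151, 8213, 11447, 8659, 14043]⟩))) (.node (.node (.leaf ⟨393, 11, 392, 13, [3905, 3913, 2756]⟩) (.leaf ⟨916, 1, 1314, 94, [7825, 7820, 10952, 12105]⟩)) (.node (.leaf ⟨945, 3, 837, 7, [8009, 8006, 7417, 7414]⟩) (.leaf ⟨0, 12, 0, 0,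 []⟩))))))) (.node (.node (.node (.node (.node (.node (.leaf ⟨17, 6, 14, 18, [140, 201, 174, 46, 109]⟩) (.leaf ⟨1002, 3, 826, 7, [8391, 3969, 7340, 7344]⟩)) (.node (.leaf ⟨489, 1, 489, 12, [4293, 2362, 4265, 4263, 2370, 1938, 826, 1577, 4297]⟩) (.leaf ⟨1365, 3, 1359, 7, [12487, 12480, 12432, 12436]⟩))) (.node (.node (.leaf ⟨335, 9, 240, 21, [2225, 2233, 1838, 1721]⟩) (.leaf ⟨1222, 6, 772, 2, [10441, 10434, 7074]⟩)) (.node (.leaf ⟨726, 1, 727, 0, []⟩) (.leaf ⟨1483, 6, 1560, 66, [14436, 14487, 14336, 14537]⟩)))) (.node (.node (.node (.leaf ⟨153, 4, 154, 0, []⟩) (.leaf ⟨1125, 3, 850, 7, [9413, 3799, 3358, 7498]⟩)) (.node (.leaf ⟨525, 7, 523, 25, [5316, 5308]⟩) (.leaf ⟨652, 4, 1451, 0, []⟩))) (.node (.node (.leaf ⟨76, 11, 443, 0, []⟩) (.leaf ⟨1270, 4, 1271, 0, []⟩)) (.node (.leaf ⟨358, 4, 830, 0, []⟩) (.leaf ⟨0, 12, 0, 0, []⟩))))) (.node (.node (.node (.node (.leaf ⟨88, 7,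 82, 34, [713, 710, 670, 672]⟩) (.leaf ⟨1059, 7, 904, 34, [8905, 8900, 7745, 7738]⟩)) (.node (.leaf ⟨571, 7, 551, 19, [4809, 4776, 4778]⟩) (.leaf ⟨1413, 6, 1361, 2, [13001, 6024, 12442]⟩))) (.node (.node (.leaf ⟨393, 0, 194, 11, [2761, 2758, 2149]⟩) (.leaf ⟨771, 1, 818, 94, [7101, 8628, 10947, 10210]⟩)) (.node (.leaf ⟨600, 3, 619, 24, [6850, 6159]⟩) (.leaf ⟨1045, 1, 1601, 0, []⟩)))) (.node (.node (.node (.leaf ⟨46, 9, 248, 0, []⟩) (.leaf ⟨1175, 3, 1054, 7, [9929, 9924, 8858, 8866]⟩)) (.node (.leaf ⟨591, 0, 650, 11, [5829, 5820, 5404]⟩) (.leaf ⟨1492, 0, 1513, 103, [13847, 13965, 13960, 13938, 14025]⟩))) (.node (.node (.leaf ⟨466, 3, 248, 44, [3785, 694, 1877, 2857, 2628]⟩) (.leaf ⟨1306, 6, 1075, 2, [11977, 5584, 9020]⟩)) (.node (.leaf ⟨928, 2, 927, 5, [7881, 7877, 5213, 7876]⟩) (.leaf ⟨0, 12, 0, 0, []⟩)))))) (.node (.node (.node (.node (.node (.leaf ⟨46, 4, 7, 8, [457, 455,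 453, 451, 449, 445]⟩) (.leaf ⟨1027, 7, 947, 4, [8643, 3723, 3720, 8026]⟩)) (.node (.leaf ⟨532, 6, 535, 70, [4551, 4540, 1479, 4541]⟩) (.leaf ⟨1389, 6, 1375, 2, [12745, 12740, 12576]⟩))) (.node (.node (.leaf ⟨283, 5, 341, 57, [2367, 1629, 1953, 2503]⟩) (.leaf ⟨1246, 6, 800, 2, [10697, 10695, 7202]⟩)) (.node (.leaf ⟨741, 2, 651, 6, [6601, 6443]⟩) (.leaf ⟨1485, 4, 1581, 42, [13801, 7170, 2490, 8411, 11236, 7568, 14793]⟩)))) (.node (.node (.node (.leaf ⟨179, 3, 120, 7, [1475, 379, 1012, 1020]⟩) (.leaf ⟨1151, 6, 819, 2, [9673, 9664, 7310]⟩)) (.node (.leaf ⟨662, 0, 550, 11, [5575, 4679, 4652]⟩) (.leaf ⟨1480, 2, 1481, 0, []⟩))) (.node (.node (.leaf ⟨274, 12, 408, 13, [3529, 3514, 2272, 2878]⟩) (.leaf ⟨1287, 10, 1020, 9, [11721, 7285, 8589]⟩)) (.node (.leaf ⟨875, 4, 876, 0, []⟩) (.leaf ⟨0, 12, 0, 0, []⟩))))) (.node (.node (.node (.node (.leaf ⟨110, 4, 111, 0, []⟩) (.leaf ⟨1095,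 4, 1096, 0, []⟩)) (.node (.leaf ⟨610, 6, 494, 18, [5063, 5055, 4826, 4857, 4429]⟩) (.leaf ⟨1189, 1, 1432, 14, [10100, 11054, 10642, 12766, 13255]⟩))) (.node (.node (.leaf ⟨71, 10, 425, 0, []⟩) (.leaf ⟨1002, 8, 1143, 41, [8391, 3981, 970, 2255, 9465, 11195, 9590]⟩)) (.node (.leaf ⟨555, 3, 773, 24, [7112, 7104]⟩) (.leaf ⟨1621, 1, 1124, 43, [15305, 14192, 7683, 11559, 11546]⟩)))) (.node (.node (.node (.leaf ⟨301, 9, 238, 21, [1983, 884, 766, 1711]⟩) (.leaf ⟨1043, 1, 967, 102, [8786, 10185, 10170, 9978, 8153]⟩)) (.node (.leaf ⟨713, 1, 651, 58, [6073, 5414, 5359, 5424]⟩) (.leaf ⟨1540, 8, 949, 17, [14277, 10877, 10882, 9429]⟩))) (.node (.node (.leaf ⟨479, 0, 263, 10, [4039, 4036, 1805]⟩) (.leaf ⟨503, 4, 1334, 0, []⟩)) (.node (.leaf ⟨964, 4, 965, 0, []⟩) (.leaf ⟨0, 12, 0, 0, []⟩))))))))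

def factB38 : Arr (CFact) :=
  (.node (.node (.node (.node (.node (.node (.node (.leaf ⟨1, 1, 7, 0, []⟩) (.leaf ⟨982, 4, 983, 0, []⟩)) (.node (.leaf ⟨310, 3, 313, 24, [4165, 4063]⟩) (.leaf ⟨1330, 0, 1347, 11, [12194, 12291, 12363]⟩))) (.node (.node (.leaf ⟨196, 6, 188, 18, [1576, 510, 2116, 2123, 1557]⟩) (.leaf ⟨1205, 4, 554, 36, [10311, 10308, 8321, 5285]⟩)) (.node (.leaf ⟨668, 2, 572, 16, [6214, 5812]⟩) (.leaf ⟨1550, 7, 1508, 19, [14411, 13898, 13952]⟩)))) (.node (.node (.node (.leaf ⟨139, 4, 140, 0, []⟩) (.leaf ⟨1112, 4, 1113, 0, []⟩)) (.node (.leaf ⟨149, 10, 623, 9, [5191, 5195, 5182]⟩) (.leaf ⟨645, 4, 1442, 0, []⟩))) (.node (.node (.leaf ⟨380, 2, 436, 0, []⟩) (.leaf ⟨1263, 3, 876, 7, [11335, 5467, 7622, 7626]⟩)) (.node (.leaf ⟨806, 4, 196, 36, [7239, 1622, 1628, 2364]⟩) (.leaf ⟨0, 12, 0, 0, []⟩))))) (.node (.node (.node (.node (.leaf ⟨72, 4, 73, 0, []⟩) (.leaf ⟨1042,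 2, 852, 5, [8775, 4983, 6747, 7514]⟩)) (.node (.leaf ⟨507, 3, 561, 78, [4683, 4681, 1017, 4680]⟩) (.leaf ⟨1347, 11, 775, 13, [12875, 12872, 12100]⟩))) (.node (.node (.leaf ⟨371, 5, 378, 60, [2576, 2340, 1746, 2217, 2635]⟩) (.leaf ⟨1038, 1, 1232, 102, [8765, 10492, 9486, 10827, 10818]⟩)) (.node (.leaf ⟨685, 2, 543, 6, [6729, 4637]⟩) (.leaf ⟨1591, 2, 1584, 50, [14923, 13393, 13399, 9356, 14828]⟩)))) (.node (.node (.node (.leaf ⟨209, 1, 210, 0, []⟩) (.leaf ⟨1163, 0, 1062, 35, [9803, 9800, 9218, 8918, 8920]⟩)) (.node (.leaf ⟨682, 0, 617, 11, [5703, 5154, 5140]⟩) (.leaf ⟨1499, 9, 1116, 21, [13899, 7853, 7848, 11700]⟩))) (.node (.node (.leaf ⟨208, 9, 456, 21, [1607, 483, 711, 3647]⟩) (.leaf ⟨1297, 4, 1298, 0, []⟩)) (.node (.leaf ⟨909, 4, 910, 0, []⟩) (.leaf ⟨0, 12, 0, 0, []⟩)))))) (.node (.node (.node (.node (.node (.leaf ⟨34, 6, 25, 18, [329, 58, 232, 238, 242]⟩) (.leaf ⟨1015,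 4, 672, 36, [8521, 4104, 5656, 5651]⟩)) (.node (.leaf ⟨494, 1, 495, 0, []⟩) (.leaf ⟨1381, 0, 1355, 3, [12619, 5881, 4888, 4923, 12410]⟩))) (.node (.node (.leaf ⟨327, 3, 349, 28, [2196, 2167, 2377]⟩) (.leaf ⟨1234, 2, 1227, 5, [10569, 10563, 10558, 10516]⟩)) (.node (.leaf ⟨603, 6, 736, 86, [4985, 4937, 3430, 6471]⟩) (.leaf ⟨1570, 1, 984, 43, [14667, 14661, 11292, 11078, 9129]⟩)))) (.node (.node (.node (.leaf ⟨168, 4, 169, 0, []⟩) (.leaf ⟨1135, 3, 855, 7, [9543, 3063, 7530, 7538]⟩)) (.node (.leaf ⟨602, 8, 599, 17, [5134, 5447, 5444, 4958]⟩) (.leaf ⟨1460, 7, 1322, 4, [13635, 13626, 13100, 12134]⟩))) (.node (.node (.leaf ⟨259, 5, 334, 75, [1782, 3403, 3251, 3222]⟩) (.leaf ⟨1279, 2, 1069, 5, [11591, 11573, 11568, 8958]⟩)) (.node (.leaf ⟨850, 6, 794, 2, [7499, 4329, 7180]⟩) (.leaf ⟨0, 12, 0, 0, []⟩))))) (.node (.node (.node (.node (.leaf ⟨99, 4, 100, 0, []⟩) (.leaf ⟨1078, 4,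 1079, 0, []⟩)) (.node (.leaf ⟨422, 4, 539, 54, [3004, 4939, 4934]⟩) (.leaf ⟨1423, 7, 1382, 4, [13123, 5026, 4610, 12642]⟩))) (.node (.node (.leaf ⟨409, 2, 299, 45, [2889, 2302, 1977]⟩) (.leaf ⟨1158, 1, 1153, 43, [9764, 11083, 10011, 10985, 9707]⟩)) (.node (.leaf ⟨501, 2, 753, 0, []⟩) (.leaf ⟨1611, 7, 1563, 4, [15179, 14430, 14155, 14577]⟩)))) (.node (.node (.node (.leaf ⟨49, 9, 278, 0, []⟩) (.leaf ⟨1185, 4, 370, 36, [10055, 10050, 9206, 4188]⟩)) (.node (.leaf ⟨143, 8, 706, 0, []⟩) (.leaf ⟨1529, 2, 1530, 0, []⟩))) (.node (.node (.leaf ⟨102, 8, 389, 17, [3903, 3913, 2751, 2747]⟩) (.leaf ⟨1314, 10, 1016, 9, [12107, 9483, 9490]⟩)) (.node (.leaf ⟨815, 7, 945, 20, [7482, 7476, 8011]⟩) (.leaf ⟨0, 12, 0, 0, []⟩))))))) (.node (.node (.node (.node (.node (.node (.leaf ⟨18, 12, 16, 20, [201, 181, 90, 131]⟩) (.leaf ⟨1002, 2, 824, 5, [8391, 5667, 6428, 7334]⟩)) (.node (.leaf ⟨489,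 0, 454, 11, [4293, 2983, 3620]⟩) (.leaf ⟨1365, 4, 521, 8, [12487, 12479, 12472, 12469, 12455, 12443]⟩))) (.node (.node (.leaf ⟨331, 3, 273, 30, [2249, 1850]⟩) (.leaf ⟨1222, 0, 1022, 3, [10441, 10434, 10353, 10358, 8596]⟩)) (.node (.leaf ⟨727, 2, 718, 50, [6347, 6342, 4676, 1173, 6170]⟩) (.leaf ⟨1382, 10, 1553, 9, [14533, 14539, 14425]⟩)))) (.node (.node (.node (.leaf ⟨154, 6, 124, 2, [1227, 1225, 1038]⟩) (.leaf ⟨1125, 2, 1043, 5, [9413, 9409, 9406, 8784]⟩)) (.node (.leaf ⟨525, 11, 583, 51, [5316, 5311]⟩) (.leaf ⟨1451, 0, 1373, 3, [13515, 5433, 5407, 5409, 12558]⟩))) (.node (.node (.leaf ⟨443, 1, 94, 38, [3275, 624, 777]⟩) (.leaf ⟨1271, 6, 762, 2, [11467, 11452, 7032]⟩)) (.node (.leaf ⟨830, 6, 810, 2, [7371, 2432, 7260]⟩) (.leaf ⟨0, 12, 0, 0, []⟩))))) (.node (.node (.node (.node (.leaf ⟨88, 4, 15, 8, [713, 709, 701, 693, 689, 683]⟩) (.leaf ⟨1059, 4, 304, 8, [8905, 8899,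 8893, 8889, 8883, 8875]⟩)) (.node (.leaf ⟨121, 11, 572, 0, []⟩) (.leaf ⟨1413, 0, 1387, 3, [13001, 6024, 6711, 6104, 12722]⟩))) (.node (.node (.leaf ⟨393, 1, 394, 0, []⟩) (.leaf ⟨757, 8, 1130, 17, [10947, 7509, 8772, 10492]⟩)) (.node (.leaf ⟨600, 4, 222, 68, [6850, 6161]⟩) (.leaf ⟨1601, 10, 889, 9, [15051, 8806, 8207]⟩)))) (.node (.node (.node (.leaf ⟨46, 10, 249, 0, []⟩) (.leaf ⟨1175, 2, 1046, 5, [9929, 9921, 9916, 8810]⟩)) (.node (.leaf ⟨691, 5, 522, 90, [5825, 4996, 5006, 4507]⟩) (.leaf ⟨1474, 5, 1484, 75, [13732, 14025, 14027, 13847]⟩))) (.node (.node (.leaf ⟨466, 6, 273, 18, [3785, 781, 3277, 3287, 1853]⟩) (.leaf ⟨1306, 0, 1049, 3, [11977, 5584, 4779, 6922, 8830]⟩)) (.node (.leaf ⟨928, 4, 929, 0, []⟩) (.leaf ⟨0, 12, 0, 0, []⟩)))))) (.node (.node (.node (.node (.node (.leaf ⟨8, 4, 47, 0, []⟩) (.leaf ⟨1027, 4, 1028, 0, []⟩)) (.node (.leaf ⟨120, 12, 529, 14, [1483, 4541,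 4555, 4533, 4531, 4529]⟩) (.leaf ⟨1389, 3, 1322, 7, [12745, 12734, 12130, 12134]⟩))) (.node (.node (.leaf ⟨292, 4, 192, 54, [2503, 2507, 1886]⟩) (.leaf ⟨1246, 3, 1243, 7, [10697, 10692, 10656, 10664]⟩)) (.node (.leaf ⟨741, 0, 526, 11, [6601, 6445, 5420]⟩) (.leaf ⟨1581, 4, 1507, 36, [14795, 14455, 14444, 13945]⟩)))) (.node (.node (.node (.leaf ⟨179, 7, 137, 4, [1475, 361, 396, 1092]⟩) (.leaf ⟨1151, 0, 1131, 3, [9673, 9664, 8537, 9491, 9492]⟩)) (.node (.leaf ⟨662, 1, 663, 0, []⟩) (.leaf ⟨1481, 1, 1239, 43, [13771, 13767, 12804, 12257, 10633]⟩))) (.node (.node (.leaf ⟨274, 11, 69, 51, [3530, 2879]⟩) (.leaf ⟨1287, 4, 1288, 0, []⟩)) (.node (.leaf ⟨876, 3, 870, 7, [7627, 7624, 7602, 7604]⟩) (.leaf ⟨0, 12, 0, 0, []⟩))))) (.node (.node (.node (.node (.leaf ⟨111, 6, 69, 2, [971, 962, 550]⟩) (.leaf ⟨1096, 6, 1001, 2, [9163, 9158, 8364]⟩)) (.node (.leaf ⟨502, 12, 609, 22, [4449,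 4424, 4426, 5067, 5063]⟩) (.leaf ⟨1432, 4, 1433, 0, []⟩))) (.node (.node (.leaf ⟨425, 7, 390, 19, [3019, 2968, 2972]⟩) (.leaf ⟨1180, 9, 997, 40, [10007, 11189, 8516, 1867, 471, 1830, 8352]⟩)) (.node (.leaf ⟨773, 12, 634, 16, [7115, 6947]⟩) (.leaf ⟨1621, 2, 1546, 6, [15305, 14960]⟩)))) (.node (.node (.node (.leaf ⟨235, 0, 234, 32, [1700, 1991, 1986]⟩) (.leaf ⟨1053, 11, 1043, 13, [8862, 8151, 10187]⟩)) (.node (.leaf ⟨651, 10, 638, 9, [6091, 6073, 5416]⟩) (.leaf ⟨1475, 5, 1540, 52, [13740, 11385, 13575, 12486, 12488, 9217, 14279]⟩))) (.node (.node (.leaf ⟨465, 7, 479, 19, [3783, 3728, 4041]⟩) (.leaf ⟨1334, 8, 940, 62, [12235, 4457, 1000, 4484, 5103, 3569, 7966]⟩)) (.node (.leaf ⟨965, 3, 961, 7, [8139, 8136, 8114, 8116]⟩) (.leaf ⟨0, 12, 0, 0, []⟩))))))))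

def factB39 : Arr (CFact) :=
  (.node (.node (.node (.node (.node (.node (.node (.leaf ⟨7, 10, 1, 9, [77, 17, 21]⟩) (.leaf ⟨983, 6, 956, 2, [8269, 8267, 8088]⟩)) (.node (.leaf ⟨310, 7, 367, 25, [4165, 4066]⟩) (.leaf ⟨1336, 7, 1331, 34, [12251, 12361, 12365, 12196]⟩))) (.node (.node (.leaf ⟨186, 9, 59, 21, [1552, 1554, 2125, 1576]⟩) (.leaf ⟨882, 0, 1205, 31, [7648, 6916, 10317]⟩)) (.node (.leaf ⟨668, 4, 398, 68, [6214, 6209]⟩) (.leaf ⟨1551, 2, 1552, 0, []⟩)))) (.node (.node (.node (.leaf ⟨140, 4, 141, 0, []⟩) (.leaf ⟨1113, 3, 801, 7, [9293, 9288, 7202, 7204]⟩)) (.node (.leaf ⟨623, 9, 128, 21, [5178, 5184, 5195, 5163]⟩) (.leaf ⟨1442, 6, 1437, 2, [13389, 5941, 13316]⟩))) (.node (.node (.leaf ⟨436, 7, 220, 20, [3149, 2721, 1810]⟩) (.leaf ⟨1263, 2, 870, 5, [11335, 11327, 11324, 7604]⟩)) (.node (.leaf ⟨197, 4, 807, 0, []⟩) (.leaf ⟨0, 12, 0, 0, []⟩))))) (.node (.node (.node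 (.node (.leaf ⟨73, 6, 43, 2, [589, 572, 450]⟩) (.leaf ⟨1042, 7, 828, 4, [8775, 3941, 3946, 7358]⟩)) (.node (.leaf ⟨561, 8, 505, 17, [4681, 1015, 1018, 4462]⟩) (.leaf ⟨937, 1, 1400, 38, [12254, 12356, 12873]⟩))) (.node (.node (.leaf ⟨378, 0, 249, 31, [2637, 2631, 2072]⟩) (.leaf ⟨1232, 10, 840, 9, [10829, 8765, 8770]⟩)) (.node (.leaf ⟨685, 6, 620, 70, [6729, 4638, 6495, 6498]⟩) (.leaf ⟨1591, 3, 1585, 44, [14923, 12707, 12331, 11872, 14839]⟩)))) (.node (.node (.node (.leaf ⟨210, 2, 211, 0, []⟩) (.leaf ⟨1163, 3, 1160, 7, [9803, 9796, 9768, 9776]⟩)) (.node (.leaf ⟨293, 5, 682, 65, [2928, 5153, 5709]⟩) (.leaf ⟨1499, 2, 1500, 0, []⟩))) (.node (.node (.leaf ⟨409, 8, 456, 17, [2881, 913, 914, 3647]⟩) (.leaf ⟨1298, 6, 874, 2, [11853, 11840, 7616]⟩)) (.node (.leaf ⟨910, 4, 230, 8, [7757, 7755, 7753, 7751, 7749, 7747]⟩) (.leaf ⟨0, 12, 0, 0, []⟩)))))) (.node (.node (.node (.node (.node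 (.leaf ⟨34, 0, 34, 10, [329, 57, 328]⟩) (.leaf ⟨1015, 7, 820, 4, [8521, 4100, 1863, 7316]⟩)) (.node (.leaf ⟨495, 2, 496, 0, []⟩) (.leaf ⟨1381, 3, 1370, 7, [12619, 5877, 5379, 12530]⟩))) (.node (.node (.leaf ⟨327, 1, 350, 0, []⟩) (.leaf ⟨1234, 4, 1235, 0, []⟩)) (.node (.leaf ⟨660, 9, 160, 21, [6452, 6466, 6477, 4980]⟩) (.leaf ⟨1570, 5, 1496, 82, [14667, 14665, 14210, 13866]⟩)))) (.node (.node (.node (.leaf ⟨169, 3, 160, 7, [1357, 1350, 1262, 1266]⟩) (.leaf ⟨1135, 2, 1015, 5, [9543, 4092, 4107, 8520]⟩)) (.node (.leaf ⟨599, 5, 196, 52, [5453, 4977, 2153, 4337, 1603, 449, 1574]⟩) (.leaf ⟨1041, 11, 1460, 37, [8768, 3844, 9409, 12548, 12543, 6649, 13643]⟩))) (.node (.node (.leaf ⟨202, 6, 252, 70, [1591, 1589, 3399, 1759]⟩) (.leaf ⟨834, 1, 1279, 53, [11208, 10936, 8988, 11597]⟩)) (.node (.leaf ⟨850, 0, 790, 3, [7499, 4329, 4338, 3373, 7160]⟩) (.leaf ⟨0, 12, 0, 0, []⟩))))) (.node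 (.node (.node (.node (.leaf ⟨100, 6, 88, 2, [845, 834, 712]⟩) (.leaf ⟨1079, 4, 1080, 0, []⟩)) (.node (.leaf ⟨539, 4, 351, 36, [4941, 3900, 3911, 2781]⟩) (.leaf ⟨813, 10, 1423, 9, [12814, 12810, 13133]⟩))) (.node (.node (.leaf ⟨70, 8, 212, 17, [2880, 2889, 2301, 1616]⟩) (.leaf ⟨814, 1, 875, 48, [9709, 11085, 9762]⟩)) (.node (.leaf ⟨753, 7, 573, 20, [6989, 4452, 5072]⟩) (.leaf ⟨1611, 4, 1517, 8, [15179, 14672, 14670, 13874, 13958, 14049]⟩)))) (.node (.node (.node (.leaf ⟨49, 10, 279, 0, []⟩) (.leaf ⟨1185, 7, 887, 4, [10055, 10048, 8989, 7668]⟩)) (.node (.leaf ⟨706, 5, 588, 72, [5965, 1109, 407, 1092, 4589, 5830, 5418]⟩) (.leaf ⟨1530, 1, 1424, 43, [14157, 14151, 8167, 12614, 13141]⟩))) (.node (.node (.leaf ⟨454, 8, 102, 17, [3624, 3627, 3907, 3902]⟩) (.leaf ⟨1314, 8, 1257, 17, [12107, 9483, 9486, 10827]⟩)) (.node (.leaf ⟨732, 5, 945, 82, [6413, 5923, 7411, 8011]⟩) (.leaf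 ⟨0, 12, 0, 0, []⟩))))))) (.node (.node (.node (.node (.node (.node (.leaf ⟨16, 0, 16, 23, [205, 145, 204]⟩) (.leaf ⟨1002, 7, 854, 4, [8391, 3974, 2191, 7530]⟩)) (.node (.leaf ⟨288, 6, 489, 18, [2355, 2353, 2363, 4292, 4299]⟩) (.leaf ⟨1324, 0, 1365, 31, [12187, 6710, 12493]⟩))) (.node (.node (.leaf ⟨330, 9, 111, 21, [2214, 2249, 1848, 1732]⟩) (.leaf ⟨1222, 3, 1219, 7, [10441, 10436, 10406, 10408]⟩)) (.node (.leaf ⟨727, 6, 665, 18, [6347, 6341, 5580, 5590, 5594]⟩) (.leaf ⟨807, 9, 1484, 21, [14463, 14530, 14539, 13794]⟩)))) (.node (.node (.node (.leaf ⟨154, 3, 147, 7, [1227, 1218, 1154, 1162]⟩) (.leaf ⟨1125, 4, 617, 36, [9413, 3800, 4986, 5148]⟩)) (.node (.leaf ⟨640, 2, 592, 29, [5319, 5320, 5302, 5299, 4500, 5294, 5291, 1457, 4927]⟩) (.leaf ⟨1451, 3, 1403, 7, [13515, 5431, 6550, 12902]⟩))) (.node (.node (.leaf ⟨275, 2, 443, 50, [1856, 1858, 1715, 777, 3277]⟩) (.leaf ⟨1271,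 0, 1233, 3, [11467, 11452, 10331, 10561, 10562]⟩)) (.node (.leaf ⟨830, 4, 417, 36, [7371, 2469, 2984, 2979]⟩) (.leaf ⟨0, 12, 0, 0, []⟩))))) (.node (.node (.node (.node (.leaf ⟨52, 0, 88, 31, [488, 189, 717]⟩) (.leaf ⟨305, 4, 1060, 0, []⟩)) (.node (.leaf ⟨572, 1, 151, 38, [4813, 1253, 1248]⟩) (.leaf ⟨1413, 7, 1326, 4, [13001, 6024, 6711, 12184]⟩))) (.node (.node (.leaf ⟨394, 0, 316, 10, [2765, 2762, 2144]⟩) (.leaf ⟨1137, 11, 756, 37, [9576, 3995, 745, 3710, 9480, 10957, 7011]⟩)) (.node (.leaf ⟨600, 6, 543, 26, [6850, 6157]⟩) (.leaf ⟨1601, 0, 1488, 10, [15051, 8809, 13816]⟩)))) (.node (.node (.node (.leaf ⟨46, 11, 250, 0, []⟩) (.leaf ⟨1175, 4, 368, 36, [9929, 9926, 8822, 2545]⟩)) (.node (.leaf ⟨591, 1, 692, 0, []⟩) (.leaf ⟨1380, 9, 1513, 21, [12615, 8211, 11631, 14023]⟩))) (.node (.node (.leaf ⟨466, 0, 280, 10, [3785, 696, 1877]⟩) (.leaf ⟨1306, 3, 1295, 7, [11977, 6317,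 11796, 11808]⟩)) (.node (.leaf ⟨929, 4, 930, 0, []⟩) (.leaf ⟨0, 12, 0, 0, []⟩)))))) (.node (.node (.node (.node (.node (.leaf ⟨47, 6, 47, 2, [461, 85, 460]⟩) (.leaf ⟨1028, 6, 951, 2, [8653, 8644, 8060]⟩)) (.node (.leaf ⟨120, 1, 530, 15, [4556, 4528]⟩) (.leaf ⟨1389, 2, 1314, 5, [12745, 12733, 12728, 12070]⟩))) (.node (.node (.leaf ⟨364, 7, 213, 20, [2487, 1966, 1618]⟩) (.leaf ⟨1246, 4, 1247, 0, []⟩)) (.node (.leaf ⟨741, 1, 742, 0, []⟩) (.leaf ⟨1581, 2, 1582, 0, []⟩)))) (.node (.node (.node (.leaf ⟨116, 3, 179, 30, [1023, 1483]⟩) (.leaf ⟨1151, 3, 1122, 7, [9673, 9666, 9371, 9380]⟩)) (.node (.leaf ⟨663, 6, 633, 18, [5581, 5575, 4676, 1431, 5241]⟩) (.leaf ⟨1481, 0, 1467, 11, [13771, 13768, 13680]⟩))) (.node (.node (.leaf ⟨243, 7, 372, 20, [2281, 3515, 3510]⟩) (.leaf ⟨1288, 8, 1262, 41, [11725, 11722, 8586, 2456, 9342, 11313, 11316]⟩)) (.node (.leaf ⟨876, 4, 877, 0, []⟩) (.leaf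 ⟨0, 12, 0, 0, []⟩))))) (.node (.node (.node (.node (.leaf ⟨111, 0, 57, 3, [971, 962, 579, 585, 500]⟩) (.leaf ⟨1096, 7, 872, 4, [9163, 9158, 8384, 7608]⟩)) (.node (.leaf ⟨502, 1, 610, 15, [5068, 5062]⟩) (.leaf ⟨1433, 0, 1428, 35, [13261, 13256, 13078, 13189, 13198]⟩))) (.node (.node (.leaf ⟨71, 11, 426, 0, []⟩) (.leaf ⟨997, 1, 827, 22, [11213, 10985, 9475, 9470]⟩)) (.node (.leaf ⟨555, 4, 782, 68, [7112, 7106]⟩) (.leaf ⟨1621, 4, 1547, 85, [15305, 14395, 14408, 14357]⟩)))) (.node (.node (.node (.leaf ⟨109, 8, 235, 17, [1703, 1989, 1986, 1698]⟩) (.leaf ⟨967, 8, 874, 17, [10187, 8786, 8049, 9428]⟩)) (.node (.leaf ⟨651, 6, 586, 18, [6091, 6080, 4894, 4900, 4902]⟩) (.leaf ⟨1540, 11, 960, 37, [14285, 13738, 8543, 12109, 12072, 12119, 8117]⟩))) (.node (.node (.leaf ⟨479, 2, 480, 0, []⟩) (.leaf ⟨861, 1, 1334, 58, [7742, 8102, 8533, 12237]⟩)) (.node (.leaf ⟨965, 4, 966, 0, []⟩) (.leaf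 ⟨0, 12, 0, 0, []⟩))))))))

def factB40 : Arr (CFact) :=
  (.node (.node (.node (.node (.node (.node (.node (.leaf ⟨7, 0, 7, 10, [77, 19, 76]⟩) (.leaf ⟨983, 3, 862, 7, [8269, 8262, 7584, 7560]⟩)) (.node (.leaf ⟨310, 8, 311, 46, [4165, 4073]⟩) (.leaf ⟨1347, 4, 1348, 0, []⟩))) (.node (.node (.leaf ⟨282, 2, 315, 0, []⟩) (.leaf ⟨388, 4, 1206, 0, []⟩)) (.node (.leaf ⟨668, 6, 550, 26, [6214, 5800]⟩) (.leaf ⟨1552, 1, 1360, 43, [14415, 14397, 9295, 13233, 13220]⟩)))) (.node (.node (.node (.leaf ⟨141, 4, 142, 0, []⟩) (.leaf ⟨1113, 2, 1029, 5, [9293, 9285, 2138, 8664]⟩)) (.node (.leaf ⟨621, 4, 416, 93, [5161, 1052, 5199, 5174, 2208, 552, 2966]⟩) (.leaf ⟨1442, 3, 1378, 7, [13389, 5345, 12716, 12582]⟩))) (.node (.node (.leaf ⟨436, 2, 379, 6, [3149, 2671]⟩) (.leaf ⟨1263, 4, 446, 36, [11335, 6859, 6860, 3443]⟩)) (.node (.leaf ⟨807, 6, 768, 2, [7247, 3035, 7056]⟩) (.leaf ⟨0, 12, 0, 0,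 []⟩))))) (.node (.node (.node (.node (.leaf ⟨73, 0, 43, 35, [589, 576, 571, 572, 450]⟩) (.leaf ⟨1042, 4, 1043, 0, []⟩)) (.node (.leaf ⟨512, 6, 506, 18, [4480, 1516, 4680, 4685, 4469]⟩) (.leaf ⟨1400, 10, 1009, 9, [12879, 8509, 8518]⟩))) (.node (.node (.leaf ⟨344, 4, 334, 61, [2329, 504, 325, 537, 2632, 2637, 2585]⟩) (.leaf ⟨761, 11, 1038, 13, [9260, 10557, 10829]⟩)) (.node (.leaf ⟨685, 0, 541, 11, [6729, 5764, 5776]⟩) (.leaf ⟨1591, 9, 980, 21, [14923, 13393, 13390, 13327]⟩)))) (.node (.node (.node (.leaf ⟨211, 1, 212, 0, []⟩) (.leaf ⟨1163, 2, 1096, 5, [9803, 9795, 9793, 9162]⟩)) (.node (.leaf ⟨621, 6, 682, 66, [5200, 3895, 5153, 5709]⟩) (.leaf ⟨1500, 1, 1501, 0, []⟩))) (.node (.node (.leaf ⟨260, 2, 457, 0, []⟩) (.leaf ⟨1298, 0, 857, 3, [11853, 11840, 8877, 8880, 7548]⟩)) (.node (.leaf ⟨829, 11, 910, 100, [7367, 2946, 5153, 6458, 5565, 1792, 7759]⟩) (.leaf ⟨0, 12, 0, 0,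 []⟩)))))) (.node (.node (.node (.node (.node (.leaf ⟨32, 3, 34, 28, [288, 247, 333]⟩) (.leaf ⟨957, 10, 1015, 97, [8094, 6478, 1267, 6699, 6552, 6409, 8525]⟩)) (.node (.leaf ⟨496, 1, 497, 0, []⟩) (.leaf ⟨1381, 2, 1367, 5, [12619, 12611, 12608, 12512]⟩))) (.node (.node (.leaf ⟨350, 6, 325, 18, [2383, 2380, 2375, 793, 2177]⟩) (.leaf ⟨1235, 6, 1116, 2, [10575, 10570, 9318]⟩)) (.node (.leaf ⟨621, 8, 546, 17, [6469, 6477, 5148, 5465]⟩) (.leaf ⟨1553, 5, 1570, 83, [14426, 14602, 14591, 14671]⟩)))) (.node (.node (.node (.leaf ⟨169, 2, 165, 5, [1357, 1347, 1345, 1314]⟩) (.leaf ⟨1135, 7, 844, 4, [9543, 3046, 1753, 7458]⟩)) (.node (.leaf ⟨473, 5, 599, 83, [3932, 3369, 2364, 5455]⟩) (.leaf ⟨1460, 1, 806, 38, [13647, 8770, 7438]⟩))) (.node (.node (.leaf ⟨295, 4, 202, 54, [2494, 3390, 3407]⟩) (.leaf ⟨880, 11, 834, 13, [8226, 11593, 11599]⟩)) (.node (.leaf ⟨850, 7, 811, 4, [7499, 4329,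 4338, 7268]⟩) (.leaf ⟨0, 12, 0, 0, []⟩))))) (.node (.node (.node (.node (.leaf ⟨100, 0, 82, 3, [845, 834, 710, 668, 672]⟩) (.leaf ⟨1080, 4, 1081, 0, []⟩)) (.node (.leaf ⟨593, 2, 594, 0, []⟩) (.leaf ⟨1193, 1, 1423, 102, [10144, 11151, 7058, 12408, 13129]⟩))) (.node (.node (.leaf ⟨299, 0, 362, 11, [2893, 2882, 2454]⟩) (.leaf ⟨1001, 8, 1158, 17, [9703, 9686, 9713, 11085]⟩)) (.node (.leaf ⟨753, 2, 504, 6, [6989, 5096]⟩) (.leaf ⟨1372, 1, 1612, 0, []⟩)))) (.node (.node (.node (.leaf ⟨279, 7, 241, 19, [1871, 1834, 1838]⟩) (.leaf ⟨379, 4, 1186, 0, []⟩)) (.node (.leaf ⟨143, 11, 707, 0, []⟩) (.leaf ⟨1371, 11, 1530, 13, [12613, 13141, 14159]⟩))) (.node (.node (.leaf ⟨419, 10, 472, 9, [2989, 3375, 3905]⟩) (.leaf ⟨1245, 9, 1315, 84, [10689, 11382, 11384, 11400, 8543, 12109, 12072]⟩)) (.node (.leaf ⟨945, 10, 780, 88, [8015, 6676, 1347, 4594, 1424, 6824, 7120]⟩) (.leaf ⟨0, 12, 0, 0,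 []⟩))))))) (.node (.node (.node (.node (.node (.node (.leaf ⟨16, 1, 17, 15, [205, 141]⟩) (.leaf ⟨1002, 4, 1003, 0, []⟩)) (.node (.leaf ⟨108, 9, 489, 21, [1565, 1932, 4302, 4299]⟩) (.leaf ⟨1365, 1, 1078, 48, [12495, 12178, 9229]⟩))) (.node (.node (.leaf ⟨276, 6, 330, 18, [1857, 1855, 1853, 2253, 2215]⟩) (.leaf ⟨1222, 7, 1212, 4, [10441, 10434, 10353, 10360]⟩)) (.node (.leaf ⟨727, 0, 567, 10, [6347, 6344, 4797]⟩) (.leaf ⟨960, 1, 1561, 0, []⟩)))) (.node (.node (.node (.leaf ⟨154, 2, 139, 5, [1227, 1217, 1212, 1098]⟩) (.leaf ⟨1125, 7, 952, 4, [9413, 3802, 1881, 8070]⟩)) (.node (.leaf ⟨592, 7, 588, 20, [5327, 5314, 4910]⟩) (.leaf ⟨1168, 1, 1451, 102, [9858, 12920, 12918, 12908, 13519]⟩))) (.node (.node (.leaf ⟨438, 0, 443, 10, [3189, 779, 3277]⟩) (.leaf ⟨1271, 3, 1248, 7, [11467, 11454, 10709, 10712]⟩)) (.node (.leaf ⟨830, 7, 786, 4, [7371, 2432, 3099, 7138]⟩) (.leaf ⟨0, 12,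 0, 0, []⟩))))) (.node (.node (.node (.node (.leaf ⟨88, 11, 88, 37, [716, 127, 15, 13, 14, 126, 717]⟩) (.leaf ⟨1060, 3, 1056, 7, [8911, 2091, 8874, 8882]⟩)) (.node (.leaf ⟨122, 1, 573, 0, []⟩) (.leaf ⟨1393, 1, 1413, 48, [12799, 12730, 13005]⟩))) (.node (.node (.leaf ⟨394, 2, 395, 0, []⟩) (.leaf ⟨950, 1, 1211, 43, [8056, 9379, 7309, 10955, 10353]⟩)) (.node (.leaf ⟨600, 7, 654, 25, [6850, 6154]⟩) (.leaf ⟨1601, 9, 1425, 21, [15051, 8843, 8840, 13169]⟩)))) (.node (.node (.node (.leaf ⟨250, 1, 64, 38, [1743, 625, 620]⟩) (.leaf ⟨1175, 7, 910, 34, [9929, 9922, 8322, 7756]⟩)) (.node (.leaf ⟨692, 6, 652, 18, [5839, 5829, 5819, 1147, 5429]⟩) (.leaf ⟨1369, 1, 1514, 0, []⟩))) (.node (.node (.leaf ⟨466, 8, 438, 17, [3785, 694, 650, 3188]⟩) (.leaf ⟨1306, 2, 1289, 5, [11977, 11969, 11966, 11732]⟩)) (.node (.leaf ⟨930, 2, 928, 5, [7887, 7885, 7882, 7880]⟩) (.leaf ⟨0, 12, 0, 0, []⟩))))))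 (.node (.node (.node (.node (.node (.leaf ⟨47, 3, 42, 7, [461, 83, 444, 448]⟩) (.leaf ⟨1028, 0, 942, 35, [8653, 8650, 8028, 7981, 7986]⟩)) (.node (.leaf ⟨120, 3, 528, 24, [4556, 4527]⟩) (.leaf ⟨1389, 4, 578, 36, [12745, 12736, 12078, 4847]⟩))) (.node (.node (.leaf ⟨62, 1, 365, 0, []⟩) (.leaf ⟨1247, 3, 1239, 7, [10703, 10700, 10672, 10630]⟩)) (.node (.leaf ⟨742, 2, 648, 50, [6607, 6602, 6091, 6073, 5412]⟩) (.leaf ⟨1582, 1, 1429, 43, [14799, 14791, 7493, 13282, 13272]⟩)))) (.node (.node (.node (.leaf ⟨179, 4, 180, 0, []⟩) (.leaf ⟨1151, 2, 1117, 5, [9673, 9661, 2396, 9326]⟩)) (.node (.leaf ⟨663, 0, 551, 10, [5581, 5578, 4654]⟩) (.leaf ⟨1221, 11, 1481, 13, [10438, 10633, 13773]⟩))) (.node (.node (.leaf ⟨407, 12, 374, 53, [2877, 2273, 3515, 3512, 2590]⟩) (.leaf ⟨1288, 0, 879, 3, [11725, 11716, 11631, 11638, 7640]⟩)) (.node (.leaf ⟨877, 3, 872, 7, [7631, 7628, 7606, 7608]⟩)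 (.leaf ⟨0, 12, 0, 0, []⟩))))) (.node (.node (.node (.node (.leaf ⟨111, 3, 49, 7, [971, 964, 466, 470]⟩) (.leaf ⟨1096, 4, 614, 8, [9163, 9155, 9147, 9141, 9133, 5507]⟩)) (.node (.leaf ⟨502, 2, 573, 16, [5068, 5058]⟩) (.leaf ⟨1433, 3, 1339, 7, [13261, 13252, 12281, 12278]⟩))) (.node (.node (.leaf ⟨426, 1, 89, 38, [3023, 731, 727]⟩) (.leaf ⟨921, 1, 1082, 48, [7832, 11215, 9059]⟩)) (.node (.leaf ⟨555, 5, 780, 73, [7112, 7103]⟩) (.leaf ⟨1621, 5, 1545, 82, [15305, 14220, 14336, 14338]⟩)))) (.node (.node (.node (.leaf ⟨233, 3, 301, 30, [1696, 1987]⟩) (.leaf ⟨1026, 8, 1054, 62, [8631, 1929, 480, 1970, 8793, 10189, 8866]⟩)) (.node (.leaf ⟨651, 0, 640, 10, [6091, 6075, 5318]⟩) (.leaf ⟨1540, 2, 1541, 0, []⟩))) (.node (.node (.leaf ⟨480, 7, 306, 20, [4047, 4040, 3737]⟩) (.leaf ⟨1334, 10, 1059, 9, [12239, 7742, 8907]⟩)) (.node (.leaf ⟨966, 3, 963, 7, [8143, 8140, 8131, 8128]⟩) (.leaf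 ⟨0, 12, 0, 0, []⟩))))))))

def factB41 : Arr (CFact) :=
  (.node (.node (.node (.node (.node (.node (.node (.leaf ⟨7, 2, 8, 0, []⟩) (.leaf ⟨983, 2, 857, 5, [8269, 8261, 8258, 7548]⟩)) (.node (.leaf ⟨486, 8, 480, 17, [4129, 4161, 4171, 4168]⟩) (.leaf ⟨1348, 6, 1331, 2, [12369, 12365, 12196]⟩))) (.node (.node (.leaf ⟨315, 7, 192, 20, [2129, 1919, 1562]⟩) (.leaf ⟨1206, 6, 1107, 2, [10321, 2740, 9246]⟩)) (.node (.leaf ⟨668, 7, 626, 25, [6214, 6207]⟩) (.leaf ⟨1552, 0, 1511, 11, [14415, 14402, 14002]⟩)))) (.node (.node (.node (.leaf ⟨142, 4, 27, 8, [1105, 1103, 1101, 1099, 1097, 1093]⟩) (.leaf ⟨1113, 4, 1114, 0, []⟩)) (.node (.leaf ⟨128, 10, 625, 0, []⟩) (.leaf ⟨1442, 2, 1421, 5, [13389, 13381, 13387, 13098]⟩))) (.node (.node (.leaf ⟨436, 1, 436, 12, [3149, 2672, 2716, 1804, 1824, 1680, 606, 2664, 3153]⟩) (.leaf ⟨1263, 7, 1165, 4, [11335, 5749, 6115, 9822]⟩)) (.node (.leaf ⟨807,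 4, 808, 0, []⟩) (.leaf ⟨0, 12, 0, 0, []⟩))))) (.node (.node (.node (.node (.leaf ⟨73, 3, 70, 7, [589, 574, 550, 552]⟩) (.leaf ⟨1043, 6, 808, 2, [8785, 8778, 7250]⟩)) (.node (.leaf ⟨508, 7, 507, 20, [4471, 4683, 4685]⟩) (.leaf ⟨1400, 4, 1401, 0, []⟩))) (.node (.node (.leaf ⟨94, 8, 371, 62, [775, 2069, 854, 147, 537, 2632, 2637]⟩) (.leaf ⟨1126, 9, 762, 40, [9431, 4244, 654, 3617, 8737, 10833, 7032]⟩)) (.node (.leaf ⟨616, 12, 547, 13, [6719, 6725, 4621, 4644]⟩) (.leaf ⟨1486, 4, 1591, 42, [13809, 12646, 14456, 8135, 1820, 8248, 14929]⟩)))) (.node (.node (.node (.leaf ⟨212, 2, 213, 0, []⟩) (.leaf ⟨994, 1, 1163, 53, [9689, 9702, 9165, 9809]⟩)) (.node (.leaf ⟨682, 1, 683, 0, []⟩) (.leaf ⟨1501, 2, 1502, 0, []⟩))) (.node (.node (.leaf ⟨457, 6, 203, 70, [3665, 1786, 3658, 1592]⟩) (.leaf ⟨1298, 3, 1090, 7, [11853, 11842, 9114, 9118]⟩)) (.node (.leaf ⟨910, 1, 784, 38, [7761, 7364,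 7232]⟩) (.leaf ⟨0, 12, 0, 0, []⟩)))))) (.node (.node (.node (.node (.node (.leaf ⟨32, 0, 32, 11, [336, 334, 337]⟩) (.leaf ⟨855, 3, 1015, 99, [7542, 2477, 5648, 8525]⟩)) (.node (.leaf ⟨497, 2, 498, 0, []⟩) (.leaf ⟨1381, 4, 646, 36, [12619, 5863, 5833, 5414]⟩))) (.node (.node (.leaf ⟨350, 2, 351, 0, []⟩) (.leaf ⟨1235, 0, 1210, 3, [10575, 10570, 9310, 10341, 10342]⟩)) (.node (.leaf ⟨621, 2, 737, 0, []⟩) (.leaf ⟨814, 8, 1571, 0, []⟩)))) (.node (.node (.node (.leaf ⟨169, 7, 127, 34, [1357, 1348, 1116, 1050]⟩) (.leaf ⟨1135, 4, 1136, 0, []⟩)) (.node (.leaf ⟨603, 7, 599, 4, [4987, 2748, 2125, 5455]⟩) (.leaf ⟨826, 1, 1461, 0, []⟩))) (.node (.node (.leaf ⟨200, 11, 203, 13, [1757, 3407, 1592]⟩) (.leaf ⟨1279, 4, 1280, 0, []⟩)) (.node (.leaf ⟨850, 4, 851, 0, []⟩) (.leaf ⟨0, 12, 0, 0, []⟩))))) (.node (.node (.node (.node (.leaf ⟨100, 3, 63, 7, [845, 836, 522, 528]⟩) (.leaf ⟨1081, 4,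 308, 8, [9041, 9039, 9037, 9035, 9033, 9029]⟩)) (.node (.leaf ⟨594, 7, 540, 20, [4945, 4934, 4628]⟩) (.leaf ⟨1423, 4, 1424, 0, []⟩))) (.node (.node (.leaf ⟨193, 6, 194, 2, [1629, 2883, 2887]⟩) (.leaf ⟨769, 10, 1000, 88, [7065, 1968, 5731, 5741, 9760, 11089, 8365]⟩)) (.node (.leaf ⟨753, 1, 753, 12, [6989, 5340, 6961, 6959, 5355, 4882, 1442, 4461, 6993]⟩) (.leaf ⟨1612, 2, 1601, 50, [15185, 12607, 12615, 8807, 15050]⟩)))) (.node (.node (.node (.leaf ⟨49, 11, 280, 0, []⟩) (.leaf ⟨1186, 6, 1102, 2, [10065, 2668, 9210]⟩)) (.node (.leaf ⟨707, 1, 161, 38, [5969, 1281, 1277]⟩) (.leaf ⟨1183, 8, 1530, 17, [12598, 12588, 13149, 14159]⟩))) (.node (.node (.leaf ⟨395, 9, 472, 21, [2770, 658, 873, 3903]⟩) (.leaf ⟨1315, 1, 1115, 22, [12113, 11064, 9271, 9311]⟩)) (.node (.leaf ⟨732, 4, 946, 0, []⟩) (.leaf ⟨0, 12, 0, 0, []⟩))))))) (.node (.node (.node (.node (.node (.node (.leaf ⟨16, 2,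 15, 16, [205, 167]⟩) (.leaf ⟨1003, 6, 919, 2, [8401, 8392, 7810]⟩)) (.node (.leaf ⟨196, 7, 191, 20, [4297, 4303, 1934]⟩) (.leaf ⟨1261, 11, 1365, 13, [11308, 10090, 12497]⟩))) (.node (.node (.leaf ⟨274, 9, 64, 21, [1853, 2253, 2216, 1744]⟩) (.leaf ⟨738, 5, 1222, 82, [6514, 10413, 10411, 10447]⟩)) (.node (.leaf ⟨557, 2, 727, 71, [6266, 4794, 6353]⟩) (.leaf ⟨1561, 6, 1542, 18, [14545, 10173, 10184, 7273, 14305]⟩)))) (.node (.node (.node (.leaf ⟨154, 4, 30, 36, [1227, 1220, 1106, 279]⟩) (.leaf ⟨874, 10, 1125, 97, [7621, 6767, 8051, 8890, 8888, 5484, 9423]⟩)) (.node (.leaf ⟨130, 8, 641, 0, []⟩) (.leaf ⟨1400, 3, 1451, 30, [12905, 13519]⟩))) (.node (.node (.leaf ⟨246, 9, 443, 21, [1732, 978, 777, 3277]⟩) (.leaf ⟨1271, 2, 1242, 5, [11467, 11449, 11434, 10656]⟩)) (.node (.leaf ⟨204, 4, 831, 0, []⟩) (.leaf ⟨0, 12, 0, 0, []⟩))))) (.node (.node (.node (.node (.leaf ⟨88, 1, 52, 38,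 [721, 714, 674]⟩) (.leaf ⟨1060, 4, 1061, 0, []⟩)) (.node (.leaf ⟨573, 10, 176, 9, [4817, 1439, 1447]⟩) (.leaf ⟨1413, 10, 1388, 9, [13009, 12794, 12742]⟩))) (.node (.node (.leaf ⟨395, 1, 80, 12, [2769, 2765, 2761, 2757, 2751, 2747, 2743, 2737, 659]⟩) (.leaf ⟨1150, 1, 1221, 48, [9664, 10955, 10435]⟩)) (.node (.leaf ⟨600, 8, 601, 46, [6850, 6848]⟩) (.leaf ⟨1497, 4, 1601, 42, [13887, 10334, 13013, 13001, 6034, 13152, 15057]⟩)))) (.node (.node (.node (.leaf ⟨239, 0, 250, 10, [1715, 538, 1745]⟩) (.leaf ⟨1070, 0, 1175, 31, [8962, 2550, 9935]⟩)) (.node (.leaf ⟨692, 0, 649, 10, [5839, 5834, 5401]⟩) (.leaf ⟨1514, 10, 1425, 9, [14033, 12553, 13165]⟩))) (.node (.node (.leaf ⟨466, 2, 277, 29, [3785, 781, 3277, 3279, 1856, 1861, 1720, 2855, 2867]⟩) (.leaf ⟨1306, 4, 486, 36, [11977, 5590, 6188, 4137]⟩)) (.node (.leaf ⟨930, 4, 245, 8, [7887, 7885, 7881, 7877, 5207, 2648]⟩) (.leaf ⟨0,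 12, 0, 0, []⟩)))))) (.node (.node (.node (.node (.node (.leaf ⟨47, 4, 48, 0, []⟩) (.leaf ⟨1028, 3, 789, 7, [8653, 8646, 7153, 7154]⟩)) (.node (.leaf ⟨528, 12, 116, 16, [4561, 1022]⟩) (.leaf ⟨1328, 0, 1389, 31, [12168, 4867, 12753]⟩))) (.node (.node (.leaf ⟨365, 10, 92, 9, [2513, 757, 763]⟩) (.leaf ⟨1247, 7, 1147, 34, [10703, 10698, 9614, 9616]⟩)) (.node (.leaf ⟨742, 6, 643, 18, [6607, 6601, 6440, 1393, 5337]⟩) (.leaf ⟨1582, 5, 1466, 82, [14799, 14795, 14317, 14329]⟩)))) (.node (.node (.node (.leaf ⟨180, 6, 126, 2, [1489, 1480, 1048]⟩) (.leaf ⟨1151, 4, 372, 36, [9673, 9668, 9350, 2587]⟩)) (.node (.leaf ⟨631, 9, 662, 21, [5236, 5238, 5583, 5581]⟩) (.leaf ⟨1342, 8, 1481, 17, [12311, 11404, 10704, 13773]⟩))) (.node (.node (.leaf ⟨374, 9, 69, 27, [3537, 2877]⟩) (.leaf ⟨1110, 1, 1288, 48, [11491, 11497, 11729]⟩)) (.node (.leaf ⟨877, 4, 223, 8, [7631, 7627, 7623, 7620, 7617,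 7613]⟩) (.leaf ⟨0, 12, 0, 0, []⟩))))) (.node (.node (.node (.node (.leaf ⟨111, 2, 46, 5, [971, 959, 954, 456]⟩) (.leaf ⟨312, 4, 1097, 0, []⟩)) (.node (.leaf ⟨502, 3, 574, 24, [5068, 5055]⟩) (.leaf ⟨1433, 2, 1393, 5, [13261, 13249, 13242, 12792]⟩))) (.node (.node (.leaf ⟨185, 0, 426, 10, [1547, 729, 3025]⟩) (.leaf ⟨1166, 11, 921, 13, [9844, 9057, 11217]⟩)) (.node (.leaf ⟨634, 4, 774, 68, [7117, 7078]⟩) (.leaf ⟨1621, 0, 1487, 11, [15305, 14274, 14273]⟩)))) (.node (.node (.node (.leaf ⟨93, 1, 67, 43, [885, 1982, 2001, 1693, 566]⟩) (.leaf ⟨1054, 1, 983, 53, [10193, 9971, 9958, 8275]⟩)) (.node (.leaf ⟨651, 9, 517, 21, [6091, 6085, 4888, 4497]⟩) (.leaf ⟨1541, 1, 839, 43, [14289, 14277, 9873, 11092, 7429]⟩))) (.node (.node (.leaf ⟨480, 0, 381, 11, [4047, 4042, 2717]⟩) (.leaf ⟨1334, 4, 1335, 0, []⟩)) (.node (.leaf ⟨880, 0, 966, 11, [7705, 8124, 8145]⟩) (.leaf ⟨0, 12, 0, 0, []⟩))))))))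

def factB42 : Arr (CFact) :=
  (.node (.node (.node (.node (.node (.node (.node (.leaf ⟨8, 0, 8, 11, [83, 81, 82]⟩) (.leaf ⟨857, 7, 900, 20, [8275, 8270, 8090]⟩)) (.node (.leaf ⟨312, 12, 478, 19, [2111, 2076, 4131, 4163]⟩) (.leaf ⟨1348, 3, 1342, 7, [12369, 12362, 12296, 12306]⟩))) (.node (.node (.leaf ⟨315, 2, 281, 6, [2129, 1883]⟩) (.leaf ⟨1206, 8, 1156, 41, [10321, 2738, 546, 2066, 765, 2515, 9740]⟩)) (.node (.leaf ⟨626, 11, 551, 13, [6227, 6224, 4654]⟩) (.leaf ⟨1491, 2, 1553, 0, []⟩)))) (.node (.node (.node (.leaf ⟨28, 4, 143, 0, []⟩) (.leaf ⟨1114, 3, 803, 7, [9299, 9294, 7219, 7216]⟩)) (.node (.leaf ⟨625, 7, 624, 19, [5203, 5162, 5194]⟩) (.leaf ⟨1442, 7, 1346, 4, [13389, 5941, 5974, 12344]⟩))) (.node (.node (.leaf ⟨229, 6, 436, 18, [1796, 2706, 2673, 3148, 3155]⟩) (.leaf ⟨911, 11, 1263, 100, [7766, 11177, 7217, 6284, 6185, 3439, 11345]⟩)) (.node (.leaf ⟨808, 4, 809,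 0, []⟩) (.leaf ⟨0, 12, 0, 0, []⟩))))) (.node (.node (.node (.node (.leaf ⟨44, 0, 62, 3, [453, 593, 590, 586, 522]⟩) (.leaf ⟨1043, 0, 805, 3, [8785, 8778, 7248, 7229, 7230]⟩)) (.node (.leaf ⟨561, 3, 508, 30, [4685, 4470]⟩) (.leaf ⟨1401, 9, 853, 84, [12883, 12880, 8464, 3271, 4384, 4389, 7524]⟩))) (.node (.node (.leaf ⟨249, 6, 278, 63, [2639, 2637, 2576, 2340, 2621]⟩) (.leaf ⟨761, 10, 847, 88, [7032, 10835, 9431, 3254, 2649, 3282, 7481]⟩)) (.node (.leaf ⟨547, 0, 594, 23, [6739, 5155]⟩) (.leaf ⟨1591, 4, 1588, 36, [14931, 14248, 14752, 14886]⟩)))) (.node (.node (.node (.leaf ⟨213, 1, 214, 0, []⟩) (.leaf ⟨1163, 4, 1164, 0, []⟩)) (.node (.leaf ⟨683, 6, 597, 18, [5715, 5703, 4948, 4952, 4954]⟩) (.leaf ⟨1502, 1, 1111, 12, [13907, 13905, 13903, 13899, 9537, 9541, 7702, 10937, 9279]⟩))) (.node (.node (.leaf ⟨457, 0, 322, 11, [3665, 2186, 2188]⟩) (.leaf ⟨1298, 2, 1102, 5, [11853,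 11839, 4076, 9210]⟩)) (.node (.leaf ⟨513, 4, 911, 0, []⟩) (.leaf ⟨0, 12, 0, 0, []⟩)))))) (.node (.node (.node (.node (.node (.leaf ⟨32, 1, 35, 0, []⟩) (.leaf ⟨940, 1, 957, 101, [7968, 8527, 8529]⟩)) (.node (.leaf ⟨498, 1, 499, 0, []⟩) (.leaf ⟨1381, 7, 1350, 4, [12619, 5881, 4888, 12386]⟩))) (.node (.node (.leaf ⟨351, 7, 322, 20, [2387, 2384, 2188]⟩) (.leaf ⟨1235, 2, 1230, 5, [10575, 10569, 10564, 10538]⟩)) (.node (.leaf ⟨737, 2, 661, 6, [6483, 5573]⟩) (.leaf ⟨1571, 5, 1549, 52, [14675, 7291, 4324, 7378, 11827, 11825, 14386]⟩)))) (.node (.node (.node (.leaf ⟨169, 4, 170, 0, []⟩) (.leaf ⟨1136, 6, 945, 2, [9555, 9546, 8008]⟩)) (.node (.leaf ⟨538, 6, 617, 33, [4962, 5459, 5148]⟩) (.leaf ⟨1461, 9, 1284, 21, [13651, 8395, 9329, 11664]⟩))) (.node (.node (.leaf ⟨201, 12, 259, 83, [1590, 3409, 1959, 2954, 3405]⟩) (.leaf ⟨1280, 3, 1071, 7, [11603, 11594, 9024, 8964]⟩)) (.node (.leaf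 ⟨851, 6, 791, 2, [7507, 7502, 7164]⟩) (.leaf ⟨0, 12, 0, 0, []⟩))))) (.node (.node (.node (.node (.leaf ⟨100, 2, 55, 5, [845, 831, 828, 496]⟩) (.leaf ⟨620, 12, 1080, 91, [6500, 5500, 2099, 9043, 9041]⟩)) (.node (.leaf ⟨594, 1, 595, 0, []⟩) (.leaf ⟨1424, 6, 1380, 2, [13139, 13126, 12604]⟩))) (.node (.node (.leaf ⟨316, 10, 283, 9, [2145, 2899, 2366]⟩) (.leaf ⟨1169, 1, 769, 101, [9868, 9120, 11091]⟩)) (.node (.leaf ⟨753, 0, 732, 11, [6989, 5921, 6412]⟩) (.leaf ⟨1612, 3, 1602, 44, [15185, 12552, 14032, 15010, 15063]⟩)))) (.node (.node (.node (.leaf ⟨280, 1, 79, 38, [1875, 699, 694]⟩) (.leaf ⟨1186, 0, 1161, 3, [10065, 2668, 3738, 2523, 9786]⟩)) (.node (.leaf ⟨493, 0, 707, 10, [4425, 1279, 5971]⟩) (.leaf ⟨1530, 5, 1481, 52, [14163, 10039, 6534, 10650, 10974, 10441, 13776]⟩))) (.node (.node (.leaf ⟨426, 8, 472, 17, [3024, 726, 877, 3903]⟩) (.leaf ⟨1209, 11, 1315, 13, [10340, 9311,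 12115]⟩)) (.node (.leaf ⟨946, 6, 846, 2, [8019, 6997, 7468]⟩) (.leaf ⟨0, 12, 0, 0, []⟩))))))) (.node (.node (.node (.node (.node (.node (.leaf ⟨16, 3, 21, 24, [205, 201]⟩) (.leaf ⟨1003, 0, 925, 3, [8401, 8392, 7804, 7855, 7856]⟩)) (.node (.leaf ⟨191, 11, 189, 13, [4307, 2124, 1556]⟩) (.leaf ⟨532, 4, 1366, 0, []⟩))) (.node (.node (.leaf ⟨331, 8, 241, 17, [2215, 2257, 1861, 1720]⟩) (.leaf ⟨738, 4, 1223, 0, []⟩)) (.node (.leaf ⟨726, 6, 722, 18, [6346, 6355, 6268, 6240, 6242]⟩) (.leaf ⟨1561, 0, 1519, 10, [14545, 8245, 14060]⟩)))) (.node (.node (.node (.leaf ⟨31, 4, 155, 0, []⟩) (.leaf ⟨949, 1, 874, 101, [8073, 9425, 9427]⟩)) (.node (.leaf ⟨130, 10, 642, 0, []⟩) (.leaf ⟨1451, 4, 1452, 0, []⟩))) (.node (.node (.leaf ⟨373, 6, 443, 70, [2587, 2579, 2643, 3277]⟩) (.leaf ⟨1271, 7, 1208, 4, [11467, 11452, 10331, 10334]⟩)) (.node (.leaf ⟨831, 6, 787, 2, [7379, 2202, 7144]⟩) (.leaf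 ⟨0, 12, 0, 0, []⟩))))) (.node (.node (.node (.node (.leaf ⟨16, 4, 89, 0, []⟩) (.leaf ⟨1061, 3, 1057, 7, [8915, 8912, 8888, 8892]⟩)) (.node (.leaf ⟨573, 6, 495, 18, [4817, 1030, 4424, 4426, 4428]⟩) (.leaf ⟨1413, 8, 1208, 17, [13009, 12794, 12458, 12462]⟩))) (.node (.node (.leaf ⟨395, 0, 289, 11, [2769, 2766, 2138]⟩) (.leaf ⟨1221, 10, 922, 9, [10963, 9662, 7839]⟩)) (.node (.leaf ⟨600, 10, 659, 47, [6850, 6846]⟩) (.leaf ⟨1601, 2, 1602, 0, []⟩)))) (.node (.node (.node (.leaf ⟨47, 1, 251, 0, []⟩) (.leaf ⟨369, 4, 1176, 0, []⟩)) (.node (.leaf ⟨521, 11, 591, 13, [5439, 5841, 5839]⟩) (.leaf ⟨1514, 0, 1491, 10, [14033, 12523, 13831]⟩))) (.node (.node (.leaf ⟨448, 7, 466, 20, [3543, 2631, 3787]⟩) (.leaf ⟨1273, 11, 1306, 37, [11516, 5587, 8200, 11834, 11832, 4179, 11987]⟩)) (.node (.leaf ⟨337, 12, 929, 91, [4252, 2649, 1731, 7891, 7887]⟩) (.leaf ⟨0, 12, 0, 0, []⟩)))))) (.node (.node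 (.node (.node (.node (.leaf ⟨48, 3, 44, 7, [467, 464, 450, 452]⟩) (.leaf ⟨1028, 2, 783, 5, [8653, 8643, 2392, 7126]⟩)) (.node (.leaf ⟨116, 1, 116, 15, [4563, 4523]⟩) (.leaf ⟨1389, 1, 1123, 48, [12755, 12216, 11538]⟩))) (.node (.node (.leaf ⟨365, 6, 304, 18, [2513, 524, 2076, 2082, 2086]⟩) (.leaf ⟨560, 5, 1247, 82, [6343, 10648, 10641, 10705]⟩)) (.node (.leaf ⟨742, 0, 693, 10, [6607, 6604, 5878]⟩) (.leaf ⟨1406, 11, 1582, 13, [13281, 13272, 14801]⟩)))) (.node (.node (.node (.leaf ⟨180, 0, 168, 3, [1489, 1480, 1047, 1343, 1346]⟩) (.leaf ⟨372, 4, 1152, 0, []⟩)) (.node (.leaf ⟨567, 11, 662, 13, [5274, 5583, 5581]⟩) (.leaf ⟨1481, 5, 1475, 52, [13779, 12307, 12304, 7584, 3499, 7721, 13737]⟩))) (.node (.node (.leaf ⟨97, 10, 243, 9, [2229, 2581, 3535]⟩) (.leaf ⟨1288, 4, 1289, 0, []⟩)) (.node (.leaf ⟨861, 0, 877, 31, [7558, 1669, 7635]⟩) (.leaf ⟨0, 12, 0, 0, []⟩))))) (.node (.node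 (.node (.node (.leaf ⟨111, 7, 57, 4, [971, 962, 579, 500]⟩) (.leaf ⟨1097, 6, 969, 2, [9171, 4182, 8160]⟩)) (.node (.leaf ⟨502, 7, 500, 25, [5068, 5056]⟩) (.leaf ⟨934, 1, 1433, 14, [7933, 12446, 13003, 13009, 13267]⟩))) (.node (.node (.leaf ⟨420, 6, 426, 70, [2995, 2989, 2986, 3025]⟩) (.leaf ⟨864, 1, 925, 102, [8923, 9992, 9988, 11217, 7861]⟩)) (.node (.leaf ⟨634, 5, 772, 73, [7117, 7077]⟩) (.leaf ⟨892, 8, 1622, 0, []⟩)))) (.node (.node (.node (.leaf ⟨67, 10, 63, 9, [2003, 766, 616]⟩) (.leaf ⟨1085, 11, 1054, 13, [9086, 8271, 10195]⟩)) (.node (.leaf ⟨693, 11, 713, 13, [5848, 6095, 6091]⟩) (.leaf ⟨1541, 4, 1528, 85, [14289, 14285, 13781, 14146]⟩))) (.node (.node (.leaf ⟨368, 10, 480, 9, [2546, 2551, 4049]⟩) (.leaf ⟨1335, 9, 1128, 84, [12243, 12240, 8908, 2554, 8937, 10866, 9454]⟩)) (.node (.leaf ⟨966, 4, 967, 0, []⟩) (.leaf ⟨0, 12, 0, 0, []⟩))))))))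

def factB43 : Arr (CFact) :=
  (.node (.node (.node (.node (.node (.node (.node (.leaf ⟨8, 1, 9, 0, []⟩) (.leaf ⟨983, 4, 984, 0, []⟩)) (.node (.leaf ⟨312, 0, 264, 23, [4180, 4036]⟩) (.leaf ⟨1348, 4, 1349, 0, []⟩))) (.node (.node (.leaf ⟨282, 10, 315, 9, [1884, 1886, 2131]⟩) (.leaf ⟨1206, 0, 760, 3, [10321, 2740, 4267, 4277, 7024]⟩)) (.node (.leaf ⟨718, 2, 719, 0, []⟩) (.leaf ⟨1553, 1, 942, 43, [14421, 13830, 12403, 12409, 7989]⟩)))) (.node (.node (.node (.leaf ⟨143, 6, 143, 2, [1109, 257, 1108]⟩) (.leaf ⟨1114, 2, 1033, 5, [9299, 9293, 9290, 8676]⟩)) (.node (.leaf ⟨246, 4, 625, 64, [1849, 4211, 5189, 5205]⟩) (.leaf ⟨1120, 1, 1442, 14, [9693, 9702, 9165, 13110, 13395]⟩))) (.node (.node (.leaf ⟨268, 12, 436, 22, [1829, 1788, 1795, 3156, 3155]⟩) (.leaf ⟨1263, 1, 1012, 38, [11349, 8473, 8487]⟩)) (.node (.leaf ⟨809, 4, 810, 0, []⟩) (.leaf ⟨0, 12, 0, 0, []⟩))))) (.node (.node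 (.node (.node (.leaf ⟨44, 7, 44, 4, [453, 593, 590, 452]⟩) (.leaf ⟨1043, 2, 850, 5, [8785, 8775, 2170, 7498]⟩)) (.node (.leaf ⟨508, 12, 509, 14, [4693, 4681, 1015, 4680, 4692, 4472]⟩) (.leaf ⟨1237, 1, 1401, 94, [10610, 8706, 10953, 12885]⟩))) (.node (.node (.leaf ⟨278, 4, 272, 64, [2645, 2639, 2637, 2574]⟩) (.leaf ⟨920, 1, 761, 101, [7820, 7528, 10837]⟩)) (.node (.leaf ⟨547, 1, 615, 15, [6739, 5139]⟩) (.leaf ⟨827, 9, 1592, 0, []⟩)))) (.node (.node (.node (.leaf ⟨214, 2, 215, 0, []⟩) (.leaf ⟨1164, 3, 1156, 7, [9813, 9806, 9782, 9740]⟩)) (.node (.leaf ⟨683, 0, 546, 10, [5715, 5708, 5465]⟩) (.leaf ⟨1473, 0, 1502, 10, [13721, 9282, 13909]⟩))) (.node (.node (.leaf ⟨457, 1, 458, 0, []⟩) (.leaf ⟨1298, 4, 595, 36, [11853, 11847, 9236, 4953]⟩)) (.node (.leaf ⟨911, 4, 912, 0, []⟩) (.leaf ⟨0, 12, 0, 0, []⟩)))))) (.node (.node (.node (.node (.node (.leaf ⟨35, 6, 30, 18, [341, 336,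 329, 69, 265]⟩) (.leaf ⟨320, 4, 1016, 0, []⟩)) (.node (.leaf ⟨499, 2, 500, 0, []⟩) (.leaf ⟨768, 11, 1381, 100, [7060, 11123, 9187, 12617, 12610, 5883, 12627]⟩))) (.node (.node (.leaf ⟨351, 1, 352, 0, []⟩) (.leaf ⟨1235, 4, 668, 36, [10575, 10572, 10523, 6221]⟩)) (.node (.leaf ⟨737, 4, 197, 85, [6483, 5200, 3896, 1770]⟩) (.leaf ⟨1571, 1, 953, 53, [14675, 11086, 8109, 8106]⟩)))) (.node (.node (.node (.leaf ⟨170, 0, 128, 35, [1365, 1362, 1118, 1132, 1052]⟩) (.leaf ⟨1136, 0, 822, 35, [9555, 9552, 9507, 9508, 7324]⟩)) (.node (.leaf ⟨618, 12, 546, 17, [5143, 5461, 4625, 4621, 4642]⟩) (.leaf ⟨1461, 2, 1462, 0, []⟩))) (.node (.node (.leaf ⟨201, 5, 334, 73, [3412, 3404]⟩) (.leaf ⟨1280, 2, 1066, 5, [11603, 11591, 11580, 8950]⟩)) (.node (.leaf ⟨832, 0, 851, 76, [7391, 5551, 7194, 7446, 7509]⟩) (.leaf ⟨0, 12, 0, 0, []⟩))))) (.node (.node (.node (.node (.leaf ⟨100, 4, 17, 36, [845,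 838, 504, 137]⟩) (.leaf ⟨620, 4, 1081, 68, [9044, 9040]⟩)) (.node (.leaf ⟨595, 6, 544, 18, [4949, 4945, 4931, 1505, 4639]⟩) (.leaf ⟨1424, 9, 1042, 40, [13139, 13135, 7288, 3141, 589, 3037, 8774]⟩))) (.node (.node (.leaf ⟨299, 1, 410, 0, []⟩) (.leaf ⟨808, 11, 1169, 13, [7435, 7428, 11093]⟩)) (.node (.leaf ⟨580, 6, 753, 18, [5349, 5345, 5341, 6988, 6995]⟩) (.leaf ⟨1612, 0, 1566, 10, [15185, 12841, 14620]⟩)))) (.node (.node (.node (.leaf ⟨50, 1, 281, 0, []⟩) (.leaf ⟨1186, 3, 992, 7, [10065, 3163, 8332, 8334]⟩)) (.node (.leaf ⟨702, 6, 707, 70, [5939, 5931, 5928, 5971]⟩) (.leaf ⟨1351, 1, 1531, 0, []⟩))) (.node (.node (.leaf ⟨254, 2, 473, 0, []⟩) (.leaf ⟨961, 8, 1315, 17, [10372, 10362, 9315, 12115]⟩)) (.node (.leaf ⟨946, 3, 834, 7, [8019, 6413, 5918, 7402]⟩) (.leaf ⟨0, 12, 0, 0, []⟩))))))) (.node (.node (.node (.node (.node (.node (.leaf ⟨16, 6, 12, 26, [205, 142]⟩) (.leaf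 ⟨1003, 3, 827, 7, [8401, 8394, 7351, 7352]⟩)) (.node (.leaf ⟨207, 2, 490, 0, []⟩) (.leaf ⟨1366, 6, 1353, 2, [12501, 5003, 12396]⟩))) (.node (.node (.leaf ⟨335, 6, 274, 18, [2225, 2247, 1846, 1850, 1852]⟩) (.leaf ⟨1223, 0, 1141, 3, [10453, 6518, 6237, 6901, 9644]⟩)) (.node (.leaf ⟨664, 8, 720, 17, [5594, 6351, 6355, 6268]⟩) (.leaf ⟨1500, 5, 1561, 57, [14367, 14373, 14104, 14549]⟩)))) (.node (.node (.node (.leaf ⟨155, 6, 155, 2, [1237, 423, 1236]⟩) (.leaf ⟨330, 4, 1126, 0, []⟩)) (.node (.leaf ⟨130, 11, 643, 0, []⟩) (.leaf ⟨1452, 0, 1414, 3, [13525, 13516, 12560, 13007, 13014]⟩))) (.node (.node (.leaf ⟨274, 3, 443, 78, [2263, 2225, 2662, 3277]⟩) (.leaf ⟨955, 1, 1271, 102, [9149, 11167, 7775, 10721, 11473]⟩)) (.node (.leaf ⟨831, 3, 829, 7, [7379, 1595, 7358, 7362]⟩) (.leaf ⟨0, 12, 0, 0, []⟩))))) (.node (.node (.node (.node (.leaf ⟨89, 6, 89, 2, [725, 207, 724]⟩) (.leaf ⟨863,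 0, 1061, 11, [7566, 8895, 8917]⟩)) (.node (.leaf ⟨573, 2, 574, 0, []⟩) (.leaf ⟨1413, 4, 1414, 0, []⟩))) (.node (.node (.leaf ⟨66, 8, 396, 0, []⟩) (.leaf ⟨1239, 11, 1150, 13, [10638, 10433, 10963]⟩)) (.node (.leaf ⟨600, 11, 147, 51, [6850, 6153]⟩) (.leaf ⟨1602, 1, 1597, 43, [15061, 15051, 8843, 14341, 15013]⟩)))) (.node (.node (.node (.leaf ⟨251, 10, 83, 9, [1749, 463, 687]⟩) (.leaf ⟨1176, 6, 899, 2, [9941, 2564, 7728]⟩)) (.node (.leaf ⟨692, 2, 693, 0, []⟩) (.leaf ⟨1514, 8, 852, 17, [14033, 12553, 12554, 12509]⟩))) (.node (.node (.leaf ⟨391, 2, 467, 0, []⟩) (.leaf ⟨1306, 1, 1235, 38, [11989, 11518, 10577]⟩)) (.node (.leaf ⟨337, 4, 930, 68, [7892, 7886]⟩) (.leaf ⟨0, 12, 0, 0, []⟩)))))) (.node (.node (.node (.node (.node (.leaf ⟨48, 4, 49, 0, []⟩) (.leaf ⟨1028, 4, 288, 36, [8653, 8648, 7134, 1935]⟩)) (.node (.leaf ⟨116, 6, 531, 26, [4563, 4553]⟩) (.leaf ⟨1232, 8, 1389, 17,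 [10829, 8765, 9397, 12757]⟩))) (.node (.node (.leaf ⟨365, 0, 220, 10, [2513, 597, 1640]⟩) (.leaf ⟨757, 0, 1247, 11, [8594, 10637, 10705]⟩)) (.node (.leaf ⟨177, 8, 741, 17, [4927, 5395, 6609, 6607]⟩) (.leaf ⟨1582, 4, 1516, 77, [14805, 12932, 12936, 8535, 3079, 7126, 14044]⟩)))) (.node (.node (.node (.leaf ⟨180, 3, 122, 7, [1489, 1482, 1024, 1028]⟩) (.leaf ⟨1152, 6, 915, 2, [9685, 2582, 7786]⟩)) (.node (.leaf ⟨663, 2, 664, 0, []⟩) (.leaf ⟨959, 1, 1482, 0, []⟩))) (.node (.node (.leaf ⟨371, 2, 448, 0, []⟩) (.leaf ⟨1289, 6, 880, 2, [11733, 11728, 7642]⟩)) (.node (.leaf ⟨224, 4, 878, 0, []⟩) (.leaf ⟨0, 12, 0, 0, []⟩))))) (.node (.node (.node (.node (.leaf ⟨111, 4, 112, 0, []⟩) (.leaf ⟨1097, 0, 888, 3, [9171, 4182, 3495, 3496, 7674]⟩)) (.node (.leaf ⟨502, 11, 574, 51, [5068, 5061]⟩) (.leaf ⟨1433, 4, 1434, 0, []⟩))) (.node (.node (.leaf ⟨72, 1, 427, 0, []⟩) (.leaf ⟨1197, 1, 904,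 94, [10236, 9057, 11217, 11179]⟩)) (.node (.leaf ⟨353, 4, 783, 0, []⟩) (.leaf ⟨1622, 5, 1593, 52, [15317, 7701, 5243, 1254, 6565, 7357, 14944]⟩)))) (.node (.node (.node (.leaf ⟨238, 12, 82, 18, [1710, 614, 2003, 770, 722, 675]⟩) (.leaf ⟨862, 1, 1066, 14, [8273, 10195, 8868, 9977, 8970]⟩)) (.node (.leaf ⟨145, 10, 714, 0, []⟩) (.leaf ⟨1073, 9, 1541, 21, [10895, 7063, 7429, 14291]⟩))) (.node (.node (.leaf ⟨480, 1, 481, 0, []⟩) (.leaf ⟨867, 1, 1335, 94, [8263, 9079, 11162, 12245]⟩)) (.node (.leaf ⟨967, 6, 881, 2, [8149, 8147, 7644]⟩) (.leaf ⟨0, 12, 0, 0, []⟩))))))))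

def factB44 : Arr (CFact) :=
  (.node (.node (.node (.node (.node (.node (.node (.leaf ⟨9, 0, 9, 10, [87, 85, 86]⟩) (.leaf ⟨984, 3, 864, 7, [8279, 8272, 7564, 7568]⟩)) (.node (.leaf ⟨312, 1, 479, 15, [4180, 4038]⟩) (.leaf ⟨1349, 3, 1343, 7, [12375, 12372, 12315, 12316]⟩))) (.node (.node (.leaf ⟨315, 1, 316, 0, []⟩) (.leaf ⟨1206, 4, 1207, 0, []⟩)) (.node (.leaf ⟨719, 7, 687, 20, [6231, 6172, 5784]⟩) (.leaf ⟨1553, 7, 1483, 20, [14421, 13835, 13792]⟩)))) (.node (.node (.node (.leaf ⟨143, 0, 131, 3, [1109, 257, 386, 288, 1060]⟩) (.leaf ⟨1109, 0, 1114, 32, [9266, 8691, 9303]⟩)) (.node (.leaf ⟨625, 6, 623, 2, [5207, 2211, 5175]⟩) (.leaf ⟨1442, 4, 1443, 0, []⟩))) (.node (.node (.leaf ⟨268, 1, 268, 15, [3158, 3155, 3159]⟩) (.leaf ⟨1012, 10, 1106, 9, [11351, 11336, 10274]⟩)) (.node (.leaf ⟨810, 4, 392, 8, [7255, 7253, 7251, 7247, 6487, 6493]⟩) (.leaf ⟨0, 12, 0, 0, []⟩))))) (.node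 (.node (.node (.node (.leaf ⟨63, 6, 45, 2, [529, 597, 454]⟩) (.leaf ⟨1043, 4, 297, 36, [8785, 8780, 7520, 2320]⟩)) (.node (.leaf ⟨508, 1, 508, 15, [4694, 4473]⟩) (.leaf ⟨1401, 10, 791, 9, [12887, 10604, 7446]⟩))) (.node (.node (.leaf ⟨246, 5, 245, 65, [1849, 2647, 2612]⟩) (.leaf ⟨1232, 11, 920, 13, [10560, 10330, 10839]⟩)) (.node (.leaf ⟨547, 2, 617, 16, [6739, 5140]⟩) (.leaf ⟨1592, 5, 1510, 55, [14935, 7353, 1836, 654, 3617, 8737, 13990]⟩)))) (.node (.node (.node (.leaf ⟨215, 1, 112, 12, [1623, 1621, 1619, 1617, 1615, 1613, 1611, 1607, 991]⟩) (.leaf ⟨1164, 2, 1093, 5, [9813, 9803, 9798, 9140]⟩)) (.node (.leaf ⟨659, 12, 682, 22, [5559, 5440, 5477, 5717, 5715]⟩) (.leaf ⟨1502, 4, 1472, 54, [13911, 13727, 13718]⟩))) (.node (.node (.leaf ⟨458, 3, 200, 44, [3671, 3666, 1593, 1591, 1589]⟩) (.leaf ⟨595, 4, 1299, 0, []⟩)) (.node (.leaf ⟨912, 2, 911, 5, [7767, 7765, 4754, 7764]⟩)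 (.leaf ⟨0, 12, 0, 0, []⟩)))))) (.node (.node (.node (.node (.node (.leaf ⟨35, 0, 35, 10, [341, 339, 340]⟩) (.leaf ⟨1016, 6, 818, 2, [8535, 2419, 7306]⟩)) (.node (.leaf ⟨500, 1, 180, 12, [4439, 4437, 4435, 4433, 4431, 4429, 4427, 4425, 1497]⟩) (.leaf ⟨1381, 1, 1039, 38, [12631, 7229, 8743]⟩))) (.node (.node (.leaf ⟨352, 2, 353, 0, []⟩) (.leaf ⟨1235, 7, 1111, 4, [10575, 10570, 9310, 9274]⟩)) (.node (.leaf ⟨737, 0, 599, 11, [6483, 5468, 4962]⟩) (.leaf ⟨868, 11, 1571, 13, [9063, 9056, 14679]⟩)))) (.node (.node (.node (.leaf ⟨170, 3, 155, 7, [1365, 1358, 1270, 1236]⟩) (.leaf ⟨1136, 3, 853, 7, [9555, 9548, 7542, 7524]⟩)) (.node (.leaf ⟨546, 1, 617, 15, [5463, 5143]⟩) (.leaf ⟨1462, 1, 1463, 0, []⟩))) (.node (.node (.leaf ⟨201, 7, 199, 25, [3412, 1782]⟩) (.leaf ⟨805, 1, 1280, 14, [7234, 10206, 9788, 10198, 11607]⟩)) (.node (.leaf ⟨851, 4, 547, 54, [7511, 7391, 6749]⟩) (.leaf ⟨0,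 12, 0, 0, []⟩))))) (.node (.node (.node (.node (.leaf ⟨100, 7, 52, 4, [845, 834, 710, 484]⟩) (.leaf ⟨620, 5, 1079, 73, [9044, 9039]⟩)) (.node (.leaf ⟨595, 2, 596, 0, []⟩) (.leaf ⟨1424, 0, 1367, 3, [13139, 13126, 12588, 12507, 12512]⟩))) (.node (.node (.leaf ⟨410, 6, 364, 18, [2903, 2893, 2881, 595, 2485]⟩) (.leaf ⟨888, 1, 1056, 102, [8799, 10914, 8558, 11093, 9874]⟩)) (.node (.leaf ⟨180, 9, 753, 21, [4441, 4876, 6998, 6995]⟩) (.leaf ⟨1612, 9, 1530, 21, [15185, 12607, 13141, 14159]⟩)))) (.node (.node (.node (.leaf ⟨281, 6, 187, 18, [1879, 476, 1546, 1550, 1552]⟩) (.leaf ⟨1186, 7, 1060, 4, [10065, 2668, 3738, 8910]⟩)) (.node (.leaf ⟨677, 8, 707, 17, [5680, 1257, 1282, 5971]⟩) (.leaf ⟨1531, 2, 1512, 50, [14167, 12413, 12635, 7360, 14010]⟩))) (.node (.node (.leaf ⟨473, 1, 460, 43, [3927, 1764, 1766, 1768, 3721]⟩) (.leaf ⟨1318, 4, 1319, 0, []⟩)) (.node (.leaf ⟨946, 4, 345,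 36, [8019, 6414, 5911, 3097]⟩) (.leaf ⟨0, 12, 0, 0, []⟩))))))) (.node (.node (.node (.node (.node (.node (.leaf ⟨16, 9, 4, 27, [205, 193]⟩) (.leaf ⟨1003, 2, 821, 5, [8401, 8391, 3972, 7322]⟩)) (.node (.leaf ⟨490, 7, 204, 20, [4311, 3946, 1594]⟩) (.leaf ⟨1366, 9, 889, 84, [12501, 4602, 1006, 4642, 7620, 11114, 7680]⟩))) (.node (.node (.leaf ⟨275, 7, 336, 20, [1855, 2263, 2226]⟩) (.leaf ⟨1223, 3, 1216, 7, [10453, 6514, 6180, 10398]⟩)) (.node (.leaf ⟨565, 11, 727, 13, [6259, 6357, 6346]⟩) (.leaf ⟨1561, 11, 1060, 37, [14551, 14360, 7203, 13573, 13576, 13578, 8915]⟩)))) (.node (.node (.node (.leaf ⟨155, 7, 119, 4, [1237, 423, 430, 1012]⟩) (.leaf ⟨1126, 6, 930, 2, [9431, 4249, 7894]⟩)) (.node (.leaf ⟨643, 1, 172, 38, [5335, 1387, 1391]⟩) (.leaf ⟨1452, 3, 1405, 7, [13525, 13518, 12910, 12916]⟩))) (.node (.node (.leaf ⟨443, 7, 244, 20, [3279, 1862, 1726]⟩) (.leaf ⟨1271, 10, 1089,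 9, [11479, 9149, 9152]⟩)) (.node (.leaf ⟨831, 4, 832, 0, []⟩) (.leaf ⟨0, 12, 0, 0, []⟩))))) (.node (.node (.node (.node (.leaf ⟨89, 0, 41, 3, [725, 207, 214, 322, 444]⟩) (.leaf ⟨1061, 4, 1062, 0, []⟩)) (.node (.leaf ⟨574, 7, 496, 20, [4823, 4820, 4430]⟩) (.leaf ⟨1414, 6, 1388, 2, [13015, 13004, 12732]⟩))) (.node (.node (.leaf ⟨66, 9, 397, 0, []⟩) (.leaf ⟨1029, 1, 1027, 102, [10433, 10963, 9666, 9377, 8647]⟩)) (.node (.leaf ⟨548, 11, 750, 13, [5774, 6863, 6854]⟩) (.leaf ⟨1602, 6, 1512, 70, [15061, 15051, 11298, 14010]⟩)))) (.node (.node (.node (.leaf ⟨251, 6, 199, 18, [1749, 464, 1578, 1582, 1584]⟩) (.leaf ⟨1176, 9, 1065, 40, [9941, 2557, 528, 2064, 765, 4070, 8940]⟩)) (.node (.leaf ⟨693, 7, 586, 20, [5847, 5840, 5436]⟩) (.leaf ⟨1514, 2, 1515, 0, []⟩))) (.node (.node (.leaf ⟨467, 2, 390, 6, [3799, 2751]⟩) (.leaf ⟨488, 4, 1307, 0, []⟩)) (.node (.leaf ⟨337, 5, 928, 73, [7892,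 7885]⟩) (.leaf ⟨0, 12, 0, 0, []⟩)))))) (.node (.node (.node (.node (.node (.leaf ⟨49, 3, 46, 7, [471, 468, 454, 456]⟩) (.leaf ⟨289, 4, 1029, 0, []⟩)) (.node (.leaf ⟨531, 12, 146, 26, [4567, 1157]⟩) (.leaf ⟨581, 4, 1390, 0, []⟩))) (.node (.node (.leaf ⟨365, 2, 366, 0, []⟩) (.leaf ⟨560, 4, 1248, 0, []⟩)) (.node (.leaf ⟨742, 3, 649, 79, [6607, 6602, 6091, 6085, 4885, 1541, 4509, 5404, 5401]⟩) (.leaf ⟨1516, 3, 1532, 7, [14807, 14799, 14796, 14734]⟩)))) (.node (.node (.node (.leaf ⟨180, 2, 113, 5, [1489, 1475, 370, 996]⟩) (.leaf ⟨1152, 8, 994, 41, [9685, 2658, 5206, 5219, 1101, 5756, 8372]⟩)) (.node (.leaf ⟨664, 0, 552, 11, [5591, 5584, 4656]⟩) (.leaf ⟨1482, 10, 1303, 9, [13783, 8979, 11933]⟩))) (.node (.node (.leaf ⟨448, 2, 250, 6, [3543, 2573]⟩) (.leaf ⟨1289, 0, 1052, 3, [11733, 11728, 11575, 11582, 8852]⟩)) (.node (.leaf ⟨878, 4, 879, 0, []⟩) (.leaf ⟨0, 12, 0, 0, []⟩)))))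 (.node (.node (.node (.node (.leaf ⟨112, 6, 58, 2, [983, 974, 502]⟩) (.leaf ⟨1097, 7, 893, 4, [9171, 4182, 3495, 7708]⟩)) (.node (.leaf ⟨574, 4, 212, 42, [5079, 4455, 4343, 3403, 3532, 552, 2894]⟩) (.leaf ⟨1434, 6, 1429, 2, [13271, 13262, 13210]⟩))) (.node (.node (.leaf ⟨427, 6, 351, 18, [3031, 574, 2201, 2411, 2391]⟩) (.leaf ⟨843, 1, 1061, 43, [7973, 8532, 8103, 11223, 10230]⟩)) (.node (.leaf ⟨783, 4, 784, 0, []⟩) (.leaf ⟨1622, 1, 918, 53, [15317, 9540, 9731, 9734]⟩)))) (.node (.node (.node (.leaf ⟨82, 1, 75, 15, [2007, 1710]⟩) (.leaf ⟨1192, 1, 1102, 48, [10132, 10199, 9213]⟩)) (.node (.leaf ⟨714, 7, 692, 19, [6103, 5429, 5841]⟩) (.leaf ⟨1186, 8, 1541, 17, [10204, 7500, 7431, 14291]⟩))) (.node (.node (.leaf ⟨481, 6, 311, 18, [4055, 4047, 4039, 4034, 3769]⟩) (.leaf ⟨1335, 10, 1081, 9, [12247, 10109, 10116]⟩)) (.node (.leaf ⟨967, 3, 958, 7, [8149, 8144, 8122, 8110]⟩) (.leaf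 ⟨0, 12, 0, 0, []⟩))))))))

def factB45 : Arr (CFact) :=
  (.node (.node (.node (.node (.node (.node (.node (.leaf ⟨9, 2, 10, 0, []⟩) (.leaf ⟨984, 2, 861, 5, [8279, 8269, 8264, 7556]⟩)) (.node (.leaf ⟨312, 2, 463, 16, [4180, 4034]⟩) (.leaf ⟨1349, 7, 1315, 34, [12375, 12370, 12212, 12072]⟩))) (.node (.node (.leaf ⟨316, 2, 289, 50, [2137, 2132, 1879, 823, 1939]⟩) (.leaf ⟨1207, 6, 761, 2, [10329, 10326, 7028]⟩)) (.node (.leaf ⟨719, 1, 720, 0, []⟩) (.leaf ⟨1553, 2, 1490, 6, [14421, 13829]⟩)))) (.node (.node (.node (.leaf ⟨143, 3, 138, 7, [1109, 255, 1092, 1096]⟩) (.leaf ⟨762, 7, 1114, 20, [7034, 7221, 9301]⟩)) (.node (.leaf ⟨625, 0, 513, 3, [5207, 2211, 4209, 4236, 5102]⟩) (.leaf ⟨1443, 0, 1400, 35, [13401, 13396, 12346, 12869, 12870]⟩))) (.node (.node (.leaf ⟨268, 2, 379, 16, [3158, 3152]⟩) (.leaf ⟨1149, 9, 1013, 84, [9641, 5628, 6187, 3734, 9245, 11353, 8494]⟩)) (.node (.leaf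 ⟨219, 12, 809, 91, [4017, 4018, 2761, 7257, 7255]⟩) (.leaf ⟨0, 12, 0, 0, []⟩))))) (.node (.node (.node (.node (.leaf ⟨73, 4, 74, 0, []⟩) (.leaf ⟨1043, 7, 769, 4, [8785, 8778, 7248, 7060]⟩)) (.node (.leaf ⟨508, 2, 510, 16, [4694, 4474]⟩) (.leaf ⟨1401, 4, 1402, 0, []⟩))) (.node (.node (.leaf ⟨378, 6, 245, 66, [2637, 2574, 2647, 2612]⟩) (.leaf ⟨761, 9, 795, 21, [10839, 9721, 9716, 9378]⟩)) (.node (.leaf ⟨547, 3, 603, 24, [6739, 5150]⟩) (.leaf ⟨1592, 1, 859, 22, [14935, 11215, 8381, 8388]⟩)))) (.node (.node (.node (.leaf ⟨70, 11, 215, 13, [843, 985, 1625]⟩) (.leaf ⟨1164, 4, 716, 36, [9813, 9808, 9168, 6121]⟩)) (.node (.leaf ⟨659, 0, 617, 23, [5720, 5708]⟩) (.leaf ⟨776, 9, 1503, 0, []⟩))) (.node (.node (.leaf ⟨458, 0, 321, 10, [3671, 3668, 2169]⟩) (.leaf ⟨1299, 6, 1158, 2, [11865, 5157, 9760]⟩)) (.node (.leaf ⟨912, 4, 913, 0, []⟩) (.leaf ⟨0, 12, 0, 0, []⟩)))))) (.node (.node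 (.node (.node (.node (.leaf ⟨28, 9, 32, 21, [272, 274, 343, 341]⟩) (.leaf ⟨1016, 0, 825, 3, [8535, 2419, 3702, 3692, 7340]⟩)) (.node (.leaf ⟨113, 8, 501, 0, []⟩) (.leaf ⟨828, 1, 1355, 48, [8745, 12633, 12620]⟩))) (.node (.node (.leaf ⟨353, 1, 354, 0, []⟩) (.leaf ⟨399, 4, 1236, 0, []⟩)) (.node (.leaf ⟨602, 6, 737, 87, [4972, 4942, 3935, 5456, 6489]⟩) (.leaf ⟨1571, 4, 1526, 77, [14681, 7602, 11961, 11957, 11947, 8234, 14497]⟩)))) (.node (.node (.node (.leaf ⟨170, 2, 162, 5, [1365, 1357, 1352, 1284]⟩) (.leaf ⟨1136, 2, 1016, 5, [9555, 9543, 3048, 8534]⟩)) (.node (.leaf ⟨546, 2, 619, 16, [5463, 5144]⟩) (.leaf ⟨1463, 2, 1464, 0, []⟩))) (.node (.node (.leaf ⟨201, 11, 47, 51, [3412, 1781]⟩) (.leaf ⟨967, 0, 1280, 32, [10135, 10132, 11607]⟩)) (.node (.leaf ⟨547, 4, 852, 0, []⟩) (.leaf ⟨0, 12, 0, 0, []⟩))))) (.node (.node (.node (.node (.leaf ⟨21, 4, 101, 0, []⟩) (.leaf ⟨1079, 0,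 865, 31, [9049, 6735, 7594]⟩)) (.node (.leaf ⟨596, 1, 597, 0, []⟩) (.leaf ⟨1424, 3, 1355, 7, [13139, 13128, 12405, 12410]⟩))) (.node (.node (.leaf ⟨410, 0, 361, 10, [2903, 2896, 2451]⟩) (.leaf ⟨829, 1, 956, 48, [7368, 11093, 9870]⟩)) (.node (.leaf ⟨494, 10, 753, 9, [4428, 4821, 6991]⟩) (.leaf ⟨1567, 4, 1612, 42, [14632, 8138, 13197, 10441, 13776, 14165, 15193]⟩)))) (.node (.node (.node (.leaf ⟨281, 2, 282, 0, []⟩) (.leaf ⟨1000, 3, 1186, 30, [8362, 10071]⟩)) (.node (.leaf ⟨585, 2, 708, 0, []⟩) (.leaf ⟨1531, 3, 1513, 44, [14167, 12589, 12599, 11637, 14023]⟩))) (.node (.node (.leaf ⟨473, 7, 258, 20, [3927, 3385, 3685]⟩) (.leaf ⟨1319, 3, 1315, 7, [12121, 12094, 12070, 12072]⟩)) (.node (.leaf ⟨257, 4, 947, 0, []⟩) (.leaf ⟨0, 12, 0, 0, []⟩))))))) (.node (.node (.node (.node (.node (.node (.leaf ⟨12, 8, 4, 17, [116, 215, 212, 174]⟩) (.leaf ⟨1003, 4, 364, 36, [8401, 8396, 7330,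 2500]⟩)) (.node (.leaf ⟨490, 2, 260, 6, [4311, 3944]⟩) (.leaf ⟨1366, 7, 1351, 4, [12501, 5003, 5000, 12390]⟩))) (.node (.node (.leaf ⟨57, 8, 337, 0, []⟩) (.leaf ⟨1223, 7, 1032, 4, [10453, 6518, 6237, 8696]⟩)) (.node (.leaf ⟨555, 7, 560, 20, [6245, 6357, 6342]⟩) (.leaf ⟨1493, 7, 1561, 56, [14281, 14277, 14553]⟩)))) (.node (.node (.node (.leaf ⟨155, 4, 156, 0, []⟩) (.leaf ⟨1126, 0, 937, 3, [9431, 4249, 4256, 3796, 7938]⟩)) (.node (.leaf ⟨637, 0, 643, 10, [5291, 1398, 5337]⟩) (.leaf ⟨1452, 2, 1398, 5, [13525, 13515, 5436, 12852]⟩))) (.node (.node (.leaf ⟨327, 2, 444, 0, []⟩) (.leaf ⟨1114, 11, 955, 13, [9307, 11469, 11479]⟩)) (.node (.leaf ⟨832, 3, 830, 7, [7385, 7382, 7367, 7370]⟩) (.leaf ⟨0, 12, 0, 0, []⟩))))) (.node (.node (.node (.node (.leaf ⟨89, 7, 71, 4, [725, 207, 214, 556]⟩) (.leaf ⟨1062, 6, 864, 2, [8921, 8919, 7568]⟩)) (.node (.leaf ⟨574, 1, 575, 0, []⟩) (.leaf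 ⟨1414, 9, 955, 84, [13015, 13010, 12744, 12759, 10555, 11047, 8086]⟩))) (.node (.node (.leaf ⟨66, 10, 398, 0, []⟩) (.leaf ⟨1027, 9, 1133, 21, [10969, 8686, 9619, 9659]⟩)) (.node (.leaf ⟨747, 9, 750, 21, [6727, 6732, 6863, 6854]⟩) (.leaf ⟨1602, 5, 1557, 82, [15061, 15059, 14476, 14480]⟩)))) (.node (.node (.node (.leaf ⟨251, 2, 252, 0, []⟩) (.leaf ⟨1176, 0, 856, 3, [9941, 2564, 3167, 3168, 7546]⟩)) (.node (.leaf ⟨693, 1, 694, 0, []⟩) (.leaf ⟨1515, 1, 1028, 43, [14041, 14033, 12541, 12546, 8655]⟩))) (.node (.node (.leaf ⟨467, 0, 187, 11, [3799, 2752, 1915]⟩) (.leaf ⟨1307, 6, 1269, 2, [11993, 4268, 11426]⟩)) (.node (.leaf ⟨927, 2, 930, 92, [7880, 7897, 4252, 7891]⟩) (.leaf ⟨0, 12, 0, 0, []⟩)))))) (.node (.node (.node (.node (.node (.leaf ⟨49, 4, 50, 0, []⟩) (.leaf ⟨1029, 4, 1030, 0, []⟩)) (.node (.leaf ⟨116, 10, 146, 47, [4563, 4524]⟩) (.leaf ⟨1390, 8, 879, 62, [12761, 5120,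 5117, 4357, 7159, 11505, 7640]⟩))) (.node (.node (.leaf ⟨366, 7, 305, 20, [2521, 2516, 2090]⟩) (.leaf ⟨1248, 3, 1242, 7, [10713, 6343, 10650, 10656]⟩)) (.node (.leaf ⟨521, 6, 741, 18, [4504, 5403, 5401, 6617, 6607]⟩) (.leaf ⟨1516, 4, 1558, 8, [14807, 14802, 13726, 13950, 14445, 14511]⟩)))) (.node (.node (.node (.leaf ⟨180, 4, 181, 0, []⟩) (.leaf ⟨1152, 0, 940, 3, [9685, 2582, 1839, 3566, 7966]⟩)) (.node (.leaf ⟨664, 1, 665, 0, []⟩) (.leaf ⟨1482, 9, 793, 21, [13783, 8137, 11715, 11721]⟩))) (.node (.node (.leaf ⟨448, 0, 276, 11, [3543, 2576, 1860]⟩) (.leaf ⟨1289, 4, 1290, 0, []⟩)) (.node (.leaf ⟨879, 4, 880, 0, []⟩) (.leaf ⟨0, 12, 0, 0, []⟩))))) (.node (.node (.node (.node (.leaf ⟨112, 0, 70, 3, [983, 974, 901, 908, 552]⟩) (.leaf ⟨1097, 4, 1098, 0, []⟩)) (.node (.leaf ⟨500, 5, 242, 57, [5077, 4450, 3285, 2588]⟩) (.leaf ⟨1434, 0, 1411, 3, [13271, 13262, 13200, 12974, 12976]⟩)))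 (.node (.node (.leaf ⟨427, 0, 197, 10, [3031, 572, 1578]⟩) (.leaf ⟨996, 1, 1103, 48, [8347, 11223, 10232]⟩)) (.node (.leaf ⟨784, 4, 785, 0, []⟩) (.leaf ⟨1550, 3, 1622, 44, [14390, 10800, 10939, 9734, 15321]⟩)))) (.node (.node (.node (.leaf ⟨82, 8, 301, 46, [2007, 1995]⟩) (.leaf ⟨1060, 11, 1192, 13, [10073, 10066, 10201]⟩)) (.node (.leaf ⟨548, 2, 715, 0, []⟩) (.leaf ⟨1541, 5, 1504, 52, [14297, 10065, 2666, 934, 1921, 7085, 13922]⟩))) (.node (.node (.leaf ⟨481, 0, 269, 10, [4055, 4050, 3449]⟩) (.leaf ⟨1335, 4, 1336, 0, []⟩)) (.node (.leaf ⟨967, 4, 968, 0, []⟩) (.leaf ⟨0, 12, 0, 0, []⟩))))))))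

def factB46 : Arr (CFact) :=
  (.node (.node (.node (.node (.node (.node (.node (.leaf ⟨10, 0, 10, 11, [91, 89, 90]⟩) (.leaf ⟨984, 4, 543, 36, [8279, 8274, 7599, 4637]⟩)) (.node (.leaf ⟨312, 3, 370, 24, [4180, 4033]⟩) (.leaf ⟨1349, 4, 517, 8, [12375, 12369, 12359, 12345, 12339, 12335]⟩))) (.node (.node (.leaf ⟨316, 6, 186, 18, [2137, 2129, 1884, 1915, 1553]⟩) (.leaf ⟨1113, 0, 1207, 76, [9298, 9305, 9263, 9261, 10331]⟩)) (.node (.leaf ⟨720, 6, 572, 18, [6235, 6231, 6171, 1205, 4815]⟩) (.leaf ⟨1553, 6, 1536, 70, [14421, 13830, 12862, 14224]⟩)))) (.node (.node (.node (.leaf ⟨138, 0, 126, 32, [1115, 1112, 1064]⟩) (.leaf ⟨1114, 4, 1115, 0, []⟩)) (.node (.leaf ⟨625, 3, 625, 7, [5207, 1731, 2649, 5206]⟩) (.leaf ⟨1443, 3, 1373, 7, [13401, 13392, 12584, 12558]⟩))) (.node (.node (.leaf ⟨268, 3, 380, 24, [3158, 3149]⟩) (.leaf ⟨452, 4, 1264, 0, []⟩)) (.node (.leaf ⟨219, 4, 810, 68,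 [7258, 7254]⟩) (.leaf ⟨0, 12, 0, 0, []⟩))))) (.node (.node (.node (.node (.leaf ⟨74, 6, 44, 2, [603, 592, 452]⟩) (.leaf ⟨302, 4, 1044, 0, []⟩)) (.node (.leaf ⟨510, 12, 561, 24, [4699, 4693]⟩) (.leaf ⟨1402, 9, 1255, 84, [12891, 12888, 7179, 5750, 10261, 11039, 10788]⟩))) (.node (.node (.leaf ⟨244, 10, 331, 9, [1728, 2651, 2634]⟩) (.leaf ⟨1014, 8, 1233, 62, [8507, 2861, 4234, 4214, 7827, 10841, 10562]⟩)) (.node (.leaf ⟨547, 6, 601, 26, [6739, 5549]⟩) (.leaf ⟨1586, 6, 1592, 18, [14861, 13323, 13327, 8252, 14939]⟩)))) (.node (.node (.node (.leaf ⟨215, 4, 193, 42, [1627, 554, 227, 23, 79, 444, 1568]⟩) (.leaf ⟨1164, 7, 865, 4, [9813, 9804, 8922, 7572]⟩)) (.node (.leaf ⟨659, 1, 683, 15, [5720, 5714]⟩) (.leaf ⟨1503, 1, 974, 22, [13915, 10936, 7703, 8202]⟩))) (.node (.node (.leaf ⟨199, 3, 458, 39, [3047, 3063, 3675]⟩) (.leaf ⟨1299, 8, 1096, 62, [11865, 6140, 5152, 2947, 7366, 11105,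 9162]⟩)) (.node (.leaf ⟨913, 4, 914, 0, []⟩) (.leaf ⟨0, 12, 0, 0, []⟩)))))) (.node (.node (.node (.node (.node (.leaf ⟨35, 2, 36, 0, []⟩) (.leaf ⟨1016, 2, 853, 5, [8535, 3401, 2476, 7524]⟩)) (.node (.leaf ⟨501, 5, 438, 52, [4443, 997, 234, 40, 217, 783, 3191]⟩) (.leaf ⟨1355, 10, 838, 9, [12635, 7360, 7425]⟩))) (.node (.node (.leaf ⟨354, 2, 318, 29, [2395, 2393, 2391, 2387, 2383, 2380, 2375, 516, 2158]⟩) (.leaf ⟨1236, 6, 790, 2, [10587, 2835, 7160]⟩)) (.node (.leaf ⟨392, 4, 737, 67, [3814, 2973, 2974, 5455, 6489]⟩) (.leaf ⟨1464, 2, 1572, 0, []⟩)))) (.node (.node (.node (.leaf ⟨170, 7, 170, 20, [1368, 1238, 1369]⟩) (.leaf ⟨1136, 4, 739, 36, [9555, 9550, 8524, 6541]⟩)) (.node (.leaf ⟨621, 0, 538, 96, [5200, 3895, 5153, 5461]⟩) (.leaf ⟨1464, 1, 966, 12, [13659, 13657, 13655, 13651, 7346, 10935, 8621, 10933, 10158]⟩))) (.node (.node (.leaf ⟨335, 4, 256, 54, [2238, 3415, 1775]⟩)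 (.leaf ⟨1280, 4, 1281, 0, []⟩)) (.node (.leaf ⟨852, 6, 789, 2, [7515, 6740, 7154]⟩) (.leaf ⟨0, 12, 0, 0, []⟩))))) (.node (.node (.node (.node (.leaf ⟨101, 6, 101, 2, [859, 177, 858]⟩) (.leaf ⟨1081, 6, 1064, 2, [9047, 6504, 8932]⟩)) (.node (.leaf ⟨597, 2, 598, 0, []⟩) (.leaf ⟨1424, 2, 1351, 5, [13139, 13123, 5022, 12390]⟩))) (.node (.node (.leaf ⟨296, 9, 299, 21, [1961, 2486, 2905, 2903]⟩) (.leaf ⟨769, 8, 1192, 17, [11093, 9868, 9214, 10201]⟩)) (.node (.leaf ⟨185, 4, 754, 0, []⟩) (.leaf ⟨1612, 4, 1549, 36, [15195, 14636, 14468, 14383]⟩)))) (.node (.node (.node (.leaf ⟨282, 1, 283, 0, []⟩) (.leaf ⟨1186, 4, 1187, 0, []⟩)) (.node (.leaf ⟨708, 7, 589, 20, [5979, 5864, 5863]⟩) (.leaf ⟨1531, 0, 1486, 10, [14167, 12533, 13807]⟩))) (.node (.node (.leaf ⟨473, 2, 253, 6, [3927, 1763]⟩) (.leaf ⟨1107, 1, 1319, 102, [10323, 11012, 9315, 12115, 12123]⟩)) (.node (.leaf ⟨947, 6, 766, 2,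 [8027, 3337, 7050]⟩) (.leaf ⟨0, 12, 0, 0, []⟩))))))) (.node (.node (.node (.node (.node (.node (.leaf ⟨15, 11, 16, 13, [168, 203, 209]⟩) (.leaf ⟨1003, 7, 835, 4, [8401, 8392, 7804, 7404]⟩)) (.node (.leaf ⟨490, 1, 490, 12, [4311, 3942, 3672, 1588, 3973, 3970, 892, 1787, 4315]⟩) (.leaf ⟨852, 1, 1366, 94, [9405, 11547, 11558, 12505]⟩))) (.node (.node (.leaf ⟨57, 10, 338, 0, []⟩) (.leaf ⟨1223, 4, 1224, 0, []⟩)) (.node (.leaf ⟨183, 9, 727, 21, [4667, 6246, 6357, 6346]⟩) (.leaf ⟨1542, 7, 1540, 56, [14547, 14545, 14287]⟩)))) (.node (.node (.node (.leaf ⟨156, 0, 150, 35, [1243, 1240, 1015, 1187, 1192]⟩) (.leaf ⟨1126, 3, 1010, 7, [9431, 2213, 5175, 8466]⟩)) (.node (.leaf ⟨501, 1, 644, 0, []⟩) (.leaf ⟨1149, 1, 1452, 14, [12023, 13246, 13236, 12909, 13531]⟩))) (.node (.node (.leaf ⟨444, 7, 403, 20, [3291, 2819, 2816]⟩) (.leaf ⟨1145, 9, 1115, 40, [9605, 11030, 8292, 11279, 8089, 11483,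 9308]⟩)) (.node (.leaf ⟨832, 7, 812, 34, [7385, 7380, 7271, 7274]⟩) (.leaf ⟨0, 12, 0, 0, []⟩))))) (.node (.node (.node (.node (.leaf ⟨86, 3, 89, 39, [704, 476, 729]⟩) (.leaf ⟨1062, 3, 1059, 7, [8921, 8916, 8898, 8904]⟩)) (.node (.leaf ⟨575, 6, 500, 18, [4827, 4823, 4817, 1495, 4441]⟩) (.leaf ⟨1414, 7, 1393, 4, [13015, 13004, 12785, 12792]⟩))) (.node (.node (.leaf ⟨351, 2, 399, 0, []⟩) (.leaf ⟨1023, 9, 1240, 40, [8605, 6360, 8830, 10485, 9673, 10967, 10640]⟩)) (.node (.leaf ⟨716, 8, 750, 17, [6131, 6139, 6857, 6854]⟩) (.leaf ⟨1602, 0, 1489, 11, [15061, 15054, 13824]⟩)))) (.node (.node (.node (.leaf ⟨252, 7, 200, 20, [1755, 1752, 1586]⟩) (.leaf ⟨1176, 3, 1083, 7, [9941, 2561, 9054, 9066]⟩)) (.node (.leaf ⟨694, 2, 695, 0, []⟩) (.leaf ⟨783, 9, 1516, 0, []⟩))) (.node (.node (.leaf ⟨398, 1, 467, 48, [3609, 1552, 3803]⟩) (.leaf ⟨1307, 0, 1216, 3, [11993, 4268, 3590, 3612, 10398]⟩))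 (.node (.leaf ⟨930, 7, 914, 20, [7899, 7878, 7784]⟩) (.leaf ⟨0, 12, 0, 0, []⟩)))))) (.node (.node (.node (.node (.node (.leaf ⟨50, 3, 41, 7, [475, 472, 458, 444]⟩) (.leaf ⟨1030, 2, 798, 5, [8667, 8665, 2371, 7198]⟩)) (.node (.leaf ⟨146, 1, 532, 15, [4569, 4532]⟩) (.leaf ⟨1390, 7, 1364, 4, [12761, 5683, 5933, 12478]⟩))) (.node (.node (.leaf ⟨366, 0, 221, 11, [2521, 2518, 1642]⟩) (.leaf ⟨1248, 4, 420, 36, [10713, 5574, 6202, 3595]⟩)) (.node (.leaf ⟨517, 7, 742, 20, [4495, 5407, 6617]⟩) (.leaf ⟨1483, 0, 1516, 31, [14436, 14502, 14811]⟩)))) (.node (.node (.node (.leaf ⟨181, 6, 169, 2, [1499, 1492, 1356]⟩) (.leaf ⟨1152, 3, 1120, 7, [9685, 3511, 3521, 9354]⟩)) (.node (.leaf ⟨665, 0, 553, 10, [5595, 5592, 4658]⟩) (.leaf ⟨1465, 5, 1482, 55, [13675, 9921, 11145, 7362, 11955, 11935, 13785]⟩))) (.node (.node (.leaf ⟨442, 6, 448, 33, [3268, 3234, 3545]⟩) (.leaf ⟨1290, 6, 1053, 2,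 [11739, 11736, 8858]⟩)) (.node (.leaf ⟨880, 4, 881, 0, []⟩) (.leaf ⟨0, 12, 0, 0, []⟩))))) (.node (.node (.node (.node (.leaf ⟨112, 3, 51, 7, [983, 976, 474, 480]⟩) (.leaf ⟨1098, 6, 889, 2, [9179, 9174, 7680]⟩)) (.node (.leaf ⟨373, 4, 575, 54, [2588, 5083, 4829]⟩) (.leaf ⟨1434, 3, 1334, 7, [13271, 13264, 12272, 12234]⟩))) (.node (.node (.leaf ⟨322, 11, 72, 13, [2389, 3033, 3031]⟩) (.leaf ⟨1103, 10, 1180, 9, [11227, 8349, 10017]⟩)) (.node (.leaf ⟨785, 4, 786, 0, []⟩) (.leaf ⟨1476, 0, 1622, 10, [13744, 8392, 15321]⟩)))) (.node (.node (.node (.leaf ⟨82, 9, 88, 27, [2007, 1713]⟩) (.leaf ⟨1186, 1, 850, 102, [10066, 10201, 10134, 10187, 8790]⟩)) (.node (.leaf ⟨715, 7, 595, 20, [6107, 5502, 5492]⟩) (.leaf ⟨1504, 11, 924, 100, [14299, 14297, 10065, 3480, 7600, 11253, 7857]⟩))) (.node (.node (.leaf ⟨367, 9, 480, 21, [2527, 3773, 4057, 4055]⟩) (.leaf ⟨1336, 8, 841, 41, [12251, 12248,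 9042, 4158, 755, 1609, 7448]⟩)) (.node (.leaf ⟨968, 3, 960, 7, [8155, 8152, 8112, 8114]⟩) (.leaf ⟨0, 12, 0, 0, []⟩))))))))

def factB47 : Arr (CFact) :=
  (.node (.node (.node (.node (.node (.node (.node (.leaf ⟨10, 1, 11, 0, []⟩) (.leaf ⟨872, 0, 984, 31, [7610, 6862, 8285]⟩)) (.node (.leaf ⟨304, 11, 482, 13, [2559, 4161, 4079]⟩) (.leaf ⟨774, 11, 1349, 37, [7080, 11974, 9857, 12211, 12209, 6098, 12381]⟩))) (.node (.node (.leaf ⟨194, 12, 315, 22, [1571, 1546, 1550, 2141, 2137]⟩) (.leaf ⟨1207, 4, 1208, 0, []⟩)) (.node (.leaf ⟨568, 11, 719, 13, [5815, 6237, 6235]⟩) (.leaf ⟨1553, 0, 1515, 11, [14421, 14037, 14040]⟩)))) (.node (.node (.node (.leaf ⟨127, 6, 139, 2, [1051, 1117, 1098]⟩) (.leaf ⟨1115, 6, 1110, 2, [9309, 9305, 9268]⟩)) (.node (.leaf ⟨625, 1, 132, 94, [5213, 5208, 5179, 5181]⟩) (.leaf ⟨1443, 2, 1418, 5, [13401, 13389, 6963, 13066]⟩))) (.node (.node (.leaf ⟨268,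 6, 229, 26, [3158, 3157]⟩) (.leaf ⟨1264, 6, 798, 2, [11357, 3584, 7198]⟩)) (.node (.leaf ⟨219, 5, 808, 73, [7258, 7253]⟩) (.leaf ⟨0, 12, 0, 0, []⟩))))) (.node (.node (.node (.node (.leaf ⟨74, 3, 65, 7, [603, 594, 554, 540]⟩) (.leaf ⟨1044, 6, 888, 2, [8797, 2080, 7674]⟩)) (.node (.leaf ⟨510, 1, 119, 15, [4700, 4681]⟩) (.leaf ⟨1402, 4, 586, 8, [12891, 12883, 12871, 12865, 12859, 12853]⟩))) (.node (.node (.leaf ⟨246, 7, 248, 34, [2648, 2651, 2638, 2073]⟩) (.leaf ⟨559, 4, 1258, 0, []⟩)) (.node (.leaf ⟨547, 7, 747, 25, [6739, 6719]⟩) (.leaf ⟨1592, 4, 1515, 64, [14941, 14855, 14806, 14815]⟩)))) (.node (.node (.node (.leaf ⟨43, 8, 216, 0, []⟩) (.leaf ⟨716, 4, 1165, 0, []⟩)) (.node (.leaf ⟨659, 2, 593, 16, [5720, 5706]⟩) (.leaf ⟨1075, 11, 1503, 13, [9026, 8202, 13917]⟩))) (.node (.node (.leaf ⟨457, 12, 258, 21, [3670, 3677, 1753, 1749, 1778]⟩) (.leaf ⟨1299, 0, 902, 3, [11865,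 5157, 5760, 6148, 8098]⟩)) (.node (.leaf ⟨914, 2, 912, 5, [7773, 7771, 7768, 7766]⟩) (.leaf ⟨0, 12, 0, 0, []⟩)))))) (.node (.node (.node (.node (.node (.leaf ⟨36, 7, 27, 20, [349, 342, 278]⟩) (.leaf ⟨1016, 4, 1017, 0, []⟩)) (.node (.leaf ⟨475, 5, 501, 83, [4410, 3392, 3218, 4445]⟩) (.leaf ⟨839, 9, 1172, 40, [7427, 12637, 12414, 6627, 12280, 12266, 9900]⟩))) (.node (.node (.leaf ⟨328, 3, 353, 44, [2200, 579, 2158, 2397, 2395]⟩) (.leaf ⟨1236, 0, 794, 3, [10587, 2835, 1760, 4341, 7180]⟩)) (.node (.leaf ⟨737, 8, 181, 41, [6493, 3915, 3362, 4422, 4446, 5094, 1498]⟩) (.leaf ⟨1572, 1, 1143, 43, [14685, 13660, 10159, 10932, 9596]⟩)))) (.node (.node (.node (.leaf ⟨170, 4, 171, 0, []⟩) (.leaf ⟨739, 4, 1137, 0, []⟩)) (.node (.leaf ⟨538, 4, 362, 54, [5469, 5200, 3888]⟩) (.leaf ⟨1284, 11, 1464, 13, [11662, 8854, 13661]⟩))) (.node (.node (.leaf ⟨256, 8, 110, 41, [3421, 3204, 3256, 2845,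 549, 2059, 958]⟩) (.leaf ⟨1281, 6, 968, 2, [11613, 11611, 8154]⟩)) (.node (.leaf ⟨852, 0, 813, 3, [7515, 6740, 5535, 6497, 7282]⟩) (.leaf ⟨0, 12, 0, 0, []⟩))))) (.node (.node (.node (.node (.leaf ⟨101, 0, 65, 3, [859, 177, 181, 225, 540]⟩) (.leaf ⟨309, 4, 1082, 0, []⟩)) (.node (.leaf ⟨598, 1, 599, 0, []⟩) (.leaf ⟨1424, 4, 650, 36, [13139, 13130, 12388, 5403]⟩))) (.node (.node (.leaf ⟨410, 2, 411, 0, []⟩) (.leaf ⟨956, 10, 784, 9, [11099, 8753, 8758]⟩)) (.node (.leaf ⟨754, 4, 755, 0, []⟩) (.leaf ⟨859, 10, 1613, 0, []⟩)))) (.node (.node (.node (.leaf ⟨283, 6, 192, 18, [1885, 1883, 1879, 941, 1565]⟩) (.leaf ⟨1187, 6, 1162, 2, [10077, 10068, 9794]⟩)) (.node (.leaf ⟨708, 2, 584, 6, [5979, 4901]⟩) (.leaf ⟨1531, 9, 878, 21, [14167, 12413, 13155, 13168]⟩))) (.node (.node (.leaf ⟨473, 0, 351, 11, [3927, 2837, 2386]⟩) (.leaf ⟨1319, 4, 1320, 0, []⟩)) (.node (.leaf ⟨947, 3, 812, 7,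 [8027, 1773, 7268, 7274]⟩) (.leaf ⟨0, 12, 0, 0, []⟩))))))) (.node (.node (.node (.node (.node (.node (.leaf ⟨2, 10, 8, 9, [109, 203, 134]⟩) (.leaf ⟨364, 4, 1004, 0, []⟩)) (.node (.leaf ⟨490, 0, 323, 11, [4311, 3940, 2170]⟩) (.leaf ⟨1366, 10, 833, 9, [12509, 7516, 7401]⟩))) (.node (.node (.leaf ⟨57, 11, 339, 0, []⟩) (.leaf ⟨1224, 6, 1142, 2, [10461, 10454, 9588]⟩)) (.node (.leaf ⟨151, 8, 728, 0, []⟩) (.leaf ⟨881, 10, 1542, 9, [13850, 14281, 14557]⟩)))) (.node (.node (.node (.leaf ⟨156, 4, 157, 0, []⟩) (.leaf ⟨1126, 4, 331, 36, [9431, 2619, 2646, 2248]⟩)) (.node (.leaf ⟨644, 6, 581, 18, [5341, 5096, 4460, 1443, 4883]⟩) (.leaf ⟨1452, 4, 1453, 0, []⟩))) (.node (.node (.leaf ⟨444, 2, 349, 6, [3291, 2380]⟩) (.leaf ⟨1271, 4, 1272, 0, []⟩)) (.node (.leaf ⟨601, 5, 832, 60, [5551, 7194, 7196, 7277, 7389]⟩) (.leaf ⟨0, 12, 0, 0, []⟩))))) (.node (.node (.node (.node (.leaf ⟨89, 4,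 90, 0, []⟩) (.leaf ⟨1062, 4, 1063, 0, []⟩)) (.node (.leaf ⟨498, 9, 574, 21, [4436, 4438, 4829, 4827]⟩) (.leaf ⟨759, 1, 1414, 94, [7035, 11469, 11479, 13019]⟩))) (.node (.node (.leaf ⟨399, 2, 350, 6, [2781, 2387]⟩) (.leaf ⟨1241, 8, 1222, 41, [10651, 6804, 9020, 10499, 7841, 10965, 10440]⟩)) (.node (.leaf ⟨683, 10, 750, 9, [5725, 6765, 6837]⟩) (.leaf ⟨1596, 11, 1602, 13, [15000, 15013, 15063]⟩)))) (.node (.node (.node (.leaf ⟨252, 1, 253, 0, []⟩) (.leaf ⟨1176, 7, 991, 4, [9941, 2564, 3167, 8332]⟩)) (.node (.leaf ⟨695, 1, 696, 0, []⟩) (.leaf ⟨783, 10, 1517, 0, []⟩))) (.node (.node (.leaf ⟨394, 6, 398, 18, [2765, 2761, 2757, 3798, 3805]⟩) (.leaf ⟨1307, 3, 1145, 7, [11993, 4272, 9600, 9604]⟩)) (.node (.leaf ⟨510, 4, 931, 0, []⟩) (.leaf ⟨0, 12, 0, 0, []⟩)))))) (.node (.node (.node (.node (.node (.leaf ⟨50, 7, 50, 20, [476, 446, 477]⟩) (.leaf ⟨1030, 4, 1031, 0, []⟩)) (.node (.leaf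 ⟨146, 3, 530, 24, [4569, 4531]⟩) (.leaf ⟨1022, 1, 1390, 58, [10643, 11495, 11497, 12763]⟩))) (.node (.node (.leaf ⟨366, 1, 367, 0, []⟩) (.leaf ⟨1126, 11, 1248, 37, [9438, 2260, 7799, 10674, 10672, 3628, 10717]⟩)) (.node (.leaf ⟨742, 11, 525, 13, [6621, 5315, 5319]⟩) (.leaf ⟨1515, 7, 1516, 74, [14155, 14229, 14233, 14508, 14811]⟩)))) (.node (.node (.node (.leaf ⟨181, 0, 169, 3, [1499, 1492, 1348, 1355, 1356]⟩) (.leaf ⟨1152, 2, 1118, 5, [9685, 9683, 9680, 9334]⟩)) (.node (.leaf ⟨665, 2, 666, 0, []⟩) (.leaf ⟨1482, 11, 807, 100, [13789, 13669, 7009, 11033, 8334, 11121, 7251]⟩))) (.node (.node (.leaf ⟨448, 1, 449, 0, []⟩) (.leaf ⟨1290, 0, 1204, 3, [11739, 11736, 8854, 10299, 10302]⟩)) (.node (.leaf ⟨881, 4, 882, 0, []⟩) (.leaf ⟨0, 12, 0, 0, []⟩))))) (.node (.node (.node (.node (.leaf ⟨112, 2, 43, 5, [983, 971, 966, 450]⟩) (.leaf ⟨1098, 0, 959, 3, [9179, 9174, 8799, 8802, 8112]⟩))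 (.node (.leaf ⟨327, 5, 500, 83, [3317, 3257, 2851, 5083]⟩) (.leaf ⟨1434, 2, 1391, 5, [13271, 13261, 13254, 12770]⟩))) (.node (.node (.leaf ⟨405, 3, 427, 28, [2848, 2781, 3033]⟩) (.leaf ⟨1187, 11, 996, 13, [10086, 9219, 11227]⟩)) (.node (.leaf ⟨786, 4, 191, 8, [7133, 7131, 7129, 7127, 4936, 4938]⟩) (.leaf ⟨1622, 4, 1518, 54, [15325, 14971, 14968]⟩)))) (.node (.node (.node (.leaf ⟨82, 10, 45, 47, [2007, 1709]⟩) (.leaf ⟨790, 1, 1161, 48, [7503, 10205, 10068]⟩)) (.node (.leaf ⟨715, 0, 597, 11, [6107, 5449, 5477]⟩) (.leaf ⟨794, 11, 1542, 0, []⟩))) (.node (.node (.leaf ⟨313, 2, 481, 71, [2669, 3453, 4059]⟩) (.leaf ⟨937, 10, 1335, 88, [7942, 2278, 3526, 3113, 7448, 12253, 12251]⟩)) (.node (.leaf ⟨968, 4, 666, 8, [8155, 8149, 8143, 8139, 8135, 6184]⟩) (.leaf ⟨0, 12, 0, 0, []⟩))))))))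

def factB48 : Arr (CFact) :=
  (.node (.node (.node (.node (.node (.node (.node (.leaf ⟨11, 0, 11, 10, [95, 93, 94]⟩) (.leaf ⟨267, 4, 985, 0, []⟩)) (.node (.leaf ⟨308, 7, 313, 20, [2563, 4161, 4076]⟩) (.leaf ⟨1349, 1, 1241, 38, [12383, 10381, 10653]⟩))) (.node (.node (.leaf ⟨194, 1, 316, 15, [2142, 2136]⟩) (.leaf ⟨1208, 6, 1114, 2, [10335, 10333, 9298]⟩)) (.node (.leaf ⟨720, 2, 721, 0, []⟩) (.leaf ⟨1294, 10, 1483, 9, [14224, 14429, 14424]⟩)))) (.node (.node (.node (.leaf ⟨143, 4, 144, 0, []⟩) (.leaf ⟨1115, 3, 798, 7, [9309, 9300, 7210, 7198]⟩)) (.node (.leaf ⟨132, 10, 622, 9, [5215, 5208, 5183]⟩) (.leaf ⟨1126, 1, 1443, 53, [10834, 12420, 13069, 13407]⟩))) (.node (.node (.leaf ⟨268, 7, 220, 25, [3158, 3150]⟩) (.leaf ⟨1264, 0, 754, 3, [11357, 3584, 4275, 1926, 7004]⟩)) (.node (.leaf ⟨808, 0, 784, 31, [7263, 3099, 7140]⟩) (.leaf ⟨0, 12, 0, 0, []⟩))))) (.node (.node (.node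 (.node (.leaf ⟨74, 7, 74, 4, [603, 592, 591, 602]⟩) (.leaf ⟨1044, 0, 969, 3, [8797, 2080, 1799, 2708, 8160]⟩)) (.node (.leaf ⟨119, 12, 511, 15, [4703, 4476]⟩) (.leaf ⟨1332, 0, 1402, 31, [12209, 6094, 12895]⟩))) (.node (.node (.leaf ⟨248, 11, 271, 13, [2655, 1849, 1847]⟩) (.leaf ⟨1258, 8, 1190, 62, [10847, 4673, 1010, 276, 1235, 6145, 10106]⟩)) (.node (.leaf ⟨621, 12, 545, 21, [6469, 6716, 6725, 4621, 4640]⟩) (.leaf ⟨827, 11, 1593, 0, []⟩)))) (.node (.node (.node (.leaf ⟨43, 9, 217, 0, []⟩) (.leaf ⟨1165, 6, 1106, 2, [9823, 6116, 9238]⟩)) (.node (.leaf ⟨659, 3, 594, 24, [5720, 5703]⟩) (.leaf ⟨834, 8, 1503, 17, [11598, 11592, 8222, 13917]⟩))) (.node (.node (.leaf ⟨258, 0, 322, 23, [3679, 3668]⟩) (.leaf ⟨1299, 3, 1087, 7, [11865, 5493, 5496, 9098]⟩)) (.node (.leaf ⟨914, 4, 239, 8, [7773, 7771, 7767, 7765, 5103, 2340]⟩) (.leaf ⟨0, 12, 0, 0, []⟩)))))) (.node (.node (.node (.node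 (.node (.leaf ⟨36, 0, 36, 11, [349, 345, 348]⟩) (.leaf ⟨1017, 6, 826, 2, [8543, 8538, 7344]⟩)) (.node (.leaf ⟨113, 9, 502, 0, []⟩) (.leaf ⟨1256, 8, 909, 62, [10799, 11380, 9900, 12639, 7427, 11148, 7754]⟩))) (.node (.node (.leaf ⟨319, 2, 354, 6, [2163, 2397]⟩) (.leaf ⟨1236, 3, 1040, 7, [10587, 2781, 8740, 8750]⟩)) (.node (.leaf ⟨661, 7, 657, 20, [6485, 6491, 5546]⟩) (.leaf ⟨1572, 2, 1463, 6, [14685, 13659]⟩)))) (.node (.node (.node (.leaf ⟨171, 6, 129, 2, [1375, 1366, 1054]⟩) (.leaf ⟨1137, 6, 1122, 2, [9567, 6542, 9380]⟩)) (.node (.leaf ⟨139, 10, 538, 97, [1100, 5218, 5207, 1735, 910, 3868, 5471]⟩) (.leaf ⟨1210, 9, 1464, 21, [10348, 8857, 8854, 13661]⟩))) (.node (.node (.leaf ⟨256, 7, 251, 4, [3421, 2238, 3223, 3393]⟩) (.leaf ⟨1281, 0, 1054, 3, [11613, 11611, 8150, 8863, 8866]⟩)) (.node (.leaf ⟨852, 4, 217, 36, [7515, 6744, 5152, 2941]⟩) (.leaf ⟨0, 12, 0, 0, []⟩))))) (.node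 (.node (.node (.node (.leaf ⟨101, 3, 84, 7, [859, 187, 682, 688]⟩) (.leaf ⟨1082, 6, 953, 2, [9055, 2103, 8080]⟩)) (.node (.leaf ⟨599, 2, 537, 29, [4959, 4957, 4955, 4953, 4949, 4945, 4931, 1040, 4620]⟩) (.leaf ⟨650, 4, 1425, 0, []⟩))) (.node (.node (.leaf ⟨411, 7, 294, 20, [2911, 2904, 2501]⟩) (.leaf ⟨1095, 11, 829, 13, [9160, 8270, 11099]⟩)) (.node (.leaf ⟨755, 4, 756, 0, []⟩) (.leaf ⟨1613, 7, 1586, 19, [15199, 14939, 14941]⟩)))) (.node (.node (.node (.leaf ⟨190, 9, 282, 21, [1560, 1562, 1887, 1885]⟩) (.leaf ⟨1187, 0, 1077, 3, [10077, 10068, 9788, 9031, 9032]⟩)) (.node (.leaf ⟨708, 0, 519, 11, [5979, 5381, 4498]⟩) (.leaf ⟨1471, 4, 1531, 42, [13707, 13426, 13428, 8333, 3171, 7638, 14175]⟩))) (.node (.node (.leaf ⟨197, 6, 473, 33, [1582, 3373, 3933]⟩) (.leaf ⟨1320, 3, 1317, 7, [12127, 12122, 12085, 12082]⟩)) (.node (.leaf ⟨947, 2, 810, 5, [8027, 3897, 3886, 7260]⟩) (.leaf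 ⟨0, 12, 0, 0, []⟩))))))) (.node (.node (.node (.node (.node (.node (.leaf ⟨11, 7, 9, 20, [123, 203, 136]⟩) (.leaf ⟨1004, 6, 841, 2, [8415, 2489, 7448]⟩)) (.node (.leaf ⟨194, 4, 490, 67, [2150, 1887, 2753, 3358, 4319]⟩) (.leaf ⟨1366, 4, 1367, 0, []⟩))) (.node (.node (.leaf ⟨339, 1, 69, 38, [2271, 981, 972]⟩) (.leaf ⟨1224, 0, 1214, 3, [10461, 10454, 9652, 10381, 10382]⟩)) (.node (.leaf ⟨151, 10, 729, 0, []⟩) (.leaf ⟨1561, 2, 1562, 0, []⟩)))) (.node (.node (.node (.leaf ⟨157, 6, 151, 2, [1247, 1244, 1202]⟩) (.leaf ⟨1126, 7, 934, 4, [9431, 4249, 4256, 7914]⟩)) (.node (.leaf ⟨644, 2, 645, 0, []⟩) (.leaf ⟨1453, 6, 1415, 2, [13535, 13526, 13024]⟩))) (.node (.node (.leaf ⟨444, 0, 256, 11, [3291, 2839, 1766]⟩) (.leaf ⟨1272, 6, 1234, 2, [11487, 11470, 10568]⟩)) (.node (.leaf ⟨601, 4, 833, 0, []⟩) (.leaf ⟨0, 12, 0, 0, []⟩))))) (.node (.node (.node (.node (.leaf ⟨90, 6, 42, 2, [735,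 728, 448]⟩) (.leaf ⟨1063, 3, 1055, 7, [8927, 8924, 8908, 8874]⟩)) (.node (.leaf ⟨575, 2, 576, 0, []⟩) (.leaf ⟨1414, 4, 1415, 0, []⟩))) (.node (.node (.leaf ⟨399, 1, 400, 0, []⟩) (.leaf ⟨1211, 10, 941, 9, [10961, 9393, 9398]⟩)) (.node (.leaf ⟨749, 1, 751, 0, []⟩) (.leaf ⟨1506, 2, 1603, 0, []⟩)))) (.node (.node (.node (.leaf ⟨253, 6, 204, 18, [1759, 1755, 1749, 965, 1597]⟩) (.leaf ⟨1079, 3, 1176, 30, [9071, 9949]⟩)) (.node (.leaf ⟨696, 2, 697, 0, []⟩) (.leaf ⟨1517, 4, 1499, 61, [14047, 7128, 11952, 9751, 11008, 9318, 13901]⟩))) (.node (.node (.leaf ⟨467, 6, 455, 18, [3805, 3598, 3024, 733, 3633]⟩) (.leaf ⟨1307, 2, 1141, 5, [11993, 6198, 5224, 9644]⟩)) (.node (.leaf ⟨931, 4, 932, 0, []⟩) (.leaf ⟨0, 12, 0, 0, []⟩)))))) (.node (.node (.node (.node (.node (.leaf ⟨50, 4, 51, 0, []⟩) (.leaf ⟨1031, 4, 1032, 0, []⟩)) (.node (.leaf ⟨530, 12, 137, 16, [4575, 1158]⟩) (.leaf ⟨1390,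 2, 1337, 50, [12767, 8600, 11027, 8943, 12264]⟩))) (.node (.node (.leaf ⟨367, 6, 309, 18, [2527, 2521, 2513, 805, 2101]⟩) (.leaf ⟨1248, 1, 914, 38, [10719, 9440, 7920]⟩)) (.node (.leaf ⟨651, 7, 637, 20, [6603, 6619, 5293]⟩) (.leaf ⟨1544, 6, 1516, 86, [14537, 14534, 14515, 14811]⟩)))) (.node (.node (.node (.leaf ⟨181, 3, 124, 7, [1499, 1494, 1034, 1038]⟩) (.leaf ⟨1152, 4, 496, 36, [9685, 2586, 5084, 4858]⟩)) (.node (.leaf ⟨666, 0, 554, 11, [5599, 5596, 4660]⟩) (.leaf ⟨1482, 2, 1483, 0, []⟩))) (.node (.node (.leaf ⟨449, 2, 438, 50, [3551, 3544, 1744, 621, 3188]⟩) (.leaf ⟨871, 1, 1290, 48, [9097, 10910, 11743]⟩)) (.node (.leaf ⟨882, 4, 728, 8, [7647, 7645, 7643, 7641, 7639, 6915]⟩) (.leaf ⟨0, 12, 0, 0, []⟩))))) (.node (.node (.node (.node (.leaf ⟨112, 4, 22, 36, [983, 978, 458, 309]⟩) (.leaf ⟨1098, 7, 1045, 4, [9179, 9174, 8799, 8804]⟩)) (.node (.leaf ⟨499, 4, 456, 91, [4438,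 5087, 2380, 3649]⟩) (.leaf ⟨1434, 7, 1406, 4, [13271, 13262, 13200, 12922]⟩))) (.node (.node (.leaf ⟨198, 0, 405, 11, [1583, 3035, 3039]⟩) (.leaf ⟨863, 1, 1118, 102, [9219, 11227, 8376, 9703, 9694]⟩)) (.node (.leaf ⟨429, 12, 785, 91, [3084, 2508, 1563, 7135, 7133]⟩) (.leaf ⟨1619, 1, 1623, 0, []⟩)))) (.node (.node (.node (.leaf ⟨55, 12, 231, 48, [581, 2003, 768, 1682]⟩) (.leaf ⟨1076, 11, 790, 13, [9030, 9789, 10207]⟩)) (.node (.leaf ⟨715, 1, 716, 0, []⟩) (.leaf ⟨1542, 1, 811, 38, [14303, 8563, 8554]⟩))) (.node (.node (.leaf ⟨480, 6, 370, 18, [4054, 4063, 2114, 869, 2569]⟩) (.leaf ⟨1138, 1, 1336, 58, [10633, 11457, 11461, 12253]⟩)) (.node (.leaf ⟨264, 4, 969, 0, []⟩) (.leaf ⟨0, 12, 0, 0, []⟩))))))))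

def factB49 : Arr (CFact) :=
  (.node (.node (.node (.node (.node (.node (.node (.leaf ⟨11, 2, 12, 0, []⟩) (.leaf ⟨985, 8, 760, 62, [8289, 3470, 610, 2070, 497, 4283, 7024]⟩)) (.node (.leaf ⟨96, 9, 482, 21, [2101, 2560, 4161, 4079]⟩) (.leaf ⟨518, 4, 1350, 0, []⟩))) (.node (.node (.leaf ⟨194, 2, 281, 16, [2142, 2132]⟩) (.leaf ⟨1208, 4, 1209, 0, []⟩)) (.node (.leaf ⟨721, 1, 722, 0, []⟩) (.leaf ⟨1537, 7, 1490, 20, [14235, 14429, 14426]⟩)))) (.node (.node (.node (.leaf ⟨144, 6, 132, 2, [1121, 1112, 1068]⟩) (.leaf ⟨1115, 2, 1030, 5, [9309, 9299, 9296, 8666]⟩)) (.node (.leaf ⟨140, 9, 625, 21, [4764, 1127, 1122, 5215]⟩) (.leaf ⟨1443, 10, 914, 9, [13409, 9432, 7900]⟩))) (.node (.node (.leaf ⟨224, 10, 268, 9, [1649, 1668, 3169]⟩) (.leaf ⟨1264, 3, 1222, 7, [11357, 3579, 10430, 10440]⟩)) (.node (.leaf ⟨810, 7, 770, 4, [7261, 2433, 2430, 7066]⟩) (.leaf ⟨0, 12, 0, 0, []⟩))))) (.node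 (.node (.node (.node (.leaf ⟨74, 4, 75, 0, []⟩) (.leaf ⟨1044, 7, 958, 4, [8797, 2080, 1799, 8110]⟩)) (.node (.leaf ⟨510, 2, 507, 16, [4700, 4685]⟩) (.leaf ⟨998, 11, 1402, 100, [8358, 11128, 7923, 4759, 1294, 5991, 12895]⟩))) (.node (.node (.leaf ⟨372, 10, 246, 9, [2579, 2631, 2655]⟩) (.leaf ⟨1258, 0, 1248, 3, [10847, 6283, 5791, 6362, 10712]⟩)) (.node (.leaf ⟨545, 0, 538, 23, [6753, 5468]⟩) (.leaf ⟨1593, 1, 915, 38, [14945, 9699, 9686]⟩)))) (.node (.node (.node (.leaf ⟨43, 10, 218, 0, []⟩) (.leaf ⟨1165, 0, 1081, 3, [9823, 6116, 5479, 6506, 9046]⟩)) (.node (.leaf ⟨659, 4, 293, 68, [5720, 5711]⟩) (.leaf ⟨776, 11, 1504, 0, []⟩))) (.node (.node (.leaf ⟨258, 1, 458, 15, [3679, 3670]⟩) (.leaf ⟨1299, 2, 1103, 5, [11865, 11863, 11860, 9216]⟩)) (.node (.leaf ⟨276, 12, 913, 91, [1858, 2341, 1719, 7777, 7773]⟩) (.leaf ⟨0, 12, 0, 0, []⟩)))))) (.node (.node (.node (.node (.node (.leaf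 ⟨36, 1, 37, 0, []⟩) (.leaf ⟨1017, 2, 854, 5, [8543, 8535, 2166, 7530]⟩)) (.node (.leaf ⟨502, 5, 443, 55, [4449, 997, 234, 40, 219, 627, 3274]⟩) (.leaf ⟨536, 4, 1382, 0, []⟩))) (.node (.node (.leaf ⟨322, 8, 353, 17, [2169, 2190, 2397, 2395]⟩) (.leaf ⟨1236, 2, 1037, 5, [10587, 3910, 3906, 8720]⟩)) (.node (.leaf ⟨737, 1, 620, 58, [6491, 5133, 5127, 5158]⟩) (.leaf ⟨1572, 4, 1470, 85, [14685, 13666, 13986, 13984]⟩)))) (.node (.node (.node (.leaf ⟨171, 0, 141, 3, [1375, 1366, 1130, 1135, 1102]⟩) (.leaf ⟨1137, 0, 846, 3, [9567, 6542, 4821, 6991, 7468]⟩)) (.node (.leaf ⟨542, 7, 653, 20, [4633, 4965, 5445]⟩) (.leaf ⟨1464, 4, 1461, 42, [13663, 11670, 13060, 7549, 11651, 11652, 13653]⟩))) (.node (.node (.leaf ⟨251, 11, 200, 13, [3425, 1774, 1589]⟩) (.leaf ⟨1281, 3, 1073, 7, [11613, 11604, 8976, 9000]⟩)) (.node (.leaf ⟨852, 7, 797, 4, [7515, 6740, 5535, 7192]⟩) (.leaf ⟨0, 12, 0, 0,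 []⟩))))) (.node (.node (.node (.node (.leaf ⟨101, 7, 53, 4, [859, 177, 181, 490]⟩) (.leaf ⟨1082, 0, 997, 3, [9055, 2103, 1790, 1833, 8352]⟩)) (.node (.leaf ⟨538, 2, 599, 6, [4625, 4961]⟩) (.leaf ⟨1425, 6, 1355, 2, [13153, 5835, 12410]⟩))) (.node (.node (.leaf ⟨411, 1, 412, 0, []⟩) (.leaf ⟨900, 1, 1097, 43, [8091, 11099, 7383, 10918, 9173]⟩)) (.node (.leaf ⟨756, 4, 757, 0, []⟩) (.leaf ⟨1613, 4, 1536, 93, [15199, 7554, 12725, 12723, 6639, 12656, 14231]⟩)))) (.node (.node (.node (.leaf ⟨283, 2, 284, 0, []⟩) (.leaf ⟨1187, 3, 994, 7, [10077, 10070, 8375, 8372]⟩)) (.node (.leaf ⟨584, 5, 708, 65, [4896, 5366, 5985]⟩) (.leaf ⟨837, 10, 1471, 97, [7410, 3573, 649, 2732, 7638, 14175, 14177]⟩))) (.node (.node (.leaf ⟨258, 12, 207, 13, [3931, 3937, 1579, 1604]⟩) (.leaf ⟨1320, 4, 1321, 0, []⟩)) (.node (.leaf ⟨947, 4, 948, 0, []⟩) (.leaf ⟨0, 12, 0, 0, []⟩))))))) (.node (.node (.node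 (.node (.node (.node (.leaf ⟨2, 8, 11, 17, [109, 203, 133, 94]⟩) (.leaf ⟨1004, 0, 853, 3, [8415, 2489, 2459, 2463, 7524]⟩)) (.node (.leaf ⟨490, 6, 198, 2, [4321, 2763, 3362]⟩) (.leaf ⟨1367, 9, 807, 84, [12513, 12510, 7398, 1631, 451, 1581, 7246]⟩))) (.node (.node (.leaf ⟨244, 2, 339, 50, [1728, 1730, 1732, 972, 2273]⟩) (.leaf ⟨1224, 3, 1218, 7, [10461, 10456, 10404, 10406]⟩)) (.node (.leaf ⟨729, 7, 720, 19, [6369, 4815, 6237]⟩) (.leaf ⟨1562, 1, 1302, 43, [14561, 14545, 8157, 9978, 11911]⟩)))) (.node (.node (.node (.leaf ⟨157, 0, 151, 3, [1247, 1244, 1194, 1201, 1202]⟩) (.leaf ⟨1006, 3, 1126, 99, [8453, 4205, 4235, 9439]⟩)) (.node (.leaf ⟨645, 6, 493, 70, [5345, 5341, 4443, 4424]⟩) (.leaf ⟨1453, 0, 1363, 3, [13535, 13526, 13016, 12743, 12468]⟩))) (.node (.node (.leaf ⟨355, 10, 444, 9, [3068, 3044, 3293]⟩) (.leaf ⟨1272, 0, 1110, 35, [11487, 11476, 10336, 9305, 9268]⟩)) (.node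 (.leaf ⟨833, 6, 797, 2, [7393, 5551, 7192]⟩) (.leaf ⟨0, 12, 0, 0, []⟩))))) (.node (.node (.node (.node (.leaf ⟨90, 0, 60, 3, [735, 728, 447, 513, 514]⟩) (.leaf ⟨598, 5, 1063, 82, [4957, 8889, 8883, 8929]⟩)) (.node (.leaf ⟨576, 1, 577, 0, []⟩) (.leaf ⟨1415, 0, 1342, 35, [13025, 13020, 12794, 12464, 12306]⟩))) (.node (.node (.leaf ⟨400, 6, 354, 18, [2785, 2781, 2390, 2392, 2394]⟩) (.leaf ⟨1226, 11, 950, 13, [10512, 10353, 10961]⟩)) (.node (.leaf ⟨751, 6, 626, 89, [6881, 6815, 6226]⟩) (.leaf ⟨1603, 1, 1289, 43, [15073, 13940, 13944, 13946, 11735]⟩)))) (.node (.node (.node (.leaf ⟨253, 2, 254, 0, []⟩) (.leaf ⟨1076, 8, 1071, 62, [9029, 4199, 8940, 9945, 9941, 4201, 8964]⟩)) (.node (.leaf ⟨697, 1, 153, 12, [5857, 5855, 5853, 5851, 5847, 5839, 5829, 5819, 1221]⟩) (.leaf ⟨1380, 11, 1517, 100, [12610, 5887, 13501, 13513, 9318, 13901, 14049]⟩))) (.node (.node (.leaf ⟨394, 9, 398,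 21, [2765, 3634, 3809, 3805]⟩) (.leaf ⟨1093, 1, 1307, 14, [9747, 11007, 10418, 11256, 12001]⟩)) (.node (.leaf ⟨932, 4, 933, 0, []⟩) (.leaf ⟨0, 12, 0, 0, []⟩)))))) (.node (.node (.node (.node (.node (.leaf ⟨51, 3, 43, 7, [481, 476, 448, 450]⟩) (.leaf ⟨1032, 2, 799, 5, [8673, 8671, 8668, 7200]⟩)) (.node (.leaf ⟨137, 1, 120, 15, [4577, 4559]⟩) (.leaf ⟨1390, 4, 1391, 0, []⟩))) (.node (.node (.leaf ⟨367, 0, 222, 10, [2527, 2524, 1644]⟩) (.leaf ⟨423, 4, 1249, 0, []⟩)) (.node (.leaf ⟨742, 8, 519, 17, [6607, 6619, 4503, 4501]⟩) (.leaf ⟨820, 10, 1583, 0, []⟩)))) (.node (.node (.node (.leaf ⟨181, 2, 117, 5, [1499, 1489, 1487, 1006]⟩) (.leaf ⟨1152, 7, 827, 4, [9685, 2582, 1839, 7352]⟩)) (.node (.leaf ⟨666, 1, 667, 0, []⟩) (.leaf ⟨1483, 1, 1484, 0, []⟩))) (.node (.node (.leaf ⟨449, 3, 247, 44, [3551, 3549, 3261, 3227, 3217]⟩) (.leaf ⟨881, 11, 871, 13, [8863, 11741, 11745]⟩)) (.node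 (.leaf ⟨225, 4, 883, 0, []⟩) (.leaf ⟨0, 12, 0, 0, []⟩))))) (.node (.node (.node (.node (.leaf ⟨112, 7, 106, 4, [983, 974, 901, 910]⟩) (.leaf ⟨1098, 4, 1099, 0, []⟩)) (.node (.leaf ⟨575, 4, 318, 36, [5085, 3513, 3521, 2163]⟩) (.leaf ⟨849, 1, 1434, 14, [7494, 11086, 8109, 12781, 13279]⟩))) (.node (.node (.leaf ⟨405, 1, 428, 0, []⟩) (.leaf ⟨827, 8, 996, 17, [11215, 9101, 9221, 11227]⟩)) (.node (.leaf ⟨429, 4, 786, 68, [7136, 7132]⟩) (.leaf ⟨1623, 3, 1504, 44, [15329, 15287, 14390, 10804, 13925]⟩)))) (.node (.node (.node (.leaf ⟨55, 1, 45, 15, [2016, 1683]⟩) (.leaf ⟨791, 8, 818, 41, [7165, 10209, 9032, 9981, 7459, 3426, 7306]⟩)) (.node (.leaf ⟨716, 6, 684, 18, [6113, 6107, 4648, 1231, 5745]⟩) (.leaf ⟨1478, 3, 1542, 44, [13755, 11854, 9429, 8046, 14305]⟩))) (.node (.node (.leaf ⟨481, 7, 367, 20, [4063, 3738, 2537]⟩) (.leaf ⟨1336, 10, 1029, 9, [12257, 10633, 10638]⟩)) (.node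 (.leaf ⟨969, 3, 906, 7, [8161, 1824, 7746, 7748]⟩) (.leaf ⟨0, 12, 0, 0, []⟩))))))))

def factB50 : Arr (CFact) :=
  (.node (.node (.node (.node (.node (.node (.node (.leaf ⟨12, 0, 12, 11, [99, 97, 98]⟩) (.leaf ⟨985, 4, 986, 0, []⟩)) (.node (.leaf ⟨313, 11, 367, 13, [4193, 2538, 2526]⟩) (.leaf ⟨1350, 4, 522, 36, [12387, 4498, 5367, 4507]⟩))) (.node (.node (.leaf ⟨194, 3, 282, 24, [2142, 2129]⟩) (.leaf ⟨1209, 7, 1110, 34, [10339, 10336, 9305, 9268]⟩)) (.node (.leaf ⟨722, 2, 555, 29, [6243, 6241, 6235, 6231, 6171, 1174, 5283, 5285, 4662]⟩) (.leaf ⟨1483, 4, 1521, 93, [14433, 11808, 11812, 7095, 11132, 9750, 14080]⟩)))) (.node (.node (.node (.leaf ⟨144, 0, 114, 3, [1121, 1112, 1063, 1066, 1000]⟩) (.leaf ⟨1030, 7, 772, 20, [9315, 9310, 9272]⟩)) (.node (.leaf ⟨129, 1, 626, 0, []⟩) (.leaf ⟨1443, 4, 1444, 0, []⟩))) (.node (.node (.leaf ⟨223, 11, 268, 13, [1677, 3167, 3161]⟩) (.leaf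 ⟨1219, 3, 1264, 30, [10447, 11363]⟩)) (.node (.leaf ⟨198, 4, 811, 0, []⟩) (.leaf ⟨0, 12, 0, 0, []⟩))))) (.node (.node (.node (.node (.leaf ⟨75, 0, 63, 35, [611, 609, 604, 596, 528]⟩) (.leaf ⟨1044, 4, 1045, 0, []⟩)) (.node (.leaf ⟨510, 3, 508, 24, [4700, 4692]⟩) (.leaf ⟨1402, 1, 1088, 38, [12899, 9064, 9107]⟩))) (.node (.node (.leaf ⟨248, 3, 378, 28, [2655, 1731, 2651]⟩) (.leaf ⟨1258, 3, 1229, 7, [10847, 6277, 10524, 10532]⟩)) (.node (.leaf ⟨545, 1, 736, 15, [6753, 6469]⟩) (.leaf ⟨1586, 3, 1593, 44, [14861, 12979, 12987, 7812, 14947]⟩)))) (.node (.node (.node (.leaf ⟨43, 11, 219, 0, []⟩) (.leaf ⟨1165, 3, 1159, 7, [9823, 6125, 9760, 9768]⟩)) (.node (.leaf ⟨659, 6, 621, 26, [5720, 5713]⟩) (.leaf ⟨1504, 1, 1230, 38, [13923, 10671, 10666]⟩))) (.node (.node (.leaf ⟨258, 3, 260, 24, [3679, 3665]⟩) (.leaf ⟨1299, 4, 1300, 0, []⟩)) (.node (.leaf ⟨276, 4, 914, 68, [7778, 7772]⟩)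 (.leaf ⟨0, 12, 0, 0, []⟩)))))) (.node (.node (.node (.node (.node (.leaf ⟨37, 0, 37, 10, [355, 353, 354]⟩) (.leaf ⟨1017, 4, 279, 36, [8543, 8540, 7526, 4105]⟩)) (.node (.leaf ⟨501, 6, 502, 2, [4444, 3280, 4451]⟩) (.leaf ⟨1382, 0, 1353, 3, [12643, 5015, 5028, 5018, 12396]⟩))) (.node (.node (.leaf ⟨353, 6, 322, 18, [2394, 2401, 2164, 2166, 2168]⟩) (.leaf ⟨1236, 7, 831, 4, [10587, 2835, 1760, 7378]⟩)) (.node (.leaf ⟨620, 2, 548, 50, [6499, 6484, 5568, 1316, 4649]⟩) (.leaf ⟨1572, 0, 1548, 11, [14685, 13949, 14362]⟩)))) (.node (.node (.node (.leaf ⟨171, 3, 157, 7, [1375, 1368, 1242, 1246]⟩) (.leaf ⟨1137, 3, 854, 7, [9567, 6537, 5652, 7530]⟩)) (.node (.leaf ⟨597, 3, 653, 30, [4956, 5445]⟩) (.leaf ⟨756, 8, 1465, 0, []⟩))) (.node (.node (.leaf ⟨350, 11, 404, 13, [2841, 3345, 3338]⟩) (.leaf ⟨1281, 2, 1070, 5, [11613, 11603, 11596, 8960]⟩)) (.node (.leaf ⟨218, 4, 853, 0, []⟩) (.leaf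 ⟨0, 12, 0, 0, []⟩))))) (.node (.node (.node (.node (.leaf ⟨92, 3, 101, 30, [760, 865]⟩) (.leaf ⟨1082, 3, 1077, 7, [9055, 2099, 9028, 9032]⟩)) (.node (.leaf ⟨598, 6, 541, 18, [4958, 4963, 4626, 4628, 4630]⟩) (.leaf ⟨1425, 0, 1384, 3, [13153, 5835, 6636, 6632, 12656]⟩))) (.node (.node (.leaf ⟨412, 2, 413, 0, []⟩) (.leaf ⟨1066, 9, 829, 21, [10199, 8273, 8270, 11099]⟩)) (.node (.leaf ⟨757, 4, 758, 0, []⟩) (.leaf ⟨1570, 0, 1613, 31, [14673, 14428, 15203]⟩)))) (.node (.node (.node (.leaf ⟨284, 1, 285, 0, []⟩) (.leaf ⟨1187, 2, 997, 5, [10077, 10065, 3453, 8352]⟩)) (.node (.leaf ⟨527, 6, 708, 87, [5387, 5837, 5820, 5366, 5985]⟩) (.leaf ⟨789, 8, 1532, 0, []⟩))) (.node (.node (.leaf ⟨207, 0, 322, 23, [3939, 3680]⟩) (.leaf ⟨1321, 3, 1312, 7, [12131, 12128, 12078, 12066]⟩)) (.node (.leaf ⟨948, 3, 813, 7, [8035, 8030, 7281, 7282]⟩) (.leaf ⟨0, 12, 0, 0, []⟩))))))) (.node (.node (.node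 (.node (.node (.node (.leaf ⟨4, 10, 11, 9, [175, 181, 225]⟩) (.leaf ⟨1004, 3, 825, 7, [8415, 2487, 3408, 7340]⟩)) (.node (.leaf ⟨199, 10, 204, 9, [1585, 4323, 4312]⟩) (.leaf ⟨1367, 4, 1368, 0, []⟩))) (.node (.node (.leaf ⟨270, 9, 339, 21, [1835, 977, 972, 2273]⟩) (.leaf ⟨1224, 7, 775, 4, [10461, 10454, 9652, 7080]⟩)) (.node (.leaf ⟨677, 2, 730, 0, []⟩) (.leaf ⟨1562, 6, 1541, 70, [14561, 14545, 12834, 14291]⟩)))) (.node (.node (.node (.leaf ⟨157, 7, 121, 4, [1247, 1244, 1194, 1024]⟩) (.leaf ⟨624, 4, 1127, 0, []⟩)) (.node (.leaf ⟨645, 1, 580, 12, [5345, 5341, 5096, 4460, 1064, 5040, 5042, 4436, 4879]⟩) (.leaf ⟨1453, 3, 1407, 7, [13535, 13528, 12922, 12932]⟩))) (.node (.node (.leaf ⟨444, 1, 445, 0, []⟩) (.leaf ⟨1272, 3, 1244, 7, [11487, 11472, 10716, 10678]⟩)) (.node (.leaf ⟨833, 3, 828, 7, [7393, 5540, 5526, 7358]⟩) (.leaf ⟨0, 12, 0, 0, []⟩))))) (.node (.node (.node (.node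 (.leaf ⟨90, 2, 83, 5, [735, 725, 210, 682]⟩) (.leaf ⟨598, 4, 1064, 0, []⟩)) (.node (.leaf ⟨577, 2, 578, 0, []⟩) (.leaf ⟨1415, 7, 1375, 34, [13025, 13016, 12740, 12576]⟩))) (.node (.node (.leaf ⟨320, 9, 399, 21, [2165, 2400, 2787, 2785]⟩) (.leaf ⟨945, 8, 950, 17, [10827, 10812, 10752, 10961]⟩)) (.node (.leaf ⟨751, 3, 721, 44, [6881, 6817, 4662, 6245, 6243]⟩) (.leaf ⟨1603, 2, 1505, 6, [15073, 13937]⟩)))) (.node (.node (.node (.leaf ⟨254, 1, 255, 0, []⟩) (.leaf ⟨1176, 4, 1177, 0, []⟩)) (.node (.leaf ⟨159, 11, 697, 13, [1459, 1450, 5859]⟩) (.leaf ⟨1517, 1, 1352, 38, [14051, 12612, 12538]⟩))) (.node (.node (.leaf ⟨392, 12, 425, 20, [3641, 3809, 3800, 3021]⟩) (.leaf ⟨1307, 4, 1308, 0, []⟩)) (.node (.leaf ⟨933, 4, 934, 0, []⟩) (.leaf ⟨0, 12, 0, 0, []⟩)))))) (.node (.node (.node (.node (.node (.leaf ⟨51, 4, 52, 0, []⟩) (.leaf ⟨1032, 4, 1033, 0, []⟩)) (.node (.leaf ⟨532, 7, 533,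 20, [4551, 4555, 4534]⟩) (.leaf ⟨1391, 0, 1344, 35, [12771, 12764, 12708, 12711, 12324]⟩))) (.node (.node (.leaf ⟨307, 9, 366, 21, [2096, 2098, 2529, 2527]⟩) (.leaf ⟨1249, 0, 1144, 3, [10723, 3008, 4274, 2359, 9600]⟩)) (.node (.leaf ⟨526, 10, 651, 9, [5878, 5888, 6625]⟩) (.leaf ⟨1583, 4, 1476, 93, [14819, 7320, 4831, 12229, 12231, 10470, 13748]⟩)))) (.node (.node (.node (.leaf ⟨181, 7, 139, 4, [1499, 1492, 1348, 1098]⟩) (.leaf ⟨872, 11, 1152, 37, [7610, 6866, 7390, 9375, 9371, 4869, 9697]⟩)) (.node (.leaf ⟨667, 0, 555, 10, [5603, 5600, 4662]⟩) (.leaf ⟨1484, 2, 1485, 0, []⟩))) (.node (.node (.leaf ⟨449, 6, 374, 18, [3551, 3543, 2578, 2586, 2590]⟩) (.leaf ⟨881, 8, 882, 62, [7645, 11600, 7404, 11704, 7609, 11747, 7646]⟩)) (.node (.leaf ⟨883, 3, 879, 7, [7651, 1651, 7638, 7640]⟩) (.leaf ⟨0, 12, 0, 0, []⟩))))) (.node (.node (.node (.node (.leaf ⟨23, 4, 113, 0, []⟩) (.leaf ⟨1099,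 6, 960, 2, [9187, 9182, 8114]⟩)) (.node (.leaf ⟨575, 7, 501, 4, [5085, 2588, 3193, 4445]⟩) (.leaf ⟨1166, 9, 849, 21, [12176, 13215, 13273, 13283]⟩))) (.node (.node (.leaf ⟨428, 6, 403, 18, [3043, 3038, 3031, 635, 2809]⟩) (.leaf ⟨1003, 11, 863, 13, [8412, 9337, 11233]⟩)) (.node (.leaf ⟨429, 5, 784, 73, [7136, 7131]⟩) (.leaf ⟨1623, 0, 1477, 10, [15329, 15279, 15134]⟩)))) (.node (.node (.node (.leaf ⟨45, 12, 233, 15, [2019, 1692]⟩) (.leaf ⟨384, 4, 1196, 0, []⟩)) (.node (.leaf ⟨716, 0, 596, 10, [6113, 6110, 4955]⟩) (.leaf ⟨1479, 2, 1542, 50, [13760, 9906, 10914, 8554, 14305]⟩))) (.node (.node (.leaf ⟨463, 8, 101, 17, [3769, 4057, 4063, 2114]⟩) (.leaf ⟨1336, 4, 1337, 0, []⟩)) (.node (.leaf ⟨969, 4, 970, 0, []⟩) (.leaf ⟨0, 12, 0, 0, []⟩))))))))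

def factB51 : Arr (CFact) :=
  (.node (.node (.node (.node (.node (.node (.node (.leaf ⟨12, 1, 13, 0, []⟩) (.leaf ⟨986, 2, 893, 5, [8293, 8289, 3493, 7708]⟩)) (.node (.leaf ⟨306, 10, 308, 9, [2093, 3739, 4193]⟩) (.leaf ⟨604, 4, 1351, 0, []⟩))) (.node (.node (.leaf ⟨194, 7, 192, 25, [2142, 2130]⟩) (.leaf ⟨1209, 4, 1210, 0, []⟩)) (.node (.leaf ⟨556, 2, 722, 6, [4665, 6245]⟩) (.leaf ⟨1036, 11, 1553, 13, [8716, 7989, 14423]⟩)))) (.node (.node (.node (.leaf ⟨144, 3, 140, 7, [1121, 1114, 1098, 1100]⟩) (.leaf ⟨1115, 4, 1116, 0, []⟩)) (.node (.leaf ⟨626, 0, 556, 10, [5221, 1527, 4667]⟩) (.leaf ⟨1444, 0, 1336, 3, [13413, 13402, 12872, 12357, 12250]⟩))) (.node (.node (.leaf ⟨384, 7, 379, 20, [2705, 3167, 3162]⟩) (.leaf ⟨1264, 1, 1181, 14, [11365, 11256, 9652, 11264, 10026]⟩)) (.node (.leaf ⟨811, 0, 787, 3, [7269, 3067, 3075, 2406, 7144]⟩) (.leaf ⟨0, 12, 0, 0, []⟩))))) (.node (.node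 (.node (.node (.leaf ⟨75, 3, 67, 7, [611, 606, 544, 546]⟩) (.leaf ⟨1045, 6, 970, 2, [8805, 8800, 8164]⟩)) (.node (.leaf ⟨510, 6, 507, 26, [4700, 4682]⟩) (.leaf ⟨676, 4, 1403, 0, []⟩))) (.node (.node (.leaf ⟨334, 8, 94, 62, [2641, 2329, 504, 198, 855, 2068, 774]⟩) (.leaf ⟨1258, 2, 1233, 5, [10847, 10821, 10818, 10562]⟩)) (.node (.leaf ⟨545, 2, 737, 16, [6753, 6482]⟩) (.leaf ⟨1581, 0, 1593, 10, [14791, 7789, 14947]⟩)))) (.node (.node (.node (.leaf ⟨219, 1, 91, 38, [1637, 586, 747]⟩) (.leaf ⟨1165, 2, 1094, 5, [9823, 9819, 9816, 9146]⟩)) (.node (.leaf ⟨659, 7, 613, 25, [5720, 5704]⟩) (.leaf ⟨917, 1, 1505, 0, []⟩))) (.node (.node (.leaf ⟨258, 6, 203, 26, [3679, 3666]⟩) (.leaf ⟨1300, 6, 903, 2, [11877, 11870, 7736]⟩)) (.node (.leaf ⟨276, 5, 912, 73, [7778, 7771]⟩) (.leaf ⟨0, 12, 0, 0, []⟩)))))) (.node (.node (.node (.node (.node (.leaf ⟨37, 2, 38, 0, []⟩) (.leaf ⟨939, 0, 1017,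 31, [7964, 4109, 8549]⟩)) (.node (.leaf ⟨458, 5, 502, 83, [3677, 3403, 3286, 4451]⟩) (.leaf ⟨1382, 4, 1383, 0, []⟩))) (.node (.node (.leaf ⟨323, 7, 328, 20, [2171, 2405, 2399]⟩) (.leaf ⟨831, 11, 1161, 13, [10597, 10588, 10206]⟩)) (.node (.leaf ⟨620, 3, 658, 44, [6499, 6491, 5134, 6121, 6131]⟩) (.leaf ⟨1493, 4, 1572, 67, [14554, 14546, 14311, 14372, 14693]⟩)))) (.node (.node (.node (.leaf ⟨171, 2, 166, 5, [1375, 1365, 1360, 1324]⟩) (.leaf ⟨1137, 2, 1017, 5, [9567, 9565, 9562, 8542]⟩)) (.node (.leaf ⟨619, 6, 596, 18, [5146, 1466, 5440, 5477, 4955]⟩) (.leaf ⟨1465, 1, 848, 53, [13669, 10934, 7338, 7489]⟩))) (.node (.node (.leaf ⟨353, 7, 427, 20, [2393, 3345, 3340]⟩) (.leaf ⟨1281, 4, 552, 36, [11613, 11606, 8995, 5785]⟩)) (.node (.leaf ⟨853, 4, 375, 36, [7525, 2478, 4096, 4085]⟩) (.leaf ⟨0, 12, 0, 0, []⟩))))) (.node (.node (.node (.node (.leaf ⟨101, 4, 102, 0, []⟩) (.leaf ⟨1082,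 7, 868, 4, [9055, 2103, 1790, 7600]⟩)) (.node (.leaf ⟨124, 8, 600, 0, []⟩) (.leaf ⟨1425, 3, 1353, 7, [13153, 5405, 5007, 12396]⟩))) (.node (.node (.leaf ⟨413, 1, 414, 0, []⟩) (.leaf ⟨875, 9, 957, 84, [7623, 6465, 6463, 3094, 7140, 11103, 8092]⟩)) (.node (.leaf ⟨758, 4, 759, 0, []⟩) (.leaf ⟨1469, 4, 1613, 91, [14002, 14240, 14235, 15203]⟩)))) (.node (.node (.node (.leaf ⟨285, 2, 286, 0, []⟩) (.leaf ⟨1187, 7, 863, 4, [10077, 10068, 9788, 7564]⟩)) (.node (.leaf ⟨586, 9, 163, 21, [4903, 5978, 5989, 4520]⟩) (.leaf ⟨1532, 1, 1098, 53, [14181, 11446, 11631, 11634]⟩))) (.node (.node (.leaf ⟨207, 1, 458, 15, [3939, 3682]⟩) (.leaf ⟨1321, 4, 1322, 0, []⟩)) (.node (.leaf ⟨948, 2, 807, 5, [8035, 8027, 1770, 7246]⟩) (.leaf ⟨0, 12, 0, 0, []⟩))))))) (.node (.node (.node (.node (.node (.node (.leaf ⟨2, 9, 22, 0, []⟩) (.leaf ⟨1004, 2, 822, 5, [8415, 8411, 8408, 7324]⟩)) (.node (.leaf ⟨206,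 12, 490, 22, [1603, 1578, 1582, 4323, 4317]⟩) (.leaf ⟨1368, 4, 1369, 0, []⟩))) (.node (.node (.leaf ⟨250, 8, 339, 17, [1744, 621, 622, 2273]⟩) (.leaf ⟨1224, 4, 1225, 0, []⟩)) (.node (.leaf ⟨730, 2, 676, 6, [6373, 5679]⟩) (.leaf ⟨1562, 0, 1520, 11, [14561, 14548, 14064]⟩)))) (.node (.node (.node (.leaf ⟨157, 4, 158, 0, []⟩) (.leaf ⟨1127, 6, 931, 2, [9445, 5192, 7902]⟩)) (.node (.leaf ⟨575, 8, 645, 17, [4827, 4861, 4879, 5349]⟩) (.leaf ⟨1453, 2, 1401, 5, [13535, 13525, 13523, 12882]⟩))) (.node (.node (.leaf ⟨445, 2, 427, 50, [3301, 3294, 2375, 571, 3030]⟩) (.leaf ⟨1272, 2, 1240, 5, [11487, 11467, 11456, 10640]⟩)) (.node (.leaf ⟨833, 4, 216, 36, [7393, 5695, 5699, 3873]⟩) (.leaf ⟨0, 12, 0, 0, []⟩))))) (.node (.node (.node (.node (.leaf ⟨90, 7, 42, 4, [735, 728, 447, 448]⟩) (.leaf ⟨1064, 3, 1058, 7, [8933, 4957, 8892, 8898]⟩)) (.node (.leaf ⟨578, 1, 579, 0, []⟩) (.leaf ⟨1123,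 10, 1415, 9, [12757, 12746, 13029]⟩))) (.node (.node (.leaf ⟨400, 2, 401, 0, []⟩) (.leaf ⟨996, 11, 944, 37, [8344, 1829, 467, 1784, 8054, 10981, 8009]⟩)) (.node (.leaf ⟨751, 0, 564, 10, [6881, 6813, 4786]⟩) (.leaf ⟨1603, 0, 1575, 11, [15073, 13938, 14728]⟩)))) (.node (.node (.node (.leaf ⟨255, 2, 256, 0, []⟩) (.leaf ⟨1177, 6, 857, 2, [9957, 9946, 7548]⟩)) (.node (.leaf ⟨589, 3, 697, 44, [5302, 5826, 5819, 1221, 5859]⟩) (.leaf ⟨783, 11, 1518, 0, []⟩))) (.node (.node (.leaf ⟨392, 7, 390, 25, [3812, 3020]⟩) (.leaf ⟨1308, 6, 1217, 2, [12005, 11996, 10404]⟩)) (.node (.leaf ⟨934, 4, 249, 8, [7909, 7907, 7905, 7903, 5112, 2072]⟩) (.leaf ⟨0, 12, 0, 0, []⟩)))))) (.node (.node (.node (.node (.node (.leaf ⟨52, 3, 45, 7, [485, 482, 452, 454]⟩) (.leaf ⟨1033, 4, 1034, 0, []⟩)) (.node (.leaf ⟨120, 10, 179, 9, [4579, 1095, 1485]⟩) (.leaf ⟨1391, 2, 1334, 5, [12771, 12761, 5354, 12234]⟩)))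 (.node (.node (.leaf ⟨304, 3, 367, 39, [2088, 1647, 2531]⟩) (.leaf ⟨1249, 3, 1212, 7, [10723, 3013, 10350, 10360]⟩)) (.node (.leaf ⟨524, 2, 743, 0, []⟩) (.leaf ⟨1488, 4, 1583, 91, [13824, 14780, 14779, 14821]⟩)))) (.node (.node (.node (.leaf ⟨181, 4, 182, 0, []⟩) (.leaf ⟨1152, 1, 1001, 38, [9701, 9167, 9164]⟩)) (.node (.leaf ⟨667, 2, 626, 29, [5603, 5599, 5595, 5591, 5581, 5575, 4676, 1086, 5220]⟩) (.leaf ⟨1485, 1, 1020, 12, [13797, 13795, 13793, 13783, 10151, 13136, 13128, 12409, 8585]⟩))) (.node (.node (.leaf ⟨449, 0, 275, 10, [3551, 3546, 1857]⟩) (.leaf ⟨1290, 4, 1291, 0, []⟩)) (.node (.leaf ⟨883, 4, 884, 0, []⟩) (.leaf ⟨0, 12, 0, 0, []⟩))))) (.node (.node (.node (.node (.leaf ⟨113, 6, 113, 2, [997, 237, 996]⟩) (.leaf ⟨1099, 7, 1073, 4, [9187, 9182, 8979, 9000]⟩)) (.node (.leaf ⟨501, 11, 180, 13, [5093, 4828, 4440]⟩) (.leaf ⟨1434, 4, 1435, 0, []⟩))) (.node (.node (.leaf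 ⟨428, 0, 199, 10, [3043, 3041, 1584]⟩) (.leaf ⟨1118, 9, 1086, 21, [11233, 8251, 9135, 11083]⟩)) (.node (.leaf ⟨786, 6, 770, 2, [7139, 3086, 7066]⟩) (.leaf ⟨1623, 9, 1034, 21, [15329, 15283, 15104, 14364]⟩)))) (.node (.node (.node (.leaf ⟨55, 2, 232, 16, [2016, 1686]⟩) (.leaf ⟨1196, 6, 1076, 2, [10213, 2712, 9028]⟩)) (.node (.leaf ⟨659, 9, 715, 21, [5724, 5742, 6115, 6113]⟩) (.leaf ⟨1524, 0, 1542, 10, [14103, 7271, 14305]⟩))) (.node (.node (.leaf ⟨92, 10, 306, 9, [2569, 4065, 4048]⟩) (.leaf ⟨1337, 8, 1297, 41, [12261, 12258, 8666, 11136, 8875, 4190, 11838]⟩)) (.node (.leaf ⟨970, 3, 908, 7, [8165, 8162, 7750, 7752]⟩) (.leaf ⟨0, 12, 0, 0, []⟩))))))))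

def factB52 : Arr (CFact) :=
  (.node (.node (.node (.node (.node (.node (.node (.leaf ⟨13, 0, 13, 10, [103, 101, 102]⟩) (.leaf ⟨986, 4, 987, 0, []⟩)) (.node (.leaf ⟨307, 11, 369, 13, [2553, 4131, 4129]⟩) (.leaf ⟨1351, 4, 1352, 0, []⟩))) (.node (.node (.leaf ⟨194, 11, 282, 51, [2142, 2135]⟩) (.leaf ⟨1210, 4, 550, 8, [10343, 10339, 10335, 10329, 10321, 6204]⟩)) (.node (.leaf ⟨627, 0, 722, 32, [5625, 5618, 6245]⟩) (.leaf ⟨804, 10, 1554, 0, []⟩)))) (.node (.node (.node (.leaf ⟨144, 7, 132, 4, [1121, 1112, 1063, 1068]⟩) (.leaf ⟨1116, 3, 800, 7, [9319, 9312, 7200, 7202]⟩)) (.node (.leaf ⟨626, 2, 627, 0, []⟩) (.leaf ⟨1444, 3, 1375, 7, [13413, 13404, 12568, 12576]⟩))) (.node (.node (.leaf ⟨262, 8, 381, 17, [1797, 3167, 3164, 2672]⟩) (.leaf ⟨1264, 4, 1265, 0, []⟩)) (.node (.leaf ⟨811, 3, 808, 7, [7269, 1583, 7246, 7250]⟩) (.leaf ⟨0, 12, 0, 0, []⟩))))) (.node (.node (.node (.node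 (.leaf ⟨75, 7, 63, 34, [611, 604, 596, 528]⟩) (.leaf ⟨894, 0, 1045, 76, [7712, 8328, 7687, 8206, 8807]⟩)) (.node (.leaf ⟨510, 8, 505, 46, [4700, 4686]⟩) (.leaf ⟨1403, 3, 1400, 7, [12903, 6375, 12864, 12870]⟩))) (.node (.node (.leaf ⟨65, 1, 379, 0, []⟩) (.leaf ⟨1258, 4, 426, 36, [10847, 6278, 6222, 3598]⟩)) (.node (.leaf ⟨545, 3, 661, 24, [6753, 5573]⟩) (.leaf ⟨1261, 8, 1593, 17, [11311, 8402, 7812, 14947]⟩)))) (.node (.node (.node (.leaf ⟨44, 1, 220, 0, []⟩) (.leaf ⟨1165, 4, 366, 36, [9823, 6120, 5506, 3772]⟩)) (.node (.leaf ⟨683, 8, 165, 17, [5725, 5732, 5573, 5568]⟩) (.leaf ⟨1505, 10, 1131, 9, [13927, 7959, 9503]⟩))) (.node (.node (.leaf ⟨256, 2, 459, 0, []⟩) (.leaf ⟨1300, 0, 1058, 3, [11877, 11870, 8108, 8897, 8898]⟩)) (.node (.leaf ⟨911, 2, 914, 92, [7766, 7783, 1858, 7777]⟩) (.leaf ⟨0, 12, 0, 0, []⟩)))))) (.node (.node (.node (.node (.node (.leaf ⟨38, 0, 38, 11, [359,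 357, 358]⟩) (.leaf ⟨355, 4, 1018, 0, []⟩)) (.node (.leaf ⟨113, 10, 503, 0, []⟩) (.leaf ⟨1383, 6, 1354, 2, [12647, 12644, 12400]⟩))) (.node (.node (.leaf ⟨95, 9, 354, 21, [2177, 2188, 2405, 2394]⟩) (.leaf ⟨825, 8, 832, 62, [7341, 3704, 7322, 10224, 9795, 10599, 7384]⟩)) (.node (.leaf ⟨620, 0, 598, 10, [6499, 6488, 4959]⟩) (.leaf ⟨1146, 1, 1573, 0, []⟩)))) (.node (.node (.node (.leaf ⟨171, 7, 141, 4, [1375, 1366, 1130, 1102]⟩) (.leaf ⟨1137, 4, 343, 36, [9567, 6540, 5649, 2325]⟩)) (.node (.leaf ⟨615, 7, 597, 20, [5137, 5447, 5477]⟩) (.leaf ⟨1002, 11, 1465, 13, [8398, 7532, 13671]⟩))) (.node (.node (.leaf ⟨437, 1, 446, 0, []⟩) (.leaf ⟨1090, 1, 1281, 53, [11503, 10183, 10056, 11621]⟩)) (.node (.leaf ⟨853, 7, 847, 4, [7525, 4025, 4030, 7474]⟩) (.leaf ⟨0, 12, 0, 0, []⟩))))) (.node (.node (.node (.node (.leaf ⟨102, 6, 66, 2, [871, 862, 544]⟩) (.leaf ⟨998, 7, 954, 4, [8355, 9059,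 9056, 8082]⟩)) (.node (.leaf ⟨124, 9, 601, 0, []⟩) (.leaf ⟨1425, 2, 1352, 5, [13153, 13151, 13148, 12392]⟩))) (.node (.node (.leaf ⟨414, 2, 415, 0, []⟩) (.leaf ⟨1056, 10, 958, 9, [11097, 8799, 8802]⟩)) (.node (.leaf ⟨759, 4, 185, 8, [7015, 7013, 7011, 7009, 7007, 7005]⟩) (.leaf ⟨1613, 9, 1103, 84, [15207, 13693, 7023, 6327, 11790, 11789, 9216]⟩)))) (.node (.node (.node (.leaf ⟨286, 1, 287, 0, []⟩) (.leaf ⟨1187, 4, 1188, 0, []⟩)) (.node (.leaf ⟨521, 10, 708, 9, [4504, 5304, 5981]⟩) (.leaf ⟨1514, 6, 1532, 18, [14033, 12593, 12599, 10042, 14183]⟩))) (.node (.node (.leaf ⟨207, 3, 260, 24, [3939, 3684]⟩) (.leaf ⟨1322, 3, 1314, 7, [12135, 12132, 12068, 12070]⟩)) (.node (.leaf ⟨948, 4, 455, 36, [8035, 8032, 7256, 3641]⟩) (.leaf ⟨0, 12, 0, 0, []⟩))))))) (.node (.node (.node (.node (.node (.node (.leaf ⟨3, 1, 23, 0, []⟩) (.leaf ⟨1004, 4, 271, 36, [8415, 2501, 2954, 2247]⟩)) (.node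 (.leaf ⟨206, 0, 323, 23, [4326, 4318]⟩) (.leaf ⟨1369, 4, 589, 8, [12519, 12517, 12513, 12501, 5830, 5832]⟩))) (.node (.node (.leaf ⟨339, 2, 243, 6, [2275, 1727]⟩) (.leaf ⟨1225, 6, 1215, 2, [10471, 10464, 10390]⟩)) (.node (.leaf ⟨730, 0, 503, 11, [6373, 5682, 5354]⟩) (.leaf ⟨1495, 5, 1562, 65, [14125, 14133, 14567]⟩)))) (.node (.node (.node (.leaf ⟨158, 6, 152, 2, [1255, 1250, 1208]⟩) (.leaf ⟨1127, 0, 1012, 3, [9445, 5192, 4710, 4691, 8484]⟩)) (.node (.leaf ⟨503, 7, 645, 19, [4457, 4424, 5347]⟩) (.leaf ⟨1453, 4, 677, 36, [13535, 13530, 12858, 6373]⟩))) (.node (.node (.leaf ⟨445, 6, 352, 18, [3301, 3291, 2382, 2386, 2390]⟩) (.leaf ⟨879, 1, 1272, 14, [7653, 11051, 9068, 11054, 11495]⟩)) (.node (.leaf ⟨833, 7, 789, 4, [7393, 5551, 5534, 7154]⟩) (.leaf ⟨0, 12, 0, 0, []⟩))))) (.node (.node (.node (.node (.leaf ⟨90, 4, 91, 0, []⟩) (.leaf ⟨1064, 4, 305, 36, [8933, 5445, 5499,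 2536]⟩)) (.node (.leaf ⟨579, 2, 493, 29, [4839, 4837, 4835, 4833, 4827, 4823, 4817, 1030, 4424]⟩) (.leaf ⟨671, 5, 1415, 60, [5642, 12169, 12754, 12746, 13029]⟩))) (.node (.node (.leaf ⟨401, 7, 318, 20, [2791, 2786, 2396]⟩) (.leaf ⟨944, 1, 1180, 38, [10983, 9781, 10009]⟩)) (.node (.leaf ⟨666, 9, 749, 21, [5621, 5622, 6883, 6881]⟩) (.leaf ⟨1478, 5, 1603, 65, [13857, 14731, 15079]⟩)))) (.node (.node (.node (.leaf ⟨256, 1, 257, 0, []⟩) (.leaf ⟨1177, 0, 874, 3, [9957, 9946, 9743, 9748, 7616]⟩)) (.node (.leaf ⟨585, 6, 697, 18, [4902, 5437, 5428, 1219, 5859]⟩) (.leaf ⟨1518, 1, 1042, 38, [14055, 7425, 8777]⟩))) (.node (.node (.leaf ⟨86, 8, 392, 17, [3633, 3809, 3799, 2756]⟩) (.leaf ⟨1308, 0, 1232, 3, [12005, 11996, 10400, 10553, 10554]⟩)) (.node (.leaf ⟨448, 12, 933, 91, [3544, 2625, 3237, 7911, 7909]⟩) (.leaf ⟨0, 12, 0, 0, []⟩)))))) (.node (.node (.node (.node (.node (.leaf ⟨52,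 4, 8, 8, [485, 481, 475, 471, 467, 461]⟩) (.leaf ⟨1034, 2, 800, 5, [8679, 8677, 8674, 7202]⟩)) (.node (.leaf ⟨120, 11, 137, 13, [1201, 1194, 4579]⟩) (.leaf ⟨1391, 4, 649, 36, [12771, 12768, 12281, 6616]⟩))) (.node (.node (.leaf ⟨367, 3, 305, 30, [2535, 2090]⟩) (.leaf ⟨1209, 3, 1249, 30, [10365, 10727]⟩)) (.node (.leaf ⟨743, 7, 582, 20, [6631, 6072, 6085]⟩) (.leaf ⟨1583, 9, 925, 84, [14823, 13818, 9000, 14294, 14298, 14300, 7856]⟩)))) (.node (.node (.node (.leaf ⟨182, 6, 170, 2, [1511, 1502, 1364]⟩) (.leaf ⟨404, 4, 1153, 0, []⟩)) (.node (.leaf ⟨627, 2, 667, 6, [5225, 5607]⟩) (.leaf ⟨793, 11, 1485, 13, [10629, 10618, 13799]⟩))) (.node (.node (.leaf ⟨375, 7, 438, 20, [2595, 3557, 3552]⟩) (.leaf ⟨1291, 6, 1205, 2, [11751, 11742, 10310]⟩)) (.node (.leaf ⟨884, 3, 881, 7, [7655, 7652, 7642, 7644]⟩) (.leaf ⟨0, 12, 0, 0, []⟩))))) (.node (.node (.node (.node (.leaf ⟨113, 4, 114,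 0, []⟩) (.leaf ⟨1099, 4, 1100, 0, []⟩)) (.node (.leaf ⟨501, 3, 504, 28, [5093, 4858, 5051]⟩) (.leaf ⟨1435, 6, 1412, 2, [13287, 13274, 12988]⟩))) (.node (.node (.leaf ⟨428, 2, 320, 29, [3043, 3038, 3031, 574, 2201, 2398, 2394, 2401, 2164]⟩) (.leaf ⟨821, 9, 1188, 40, [7323, 3418, 466, 1828, 8345, 11231, 10088]⟩)) (.node (.leaf ⟨328, 4, 787, 0, []⟩) (.leaf ⟨1580, 4, 1623, 42, [14788, 9616, 12219, 12197, 12223, 8678, 15335]⟩)))) (.node (.node (.node (.leaf ⟨232, 12, 63, 24, [2023, 531]⟩) (.leaf ⟨1196, 0, 1060, 3, [10213, 2712, 2538, 2522, 8910]⟩)) (.node (.leaf ⟨716, 2, 614, 29, [6113, 6107, 4648, 1166, 5690, 5694, 5538, 5547, 5134]⟩) (.leaf ⟨795, 11, 1543, 0, []⟩))) (.node (.node (.leaf ⟨311, 9, 481, 21, [3768, 3758, 4065, 4054]⟩) (.leaf ⟨1065, 1, 1337, 58, [8942, 10291, 11849, 12263]⟩)) (.node (.leaf ⟨970, 4, 971, 0, []⟩) (.leaf ⟨0, 12, 0, 0, []⟩))))))))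

def factB53 : Arr (CFact) :=
  (.node (.node (.node (.node (.node (.node (.node (.leaf ⟨13, 2, 14, 0, []⟩) (.leaf ⟨987, 4, 988, 0, []⟩)) (.node (.leaf ⟨485, 1, 487, 0, []⟩) (.leaf ⟨1352, 4, 518, 8, [12393, 12391, 5824, 5836, 12389, 12387]⟩))) (.node (.node (.leaf ⟨286, 7, 289, 20, [1913, 2141, 2138]⟩) (.leaf ⟨963, 11, 1210, 37, [8122, 3176, 10175, 10181, 7659, 5262, 10345]⟩)) (.node (.leaf ⟨721, 0, 628, 10, [6242, 6249, 5226]⟩) (.leaf ⟨1554, 7, 1489, 19, [14441, 14251, 14259]⟩)))) (.node (.node (.node (.leaf ⟨128, 6, 140, 33, [1071, 1129, 1126]⟩) (.leaf ⟨1116, 2, 1034, 5, [9319, 9309, 9302, 8678]⟩)) (.node (.leaf ⟨627, 1, 628, 0, []⟩) (.leaf ⟨1444, 2, 1422, 5, [13413, 13401, 13394, 13112]⟩))) (.node (.node (.leaf ⟨74, 10, 437, 0, []⟩) (.leaf ⟨1265, 6, 755, 2, [11369, 11360, 7006]⟩)) (.node (.leaf ⟨811, 4, 812, 0, []⟩) (.leaf ⟨0, 12, 0, 0, []⟩))))) (.node (.node (.node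 (.node (.leaf ⟨75, 4, 76, 0, []⟩) (.leaf ⟨1045, 4, 1046, 0, []⟩)) (.node (.leaf ⟨119, 1, 510, 15, [4704, 4477]⟩) (.leaf ⟨1403, 7, 1318, 4, [12903, 5676, 5066, 12090]⟩))) (.node (.node (.leaf ⟨379, 10, 107, 9, [2665, 543, 931]⟩) (.leaf ⟨1258, 7, 782, 4, [10847, 6283, 5791, 7118]⟩)) (.node (.leaf ⟨545, 4, 416, 68, [6753, 5200]⟩) (.leaf ⟨1593, 5, 1546, 72, [14953, 11301, 11297, 7456, 2885, 7189, 14348]⟩)))) (.node (.node (.node (.leaf ⟨220, 2, 221, 0, []⟩) (.leaf ⟨367, 4, 1166, 0, []⟩)) (.node (.leaf ⟨683, 9, 538, 21, [5725, 5726, 4934, 4627]⟩) (.leaf ⟨1505, 6, 1502, 18, [13927, 9737, 10938, 9277, 13909]⟩))) (.node (.node (.leaf ⟨459, 1, 90, 43, [3689, 1768, 1770, 1579, 737]⟩) (.leaf ⟨1300, 3, 1089, 7, [11877, 11872, 9104, 9114]⟩)) (.node (.leaf ⟨241, 4, 915, 0, []⟩) (.leaf ⟨0, 12, 0, 0, []⟩)))))) (.node (.node (.node (.node (.node (.leaf ⟨38, 1, 39, 0, []⟩) (.leaf ⟨1018,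 6, 811, 2, [8553, 3066, 7268]⟩)) (.node (.leaf ⟨113, 11, 504, 0, []⟩) (.leaf ⟨1383, 0, 1352, 3, [12647, 12644, 12503, 12506, 12392]⟩))) (.node (.node (.leaf ⟨352, 3, 328, 30, [2392, 2399]⟩) (.leaf ⟨1236, 4, 1237, 0, []⟩)) (.node (.leaf ⟨619, 7, 620, 20, [5467, 6138, 6503]⟩) (.leaf ⟨1573, 10, 1251, 9, [14697, 11387, 11394]⟩)))) (.node (.node (.node (.leaf ⟨142, 7, 130, 4, [1105, 1379, 1376, 1056]⟩) (.leaf ⟨1137, 7, 817, 4, [9567, 6542, 4821, 7302]⟩)) (.node (.leaf ⟨594, 9, 178, 21, [4948, 4952, 5479, 5146]⟩) (.leaf ⟨1174, 9, 1465, 21, [10927, 8546, 7532, 13671]⟩))) (.node (.node (.leaf ⟨446, 6, 379, 18, [3433, 3183, 2688, 644, 2664]⟩) (.leaf ⟨1281, 10, 871, 9, [11625, 9869, 9876]⟩)) (.node (.leaf ⟨321, 4, 854, 0, []⟩) (.leaf ⟨0, 12, 0, 0, []⟩))))) (.node (.node (.node (.node (.leaf ⟨102, 3, 86, 7, [871, 864, 692, 700]⟩) (.leaf ⟨1082, 4, 1083, 0, []⟩)) (.node (.leaf ⟨124,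 10, 602, 0, []⟩) (.leaf ⟨1425, 4, 711, 36, [13153, 5402, 5837, 6017]⟩))) (.node (.node (.leaf ⟨415, 1, 81, 12, [2921, 2919, 2917, 2915, 2911, 2903, 2893, 2881, 667]⟩) (.leaf ⟨874, 11, 888, 13, [8386, 8885, 11097]⟩)) (.node (.leaf ⟨628, 12, 758, 91, [5261, 6196, 1551, 7017, 7015]⟩) (.leaf ⟨872, 1, 1613, 94, [7633, 8348, 11226, 15209]⟩)))) (.node (.node (.node (.leaf ⟨287, 2, 185, 29, [1897, 1895, 1893, 1891, 1885, 1883, 1879, 476, 1546]⟩) (.leaf ⟨1188, 6, 1078, 2, [10089, 10080, 9034]⟩)) (.node (.leaf ⟨708, 1, 709, 0, []⟩) (.leaf ⟨1482, 0, 1532, 10, [13783, 9183, 14183]⟩))) (.node (.node (.leaf ⟨207, 6, 203, 26, [3939, 3686]⟩) (.leaf ⟨1322, 4, 746, 8, [12135, 12131, 12127, 12121, 12091, 6692]⟩)) (.node (.leaf ⟨948, 7, 942, 34, [8035, 8028, 7981, 7986]⟩) (.leaf ⟨0, 12, 0, 0, []⟩))))))) (.node (.node (.node (.node (.node (.node (.leaf ⟨23, 10, 3, 9, [233, 35, 39]⟩) (.leaf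 ⟨822, 7, 845, 20, [8423, 8416, 7465]⟩)) (.node (.leaf ⟨206, 1, 206, 15, [4326, 4317, 4327]⟩) (.leaf ⟨1350, 0, 1369, 31, [12388, 5304, 12521]⟩))) (.node (.node (.leaf ⟨276, 8, 69, 17, [1857, 1862, 2281, 2272]⟩) (.leaf ⟨1225, 3, 1220, 7, [10471, 10466, 10408, 10410]⟩)) (.node (.leaf ⟨730, 1, 731, 0, []⟩) (.leaf ⟨1102, 9, 1562, 21, [10201, 10136, 11911, 14563]⟩)))) (.node (.node (.node (.leaf ⟨158, 0, 122, 3, [1255, 1250, 1249, 1252, 1028]⟩) (.leaf ⟨1127, 3, 1011, 7, [9445, 5185, 8466, 8474]⟩)) (.node (.leaf ⟨581, 2, 503, 45, [5343, 5344, 5353]⟩) (.leaf ⟨920, 11, 1453, 37, [7826, 1864, 8483, 12340, 12338, 5977, 13545]⟩))) (.node (.node (.leaf ⟨445, 0, 257, 10, [3301, 3296, 1768]⟩) (.leaf ⟨1105, 9, 879, 21, [11040, 10785, 11489, 11497]⟩)) (.node (.leaf ⟨205, 4, 834, 0, []⟩) (.leaf ⟨0, 12, 0, 0, []⟩))))) (.node (.node (.node (.node (.leaf ⟨91, 6, 61, 2, [745, 738, 518]⟩) (.leaf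 ⟨1064, 7, 867, 4, [8933, 6505, 6735, 7592]⟩)) (.node (.leaf ⟨579, 12, 578, 14, [4840, 4425, 998, 4424, 4841, 4839]⟩) (.leaf ⟨1415, 10, 1257, 88, [13033, 6421, 8014, 8016, 7121, 6324, 10821]⟩))) (.node (.node (.leaf ⟨401, 1, 402, 0, []⟩) (.leaf ⟨941, 10, 837, 9, [10953, 7821, 7828]⟩)) (.node (.leaf ⟨751, 8, 552, 17, [6881, 6817, 4661, 4659]⟩) (.leaf ⟨1582, 2, 1604, 0, []⟩)))) (.node (.node (.node (.leaf ⟨257, 2, 197, 29, [1769, 1767, 1765, 1763, 1759, 1755, 1749, 464, 1578]⟩) (.leaf ⟨1177, 3, 1085, 7, [9957, 9948, 9076, 9082]⟩)) (.node (.leaf ⟨640, 12, 695, 14, [5326, 4926, 1450, 5859, 5857, 5855]⟩) (.leaf ⟨1518, 4, 1509, 42, [14055, 7128, 11952, 9751, 11133, 7094, 13966]⟩))) (.node (.node (.leaf ⟨89, 9, 393, 21, [3025, 3599, 3807, 2765]⟩) (.leaf ⟨1308, 3, 1147, 7, [12005, 11998, 9608, 9616]⟩)) (.node (.leaf ⟨448, 4, 934, 68, [7912, 7908]⟩) (.leaf ⟨0, 12, 0, 0, []⟩))))))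 (.node (.node (.node (.node (.node (.leaf ⟨9, 4, 53, 0, []⟩) (.leaf ⟨1034, 4, 289, 8, [8679, 8677, 8673, 8671, 8667, 8665]⟩)) (.node (.leaf ⟨174, 1, 167, 48, [1416, 4579, 1339]⟩) (.leaf ⟨1057, 11, 1391, 37, [8898, 11193, 9263, 12143, 12138, 6690, 12777]⟩))) (.node (.node (.leaf ⟨308, 6, 366, 18, [2097, 2095, 2093, 2537, 2527]⟩) (.leaf ⟨1249, 4, 1250, 0, []⟩)) (.node (.leaf ⟨743, 2, 646, 6, [6631, 5414]⟩) (.leaf ⟨1059, 1, 1583, 94, [8925, 8922, 11220, 14825]⟩)))) (.node (.node (.node (.leaf ⟨182, 0, 140, 3, [1511, 1502, 1501, 1508, 1100]⟩) (.leaf ⟨1153, 6, 944, 2, [9705, 3310, 8004]⟩)) (.node (.leaf ⟨666, 6, 563, 18, [5602, 5609, 5226, 5261, 4787]⟩) (.leaf ⟨1381, 9, 1485, 21, [12632, 10623, 10618, 13799]⟩))) (.node (.node (.leaf ⟨373, 8, 440, 17, [2590, 3557, 3554, 3216]⟩) (.leaf ⟨1291, 0, 1286, 3, [11751, 11742, 10304, 11681, 11684]⟩)) (.node (.leaf ⟨632, 5, 884, 82, [6911,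 7649, 7647, 7657]⟩) (.leaf ⟨0, 12, 0, 0, []⟩))))) (.node (.node (.node (.node (.leaf ⟨114, 4, 115, 0, []⟩) (.leaf ⟨1100, 0, 896, 35, [9193, 9190, 9002, 8329, 7714]⟩)) (.node (.leaf ⟨131, 9, 610, 21, [4461, 5097, 4452, 5070]⟩) (.leaf ⟨1435, 0, 1422, 3, [13287, 13274, 12978, 13105, 13112]⟩))) (.node (.node (.leaf ⟨357, 12, 400, 28, [2426, 3049, 3044, 2826]⟩) (.leaf ⟨844, 8, 1104, 41, [7459, 1750, 688, 4147, 10015, 11229, 9222]⟩)) (.node (.leaf ⟨787, 3, 784, 7, [7145, 2398, 7126, 7128]⟩) (.leaf ⟨1623, 4, 1480, 36, [15337, 14784, 13781, 13771]⟩)))) (.node (.node (.node (.leaf ⟨55, 8, 45, 46, [2016, 1695, 2021]⟩) (.leaf ⟨1196, 3, 900, 7, [10213, 2705, 7728, 7730]⟩)) (.node (.leaf ⟨660, 3, 684, 28, [5562, 6121, 6114]⟩) (.leaf ⟨1543, 1, 851, 38, [14313, 7446, 7509]⟩))) (.node (.node (.leaf ⟨481, 2, 482, 0, []⟩) (.leaf ⟨1337, 10, 1171, 9, [12265, 8942, 9897]⟩)) (.node (.leaf ⟨971,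 3, 910, 7, [8169, 8166, 7754, 7756]⟩) (.leaf ⟨0, 12, 0, 0, []⟩))))))))

def factB54 : Arr (CFact) :=
  (.node (.node (.node (.node (.node (.node (.node (.leaf ⟨14, 1, 2, 12, [107, 103, 99, 95, 91, 87, 83, 77, 29]⟩) (.leaf ⟨988, 2, 894, 5, [8299, 8297, 8294, 7710]⟩)) (.node (.leaf ⟨487, 2, 440, 50, [4203, 4122, 2225, 3223, 3216]⟩) (.leaf ⟨605, 4, 1353, 0, []⟩))) (.node (.node (.leaf ⟨54, 10, 317, 0, []⟩) (.leaf ⟨1210, 1, 1049, 38, [10347, 9209, 9202]⟩)) (.node (.leaf ⟨565, 0, 720, 32, [5265, 6251, 6241]⟩) (.leaf ⟨1554, 4, 1508, 93, [14441, 7230, 11683, 7731, 12045, 10574, 13954]⟩)))) (.node (.node (.node (.leaf ⟨139, 0, 127, 31, [1100, 1131, 1053]⟩) (.leaf ⟨1116, 4, 751, 36, [9319, 9314, 8699, 6895]⟩)) (.node (.leaf ⟨628, 6, 560, 18, [5227, 5225, 5221, 1087, 4677]⟩) (.leaf ⟨1444, 7, 1314, 4, [13413, 13402, 12872, 12070]⟩))) (.node (.node (.leaf ⟨437, 7, 381, 19, [3179,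 1681, 2675]⟩) (.leaf ⟨1265, 0, 1145, 3, [11369, 11360, 10775, 10782, 9604]⟩)) (.node (.leaf ⟨812, 6, 788, 2, [7275, 7270, 7148]⟩) (.leaf ⟨0, 12, 0, 0, []⟩))))) (.node (.node (.node (.node (.leaf ⟨76, 6, 64, 2, [619, 612, 532]⟩) (.leaf ⟨1046, 6, 895, 2, [8811, 8809, 7712]⟩)) (.node (.leaf ⟨119, 2, 512, 16, [4704, 4478]⟩) (.leaf ⟨1398, 1, 1403, 102, [12854, 12342, 8498, 12878, 12905]⟩))) (.node (.node (.leaf ⟨379, 0, 313, 10, [2665, 863, 2115]⟩) (.leaf ⟨937, 11, 1258, 37, [7942, 2278, 3526, 4382, 4378, 3925, 10857]⟩)) (.node (.leaf ⟨545, 6, 659, 26, [6753, 5733]⟩) (.leaf ⟨1546, 5, 1527, 90, [14955, 14949, 14857, 14121]⟩)))) (.node (.node (.node (.leaf ⟨221, 1, 222, 0, []⟩) (.leaf ⟨1166, 6, 868, 2, [9835, 2530, 7600]⟩)) (.node (.leaf ⟨615, 11, 659, 13, [5480, 5717, 5725]⟩) (.leaf ⟨1505, 0, 1461, 10, [13927, 7801, 13650]⟩))) (.node (.node (.leaf ⟨459, 7, 202, 20, [3689, 1774,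 1590]⟩) (.leaf ⟨1300, 2, 1106, 5, [11877, 11865, 4952, 9238]⟩)) (.node (.leaf ⟨915, 0, 820, 3, [7787, 2583, 2580, 2265, 7316]⟩) (.leaf ⟨0, 12, 0, 0, []⟩)))))) (.node (.node (.node (.node (.node (.leaf ⟨39, 2, 23, 29, [363, 359, 355, 349, 341, 336, 329, 58, 232]⟩) (.leaf ⟨1018, 0, 831, 3, [8553, 3066, 4339, 4340, 7378]⟩)) (.node (.leaf ⟨504, 1, 131, 38, [4459, 1067, 1063]⟩) (.leaf ⟨1383, 2, 1382, 5, [12647, 12643, 4609, 12642]⟩))) (.node (.node (.leaf ⟨353, 0, 203, 32, [2399, 2203, 1595]⟩) (.leaf ⟨1237, 6, 795, 2, [10603, 10590, 7182]⟩)) (.node (.leaf ⟨657, 11, 541, 13, [6497, 5779, 4630]⟩) (.leaf ⟨1573, 2, 1465, 50, [14697, 12053, 12062, 7532, 13671]⟩)))) (.node (.node (.node (.leaf ⟨171, 4, 172, 0, []⟩) (.leaf ⟨347, 4, 1138, 0, []⟩)) (.node (.leaf ⟨597, 8, 617, 17, [4955, 5479, 5467, 5464]⟩) (.leaf ⟨1375, 1, 1466, 0, []⟩))) (.node (.node (.leaf ⟨446, 0, 305, 10, [3433,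 3187, 2093]⟩) (.leaf ⟨463, 4, 1282, 0, []⟩)) (.node (.leaf ⟨854, 6, 848, 2, [7531, 3675, 7484]⟩) (.leaf ⟨0, 12, 0, 0, []⟩))))) (.node (.node (.node (.node (.leaf ⟨102, 2, 89, 5, [871, 859, 213, 724]⟩) (.leaf ⟨1083, 6, 998, 2, [9067, 9058, 8354]⟩)) (.node (.leaf ⟨602, 7, 539, 19, [4971, 4930, 4934]⟩) (.leaf ⟨1425, 7, 1372, 4, [13153, 5835, 6636, 12550]⟩))) (.node (.node (.leaf ⟨87, 11, 415, 13, [841, 832, 2923]⟩) (.leaf ⟨992, 1, 1099, 102, [8885, 11097, 7676, 10183, 10058]⟩)) (.node (.leaf ⟨628, 4, 759, 68, [7018, 7014]⟩) (.leaf ⟨863, 11, 1614, 0, []⟩)))) (.node (.node (.node (.leaf ⟨287, 12, 286, 14, [1898, 1547, 446, 1546, 1899, 1897]⟩) (.leaf ⟨1188, 3, 996, 7, [10089, 10082, 8340, 8342]⟩)) (.node (.leaf ⟨709, 3, 643, 44, [5995, 5989, 4520, 1395, 5337]⟩) (.leaf ⟨1514, 7, 1518, 74, [14184, 14187, 13789, 13976, 14059]⟩))) (.node (.node (.leaf ⟨207, 7, 473, 25, [3939, 3931]⟩)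 (.leaf ⟨1207, 1, 1322, 102, [10330, 10839, 7824, 12106, 12137]⟩)) (.node (.leaf ⟨455, 4, 949, 0, []⟩) (.leaf ⟨0, 12, 0, 0, []⟩))))))) (.node (.node (.node (.node (.node (.node (.leaf ⟨23, 0, 23, 10, [233, 37, 232]⟩) (.leaf ⟨622, 4, 1005, 0, []⟩)) (.node (.leaf ⟨206, 2, 260, 16, [4326, 4314]⟩) (.leaf ⟨698, 12, 1368, 91, [6644, 4771, 5320, 12521, 12519]⟩))) (.node (.node (.leaf ⟨58, 1, 340, 0, []⟩) (.leaf ⟨1225, 4, 395, 8, [10471, 10461, 10453, 10450, 10441, 10431]⟩)) (.node (.leaf ⟨731, 2, 701, 50, [6379, 6374, 5675, 5924, 5930]⟩) (.leaf ⟨890, 8, 1562, 17, [10912, 11741, 11920, 14563]⟩)))) (.node (.node (.node (.leaf ⟨158, 7, 158, 4, [1255, 1250, 1249, 1254]⟩) (.leaf ⟨1127, 2, 1008, 5, [9445, 5188, 4204, 8450]⟩)) (.node (.leaf ⟨503, 2, 610, 6, [5355, 5065]⟩) (.leaf ⟨1453, 1, 847, 38, [13547, 7828, 7477]⟩))) (.node (.node (.leaf ⟨404, 12, 444, 22, [2845, 2201, 2411, 3305,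 3301]⟩) (.leaf ⟨1272, 9, 755, 21, [11497, 7653, 9893, 11023]⟩)) (.node (.leaf ⟨834, 4, 835, 0, []⟩) (.leaf ⟨0, 12, 0, 0, []⟩))))) (.node (.node (.node (.node (.leaf ⟨91, 0, 61, 3, [745, 738, 571, 576, 518]⟩) (.leaf ⟨306, 4, 1065, 0, []⟩)) (.node (.leaf ⟨578, 1, 578, 15, [4843, 4839]⟩) (.leaf ⟨1124, 9, 1351, 84, [9401, 13030, 13033, 6675, 1347, 4991, 12390]⟩))) (.node (.node (.leaf ⟨402, 6, 327, 18, [2795, 2791, 2785, 2782, 2383]⟩) (.leaf ⟨950, 11, 853, 13, [8711, 8706, 10953]⟩)) (.node (.leaf ⟨751, 9, 565, 21, [6881, 6820, 5272, 4793]⟩) (.leaf ⟨1604, 1, 1198, 43, [15083, 14800, 13216, 12178, 10241]⟩)))) (.node (.node (.node (.leaf ⟨198, 2, 257, 6, [1583, 1771]⟩) (.leaf ⟨1177, 2, 1076, 5, [9957, 9941, 2562, 9028]⟩)) (.node (.leaf ⟨640, 1, 696, 15, [5866, 5854]⟩) (.leaf ⟨971, 1, 1519, 0, []⟩))) (.node (.node (.leaf ⟨398, 2, 468, 0, []⟩) (.leaf ⟨1308, 2, 1138, 5, [12005,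 11993, 4264, 9580]⟩)) (.node (.leaf ⟨448, 5, 932, 73, [7912, 7907]⟩) (.leaf ⟨0, 12, 0, 0, []⟩)))))) (.node (.node (.node (.node (.node (.leaf ⟨53, 6, 53, 2, [491, 89, 490]⟩) (.leaf ⟨803, 3, 1033, 99, [7210, 2370, 8683, 8679]⟩)) (.node (.leaf ⟨532, 9, 137, 21, [4573, 1197, 1194, 4579]⟩) (.leaf ⟨1391, 1, 902, 38, [12779, 8896, 8109]⟩))) (.node (.node (.leaf ⟨306, 9, 96, 21, [2093, 2537, 2528, 2100]⟩) (.leaf ⟨1250, 6, 1145, 2, [10731, 10724, 9604]⟩)) (.node (.leaf ⟨591, 6, 743, 33, [6038, 6050, 6635]⟩) (.leaf ⟨821, 1, 1584, 0, []⟩)))) (.node (.node (.node (.leaf ⟨182, 3, 119, 7, [1511, 1504, 1042, 1012]⟩) (.leaf ⟨1153, 0, 814, 3, [9705, 3310, 1774, 3416, 7290]⟩)) (.node (.leaf ⟨667, 7, 549, 20, [5609, 5269, 4798]⟩) (.leaf ⟨767, 9, 1486, 0, []⟩))) (.node (.node (.leaf ⟨438, 11, 272, 13, [3561, 2606, 1846]⟩) (.leaf ⟨1291, 7, 979, 4, [11751, 11742, 10304, 8234]⟩)) (.node (.leaf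 ⟨632, 4, 885, 0, []⟩) (.leaf ⟨0, 12, 0, 0, []⟩))))) (.node (.node (.node (.node (.leaf ⟨115, 4, 116, 0, []⟩) (.leaf ⟨1100, 7, 972, 34, [9193, 9188, 8245, 8172]⟩)) (.node (.leaf ⟨504, 4, 296, 91, [5097, 4447, 4412, 3391]⟩) (.leaf ⟨1435, 3, 1336, 7, [13287, 13276, 12242, 12250]⟩))) (.node (.node (.leaf ⟨357, 0, 252, 23, [3050, 2832]⟩) (.leaf ⟨1061, 10, 925, 9, [11225, 7541, 7863]⟩)) (.node (.leaf ⟨787, 4, 788, 0, []⟩) (.leaf ⟨1623, 2, 1624, 0, []⟩)))) (.node (.node (.node (.leaf ⟨55, 12, 237, 46, [2026, 1706]⟩) (.leaf ⟨1196, 7, 1161, 4, [10213, 2712, 2538, 9786]⟩)) (.node (.leaf ⟨615, 2, 716, 6, [5137, 6121]⟩) (.leaf ⟨1543, 4, 1485, 77, [14313, 7195, 5555, 1267, 5860, 12618, 13802]⟩))) (.node (.node (.leaf ⟨482, 2, 313, 6, [4075, 4063]⟩) (.leaf ⟨1337, 4, 1338, 0, []⟩)) (.node (.leaf ⟨971, 4, 972, 0, []⟩) (.leaf ⟨0, 12, 0, 0, []⟩))))))))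

def factB55 : Arr (CFact) :=
  (.node (.node (.node (.node (.node (.node (.node (.leaf ⟨14, 0, 14, 11, [107, 105, 106]⟩) (.leaf ⟨988, 4, 989, 0, []⟩)) (.node (.leaf ⟨487, 3, 441, 44, [4203, 4127, 1728, 3269, 3261]⟩) (.leaf ⟨1353, 3, 1352, 7, [12397, 4997, 12390, 12392]⟩))) (.node (.node (.leaf ⟨56, 1, 318, 0, []⟩) (.leaf ⟨389, 4, 1211, 0, []⟩)) (.node (.leaf ⟨719, 0, 566, 10, [6234, 6253, 4792]⟩) (.leaf ⟨1517, 0, 1554, 31, [14048, 13952, 14445]⟩)))) (.node (.node (.node (.leaf ⟨140, 7, 140, 34, [1101, 1119, 1133, 1100]⟩) (.leaf ⟨318, 4, 1117, 0, []⟩)) (.node (.leaf ⟨628, 2, 629, 0, []⟩) (.leaf ⟨1226, 1, 1444, 14, [10817, 10826, 9557, 13121, 13419]⟩))) (.node (.node (.leaf ⟨386, 2, 437, 45, [2693, 2717, 3181]⟩) (.leaf ⟨1265, 3, 1223, 7, [11369, 11362, 10451, 10452]⟩)) (.node (.leaf ⟨812, 3, 810, 7, [7275, 7272, 7263, 7260]⟩) (.leaf ⟨0, 12, 0, 0, []⟩))))) (.node (.node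 (.node (.node (.leaf ⟨76, 3, 69, 7, [619, 614, 548, 550]⟩) (.leaf ⟨1046, 4, 1047, 0, []⟩)) (.node (.leaf ⟨512, 12, 182, 24, [4717, 1517]⟩) (.leaf ⟨1403, 4, 1404, 0, []⟩))) (.node (.node (.leaf ⟨379, 2, 380, 0, []⟩) (.leaf ⟨1258, 1, 1009, 38, [10861, 8455, 8459]⟩)) (.node (.leaf ⟨545, 8, 546, 46, [6753, 6480]⟩) (.leaf ⟨1531, 6, 1546, 2, [14177, 14127, 14957]⟩)))) (.node (.node (.node (.leaf ⟨222, 2, 223, 0, []⟩) (.leaf ⟨1166, 0, 980, 3, [9835, 2530, 1791, 3482, 8248]⟩)) (.node (.leaf ⟨683, 2, 684, 0, []⟩) (.leaf ⟨1469, 5, 1505, 55, [13697, 13413, 13410, 7776, 2236, 9501, 13929]⟩))) (.node (.node (.leaf ⟨459, 2, 255, 6, [3689, 1767]⟩) (.leaf ⟨930, 1, 1300, 14, [7888, 11199, 10385, 10504, 11885]⟩)) (.node (.leaf ⟨915, 4, 499, 36, [7787, 1722, 5083, 4439]⟩) (.leaf ⟨0, 12, 0, 0, []⟩)))))) (.node (.node (.node (.node (.node (.leaf ⟨39, 12, 38, 14, [364, 233, 34, 232, 365, 363]⟩)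 (.leaf ⟨1018, 3, 769, 7, [8553, 3070, 7056, 7060]⟩)) (.node (.leaf ⟨114, 1, 505, 0, []⟩) (.leaf ⟨582, 5, 1383, 65, [4888, 12395, 12651]⟩))) (.node (.node (.leaf ⟨202, 0, 354, 10, [1592, 2413, 2394]⟩) (.leaf ⟨1237, 0, 812, 3, [10603, 10590, 7501, 7504, 7274]⟩)) (.node (.leaf ⟨595, 10, 661, 9, [4949, 5535, 6497]⟩) (.leaf ⟨1573, 0, 1547, 10, [14697, 9615, 14350]⟩)))) (.node (.node (.node (.leaf ⟨172, 6, 142, 2, [1389, 1378, 1104]⟩) (.leaf ⟨1138, 4, 1139, 0, []⟩)) (.node (.leaf ⟨602, 10, 542, 9, [5134, 5447, 5475]⟩) (.leaf ⟨1466, 8, 1207, 17, [13677, 12747, 12748, 12141]⟩))) (.node (.node (.leaf ⟨446, 9, 263, 21, [3433, 3184, 2726, 1805]⟩) (.leaf ⟨1282, 6, 975, 2, [11629, 3762, 8208]⟩)) (.node (.leaf ⟨854, 0, 842, 3, [7531, 3675, 3976, 4417, 7452]⟩) (.leaf ⟨0, 12, 0, 0, []⟩))))) (.node (.node (.node (.node (.leaf ⟨102, 7, 66, 4, [871, 862, 543, 544]⟩) (.leaf ⟨1083, 3, 1079,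 7, [9067, 9060, 9034, 9036]⟩)) (.node (.leaf ⟨602, 4, 207, 61, [4971, 1042, 283, 33, 222, 460, 3951]⟩) (.leaf ⟨975, 11, 1425, 37, [8214, 12155, 12151, 6987, 1448, 6046, 13163]⟩))) (.node (.node (.leaf ⟨297, 3, 415, 44, [2304, 2888, 2881, 667, 2923]⟩) (.leaf ⟨1056, 9, 1043, 21, [11097, 7679, 8151, 10187]⟩)) (.node (.leaf ⟨628, 5, 757, 73, [7018, 7013]⟩) (.leaf ⟨1614, 1, 1162, 38, [15213, 10087, 10078]⟩)))) (.node (.node (.node (.leaf ⟨286, 1, 286, 15, [1901, 1897]⟩) (.leaf ⟨1188, 2, 1001, 5, [10089, 10077, 10075, 8364]⟩)) (.node (.leaf ⟨709, 6, 588, 18, [5995, 5979, 4902, 4904, 4906]⟩) (.leaf ⟨789, 9, 1533, 0, []⟩))) (.node (.node (.leaf ⟨207, 9, 47, 27, [3939, 1779]⟩) (.leaf ⟨1322, 10, 1108, 9, [12141, 10330, 9260]⟩)) (.node (.leaf ⟨949, 3, 811, 7, [8045, 3635, 3362, 7268]⟩) (.leaf ⟨0, 12, 0, 0, []⟩))))))) (.node (.node (.node (.node (.node (.node (.leaf ⟨23, 2, 24, 0,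 []⟩) (.leaf ⟨1005, 6, 935, 2, [8429, 5166, 7922]⟩)) (.node (.leaf ⟨206, 3, 207, 24, [4326, 4311]⟩) (.leaf ⟨698, 4, 1369, 68, [12524, 12518]⟩))) (.node (.node (.leaf ⟨340, 10, 106, 9, [2285, 985, 994]⟩) (.leaf ⟨826, 11, 1225, 100, [7351, 2276, 3526, 4382, 4378, 3923, 10477]⟩)) (.node (.leaf ⟨731, 6, 670, 18, [6379, 6373, 5680, 1212, 5636]⟩) (.leaf ⟨808, 8, 1563, 0, []⟩)))) (.node (.node (.node (.leaf ⟨158, 4, 159, 0, []⟩) (.leaf ⟨1127, 4, 1128, 0, []⟩)) (.node (.leaf ⟨133, 1, 646, 0, []⟩) (.leaf ⟨677, 4, 1454, 0, []⟩))) (.node (.node (.leaf ⟨404, 0, 256, 23, [3308, 3296]⟩) (.leaf ⟨884, 8, 1090, 62, [7655, 11029, 7006, 11501, 11487, 11480, 9118]⟩)) (.node (.leaf ⟨835, 4, 836, 0, []⟩) (.leaf ⟨0, 12, 0, 0, []⟩))))) (.node (.node (.node (.node (.leaf ⟨91, 2, 87, 5, [745, 735, 733, 708]⟩) (.leaf ⟨1065, 6, 985, 2, [8941, 3461, 8288]⟩)) (.node (.leaf ⟨578, 2, 493, 16, [4843, 4840]⟩)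 (.leaf ⟨780, 1, 1415, 101, [8628, 10823, 13035]⟩))) (.node (.node (.leaf ⟨356, 12, 401, 22, [2423, 2374, 2381, 2797, 2795]⟩) (.leaf ⟨766, 1, 1004, 48, [7981, 10953, 8419]⟩)) (.node (.leaf ⟨751, 2, 720, 29, [6881, 6822, 5240, 1430, 4677, 6343, 6346, 6355, 6268]⟩) (.leaf ⟨1604, 2, 1581, 6, [15083, 14799]⟩)))) (.node (.node (.node (.leaf ⟨256, 6, 201, 18, [1768, 1773, 1584, 1586, 1588]⟩) (.leaf ⟨1177, 4, 658, 36, [9957, 9953, 9049, 6502]⟩)) (.node (.leaf ⟨696, 12, 525, 15, [5869, 5319]⟩) (.leaf ⟨1519, 10, 1046, 9, [14061, 11937, 11944]⟩))) (.node (.node (.leaf ⟨468, 2, 426, 6, [3821, 3598]⟩) (.leaf ⟨1308, 7, 1113, 4, [12005, 11996, 10400, 9292]⟩)) (.node (.leaf ⟨932, 0, 928, 31, [7917, 4257, 7896]⟩) (.leaf ⟨0, 12, 0, 0, []⟩)))))) (.node (.node (.node (.node (.node (.leaf ⟨53, 4, 54, 0, []⟩) (.leaf ⟨1029, 2, 801, 5, [8665, 8683, 8680, 7204]⟩)) (.node (.leaf ⟨120, 9, 116, 21,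 [4579, 1159, 1156, 4565]⟩) (.leaf ⟨649, 4, 1392, 0, []⟩))) (.node (.node (.leaf ⟨303, 2, 368, 0, []⟩) (.leaf ⟨1250, 0, 755, 3, [10731, 10724, 10681, 10686, 7006]⟩)) (.node (.leaf ⟨582, 11, 692, 13, [6633, 6637, 5838]⟩) (.leaf ⟨1584, 9, 1386, 21, [14829, 7355, 9471, 12703]⟩)))) (.node (.node (.node (.leaf ⟨182, 2, 114, 5, [1511, 1499, 1496, 1000]⟩) (.leaf ⟨1153, 3, 919, 7, [9705, 3316, 7802, 7810]⟩)) (.node (.leaf ⟨552, 11, 667, 13, [4785, 5611, 5602]⟩) (.leaf ⟨1486, 1, 1370, 22, [13805, 12408, 13129, 13124]⟩))) (.node (.node (.leaf ⟨270, 7, 449, 20, [2232, 3223, 3555]⟩) (.leaf ⟨1291, 4, 664, 8, [11751, 11739, 11733, 11725, 11713, 6189]⟩)) (.node (.leaf ⟨885, 3, 878, 7, [7661, 6911, 6914, 7638]⟩) (.leaf ⟨0, 12, 0, 0, []⟩))))) (.node (.node (.node (.node (.leaf ⟨116, 4, 117, 0, []⟩) (.leaf ⟨567, 5, 1100, 60, [6353, 8832, 8834, 8246, 9197]⟩)) (.node (.leaf ⟨240, 4, 513, 61,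 [4240, 502, 2296, 5101, 4459, 1000, 4484]⟩) (.leaf ⟨1435, 2, 1394, 5, [13287, 13271, 13266, 12800]⟩))) (.node (.node (.leaf ⟨357, 1, 399, 15, [3050, 2785]⟩) (.leaf ⟨1091, 8, 843, 17, [11079, 9837, 9840, 11225]⟩)) (.node (.leaf ⟨788, 3, 786, 7, [7149, 7146, 7141, 7138]⟩) (.leaf ⟨1624, 1, 946, 43, [15341, 15329, 15283, 15103, 8021]⟩)))) (.node (.node (.node (.leaf ⟨55, 10, 75, 47, [2016, 1684]⟩) (.leaf ⟨1161, 11, 990, 13, [10221, 10214, 9973]⟩)) (.node (.leaf ⟨658, 12, 715, 53, [5557, 5440, 5446, 6121, 6113]⟩) (.leaf ⟨1528, 0, 1543, 31, [14140, 13820, 14317]⟩))) (.node (.node (.leaf ⟨482, 1, 482, 12, [4075, 4055, 4047, 4039, 4033, 2568, 868, 2115, 4077]⟩) (.leaf ⟨1338, 4, 1339, 0, []⟩)) (.node (.leaf ⟨972, 3, 905, 7, [8173, 8170, 7758, 7746]⟩) (.leaf ⟨0, 12, 0, 0, []⟩))))))))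

def factB56 : Arr (CFact) :=
  (.node (.node (.node (.node (.node (.node (.node (.leaf ⟨2, 11, 14, 13, [30, 24, 109]⟩) (.leaf ⟨989, 4, 990, 0, []⟩)) (.node (.leaf ⟨487, 6, 329, 18, [4203, 4121, 2228, 816, 2206]⟩) (.leaf ⟨1353, 4, 1354, 0, []⟩))) (.node (.node (.leaf ⟨318, 10, 68, 9, [2159, 578, 583]⟩) (.leaf ⟨1211, 6, 771, 2, [10351, 2744, 7072]⟩)) (.node (.leaf ⟨721, 6, 549, 18, [6242, 6247, 4666, 1530, 4650]⟩) (.leaf ⟨1484, 3, 1554, 99, [14029, 13729, 13950, 14445]⟩)))) (.node (.node (.node (.leaf ⟨128, 7, 128, 4, [1053, 1133, 1119, 1052]⟩) (.leaf ⟨1117, 6, 1002, 2, [9327, 3975, 8390]⟩)) (.node (.leaf ⟨629, 1, 630, 0, []⟩) (.leaf ⟨1444, 10, 1211, 9, [13423, 10508, 10359]⟩))) (.node (.node (.leaf ⟨437, 2, 385, 6, [3183, 2687]⟩) (.leaf ⟨1265, 2, 1216, 5, [11369, 11357, 3582, 10398]⟩)) (.node (.leaf ⟨661, 5, 812, 82, [6485, 6493, 7257, 7279]⟩) (.leaf ⟨0, 12, 0, 0, []⟩)))))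 (.node (.node (.node (.node (.leaf ⟨76, 7, 46, 4, [619, 612, 600, 456]⟩) (.leaf ⟨1047, 7, 891, 34, [8815, 8812, 8328, 7692]⟩)) (.node (.leaf ⟨182, 1, 182, 15, [4719, 4480]⟩) (.leaf ⟨1404, 3, 1402, 7, [12911, 12904, 12882, 12890]⟩))) (.node (.node (.leaf ⟨380, 1, 381, 0, []⟩) (.leaf ⟨1127, 1, 1190, 94, [9452, 8459, 10863, 10848]⟩)) (.node (.leaf ⟨747, 11, 657, 13, [6751, 6748, 5538]⟩) (.leaf ⟨1533, 3, 1546, 7, [14220, 14218, 14132, 14957]⟩)))) (.node (.node (.node (.leaf ⟨223, 1, 224, 0, []⟩) (.leaf ⟨1166, 3, 1061, 7, [9835, 2536, 8910, 8914]⟩)) (.node (.leaf ⟨684, 1, 154, 43, [5743, 5725, 5726, 4931, 1229]⟩) (.leaf ⟨1505, 2, 1506, 0, []⟩))) (.node (.node (.leaf ⟨459, 5, 430, 82, [3689, 3421, 2337, 3096]⟩) (.leaf ⟨1300, 4, 1301, 0, []⟩)) (.node (.leaf ⟨349, 4, 916, 0, []⟩) (.leaf ⟨0, 12, 0, 0, []⟩)))))) (.node (.node (.node (.node (.node (.leaf ⟨38, 1, 38, 15, [367, 363]⟩)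 (.leaf ⟨1018, 2, 765, 5, [8553, 3360, 1915, 7046]⟩)) (.node (.leaf ⟨505, 10, 114, 9, [4463, 1287, 1292]⟩) (.leaf ⟨582, 4, 1384, 0, []⟩))) (.node (.node (.leaf ⟨319, 0, 201, 32, [2400, 2415, 1591]⟩) (.leaf ⟨1237, 3, 1038, 7, [10603, 10592, 8760, 8730]⟩)) (.node (.leaf ⟨157, 1, 738, 0, []⟩) (.leaf ⟨1573, 9, 1049, 21, [14697, 12053, 12048, 10348]⟩)))) (.node (.node (.node (.leaf ⟨172, 3, 159, 7, [1389, 1380, 1254, 1262]⟩) (.leaf ⟨1139, 4, 1140, 0, []⟩)) (.node (.leaf ⟨542, 4, 269, 61, [5487, 4974, 3950, 461, 318, 922, 3457]⟩) (.leaf ⟨1466, 2, 1467, 0, []⟩))) (.node (.node (.leaf ⟨446, 3, 223, 79, [3433, 3184, 2685, 2695, 1789, 929, 1657, 1666, 1649]⟩) (.leaf ⟨1282, 0, 964, 3, [11629, 3762, 1818, 1803, 8134]⟩)) (.node (.leaf ⟨843, 7, 849, 4, [7455, 7535, 7532, 7490]⟩) (.leaf ⟨0, 12, 0, 0, []⟩))))) (.node (.node (.node (.node (.leaf ⟨102, 4, 103, 0, []⟩) (.leaf ⟨981, 0, 1083,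 11, [8256, 9051, 9071]⟩)) (.node (.leaf ⟨282, 4, 602, 91, [2149, 4337, 4334, 4975]⟩) (.leaf ⟨1425, 1, 878, 38, [13167, 8845, 8840]⟩))) (.node (.node (.leaf ⟨293, 6, 415, 18, [1956, 2500, 2484, 665, 2923]⟩) (.leaf ⟨808, 9, 992, 21, [10185, 10172, 9189, 11117]⟩)) (.node (.leaf ⟨186, 4, 760, 0, []⟩) (.leaf ⟨1614, 4, 1607, 42, [15213, 7568, 13457, 13455, 6599, 9530, 15128]⟩)))) (.node (.node (.node (.leaf ⟨286, 2, 185, 16, [1901, 1898]⟩) (.leaf ⟨1188, 4, 1189, 0, []⟩)) (.node (.leaf ⟨709, 0, 520, 10, [5995, 5984, 4500]⟩) (.leaf ⟨1533, 1, 885, 22, [14191, 11446, 8212, 8204]⟩))) (.node (.node (.leaf ⟨460, 10, 203, 9, [3929, 3937, 3724]⟩) (.leaf ⟨1322, 9, 818, 21, [12141, 10357, 10352, 10954]⟩)) (.node (.leaf ⟨949, 2, 808, 5, [8045, 8041, 8038, 7250]⟩) (.leaf ⟨0, 12, 0, 0, []⟩))))))) (.node (.node (.node (.node (.node (.node (.leaf ⟨24, 0, 24, 11, [239, 237, 238]⟩) (.leaf ⟨1005,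 0, 911, 3, [8429, 5166, 4711, 4761, 7764]⟩)) (.node (.leaf ⟨206, 5, 194, 73, [4326, 4321]⟩) (.leaf ⟨698, 5, 1367, 73, [12524, 12517]⟩))) (.node (.node (.leaf ⟨340, 3, 213, 44, [2285, 985, 1625, 1623, 1621]⟩) (.leaf ⟨1225, 1, 1151, 38, [10479, 7349, 9675]⟩)) (.node (.leaf ⟨680, 7, 731, 19, [5689, 5636, 6383]⟩) (.leaf ⟨1563, 5, 1529, 52, [14575, 7251, 13791, 13789, 13675, 9921, 14153]⟩)))) (.node (.node (.node (.leaf ⟨159, 6, 123, 2, [1263, 1258, 1034]⟩) (.leaf ⟨1128, 6, 1013, 2, [9455, 9448, 8494]⟩)) (.node (.leaf ⟨646, 10, 145, 9, [5359, 1297, 1302]⟩) (.leaf ⟨1454, 6, 1390, 2, [13551, 5682, 12760]⟩))) (.node (.node (.leaf ⟨404, 1, 445, 15, [3308, 3300]⟩) (.leaf ⟨878, 11, 789, 37, [7640, 11499, 9231, 11249, 7865, 3139, 7159]⟩)) (.node (.leaf ⟨836, 4, 837, 0, []⟩) (.leaf ⟨0, 12, 0, 0, []⟩))))) (.node (.node (.node (.node (.leaf ⟨91, 7, 73, 4, [745, 738, 571, 588]⟩) (.leaf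 ⟨1065, 0, 905, 3, [8941, 3461, 3473, 1822, 7746]⟩)) (.node (.leaf ⟨494, 12, 577, 6, [4427, 4847, 4837]⟩) (.leaf ⟨671, 4, 1416, 0, []⟩))) (.node (.node (.leaf ⟨356, 1, 402, 15, [2798, 2794]⟩) (.leaf ⟨878, 9, 951, 40, [7639, 2733, 648, 3243, 7527, 10989, 8060]⟩)) (.node (.leaf ⟨557, 6, 631, 18, [6268, 6895, 6881, 6820, 5237]⟩) (.leaf ⟨1604, 4, 1524, 85, [15083, 14806, 14810, 14505]⟩)))) (.node (.node (.node (.leaf ⟨200, 8, 254, 17, [1588, 1775, 1767, 1765]⟩) (.leaf ⟨943, 11, 1177, 37, [8002, 5739, 8100, 8638, 8636, 6137, 9967]⟩)) (.node (.leaf ⟨640, 3, 694, 24, [5866, 5853]⟩) (.leaf ⟨1519, 2, 1520, 0, []⟩))) (.node (.node (.leaf ⟨468, 1, 468, 12, [3821, 3804, 3799, 2756, 3641, 3632, 732, 3025, 3823]⟩) (.leaf ⟨810, 1, 1308, 102, [7373, 10489, 9525, 9658, 12011]⟩)) (.node (.leaf ⟨934, 6, 914, 2, [7915, 3546, 7780]⟩) (.leaf ⟨0, 12, 0, 0, []⟩)))))) (.node (.node (.node (.node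 (.node (.leaf ⟨54, 4, 55, 0, []⟩) (.leaf ⟨776, 6, 1034, 86, [8624, 8622, 2154, 8683]⟩)) (.node (.leaf ⟨535, 8, 137, 17, [4540, 1476, 1482, 4579]⟩) (.leaf ⟨1392, 6, 1387, 2, [12783, 5843, 12722]⟩))) (.node (.node (.leaf ⟨368, 2, 302, 6, [2543, 2083]⟩) (.leaf ⟨1250, 3, 1213, 7, [10731, 10726, 10367, 10374]⟩)) (.node (.leaf ⟨743, 1, 698, 58, [6637, 5829, 5819, 5902]⟩) (.leaf ⟨1551, 4, 1584, 42, [14398, 10709, 4781, 8196, 12687, 12688, 14831]⟩)))) (.node (.node (.node (.leaf ⟨182, 7, 182, 4, [1511, 1502, 1501, 1510]⟩) (.leaf ⟨1153, 2, 915, 5, [9705, 3257, 2854, 7786]⟩)) (.node (.leaf ⟨570, 12, 667, 22, [4807, 4776, 4782, 5611, 5602]⟩) (.leaf ⟨1382, 11, 1486, 13, [13133, 13124, 13807]⟩))) (.node (.node (.leaf ⟨449, 11, 240, 13, [3567, 1838, 1721]⟩) (.leaf ⟨787, 11, 1291, 37, [7148, 11465, 11449, 11439, 8699, 6359, 11759]⟩)) (.node (.leaf ⟨885, 4, 886, 0, []⟩) (.leaf ⟨0, 12,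 0, 0, []⟩))))) (.node (.node (.node (.node (.leaf ⟨117, 4, 118, 0, []⟩) (.leaf ⟨567, 4, 1101, 0, []⟩)) (.node (.leaf ⟨575, 10, 504, 88, [5090, 2822, 3524, 2271, 502, 2296, 5101]⟩) (.leaf ⟨1435, 4, 648, 36, [13287, 13278, 12776, 5399]⟩))) (.node (.node (.leaf ⟨357, 2, 356, 16, [3050, 2803]⟩) (.leaf ⟨925, 10, 1104, 9, [11221, 8923, 9227]⟩)) (.node (.leaf ⟨594, 5, 788, 82, [4945, 4938, 7135, 7151]⟩) (.leaf ⟨1624, 2, 1504, 6, [15341, 15330]⟩)))) (.node (.node (.node (.leaf ⟨45, 1, 55, 15, [2020, 1693]⟩) (.leaf ⟨821, 8, 1162, 62, [7323, 3418, 466, 1826, 8309, 10223, 9794]⟩)) (.node (.leaf ⟨658, 0, 597, 23, [6126, 6110]⟩) (.leaf ⟨1471, 7, 1543, 74, [13883, 13885, 14211, 14207, 14317]⟩))) (.node (.node (.leaf ⟨482, 0, 268, 11, [4075, 4058, 3450]⟩) (.leaf ⟨1339, 4, 503, 8, [12271, 12269, 12261, 12251, 12243, 12235]⟩)) (.node (.leaf ⟨972, 4, 973, 0, []⟩) (.leaf ⟨0, 12, 0, 0, []⟩))))))))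

def factB57 : Arr (CFact) :=
  (.node (.node (.node (.node (.node (.node (.node (.leaf ⟨13, 12, 12, 14, [106, 108, 24, 109, 107, 103]⟩) (.leaf ⟨990, 2, 895, 5, [8305, 8303, 8300, 7712]⟩)) (.node (.leaf ⟨487, 0, 272, 10, [4203, 4124, 1846]⟩) (.leaf ⟨1354, 3, 1350, 7, [12401, 12398, 12394, 12386]⟩))) (.node (.node (.leaf ⟨318, 2, 319, 0, []⟩) (.leaf ⟨1211, 0, 1029, 3, [10351, 2744, 1923, 2154, 8664]⟩)) (.node (.leaf ⟨722, 7, 565, 20, [6247, 4789, 4790]⟩) (.leaf ⟨1539, 6, 1554, 86, [14275, 14395, 14412, 14445]⟩)))) (.node (.node (.node (.leaf ⟨115, 7, 133, 4, [1003, 1125, 1122, 1072]⟩) (.leaf ⟨1117, 0, 834, 3, [9327, 3975, 3977, 3965, 7402]⟩)) (.node (.leaf ⟨630, 2, 631, 0, []⟩) (.leaf ⟨1444, 4, 1445, 0, []⟩))) (.node (.node (.leaf ⟨306, 0, 437, 32, [2094, 2714, 3185]⟩) (.leaf ⟨1265, 7, 1255, 4, [11369, 11360, 10775, 10788]⟩)) (.node (.leaf ⟨661, 4, 813, 0, []⟩) (.leaf ⟨0,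 12, 0, 0, []⟩))))) (.node (.node (.node (.node (.leaf ⟨76, 4, 12, 8, [619, 611, 603, 589, 569, 557]⟩) (.leaf ⟨1047, 4, 1048, 0, []⟩)) (.node (.leaf ⟨182, 6, 506, 26, [4719, 4688]⟩) (.leaf ⟨1051, 1, 1404, 102, [10287, 11849, 11842, 12901, 12913]⟩))) (.node (.node (.leaf ⟨381, 6, 230, 18, [2673, 2671, 2665, 607, 1681]⟩) (.leaf ⟨1064, 11, 1127, 13, [8938, 10109, 10865]⟩)) (.node (.leaf ⟨666, 2, 748, 0, []⟩) (.leaf ⟨1530, 2, 1594, 0, []⟩)))) (.node (.node (.node (.leaf ⟨224, 2, 225, 0, []⟩) (.leaf ⟨1166, 2, 1057, 5, [9835, 5498, 5477, 8892]⟩)) (.node (.leaf ⟨684, 7, 598, 20, [5743, 5716, 4956]⟩) (.leaf ⟨1506, 0, 1462, 11, [13937, 13932, 13654]⟩))) (.node (.node (.leaf ⟨459, 0, 349, 11, [3689, 3311, 3314]⟩) (.leaf ⟨1301, 0, 1180, 3, [11889, 11880, 8900, 10005, 10006]⟩)) (.node (.leaf ⟨916, 7, 818, 4, [7793, 3699, 3703, 7306]⟩) (.leaf ⟨0, 12, 0, 0, []⟩)))))) (.node (.node (.node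 (.node (.node (.leaf ⟨38, 2, 23, 16, [367, 364]⟩) (.leaf ⟨1018, 7, 794, 4, [8553, 3066, 4339, 7180]⟩)) (.node (.leaf ⟨505, 2, 506, 0, []⟩) (.leaf ⟨1384, 6, 1381, 2, [12657, 5880, 12618]⟩))) (.node (.node (.leaf ⟨200, 0, 320, 10, [1588, 2417, 2164]⟩) (.leaf ⟨1237, 2, 1035, 5, [10603, 10587, 2782, 8704]⟩)) (.node (.leaf ⟨738, 3, 558, 44, [6513, 1248, 4815, 6221, 6218]⟩) (.leaf ⟨1492, 4, 1573, 42, [13843, 10284, 11850, 8605, 6360, 8830, 14705]⟩)))) (.node (.node (.node (.leaf ⟨172, 2, 163, 5, [1389, 1375, 1370, 1294]⟩) (.leaf ⟨1140, 4, 1141, 0, []⟩)) (.node (.leaf ⟨596, 2, 654, 0, []⟩) (.leaf ⟨1467, 1, 1021, 43, [13681, 13677, 13417, 13423, 10508]⟩))) (.node (.node (.leaf ⟨446, 2, 222, 29, [3433, 3183, 2688, 642, 1681, 1812, 1808, 1815, 1644]⟩) (.leaf ⟨1282, 3, 1098, 7, [11629, 4187, 9170, 9178]⟩)) (.node (.leaf ⟨854, 4, 855, 0, []⟩) (.leaf ⟨0, 12, 0, 0, []⟩))))) (.node (.node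 (.node (.node (.leaf ⟨103, 3, 88, 7, [881, 874, 708, 712]⟩) (.leaf ⟨999, 7, 982, 34, [8359, 9069, 9073, 8260]⟩)) (.node (.leaf ⟨124, 11, 603, 0, []⟩) (.leaf ⟨608, 4, 1426, 0, []⟩))) (.node (.node (.leaf ⟨343, 12, 413, 14, [2324, 1980, 832, 2923, 2921, 2919]⟩) (.leaf ⟨1099, 8, 769, 17, [11117, 8885, 9875, 11092]⟩)) (.node (.leaf ⟨760, 3, 755, 7, [7025, 1551, 7004, 7006]⟩) (.leaf ⟨1569, 0, 1614, 31, [15026, 15123, 15217]⟩)))) (.node (.node (.node (.leaf ⟨186, 12, 285, 6, [1551, 1905, 1895]⟩) (.leaf ⟨1189, 3, 991, 7, [10097, 10092, 8344, 8332]⟩)) (.node (.leaf ⟨592, 11, 708, 13, [5328, 5999, 5995]⟩) (.leaf ⟨1183, 11, 1533, 13, [10044, 8204, 14193]⟩))) (.node (.node (.leaf ⟨255, 12, 205, 21, [1765, 3926, 3937, 1579, 1600]⟩) (.leaf ⟨1103, 11, 1321, 100, [9222, 11243, 7459, 3426, 7306, 12145, 12135]⟩)) (.node (.leaf ⟨949, 4, 545, 36, [8045, 3640, 6492, 6759]⟩) (.leaf ⟨0, 12,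 0, 0, []⟩))))))) (.node (.node (.node (.node (.node (.node (.leaf ⟨24, 1, 25, 0, []⟩) (.leaf ⟨1005, 4, 1006, 0, []⟩)) (.node (.leaf ⟨206, 6, 198, 26, [4326, 4322]⟩) (.leaf ⟨533, 4, 1370, 0, []⟩))) (.node (.node (.leaf ⟨340, 8, 290, 17, [2285, 985, 988, 1940]⟩) (.leaf ⟨963, 9, 1225, 21, [8837, 7313, 9675, 10481]⟩)) (.node (.leaf ⟨671, 7, 701, 20, [5641, 6383, 6380]⟩) (.leaf ⟨1563, 1, 882, 53, [14575, 10185, 10166, 7670]⟩)))) (.node (.node (.node (.leaf ⟨159, 4, 160, 0, []⟩) (.leaf ⟨1128, 0, 912, 3, [9455, 9448, 8486, 8472, 7766]⟩)) (.node (.leaf ⟨646, 6, 519, 18, [5359, 1074, 5290, 5295, 4501]⟩) (.leaf ⟨1454, 0, 1323, 3, [13551, 5682, 5343, 6981, 12150]⟩))) (.node (.node (.leaf ⟨404, 2, 349, 16, [3308, 3294]⟩) (.leaf ⟨1272, 4, 1273, 0, []⟩)) (.node (.leaf ⟨837, 4, 450, 8, [7409, 7407, 7405, 7403, 5919, 5923]⟩) (.leaf ⟨0, 12, 0, 0, []⟩))))) (.node (.node (.node (.node (.leaf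 ⟨91, 4, 92, 0, []⟩) (.leaf ⟨1065, 7, 883, 4, [8941, 3461, 3473, 7650]⟩)) (.node (.leaf ⟨494, 1, 576, 15, [4848, 4835]⟩) (.leaf ⟨1416, 6, 1323, 2, [13041, 5642, 12150]⟩))) (.node (.node (.leaf ⟨356, 3, 400, 24, [2798, 2791]⟩) (.leaf ⟨1227, 8, 991, 62, [10517, 10978, 8060, 10993, 7639, 3170, 8332]⟩)) (.node (.leaf ⟨729, 12, 627, 28, [6370, 6895, 6882, 5224]⟩) (.leaf ⟨1604, 5, 1474, 82, [15083, 14802, 13726, 13728]⟩)))) (.node (.node (.node (.leaf ⟨47, 8, 258, 0, []⟩) (.leaf ⟨1177, 1, 1026, 38, [9969, 8729, 8722]⟩)) (.node (.leaf ⟨694, 12, 526, 16, [5873, 5423]⟩) (.leaf ⟨1520, 1, 893, 43, [14065, 14061, 8237, 9977, 8966]⟩))) (.node (.node (.leaf ⟨468, 0, 286, 11, [3821, 3609, 1912]⟩) (.leaf ⟨1308, 4, 1309, 0, []⟩)) (.node (.leaf ⟨507, 4, 935, 0, []⟩) (.leaf ⟨0, 12, 0, 0, []⟩)))))) (.node (.node (.node (.node (.node (.leaf ⟨55, 4, 56, 0, []⟩) (.leaf ⟨1033, 0, 775, 31, [8678,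 8689, 7083]⟩)) (.node (.leaf ⟨167, 10, 174, 9, [4587, 1414, 1423]⟩) (.leaf ⟨1392, 0, 1361, 3, [12783, 5843, 5840, 5438, 12442]⟩))) (.node (.node (.leaf ⟨368, 1, 368, 12, [2543, 2086, 2534, 2527, 2521, 2513, 524, 2076, 2545]⟩) (.leaf ⟨1250, 2, 1206, 5, [10731, 10723, 3010, 10320]⟩)) (.node (.leaf ⟨698, 10, 518, 9, [6641, 6637, 4922]⟩) (.leaf ⟨1584, 4, 1483, 36, [14833, 14414, 14654, 14653]⟩)))) (.node (.node (.node (.leaf ⟨182, 4, 183, 0, []⟩) (.leaf ⟨1153, 4, 1154, 0, []⟩)) (.node (.leaf ⟨570, 0, 555, 23, [5616, 5604]⟩) (.leaf ⟨767, 11, 1487, 0, []⟩))) (.node (.node (.leaf ⟨373, 10, 270, 9, [2590, 3557, 3567]⟩) (.leaf ⟨1291, 1, 1236, 38, [11761, 7163, 10589]⟩)) (.node (.leaf ⟨886, 3, 880, 7, [7665, 7662, 7640, 7642]⟩) (.leaf ⟨0, 12, 0, 0, []⟩))))) (.node (.node (.node (.node (.leaf ⟨118, 4, 23, 8, [1009, 1007, 1005, 1003, 1001, 997]⟩) (.leaf ⟨1101, 6, 1049, 2, [9201, 6353,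 8830]⟩)) (.node (.leaf ⟨504, 7, 499, 19, [5105, 4827, 4861]⟩) (.leaf ⟨1121, 11, 1435, 37, [9371, 6971, 6973, 6002, 5987, 6086, 13297]⟩))) (.node (.node (.leaf ⟨357, 3, 403, 24, [3050, 2827]⟩) (.leaf ⟨843, 11, 864, 13, [7536, 7859, 11221]⟩)) (.node (.leaf ⟨594, 4, 789, 0, []⟩) (.leaf ⟨1624, 4, 1610, 85, [15341, 15338, 15099, 15162]⟩)))) (.node (.node (.node (.leaf ⟨45, 2, 234, 16, [2020, 1696]⟩) (.leaf ⟨956, 3, 1196, 30, [8090, 10219]⟩)) (.node (.leaf ⟨658, 1, 716, 15, [6126, 6112]⟩) (.leaf ⟨1543, 6, 1498, 105, [14321, 14179, 13893]⟩))) (.node (.node (.leaf ⟨92, 9, 483, 0, []⟩) (.leaf ⟨1333, 0, 1339, 31, [12228, 6561, 12273]⟩)) (.node (.leaf ⟨973, 3, 907, 7, [8177, 8174, 7748, 7750]⟩) (.leaf ⟨0, 12, 0, 0, []⟩))))))))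

def factB58 : Arr (CFact) :=
  (.node (.node (.node (.node (.node (.node (.node (.leaf ⟨12, 1, 12, 15, [115, 103]⟩) (.leaf ⟨990, 4, 267, 8, [8305, 8303, 8299, 8297, 8293, 8289]⟩)) (.node (.leaf ⟨375, 9, 485, 21, [2615, 2616, 4209, 4203]⟩) (.leaf ⟨591, 5, 1354, 82, [5829, 5836, 12389, 12403]⟩))) (.node (.node (.leaf ⟨319, 1, 320, 0, []⟩) (.leaf ⟨1211, 3, 1207, 7, [10351, 2743, 10320, 10328]⟩)) (.node (.leaf ⟨570, 11, 722, 13, [5626, 6257, 6242]⟩) (.leaf ⟨1554, 1, 1383, 102, [14451, 14270, 11569, 12669, 12662]⟩)))) (.node (.node (.node (.leaf ⟨144, 4, 145, 0, []⟩) (.leaf ⟨1117, 7, 848, 4, [9327, 3975, 3977, 7484]⟩)) (.node (.leaf ⟨631, 1, 632, 0, []⟩) (.leaf ⟨1445, 9, 991, 84, [13427, 13424, 10360, 10998, 7613, 3172, 8332]⟩))) (.node (.node (.leaf ⟨76, 1, 438, 0, []⟩) (.leaf ⟨1255, 11, 1171, 13, [11379, 11370, 11022]⟩)) (.node (.leaf ⟨813, 6, 793, 2, [7283, 5571, 7176]⟩)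 (.leaf ⟨0, 12, 0, 0, []⟩))))) (.node (.node (.node (.node (.leaf ⟨14, 4, 77, 0, []⟩) (.leaf ⟨1048, 4, 1049, 0, []⟩)) (.node (.leaf ⟨506, 12, 170, 26, [4723, 1512]⟩) (.leaf ⟨1404, 4, 1405, 0, []⟩))) (.node (.node (.leaf ⟨381, 2, 382, 0, []⟩) (.leaf ⟨1128, 9, 782, 84, [9455, 10867, 8936, 4154, 6189, 6818, 7118]⟩)) (.node (.leaf ⟨748, 1, 171, 43, [6771, 5621, 5622, 5221, 1377]⟩) (.leaf ⟨1594, 1, 1546, 43, [14963, 14158, 13148, 14166, 14958]⟩)))) (.node (.node (.node (.leaf ⟨225, 1, 226, 0, []⟩) (.leaf ⟨1166, 7, 953, 4, [9835, 2530, 1791, 8080]⟩)) (.node (.leaf ⟨684, 0, 619, 11, [5743, 5718, 5466]⟩) (.leaf ⟨1506, 1, 1507, 0, []⟩))) (.node (.node (.leaf ⟨456, 7, 295, 69, [3648, 3699, 3696, 3092, 1967]⟩) (.leaf ⟨1301, 3, 1091, 7, [11889, 11882, 9118, 9122]⟩)) (.node (.leaf ⟨916, 4, 917, 0, []⟩) (.leaf ⟨0, 12, 0, 0, []⟩)))))) (.node (.node (.node (.node (.node (.leaf ⟨24, 12,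 37, 6, [239, 371, 359]⟩) (.leaf ⟨1018, 4, 1019, 0, []⟩)) (.node (.leaf ⟨506, 1, 507, 0, []⟩) (.leaf ⟨1384, 3, 1382, 7, [12657, 6084, 6082, 12642]⟩))) (.node (.node (.leaf ⟨60, 8, 355, 0, []⟩) (.leaf ⟨1237, 4, 540, 36, [10603, 10594, 8726, 6833]⟩)) (.node (.leaf ⟨738, 6, 565, 18, [6513, 1331, 6291, 6304, 4793]⟩) (.leaf ⟨817, 8, 1574, 0, []⟩)))) (.node (.node (.node (.leaf ⟨172, 4, 34, 36, [1389, 1382, 1332, 336]⟩) (.leaf ⟨1141, 4, 1142, 0, []⟩)) (.node (.leaf ⟨654, 2, 595, 6, [5491, 4953]⟩) (.leaf ⟨771, 11, 1467, 13, [10513, 10508, 13683]⟩))) (.node (.node (.leaf ⟨221, 6, 384, 18, [1644, 3443, 3433, 3184, 2685]⟩) (.leaf ⟨1282, 2, 1183, 5, [11629, 6293, 6304, 10038]⟩)) (.node (.leaf ⟨855, 6, 843, 2, [7539, 7534, 7454]⟩) (.leaf ⟨0, 12, 0, 0, []⟩))))) (.node (.node (.node (.node (.leaf ⟨103, 2, 93, 5, [881, 871, 869, 764]⟩) (.leaf ⟨1083, 4, 1084, 0, []⟩)) (.node (.leaf ⟨603,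 1, 160, 38, [4979, 1473, 1462]⟩) (.leaf ⟨1426, 0, 1408, 3, [13171, 5639, 6383, 6385, 12944]⟩))) (.node (.node (.leaf ⟨343, 1, 414, 15, [2930, 2918]⟩) (.leaf ⟨1099, 9, 1192, 21, [11117, 10071, 10066, 10201]⟩)) (.node (.leaf ⟨760, 4, 761, 0, []⟩) (.leaf ⟨1593, 6, 1614, 86, [14951, 14796, 15121, 15217]⟩)))) (.node (.node (.node (.leaf ⟨186, 1, 284, 15, [1906, 1893]⟩) (.leaf ⟨1189, 2, 998, 5, [10097, 10089, 10084, 8354]⟩)) (.node (.leaf ⟨709, 2, 710, 0, []⟩) (.leaf ⟨1517, 6, 1533, 18, [14052, 13161, 13168, 7663, 14193]⟩))) (.node (.node (.leaf ⟨205, 0, 327, 23, [3955, 2838]⟩) (.leaf ⟨1321, 1, 1187, 38, [12147, 9801, 10079]⟩)) (.node (.leaf ⟨949, 7, 765, 4, [8045, 3637, 1880, 7046]⟩) (.leaf ⟨0, 12, 0, 0, []⟩))))))) (.node (.node (.node (.node (.node (.node (.leaf ⟨25, 0, 25, 10, [243, 241, 242]⟩) (.leaf ⟨1006, 6, 912, 2, [8435, 8432, 7766]⟩)) (.node (.leaf ⟨206, 7, 204, 25,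 [4326, 4312]⟩) (.leaf ⟨1370, 0, 1351, 3, [12531, 5027, 5029, 5035, 12390]⟩))) (.node (.node (.leaf ⟨340, 9, 219, 21, [2285, 521, 747, 1639]⟩) (.leaf ⟨1151, 8, 1049, 17, [10481, 10472, 10392, 10348]⟩)) (.node (.leaf ⟨702, 2, 731, 6, [5939, 6381]⟩) (.leaf ⟨1540, 3, 1563, 44, [14277, 10877, 10889, 7670, 14579]⟩)))) (.node (.node (.node (.leaf ⟨160, 7, 154, 34, [1267, 1264, 1224, 1226]⟩) (.leaf ⟨1128, 3, 1009, 7, [9455, 9450, 8482, 8456]⟩)) (.node (.leaf ⟨646, 0, 527, 10, [5359, 1299, 4521]⟩) (.leaf ⟨1454, 3, 1404, 7, [13551, 5679, 12902, 12910]⟩))) (.node (.node (.leaf ⟨404, 3, 327, 24, [3308, 3291]⟩) (.leaf ⟨1273, 6, 1111, 2, [11507, 11490, 9274]⟩)) (.node (.leaf ⟨298, 12, 836, 91, [3130, 2336, 4225, 7411, 7409]⟩) (.leaf ⟨0, 12, 0, 0, []⟩))))) (.node (.node (.node (.node (.leaf ⟨92, 6, 62, 2, [755, 748, 522]⟩) (.leaf ⟨906, 7, 986, 4, [7749, 8945, 8942, 8292]⟩)) (.node (.leaf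 ⟨576, 12, 495, 15, [4851, 4428]⟩) (.leaf ⟨1416, 0, 1390, 3, [13041, 5642, 4867, 5118, 12760]⟩))) (.node (.node (.leaf ⟨356, 7, 318, 25, [2798, 2792]⟩) (.leaf ⟨1201, 8, 942, 41, [10277, 2691, 648, 3572, 7411, 10987, 7986]⟩)) (.node (.leaf ⟨627, 7, 720, 25, [6899, 6370]⟩) (.leaf ⟨1583, 2, 1605, 0, []⟩)))) (.node (.node (.node (.leaf ⟨47, 10, 259, 0, []⟩) (.leaf ⟨990, 1, 1076, 102, [8325, 7762, 8640, 9971, 9964]⟩)) (.node (.leaf ⟨525, 2, 697, 16, [5871, 5856]⟩) (.leaf ⟨969, 11, 1520, 13, [8973, 8966, 14067]⟩))) (.node (.node (.leaf ⟨389, 6, 468, 18, [2746, 3801, 3805, 3820, 3825]⟩) (.leaf ⟨1309, 0, 762, 3, [12019, 12008, 10556, 9261, 7032]⟩)) (.node (.leaf ⟨935, 0, 927, 3, [7923, 5167, 5194, 5205, 7876]⟩) (.leaf ⟨0, 12, 0, 0, []⟩)))))) (.node (.node (.node (.node (.node (.leaf ⟨56, 4, 57, 0, []⟩) (.leaf ⟨800, 7, 779, 20, [8681, 8689, 7097]⟩)) (.node (.leaf ⟨125, 11, 174,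 13, [1343, 1336, 4587]⟩) (.leaf ⟨1392, 2, 1335, 5, [12783, 12777, 12774, 12242]⟩))) (.node (.node (.leaf ⟨368, 0, 225, 11, [2543, 2084, 1650]⟩) (.leaf ⟨1250, 7, 1245, 4, [10731, 10724, 10681, 10688]⟩)) (.node (.leaf ⟨698, 2, 527, 50, [6641, 6634, 5359, 1297, 4521]⟩) (.leaf ⟨1584, 2, 1585, 0, []⟩)))) (.node (.node (.node (.leaf ⟨183, 6, 141, 2, [1523, 1514, 1102]⟩) (.leaf ⟨1154, 6, 815, 2, [9715, 9708, 7292]⟩)) (.node (.leaf ⟨570, 1, 666, 15, [5616, 5603]⟩) (.leaf ⟨1487, 1, 948, 38, [13811, 8717, 8714]⟩))) (.node (.node (.leaf ⟨79, 8, 450, 0, []⟩) (.leaf ⟨480, 4, 1292, 0, []⟩)) (.node (.leaf ⟨886, 4, 887, 0, []⟩) (.leaf ⟨0, 12, 0, 0, []⟩))))) (.node (.node (.node (.node (.leaf ⟨24, 4, 119, 0, []⟩) (.leaf ⟨1101, 0, 1075, 3, [9201, 6353, 6799, 4810, 9020]⟩)) (.node (.leaf ⟨499, 11, 497, 13, [5107, 5050, 4432]⟩) (.leaf ⟨1435, 1, 822, 38, [13299, 9529, 9518]⟩))) (.node (.node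 (.leaf ⟨357, 6, 354, 26, [3050, 2786]⟩) (.leaf ⟨925, 9, 868, 21, [11221, 8281, 9128, 11079]⟩)) (.node (.leaf ⟨789, 3, 783, 7, [7155, 4945, 4937, 7126]⟩) (.leaf ⟨1624, 5, 1566, 82, [15341, 15337, 14781, 14625]⟩)))) (.node (.node (.node (.leaf ⟨234, 12, 52, 24, [2035, 487]⟩) (.leaf ⟨1196, 4, 1197, 0, []⟩)) (.node (.leaf ⟨658, 3, 548, 24, [6126, 6107]⟩) (.leaf ⟨1543, 3, 1467, 28, [14321, 13703, 13700]⟩))) (.node (.node (.leaf ⟨375, 2, 484, 0, []⟩) (.leaf ⟨742, 12, 1338, 91, [6608, 6089, 5357, 12273, 12271]⟩)) (.node (.leaf ⟨973, 4, 974, 0, []⟩) (.leaf ⟨0, 12, 0, 0, []⟩))))))))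

def factB59 : Arr (CFact) :=
  (.node (.node (.node (.node (.node (.node (.node (.leaf ⟨12, 2, 14, 16, [115, 106]⟩) (.leaf ⟨887, 0, 990, 31, [7672, 3472, 8309]⟩)) (.node (.leaf ⟨487, 8, 242, 17, [4203, 4127, 1727, 1725]⟩) (.leaf ⟨1354, 10, 948, 97, [12405, 5900, 1057, 6939, 6205, 3638, 8041]⟩))) (.node (.node (.leaf ⟨320, 2, 321, 0, []⟩) (.leaf ⟨1211, 7, 1021, 4, [10351, 2744, 1923, 8590]⟩)) (.node (.leaf ⟨559, 7, 721, 19, [4673, 4650, 6257]⟩) (.leaf ⟨1554, 3, 1485, 78, [14451, 14270, 10872, 13799]⟩)))) (.node (.node (.node (.leaf ⟨145, 6, 115, 2, [1141, 1124, 1002]⟩) (.leaf ⟨1117, 4, 1118, 0, []⟩)) (.node (.leaf ⟨632, 2, 633, 0, []⟩) (.leaf ⟨1445, 0, 1349, 3, [13427, 13414, 13345, 13352, 12374]⟩))) (.node (.node (.leaf ⟨438, 10, 94, 9, [3189, 620, 785]⟩) (.leaf ⟨1244, 10, 1265, 9, [11058, 10791, 11379]⟩)) (.node (.leaf ⟨813, 3, 807, 7, [7283, 6485, 6486, 7246]⟩) (.leaf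 ⟨0, 12, 0, 0, []⟩))))) (.node (.node (.node (.node (.leaf ⟨77, 6, 77, 2, [629, 111, 628]⟩) (.leaf ⟨1049, 4, 302, 8, [8821, 8819, 8815, 8811, 8805, 8797]⟩)) (.node (.leaf ⟨182, 10, 170, 47, [4719, 4483]⟩) (.leaf ⟨1405, 3, 1398, 7, [12917, 12912, 12894, 12852]⟩))) (.node (.node (.leaf ⟨382, 7, 264, 20, [2677, 2674, 1825]⟩) (.leaf ⟨797, 9, 885, 40, [7193, 6508, 10106, 10849, 10847, 6830, 7660]⟩)) (.node (.leaf ⟨748, 7, 631, 20, [6771, 5610, 5258]⟩) (.leaf ⟨1594, 2, 1529, 6, [14963, 14157]⟩)))) (.node (.node (.node (.leaf ⟨226, 2, 227, 0, []⟩) (.leaf ⟨1166, 4, 1167, 0, []⟩)) (.node (.leaf ⟨537, 9, 684, 21, [4621, 1041, 1229, 5745]⟩) (.leaf ⟨1507, 0, 1463, 10, [13941, 13938, 13656]⟩))) (.node (.node (.leaf ⟨200, 6, 459, 2, [3394, 3093, 3697]⟩) (.leaf ⟨1301, 2, 1104, 5, [11889, 11877, 11874, 9222]⟩)) (.node (.leaf ⟨917, 4, 241, 8, [7797, 7793, 3649, 5089, 7791, 7787]⟩) (.leaf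 ⟨0, 12, 0, 0, []⟩)))))) (.node (.node (.node (.node (.node (.leaf ⟨24, 1, 36, 15, [372, 355]⟩) (.leaf ⟨1019, 6, 832, 2, [8565, 8556, 7384]⟩)) (.node (.leaf ⟨507, 2, 508, 0, []⟩) (.leaf ⟨1384, 2, 1383, 5, [12657, 12654, 12652, 12646]⟩))) (.node (.node (.leaf ⟨60, 9, 356, 0, []⟩) (.leaf ⟨1237, 7, 851, 4, [10603, 10590, 7501, 7506]⟩)) (.node (.leaf ⟨738, 0, 572, 10, [6513, 1250, 4815]⟩) (.leaf ⟨1574, 1, 989, 53, [14709, 8836, 8132, 8312]⟩)))) (.node (.node (.node (.leaf ⟨130, 0, 172, 31, [1058, 333, 1397]⟩) (.leaf ⟨1142, 4, 1143, 0, []⟩)) (.node (.leaf ⟨614, 0, 654, 32, [5136, 5156, 5493]⟩) (.leaf ⟨757, 9, 1468, 0, []⟩))) (.node (.node (.leaf ⟨269, 12, 380, 28, [1832, 3443, 3434, 2670]⟩) (.leaf ⟨1282, 7, 878, 4, [11629, 3762, 1818, 7638]⟩)) (.node (.leaf ⟨855, 4, 218, 8, [7539, 7531, 5653, 5657, 7527, 7525]⟩) (.leaf ⟨0, 12, 0, 0, []⟩))))) (.node (.node (.node (.node (.leaf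 ⟨103, 7, 55, 34, [881, 872, 564, 496]⟩) (.leaf ⟨1084, 6, 982, 2, [9077, 9073, 8260]⟩)) (.node (.leaf ⟨603, 4, 322, 77, [4979, 1042, 442, 1271, 4933, 4937, 2403]⟩) (.leaf ⟨1426, 3, 1330, 7, [13171, 5042, 12170, 12192]⟩))) (.node (.node (.leaf ⟨414, 12, 217, 15, [2933, 2319]⟩) (.leaf ⟨1170, 9, 902, 84, [9879, 11095, 7263, 1945, 6842, 6879, 8098]⟩)) (.node (.leaf ⟨761, 3, 757, 7, [7029, 7026, 7008, 7010]⟩) (.leaf ⟨1614, 2, 1613, 45, [15221, 14949, 15201]⟩)))) (.node (.node (.node (.leaf ⟨284, 12, 187, 15, [1909, 1552]⟩) (.leaf ⟨1189, 4, 541, 36, [10097, 10094, 8366, 4633]⟩)) (.node (.leaf ⟨710, 7, 516, 20, [6005, 5998, 4908]⟩) (.leaf ⟨1533, 7, 1512, 56, [14197, 14052, 14019]⟩))) (.node (.node (.leaf ⟨205, 1, 254, 15, [3955, 1765]⟩) (.leaf ⟨497, 4, 1323, 0, []⟩)) (.node (.leaf ⟨260, 4, 950, 0, []⟩) (.leaf ⟨0, 12, 0, 0, []⟩))))))) (.node (.node (.node (.node (.node (.node (.leaf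 ⟨25, 2, 26, 0, []⟩) (.leaf ⟨1006, 7, 928, 4, [8435, 8432, 7879, 7880]⟩)) (.node (.leaf ⟨199, 8, 458, 17, [1585, 4339, 4334, 3942]⟩) (.leaf ⟨1370, 3, 1367, 7, [12531, 4535, 12500, 12512]⟩))) (.node (.node (.leaf ⟨212, 3, 340, 30, [1618, 2289]⟩) (.leaf ⟨830, 10, 1150, 88, [7374, 2976, 6204, 6931, 8830, 10485, 9673]⟩)) (.node (.leaf ⟨730, 6, 705, 18, [6378, 6389, 5942, 5946, 5954]⟩) (.leaf ⟨1541, 2, 1563, 50, [14290, 7430, 11706, 11686, 14579]⟩)))) (.node (.node (.node (.leaf ⟨160, 4, 31, 8, [1267, 1263, 1255, 1247, 1243, 1237]⟩) (.leaf ⟨1128, 2, 1005, 5, [9455, 9445, 5186, 8428]⟩)) (.node (.leaf ⟨523, 5, 519, 75, [5323, 4770, 5365, 5362]⟩) (.leaf ⟨1454, 2, 1402, 5, [13551, 13545, 13542, 12890]⟩))) (.node (.node (.leaf ⟨404, 7, 403, 25, [3308, 3292]⟩) (.leaf ⟨1273, 0, 1220, 3, [11507, 11490, 9311, 10427, 10410]⟩)) (.node (.leaf ⟨298, 4, 837, 68, [7412, 7408]⟩) (.leaf ⟨0,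 12, 0, 0, []⟩))))) (.node (.node (.node (.node (.leaf ⟨92, 0, 74, 3, [755, 748, 747, 752, 602]⟩) (.leaf ⟨1065, 4, 1066, 0, []⟩)) (.node (.leaf ⟨494, 2, 578, 16, [4848, 4836]⟩) (.leaf ⟨1416, 7, 1385, 4, [13041, 5642, 4867, 12674]⟩))) (.node (.node (.leaf ⟨402, 2, 403, 0, []⟩) (.leaf ⟨1212, 9, 873, 84, [10361, 10976, 7986, 10997, 10277, 2730, 7612]⟩)) (.node (.leaf ⟨627, 11, 151, 51, [6899, 6369]⟩) (.leaf ⟨1605, 1, 1057, 43, [15093, 14827, 8925, 9992, 9984]⟩)))) (.node (.node (.node (.leaf ⟨259, 7, 199, 19, [1781, 1748, 1752]⟩) (.leaf ⟨1076, 10, 1175, 9, [9973, 8325, 9937]⟩)) (.node (.leaf ⟨526, 1, 693, 15, [5875, 5851]⟩) (.leaf ⟨862, 9, 1520, 21, [10198, 8971, 8966, 14067]⟩))) (.node (.node (.leaf ⟨397, 12, 468, 22, [2777, 2736, 2742, 3828, 3825]⟩) (.leaf ⟨1309, 3, 1149, 7, [12019, 12010, 9643, 9640]⟩)) (.node (.leaf ⟨935, 3, 932, 7, [7923, 4707, 7902, 7904]⟩) (.leaf ⟨0,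 12, 0, 0, []⟩)))))) (.node (.node (.node (.node (.node (.leaf ⟨57, 4, 58, 0, []⟩) (.leaf ⟨720, 12, 1031, 83, [6240, 7218, 8687, 8666, 8670]⟩)) (.node (.leaf ⟨134, 1, 134, 14, [1419, 4586, 1336, 4587, 1418]⟩) (.leaf ⟨1011, 1, 1392, 14, [9451, 10864, 10108, 12246, 12789]⟩))) (.node (.node (.leaf ⟨306, 6, 368, 18, [2093, 2091, 2087, 2542, 2547]⟩) (.leaf ⟨1250, 4, 1251, 0, []⟩)) (.node (.leaf ⟨698, 6, 650, 18, [6641, 6631, 5412, 5398, 5400]⟩) (.leaf ⟨1585, 1, 1087, 43, [14837, 14829, 7355, 11215, 9101]⟩)))) (.node (.node (.node (.leaf ⟨183, 0, 129, 3, [1523, 1514, 1131, 1137, 1054]⟩) (.leaf ⟨1154, 0, 845, 3, [9715, 9708, 9545, 9552, 7462]⟩)) (.node (.leaf ⟨570, 2, 626, 16, [5616, 5606]⟩) (.leaf ⟨988, 8, 1487, 17, [11151, 7249, 8039, 13813]⟩))) (.node (.node (.leaf ⟨79, 10, 451, 0, []⟩) (.leaf ⟨1292, 6, 1191, 2, [11765, 4050, 10118]⟩)) (.node (.leaf ⟨887, 3, 882, 7, [7669,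 7666, 7644, 7646]⟩) (.leaf ⟨0, 12, 0, 0, []⟩))))) (.node (.node (.node (.node (.leaf ⟨119, 6, 119, 2, [1013, 241, 1012]⟩) (.leaf ⟨1101, 4, 312, 36, [9201, 6302, 6292, 4187]⟩)) (.node (.leaf ⟨508, 5, 371, 65, [4756, 5103, 2577]⟩) (.leaf ⟨637, 4, 1436, 0, []⟩))) (.node (.node (.leaf ⟨321, 2, 428, 6, [2167, 3049]⟩) (.leaf ⟨1141, 9, 1167, 40, [9645, 6902, 1208, 6411, 7835, 11219, 9846]⟩)) (.node (.leaf ⟨789, 4, 292, 36, [7155, 5729, 5730, 1955]⟩) (.leaf ⟨1624, 0, 1576, 11, [15341, 15332, 14879]⟩)))) (.node (.node (.node (.leaf ⟨45, 3, 301, 24, [2020, 2000]⟩) (.leaf ⟨1197, 6, 1061, 2, [10229, 10216, 8914]⟩)) (.node (.leaf ⟨658, 7, 595, 25, [6126, 6108]⟩) (.leaf ⟨1543, 5, 1525, 57, [14321, 13861, 13856, 14112]⟩))) (.node (.node (.leaf ⟨484, 1, 105, 43, [4085, 2615, 2616, 2207, 901]⟩) (.leaf ⟨742, 4, 1339, 68, [12276, 12270]⟩)) (.node (.leaf ⟨974, 3, 909, 7, [8181, 8178, 7752,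 7754]⟩) (.leaf ⟨0, 12, 0, 0, []⟩))))))))

def factB60 : Arr (CFact) :=
  (.node (.node (.node (.node (.node (.node (.node (.leaf ⟨7, 8, 14, 17, [77, 16, 29, 109]⟩) (.leaf ⟨898, 3, 989, 99, [7720, 3492, 8309, 8305]⟩)) (.node (.leaf ⟨487, 9, 273, 21, [4203, 4122, 2262, 1853]⟩) (.leaf ⟨767, 1, 1354, 101, [7989, 8043, 12407]⟩))) (.node (.node (.leaf ⟨321, 1, 322, 0, []⟩) (.leaf ⟨1211, 4, 1212, 0, []⟩)) (.node (.leaf ⟨557, 12, 719, 53, [4669, 4650, 6257, 6241, 6235]⟩) (.leaf ⟨1383, 9, 964, 21, [14453, 14449, 13846, 13840]⟩)))) (.node (.node (.node (.leaf ⟨145, 0, 115, 35, [1141, 1128, 1123, 1124, 1002]⟩) (.leaf ⟨1118, 6, 835, 2, [9335, 9330, 7404]⟩)) (.node (.leaf ⟨633, 1, 175, 12, [5239, 5237, 5235, 5233, 5231, 5227, 5225, 5221, 1433]⟩) (.leaf ⟨1445, 3, 1377, 7, [13427, 13416, 12719, 12716]⟩))) (.node (.node (.leaf ⟨438, 6, 242, 18, [3189, 622, 2273, 2280, 1725]⟩) (.leaf ⟨1265,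 4, 1266, 0, []⟩)) (.node (.leaf ⟨813, 4, 433, 36, [7283, 6761, 6762, 4015]⟩) (.leaf ⟨0, 12, 0, 0, []⟩))))) (.node (.node (.node (.node (.leaf ⟨77, 0, 47, 3, [629, 111, 203, 134, 460]⟩) (.leaf ⟨817, 10, 1049, 88, [7298, 2290, 6842, 6873, 5500, 2105, 8823]⟩)) (.node (.leaf ⟨170, 1, 507, 15, [4725, 4468]⟩) (.leaf ⟨999, 1, 1405, 104, [8378, 11169, 9265, 11171, 7941, 12878, 12905, 12909, 12919]⟩))) (.node (.node (.leaf ⟨382, 1, 383, 0, []⟩) (.leaf ⟨1068, 8, 1020, 62, [8993, 6921, 7660, 10871, 7193, 6769, 8578]⟩)) (.node (.leaf ⟨748, 2, 665, 6, [6771, 5599]⟩) (.leaf ⟨1594, 6, 1518, 70, [14963, 14158, 13142, 14057]⟩)))) (.node (.node (.node (.leaf ⟨227, 1, 107, 12, [1655, 1653, 1651, 1649, 1647, 1645, 1643, 1641, 932]⟩) (.leaf ⟨1167, 6, 981, 2, [9847, 9838, 8254]⟩)) (.node (.leaf ⟨613, 8, 684, 17, [5127, 1118, 1233, 5745]⟩) (.leaf ⟨1507, 2, 1508, 0, []⟩))) (.node (.node (.leaf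 ⟨202, 11, 201, 13, [3693, 3703, 1588]⟩) (.leaf ⟨1301, 4, 482, 36, [11889, 11884, 9244, 4077]⟩)) (.node (.leaf ⟨826, 0, 917, 31, [7351, 1838, 7799]⟩) (.leaf ⟨0, 12, 0, 0, []⟩)))))) (.node (.node (.node (.node (.node (.leaf ⟨36, 12, 25, 15, [375, 242]⟩) (.leaf ⟨1019, 0, 791, 3, [8565, 8556, 7380, 7163, 7164]⟩)) (.node (.leaf ⟨508, 1, 509, 0, []⟩) (.leaf ⟨1384, 4, 583, 36, [12657, 4890, 6071, 6080]⟩))) (.node (.node (.leaf ⟨60, 10, 357, 0, []⟩) (.leaf ⟨540, 4, 1238, 0, []⟩)) (.node (.leaf ⟨563, 9, 157, 21, [4786, 4790, 6517, 6513]⟩) (.leaf ⟨1194, 11, 1574, 13, [10162, 9922, 14711]⟩)))) (.node (.node (.node (.leaf ⟨35, 4, 173, 0, []⟩) (.leaf ⟨1143, 4, 347, 8, [9591, 9589, 9587, 9585, 9583, 9581]⟩)) (.node (.leaf ⟨654, 4, 310, 80, [5495, 5447, 5475, 5488, 4167]⟩) (.leaf ⟨1468, 1, 1035, 22, [13687, 10947, 7983, 8707]⟩))) (.node (.node (.leaf ⟨269, 1, 381, 15, [3446, 2672]⟩)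 (.leaf ⟨1282, 4, 1283, 0, []⟩)) (.node (.leaf ⟨835, 0, 855, 31, [7417, 3134, 7543]⟩) (.leaf ⟨0, 12, 0, 0, []⟩))))) (.node (.node (.node (.node (.leaf ⟨103, 4, 104, 0, []⟩) (.leaf ⟨1084, 3, 1081, 7, [9077, 9070, 9049, 9046]⟩)) (.node (.leaf ⟨593, 0, 603, 31, [4937, 2404, 4983]⟩) (.leaf ⟨1426, 2, 1326, 5, [13171, 6557, 6709, 12184]⟩))) (.node (.node (.leaf ⟨343, 3, 412, 24, [2930, 2917]⟩) (.leaf ⟨999, 9, 935, 84, [8359, 11057, 9647, 5266, 1523, 4773, 7922]⟩)) (.node (.leaf ⟨761, 4, 762, 0, []⟩) (.leaf ⟨1132, 1, 1615, 0, []⟩)))) (.node (.node (.node (.leaf ⟨186, 2, 286, 16, [1906, 1894]⟩) (.leaf ⟨1063, 0, 1189, 31, [8931, 4964, 10103]⟩)) (.node (.leaf ⟨710, 2, 643, 6, [6005, 5996]⟩) (.leaf ⟨789, 11, 1534, 0, []⟩))) (.node (.node (.leaf ⟨205, 2, 256, 16, [3955, 1766]⟩) (.leaf ⟨1323, 8, 865, 41, [12151, 5109, 5088, 3661, 7457, 11250, 7572]⟩)) (.node (.leaf ⟨950, 3, 795, 7,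 [8055, 4333, 7180, 7182]⟩) (.leaf ⟨0, 12, 0, 0, []⟩))))))) (.node (.node (.node (.node (.node (.node (.leaf ⟨26, 0, 26, 11, [247, 245, 246]⟩) (.leaf ⟨1006, 4, 1007, 0, []⟩)) (.node (.leaf ⟨205, 8, 206, 17, [3958, 3385, 4333, 4331]⟩) (.leaf ⟨1370, 4, 1371, 0, []⟩))) (.node (.node (.leaf ⟨58, 9, 296, 21, [2284, 2295, 1967, 1960]⟩) (.leaf ⟨922, 1, 830, 101, [7947, 9671, 10487]⟩)) (.node (.leaf ⟨680, 3, 707, 28, [6384, 6389, 5974]⟩) (.leaf ⟨1521, 0, 1563, 10, [14076, 10319, 14579]⟩)))) (.node (.node (.node (.leaf ⟨124, 0, 160, 31, [1042, 431, 1271]⟩) (.leaf ⟨1128, 4, 330, 36, [9455, 9452, 8444, 2618]⟩)) (.node (.leaf ⟨638, 4, 607, 85, [5299, 5367, 5007, 5020]⟩) (.leaf ⟨1454, 7, 1377, 4, [13551, 5682, 5343, 12716]⟩))) (.node (.node (.leaf ⟨404, 11, 355, 51, [3308, 3299]⟩) (.leaf ⟨1273, 3, 1246, 7, [11507, 11492, 10688, 10696]⟩)) (.node (.leaf ⟨298, 5, 835, 73, [7412, 7407]⟩)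 (.leaf ⟨0, 12, 0, 0, []⟩))))) (.node (.node (.node (.node (.leaf ⟨92, 2, 84, 5, [755, 745, 740, 688]⟩) (.leaf ⟨1066, 6, 906, 2, [8951, 8944, 7748]⟩)) (.node (.leaf ⟨495, 3, 575, 24, [4853, 4833]⟩) (.leaf ⟨856, 10, 1416, 9, [12320, 12677, 13047]⟩))) (.node (.node (.leaf ⟨403, 1, 77, 12, [2807, 2801, 2802, 2785, 2781, 2390, 2410, 2200, 636]⟩) (.leaf ⟨1199, 10, 891, 88, [10260, 5751, 7178, 10951, 10756, 5248, 7699]⟩)) (.node (.leaf ⟨728, 12, 749, 53, [6367, 4815, 6237, 6895, 6881]⟩) (.leaf ⟨1605, 4, 1529, 85, [15093, 14820, 14971, 14966]⟩)))) (.node (.node (.node (.leaf ⟨47, 11, 260, 0, []⟩) (.leaf ⟨1071, 1, 979, 53, [9955, 9973, 8325, 8239]⟩)) (.node (.leaf ⟨582, 0, 697, 10, [4885, 1224, 5859]⟩) (.leaf ⟨1520, 5, 1509, 55, [14071, 7561, 3501, 8248, 13329, 7811, 13970]⟩))) (.node (.node (.leaf ⟨397, 0, 286, 23, [3830, 3826]⟩) (.leaf ⟨1309, 2, 1142, 5, [12019, 12005, 12000,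 9588]⟩)) (.node (.leaf ⟨935, 4, 936, 0, []⟩) (.leaf ⟨0, 12, 0, 0, []⟩)))))) (.node (.node (.node (.node (.node (.leaf ⟨58, 4, 9, 8, [503, 501, 499, 497, 495, 491]⟩) (.leaf ⟨720, 4, 1032, 68, [8694, 8672]⟩)) (.node (.leaf ⟨134, 10, 164, 9, [4599, 1307, 1313]⟩) (.leaf ⟨1392, 4, 1393, 0, []⟩))) (.node (.node (.leaf ⟨302, 7, 307, 20, [2545, 2551, 2094]⟩) (.leaf ⟨1251, 6, 756, 2, [10743, 10734, 7008]⟩)) (.node (.leaf ⟨709, 8, 743, 17, [5995, 5989, 6645, 6641]⟩) (.leaf ⟨1571, 0, 1585, 10, [14678, 9103, 14839]⟩)))) (.node (.node (.node (.leaf ⟨183, 3, 121, 7, [1523, 1516, 1020, 1024]⟩) (.leaf ⟨1154, 3, 920, 7, [9715, 9710, 7815, 7818]⟩)) (.node (.leaf ⟨570, 3, 627, 24, [5616, 5609]⟩) (.leaf ⟨894, 1, 1488, 0, []⟩))) (.node (.node (.leaf ⟨451, 7, 440, 19, [3575, 1877, 3209]⟩) (.leaf ⟨1292, 0, 883, 3, [11765, 4050, 2674, 1823, 7650]⟩)) (.node (.leaf ⟨887, 4, 225, 8, [7669, 7665,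 7661, 7658, 7655, 7651]⟩) (.leaf ⟨0, 12, 0, 0, []⟩))))) (.node (.node (.node (.node (.leaf ⟨119, 9, 119, 40, [1013, 393, 74, 11, 75, 392, 1012]⟩) (.leaf ⟨1101, 7, 963, 4, [9201, 6353, 6799, 8128]⟩)) (.node (.leaf ⟨510, 5, 248, 75, [4761, 5103, 2577, 2631]⟩) (.leaf ⟨1436, 0, 1345, 3, [13303, 5338, 6611, 6621, 12334]⟩))) (.node (.node (.leaf ⟨355, 12, 405, 53, [2421, 2374, 2376, 3049, 3043]⟩) (.leaf ⟨1219, 1, 1141, 94, [10447, 10442, 11060, 11255]⟩)) (.node (.leaf ⟨253, 4, 790, 0, []⟩) (.leaf ⟨1188, 1, 1625, 0, []⟩)))) (.node (.node (.node (.leaf ⟨301, 12, 109, 16, [2039, 955]⟩) (.leaf ⟨1197, 0, 1103, 35, [10229, 10220, 9788, 9213, 9216]⟩)) (.node (.leaf ⟨658, 8, 659, 46, [6126, 6119]⟩) (.leaf ⟨1466, 3, 1543, 30, [13680, 14325]⟩))) (.node (.node (.leaf ⟨484, 2, 374, 6, [4085, 2595]⟩) (.leaf ⟨742, 5, 1337, 73, [12276, 12269]⟩)) (.node (.leaf ⟨974, 4, 264, 8, [8181, 8177,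 8173, 8169, 8165, 8161]⟩) (.leaf ⟨0, 12, 0, 0, []⟩))))))))

def factB61 : Arr (CFact) :=
  (.node (.node (.node (.node (.node (.node (.node (.leaf ⟨14, 2, 11, 6, [119, 99]⟩) (.leaf ⟨985, 2, 896, 5, [8289, 8309, 8306, 7714]⟩)) (.node (.leaf ⟨450, 12, 485, 53, [3573, 1877, 3209, 4205, 4203]⟩) (.leaf ⟨591, 4, 1355, 0, []⟩))) (.node (.node (.leaf ⟨322, 2, 323, 0, []⟩) (.leaf ⟨1212, 6, 1030, 2, [10361, 10354, 8666]⟩)) (.node (.leaf ⟨557, 0, 566, 23, [6264, 6254]⟩) (.leaf ⟨813, 8, 1554, 17, [12814, 12810, 12653, 14453]⟩)))) (.node (.node (.node (.leaf ⟨145, 3, 142, 7, [1141, 1126, 1102, 1104]⟩) (.leaf ⟨1118, 0, 843, 3, [9335, 9330, 7805, 7808, 7454]⟩)) (.node (.leaf ⟨157, 11, 633, 13, [1252, 1427, 5241]⟩) (.leaf ⟨1445, 2, 1419, 5, [13427, 13413, 13406, 13076]⟩))) (.node (.node (.leaf ⟨438, 8, 329, 17, [3189, 620, 534, 2206]⟩) (.leaf ⟨1266, 6, 1146, 2, [11385, 11372, 9608]⟩))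 (.node (.leaf ⟨199, 4, 814, 0, []⟩) (.leaf ⟨0, 12, 0, 0, []⟩))))) (.node (.node (.node (.node (.leaf ⟨77, 3, 72, 7, [629, 119, 556, 568]⟩) (.leaf ⟨898, 7, 1049, 74, [8133, 8125, 7706, 2081, 8823]⟩)) (.node (.leaf ⟨170, 3, 505, 24, [4725, 4467]⟩) (.leaf ⟨1405, 4, 1406, 0, []⟩))) (.node (.node (.leaf ⟨383, 2, 384, 0, []⟩) (.leaf ⟨446, 4, 1259, 0, []⟩)) (.node (.leaf ⟨748, 0, 636, 11, [6771, 5600, 5284]⟩) (.leaf ⟨1594, 5, 1476, 82, [14963, 14164, 13780, 13742]⟩)))) (.node (.node (.node (.leaf ⟨65, 11, 227, 13, [931, 924, 1657]⟩) (.leaf ⟨1167, 0, 998, 3, [9847, 9838, 9135, 9138, 8354]⟩)) (.node (.leaf ⟨139, 8, 685, 0, []⟩) (.leaf ⟨1508, 1, 880, 12, [13945, 13941, 13937, 13927, 9737, 10938, 7096, 10936, 7666]⟩))) (.node (.node (.leaf ⟨255, 7, 458, 20, [3695, 3703, 3673]⟩) (.leaf ⟨1301, 7, 861, 4, [11889, 11880, 8900, 7556]⟩)) (.node (.leaf ⟨327, 4, 918, 0, []⟩) (.leaf ⟨0, 12,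 0, 0, []⟩)))))) (.node (.node (.node (.node (.node (.leaf ⟨24, 2, 38, 16, [372, 358]⟩) (.leaf ⟨1019, 3, 770, 7, [8565, 8558, 7065, 7066]⟩)) (.node (.leaf ⟨509, 2, 510, 0, []⟩) (.leaf ⟨1287, 11, 1384, 37, [11724, 11726, 11317, 12498, 12492, 4898, 12665]⟩))) (.node (.node (.leaf ⟨357, 7, 320, 19, [2425, 2374, 2376]⟩) (.leaf ⟨1238, 6, 1020, 2, [10617, 6723, 8578]⟩)) (.node (.leaf ⟨738, 9, 626, 21, [6513, 1381, 1376, 5220]⟩) (.leaf ⟨1574, 4, 1555, 42, [14713, 10164, 10920, 8797, 4150, 11712, 14466]⟩)))) (.node (.node (.node (.leaf ⟨173, 6, 173, 2, [1401, 345, 1400]⟩) (.leaf ⟨1034, 0, 1143, 31, [8682, 2351, 9593]⟩)) (.node (.leaf ⟨367, 5, 653, 75, [4175, 5497, 5495, 5447]⟩) (.leaf ⟨1123, 11, 1468, 13, [9398, 8707, 13689]⟩))) (.node (.node (.leaf ⟨269, 2, 268, 16, [3446, 3165]⟩) (.leaf ⟨1283, 0, 1202, 35, [11641, 11638, 8841, 10279, 10284]⟩)) (.node (.leaf ⟨220, 4, 856, 0, []⟩)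 (.leaf ⟨0, 12, 0, 0, []⟩))))) (.node (.node (.node (.node (.leaf ⟨104, 0, 56, 35, [889, 886, 566, 580, 498]⟩) (.leaf ⟨1084, 4, 1085, 0, []⟩)) (.node (.leaf ⟨390, 4, 603, 91, [2750, 3358, 2171, 4983]⟩) (.leaf ⟨1426, 7, 1356, 4, [13171, 5639, 6383, 12416]⟩))) (.node (.node (.leaf ⟨412, 12, 218, 16, [2937, 2479]⟩) (.leaf ⟨985, 11, 1083, 13, [9897, 9892, 11051]⟩)) (.node (.leaf ⟨762, 3, 759, 7, [7033, 7030, 7023, 7020]⟩) (.leaf ⟨1615, 2, 1571, 50, [15225, 9512, 11216, 9056, 14679]⟩)))) (.node (.node (.node (.leaf ⟨187, 3, 283, 24, [1911, 1891]⟩) (.leaf ⟨541, 4, 1190, 0, []⟩)) (.node (.leaf ⟨710, 0, 521, 11, [6005, 6000, 4502]⟩) (.leaf ⟨1534, 1, 797, 38, [14201, 7401, 7394]⟩))) (.node (.node (.leaf ⟨205, 3, 459, 24, [3955, 3695]⟩) (.leaf ⟨1323, 9, 976, 84, [12151, 5109, 5088, 3663, 7189, 11445, 8214]⟩)) (.node (.leaf ⟨950, 2, 840, 5, [8055, 3357, 3119, 7436]⟩) (.leaf ⟨0, 12,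 0, 0, []⟩))))))) (.node (.node (.node (.node (.node (.node (.leaf ⟨26, 1, 27, 0, []⟩) (.leaf ⟨1007, 4, 1008, 0, []⟩)) (.node (.leaf ⟨291, 2, 491, 0, []⟩) (.leaf ⟨1371, 6, 1352, 2, [12537, 12532, 12392]⟩))) (.node (.node (.leaf ⟨274, 5, 340, 52, [2258, 533, 2044, 680, 194, 919, 2287]⟩) (.leaf ⟨770, 11, 922, 13, [7267, 7373, 10489]⟩)) (.node (.leaf ⟨678, 12, 703, 53, [5685, 5636, 6383, 6389, 5942]⟩) (.leaf ⟨1563, 4, 1489, 54, [14585, 14263, 14259]⟩)))) (.node (.node (.node (.leaf ⟨32, 4, 161, 0, []⟩) (.leaf ⟨1128, 7, 1011, 4, [9455, 9448, 8486, 8474]⟩)) (.node (.leaf ⟨527, 11, 638, 37, [4771, 4515, 1003, 4739, 1242, 5030, 5369]⟩) (.leaf ⟨1377, 11, 1022, 13, [13561, 13552, 12767]⟩))) (.node (.node (.leaf ⟨445, 3, 355, 79, [3313, 3314, 2375, 793, 2177, 2188, 2169, 3062, 3069]⟩) (.leaf ⟨1273, 2, 1243, 5, [11507, 11487, 11474, 10664]⟩)) (.node (.leaf ⟨207, 4, 838, 0, []⟩) (.leaf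 ⟨0, 12, 0, 0, []⟩))))) (.node (.node (.node (.node (.leaf ⟨92, 7, 92, 4, [755, 748, 747, 754]⟩) (.leaf ⟨1066, 4, 1067, 0, []⟩)) (.node (.leaf ⟨575, 3, 496, 30, [4857, 4430]⟩) (.leaf ⟨1222, 1, 1416, 48, [10444, 12766, 13045]⟩))) (.node (.node (.leaf ⟨95, 11, 403, 13, [794, 630, 2809]⟩) (.leaf ⟨1074, 1, 1199, 101, [9010, 8816, 11001]⟩)) (.node (.leaf ⟨728, 0, 563, 23, [6904, 6813]⟩) (.leaf ⟨1605, 5, 1480, 82, [15093, 14823, 14141, 14148]⟩)))) (.node (.node (.node (.leaf ⟨260, 1, 83, 38, [1785, 687, 685]⟩) (.leaf ⟨968, 1, 958, 48, [8242, 9977, 8968]⟩)) (.node (.leaf ⟨646, 9, 697, 21, [5359, 1455, 1450, 5859]⟩) (.leaf ⟨784, 8, 1521, 0, []⟩))) (.node (.node (.leaf ⟨397, 1, 397, 15, [3830, 3825, 3831]⟩) (.leaf ⟨1309, 4, 1310, 0, []⟩)) (.node (.leaf ⟨936, 6, 928, 2, [7929, 7924, 7880]⟩) (.leaf ⟨0, 12, 0, 0, []⟩)))))) (.node (.node (.node (.node (.node (.leaf ⟨10, 4, 59, 0, []⟩)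 (.leaf ⟨720, 5, 1030, 73, [8694, 8671]⟩)) (.node (.leaf ⟨532, 10, 116, 9, [4573, 1156, 1151]⟩) (.leaf ⟨1393, 6, 1362, 2, [12793, 12786, 12454]⟩))) (.node (.node (.leaf ⟨304, 9, 305, 21, [2087, 2542, 2551, 2093]⟩) (.leaf ⟨1251, 3, 1215, 7, [10743, 10736, 10382, 10390]⟩)) (.node (.leaf ⟨712, 2, 698, 6, [6064, 6645]⟩) (.leaf ⟨1153, 8, 1585, 17, [11085, 11867, 11872, 14839]⟩)))) (.node (.node (.node (.leaf ⟨183, 2, 118, 5, [1523, 1511, 1506, 1008]⟩) (.leaf ⟨1154, 2, 916, 5, [9715, 9705, 3314, 7792]⟩)) (.node (.leaf ⟨570, 7, 549, 25, [5616, 5612]⟩) (.leaf ⟨1488, 10, 1072, 9, [13817, 11925, 11932]⟩))) (.node (.node (.leaf ⟨395, 2, 452, 0, []⟩) (.leaf ⟨1292, 3, 1288, 7, [11765, 4047, 11712, 11724]⟩)) (.node (.leaf ⟨227, 4, 888, 0, []⟩) (.leaf ⟨0, 12, 0, 0, []⟩))))) (.node (.node (.node (.node (.leaf ⟨119, 3, 114, 7, [1013, 239, 996, 1000]⟩) (.leaf ⟨313, 4, 1102, 0, []⟩)) (.node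 (.leaf ⟨377, 4, 507, 54, [3232, 5113, 4710]⟩) (.leaf ⟨1436, 3, 1362, 7, [13303, 5292, 12442, 12454]⟩))) (.node (.node (.leaf ⟨355, 0, 198, 23, [3064, 3041]⟩) (.leaf ⟨1223, 1, 763, 48, [10454, 11257, 10416]⟩)) (.node (.leaf ⟨790, 7, 787, 4, [7161, 2834, 2828, 7144]⟩) (.leaf ⟨1625, 2, 1593, 50, [15353, 10094, 9703, 9686, 14947]⟩)))) (.node (.node (.node (.leaf ⟨63, 1, 100, 15, [2025, 1688]⟩) (.leaf ⟨1197, 3, 902, 7, [10229, 10218, 8101, 8098]⟩)) (.node (.leaf ⟨546, 6, 658, 18, [5464, 5141, 5139, 6124, 6131]⟩) (.leaf ⟨1353, 1, 1544, 0, []⟩))) (.node (.node (.leaf ⟨484, 0, 339, 11, [4085, 2596, 2274]⟩) (.leaf ⟨1339, 8, 1010, 62, [12279, 6622, 5379, 4615, 1193, 5196, 8466]⟩)) (.node (.leaf ⟨898, 0, 974, 31, [7720, 3494, 8185]⟩) (.leaf ⟨0, 12, 0, 0, []⟩))))))))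

def factB62 : Arr (CFact) :=
  (.node (.node (.node (.node (.node (.node (.node (.leaf ⟨10, 6, 7, 18, [94, 123, 108, 28, 76]⟩) (.leaf ⟨636, 12, 987, 83, [5286, 7726, 8315, 8292, 8296]⟩)) (.node (.leaf ⟨450, 0, 271, 23, [4218, 4124]⟩) (.leaf ⟨1355, 3, 1351, 7, [12411, 5829, 5825, 12390]⟩))) (.node (.node (.leaf ⟨323, 1, 324, 0, []⟩) (.leaf ⟨1212, 3, 1209, 7, [10361, 10356, 10334, 10338]⟩)) (.node (.leaf ⟨557, 1, 720, 15, [6264, 6234]⟩) (.leaf ⟨804, 11, 1555, 0, []⟩)))) (.node (.node (.node (.leaf ⟨116, 0, 134, 3, [1005, 1145, 1142, 1138, 1076]⟩) (.leaf ⟨1118, 7, 919, 4, [9335, 9330, 7805, 7810]⟩)) (.node (.leaf ⟨562, 3, 631, 44, [4777, 1427, 5241, 5239, 5237]⟩) (.leaf ⟨1445, 4, 640, 36, [13427, 13418, 13116, 5327]⟩))) (.node (.node (.leaf ⟨438, 2, 439, 0, []⟩) (.leaf ⟨1266, 0, 1246, 3, [11385, 11372, 10733, 10740, 10696]⟩)) (.node (.leaf ⟨814, 4, 815, 0, []⟩) (.leaf ⟨0,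 12, 0, 0, []⟩))))) (.node (.node (.node (.node (.leaf ⟨68, 3, 77, 30, [575, 635]⟩) (.leaf ⟨727, 12, 1048, 91, [6348, 6193, 2083, 8823, 8821]⟩)) (.node (.leaf ⟨505, 12, 155, 16, [4731, 1368]⟩) (.leaf ⟨1406, 3, 1399, 7, [12923, 12918, 12858, 12864]⟩))) (.node (.node (.leaf ⟨384, 1, 385, 0, []⟩) (.leaf ⟨1259, 6, 1060, 2, [10875, 3436, 8910]⟩)) (.node (.leaf ⟨687, 6, 748, 18, [5789, 6525, 6513, 1381, 6773]⟩) (.leaf ⟨1504, 5, 1594, 106, [14299, 14292, 14140, 14822, 14820, 14971]⟩)))) (.node (.node (.node (.leaf ⟨226, 12, 225, 14, [1654, 1656, 924, 1657, 1655, 1653]⟩) (.leaf ⟨1167, 3, 1063, 7, [9847, 9840, 8920, 8926]⟩)) (.node (.leaf ⟨139, 11, 686, 0, []⟩) (.leaf ⟨1508, 0, 1464, 11, [13945, 13942, 13658]⟩))) (.node (.node (.leaf ⟨253, 10, 459, 9, [1759, 3407, 3693]⟩) (.leaf ⟨1197, 10, 1301, 9, [11222, 7743, 11899]⟩)) (.node (.leaf ⟨918, 6, 834, 2, [7803, 3957, 7402]⟩) (.leaf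 ⟨0, 12, 0, 0, []⟩)))))) (.node (.node (.node (.node (.node (.leaf ⟨25, 3, 35, 24, [377, 349]⟩) (.leaf ⟨1019, 2, 766, 5, [8565, 8553, 3343, 7050]⟩)) (.node (.leaf ⟨510, 1, 511, 0, []⟩) (.leaf ⟨1384, 1, 1277, 38, [12667, 11718, 11563]⟩))) (.node (.node (.leaf ⟨61, 1, 358, 0, []⟩) (.leaf ⟨1238, 0, 833, 3, [10617, 6723, 6725, 5543, 7392]⟩)) (.node (.leaf ⟨738, 2, 569, 29, [6513, 1331, 6291, 6303, 4796, 4801, 4654, 5787, 5789]⟩) (.leaf ⟨1002, 10, 1574, 97, [8400, 11315, 9133, 4149, 11712, 14466, 14715]⟩)))) (.node (.node (.node (.leaf ⟨173, 0, 155, 3, [1401, 345, 342, 433, 1236]⟩) (.leaf ⟨1025, 6, 1143, 86, [8625, 7084, 4290, 9593]⟩)) (.node (.leaf ⟨548, 4, 309, 54, [5449, 5499, 2528]⟩) (.leaf ⟨757, 11, 1469, 0, []⟩))) (.node (.node (.leaf ⟨269, 3, 379, 24, [3446, 2671]⟩) (.leaf ⟨1283, 3, 1100, 7, [11641, 11634, 9186, 9192]⟩)) (.node (.leaf ⟨856, 4, 857, 0, []⟩) (.leaf ⟨0,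 12, 0, 0, []⟩))))) (.node (.node (.node (.node (.leaf ⟨104, 3, 83, 7, [889, 882, 716, 682]⟩) (.leaf ⟨1085, 3, 1076, 7, [9083, 9080, 9042, 9028]⟩)) (.node (.leaf ⟨125, 1, 604, 0, []⟩) (.leaf ⟨911, 1, 1426, 14, [7784, 10721, 10765, 12190, 13177]⟩))) (.node (.node (.leaf ⟨217, 2, 415, 16, [2935, 2920]⟩) (.leaf ⟨778, 10, 1156, 9, [11035, 8876, 9749]⟩)) (.node (.leaf ⟨762, 4, 763, 0, []⟩) (.leaf ⟨1615, 3, 1609, 44, [15225, 9506, 13462, 13460, 15147]⟩)))) (.node (.node (.node (.leaf ⟨283, 3, 188, 30, [1915, 1554]⟩) (.leaf ⟨1190, 6, 867, 2, [10107, 6737, 7592]⟩)) (.node (.leaf ⟨650, 10, 710, 9, [5401, 5406, 6007]⟩) (.leaf ⟨1517, 3, 1534, 44, [14052, 12539, 12546, 8062, 14203]⟩))) (.node (.node (.leaf ⟨205, 7, 458, 25, [3955, 3706]⟩) (.leaf ⟨1145, 1, 1323, 94, [11999, 11994, 11441, 12155]⟩)) (.node (.leaf ⟨950, 4, 951, 0, []⟩) (.leaf ⟨0, 12, 0, 0, []⟩))))))) (.node (.node (.node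 (.node (.node (.node (.leaf ⟨27, 0, 27, 10, [251, 249, 250]⟩) (.leaf ⟨1008, 4, 278, 8, [8443, 8441, 8435, 8429, 5171, 2647]⟩)) (.node (.leaf ⟨491, 2, 290, 6, [4347, 1947]⟩) (.leaf ⟨1371, 3, 1369, 7, [12537, 12534, 12529, 12526]⟩))) (.node (.node (.leaf ⟨211, 2, 341, 0, []⟩) (.leaf ⟨1041, 1, 1130, 48, [8766, 10489, 9485]⟩)) (.node (.leaf ⟨678, 0, 580, 23, [6394, 5944]⟩) (.leaf ⟨1125, 10, 1563, 97, [9422, 5485, 8889, 11112, 8112, 13837, 14587]⟩)))) (.node (.node (.node (.leaf ⟨161, 6, 161, 2, [1275, 339, 1274]⟩) (.leaf ⟨336, 4, 1129, 0, []⟩)) (.node (.leaf ⟨584, 0, 638, 95, [4896, 5007, 5019, 5369]⟩) (.leaf ⟨891, 10, 1454, 9, [12482, 12708, 13561]⟩))) (.node (.node (.leaf ⟨319, 6, 404, 18, [2164, 3049, 3069, 3323, 3313]⟩) (.leaf ⟨1273, 4, 662, 36, [11507, 11494, 10649, 6341]⟩)) (.node (.leaf ⟨838, 0, 768, 3, [7419, 3940, 2405, 3430, 7056]⟩) (.leaf ⟨0, 12, 0, 0, []⟩)))))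 (.node (.node (.node (.node (.leaf ⟨92, 4, 93, 0, []⟩) (.leaf ⟨1067, 4, 1068, 0, []⟩)) (.node (.leaf ⟨499, 6, 574, 18, [4437, 4435, 4433, 4859, 4827]⟩) (.leaf ⟨1416, 10, 1030, 9, [13051, 10442, 9317]⟩))) (.node (.node (.leaf ⟨402, 12, 356, 14, [2806, 2808, 630, 2809, 2807, 2801]⟩) (.leaf ⟨1164, 1, 972, 48, [10255, 11003, 9012]⟩)) (.node (.leaf ⟨728, 1, 751, 15, [6904, 6880]⟩) (.leaf ⟨1605, 0, 1592, 11, [15093, 15048, 15042]⟩)))) (.node (.node (.node (.leaf ⟨48, 1, 261, 0, []⟩) (.leaf ⟨844, 9, 1077, 84, [7459, 1750, 688, 3740, 9935, 9975, 9032]⟩)) (.node (.leaf ⟨153, 8, 583, 17, [5859, 5865, 4901, 4895]⟩) (.leaf ⟨1521, 1, 1205, 53, [14075, 7763, 8324, 10315]⟩))) (.node (.node (.leaf ⟨397, 2, 426, 16, [3830, 3822]⟩) (.leaf ⟨1310, 6, 763, 2, [12027, 12020, 7036]⟩)) (.node (.leaf ⟨936, 3, 934, 7, [7929, 7926, 7917, 7914]⟩) (.leaf ⟨0, 12, 0, 0, []⟩)))))) (.node (.node (.node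 (.node (.node (.leaf ⟨59, 6, 59, 2, [507, 93, 506]⟩) (.leaf ⟨1032, 6, 1023, 2, [8697, 6253, 8604]⟩)) (.node (.leaf ⟨116, 9, 536, 0, []⟩) (.leaf ⟨1393, 2, 1339, 5, [12793, 12783, 6617, 12278]⟩))) (.node (.node (.leaf ⟨62, 10, 369, 0, []⟩) (.leaf ⟨1251, 2, 1210, 5, [10743, 10731, 10729, 10342]⟩)) (.node (.leaf ⟨743, 0, 698, 32, [6634, 5364, 6645]⟩) (.leaf ⟨1585, 5, 1573, 52, [14843, 9705, 3429, 8704, 14006, 10751, 14699]⟩)))) (.node (.node (.node (.leaf ⟨183, 7, 129, 4, [1523, 1514, 1131, 1054]⟩) (.leaf ⟨1154, 4, 580, 36, [9715, 9712, 7790, 4879]⟩)) (.node (.leaf ⟨570, 10, 552, 47, [5616, 5615]⟩) (.leaf ⟨1488, 6, 1485, 18, [13817, 8301, 11151, 8583, 13799]⟩))) (.node (.node (.leaf ⟨452, 7, 420, 20, [3579, 2991, 2994]⟩) (.leaf ⟨1292, 7, 905, 4, [11765, 4050, 2674, 7746]⟩)) (.node (.leaf ⟨888, 3, 884, 7, [7675, 1665, 7650, 7654]⟩) (.leaf ⟨0, 12, 0, 0, []⟩))))) (.node (.node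 (.node (.node (.leaf ⟨119, 4, 120, 0, []⟩) (.leaf ⟨1102, 0, 862, 3, [9211, 2669, 3435, 3503, 7560]⟩)) (.node (.leaf ⟨360, 5, 496, 90, [3653, 2396, 5091, 4858]⟩) (.leaf ⟨1436, 4, 702, 36, [13303, 5295, 6552, 6389]⟩))) (.node (.node (.leaf ⟨355, 1, 428, 15, [3064, 3042]⟩) (.leaf ⟨896, 1, 1228, 43, [8315, 11026, 7039, 11259, 10527]⟩)) (.node (.leaf ⟨790, 4, 791, 0, []⟩) (.leaf ⟨1625, 3, 1586, 44, [15353, 10090, 12497, 12490, 14860]⟩)))) (.node (.node (.node (.leaf ⟨63, 10, 82, 47, [2025, 1691]⟩) (.leaf ⟨1197, 2, 953, 5, [10229, 10213, 2695, 8080]⟩)) (.node (.leaf ⟨595, 11, 617, 13, [6135, 6139, 5464]⟩) (.leaf ⟨1544, 3, 1518, 44, [14331, 12503, 12509, 8781, 14057]⟩))) (.node (.node (.leaf ⟨428, 5, 484, 65, [3044, 3524, 4091]⟩) (.leaf ⟨1242, 1, 1339, 58, [10658, 9303, 11180, 12283]⟩)) (.node (.leaf ⟨562, 12, 973, 91, [4782, 6179, 1807, 8185, 8181]⟩) (.leaf ⟨0, 12, 0, 0, []⟩))))))))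

def factB63 : Arr (CFact) :=
  (.node (.node (.node (.node (.node (.node (.node (.leaf ⟨1, 9, 15, 0, []⟩) (.leaf ⟨636, 4, 988, 68, [8316, 8298]⟩)) (.node (.leaf ⟨450, 1, 487, 15, [4218, 4202]⟩) (.leaf ⟨1355, 4, 519, 36, [12411, 6038, 6037, 5299]⟩))) (.node (.node (.leaf ⟨324, 2, 325, 0, []⟩) (.leaf ⟨568, 5, 1212, 82, [4801, 10345, 10343, 10365]⟩)) (.node (.leaf ⟨557, 3, 718, 24, [6264, 6231]⟩) (.leaf ⟨1555, 1, 807, 38, [14461, 7228, 7249]⟩)))) (.node (.node (.node (.leaf ⟨116, 7, 116, 4, [1005, 1145, 1142, 1004]⟩) (.leaf ⟨361, 5, 1118, 60, [2907, 7864, 8405, 8402, 9341]⟩)) (.node (.leaf ⟨562, 0, 633, 10, [4777, 1429, 5241]⟩) (.leaf ⟨1228, 11, 1445, 37, [10532, 11267, 7923, 4759, 1294, 6066, 13437]⟩))) (.node (.node (.leaf ⟨439, 7, 406, 20, [3197, 3192, 2850]⟩) (.leaf ⟨1266, 3, 1225, 7, [11385, 11374, 10460, 10470]⟩)) (.node (.leaf ⟨815, 4, 816, 0, []⟩) (.leaf ⟨0, 12,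 0, 0, []⟩))))) (.node (.node (.node (.node (.leaf ⟨77, 4, 78, 0, []⟩) (.leaf ⟨727, 4, 1049, 68, [8828, 8820]⟩)) (.node (.leaf ⟨155, 1, 114, 15, [4733, 4463]⟩) (.leaf ⟨1321, 0, 1406, 11, [12132, 12869, 12925]⟩))) (.node (.node (.leaf ⟨385, 2, 386, 0, []⟩) (.leaf ⟨1259, 9, 765, 84, [10875, 3474, 7746, 9249, 9247, 4288, 7046]⟩)) (.node (.leaf ⟨633, 9, 748, 21, [5240, 1432, 1377, 6773]⟩) (.leaf ⟨1521, 2, 1595, 0, []⟩)))) (.node (.node (.node (.leaf ⟨225, 1, 225, 15, [1661, 1653]⟩) (.leaf ⟨1167, 2, 1055, 5, [9847, 9835, 2535, 8874]⟩)) (.node (.leaf ⟨686, 1, 169, 38, [5757, 1509, 1500]⟩) (.leaf ⟨1473, 5, 1508, 65, [13724, 13667, 13949]⟩))) (.node (.node (.leaf ⟨90, 11, 459, 13, [742, 737, 3691]⟩) (.leaf ⟨1132, 9, 1198, 84, [9505, 2811, 798, 4194, 11897, 11901, 10238]⟩)) (.node (.leaf ⟨918, 3, 917, 7, [7803, 2380, 7792, 7796]⟩) (.leaf ⟨0, 12, 0, 0, []⟩)))))) (.node (.node (.node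 (.node (.node (.leaf ⟨25, 7, 27, 25, [377, 350]⟩) (.leaf ⟨1019, 4, 747, 36, [8565, 8560, 7048, 6721]⟩)) (.node (.leaf ⟨511, 2, 512, 0, []⟩) (.leaf ⟨1277, 10, 1350, 9, [12669, 12658, 12628]⟩))) (.node (.node (.leaf ⟨358, 6, 211, 18, [2429, 520, 2284, 2295, 1617]⟩) (.leaf ⟨1238, 3, 1039, 7, [10617, 4629, 4942, 8740]⟩)) (.node (.leaf ⟨569, 12, 669, 20, [6525, 6516, 5265, 5635]⟩) (.leaf ⟨1574, 7, 1463, 19, [14717, 13745, 13747]⟩)))) (.node (.node (.node (.leaf ⟨173, 3, 132, 7, [1401, 384, 1060, 1068]⟩) (.leaf ⟨1142, 0, 1024, 31, [9590, 9597, 8617]⟩)) (.node (.leaf ⟨548, 6, 654, 86, [5449, 5499, 4175, 5497]⟩) (.leaf ⟨1469, 1, 1252, 38, [13693, 10823, 10812]⟩))) (.node (.node (.leaf ⟨269, 6, 266, 26, [3446, 2721]⟩) (.leaf ⟨1283, 2, 1181, 5, [11641, 11629, 3758, 10020]⟩)) (.node (.leaf ⟨857, 4, 858, 0, []⟩) (.leaf ⟨0, 12, 0, 0, []⟩))))) (.node (.node (.node (.node (.leaf ⟨104,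 2, 90, 5, [889, 881, 876, 734]⟩) (.leaf ⟨1085, 7, 956, 34, [9083, 9078, 8267, 8088]⟩)) (.node (.leaf ⟨604, 10, 167, 9, [4989, 1047, 1343]⟩) (.leaf ⟨1426, 10, 1012, 9, [13181, 7879, 8493]⟩))) (.node (.node (.leaf ⟨218, 1, 411, 15, [2939, 2915]⟩) (.leaf ⟨1250, 11, 1055, 13, [10740, 10690, 11035]⟩)) (.node (.leaf ⟨763, 3, 754, 7, [7037, 7034, 7016, 7004]⟩) (.leaf ⟨1615, 0, 1584, 10, [15225, 9508, 14828]⟩)))) (.node (.node (.node (.leaf ⟨191, 6, 282, 18, [1561, 1559, 1557, 1917, 1885]⟩) (.leaf ⟨1190, 3, 995, 7, [10107, 5777, 8372, 8340]⟩)) (.node (.leaf ⟨710, 1, 711, 0, []⟩) (.leaf ⟨1485, 0, 1534, 10, [13798, 8580, 14203]⟩))) (.node (.node (.leaf ⟨473, 11, 202, 13, [3949, 3946, 1593]⟩) (.leaf ⟨1323, 4, 1324, 0, []⟩)) (.node (.leaf ⟨951, 3, 797, 7, [8061, 8056, 7195, 7192]⟩) (.leaf ⟨0, 12, 0, 0, []⟩))))))) (.node (.node (.node (.node (.node (.node (.leaf ⟨27, 2, 28, 0, []⟩)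 (.leaf ⟨934, 0, 1008, 31, [7910, 2644, 8445]⟩)) (.node (.leaf ⟨491, 0, 217, 11, [4347, 2504, 2321]⟩) (.leaf ⟨743, 5, 1371, 82, [6631, 5832, 12521, 12541]⟩))) (.node (.node (.leaf ⟨341, 2, 210, 6, [2301, 1615]⟩) (.leaf ⟨818, 11, 1041, 13, [7795, 9483, 10493]⟩)) (.node (.leaf ⟨678, 1, 702, 15, [6394, 5943]⟩) (.leaf ⟨1496, 2, 1564, 0, []⟩)))) (.node (.node (.node (.leaf ⟨161, 0, 113, 3, [1275, 339, 387, 402, 996]⟩) (.leaf ⟨1129, 6, 827, 2, [9469, 2235, 7352]⟩)) (.node (.leaf ⟨606, 5, 584, 65, [5028, 5369, 5373]⟩) (.leaf ⟨835, 9, 1378, 40, [7405, 11703, 9324, 6892, 8603, 13563, 12582]⟩))) (.node (.node (.leaf ⟨325, 7, 445, 20, [2185, 3074, 3323]⟩) (.leaf ⟨1273, 7, 1116, 4, [11507, 11490, 9311, 9318]⟩)) (.node (.leaf ⟨838, 2, 797, 5, [7419, 4975, 5546, 7192]⟩) (.leaf ⟨0, 12, 0, 0, []⟩))))) (.node (.node (.node (.node (.leaf ⟨93, 6, 75, 2, [765, 758, 610]⟩) (.leaf ⟨1068, 4,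 1069, 0, []⟩)) (.node (.leaf ⟨496, 11, 498, 13, [4825, 4861, 4437]⟩) (.leaf ⟨1416, 4, 1417, 0, []⟩))) (.node (.node (.leaf ⟨356, 1, 356, 15, [2813, 2801]⟩) (.leaf ⟨1209, 1, 1156, 14, [10365, 10373, 8246, 11005, 9814]⟩)) (.node (.leaf ⟨728, 2, 632, 16, [6904, 6820]⟩) (.leaf ⟨846, 1, 1606, 0, []⟩)))) (.node (.node (.node (.leaf ⟨261, 6, 222, 18, [1789, 468, 1640, 1642, 1644]⟩) (.leaf ⟨658, 4, 1178, 0, []⟩)) (.node (.leaf ⟨643, 8, 697, 17, [5336, 1390, 1221, 5859]⟩) (.leaf ⟨979, 11, 1521, 13, [11757, 11752, 14077]⟩))) (.node (.node (.leaf ⟨397, 3, 398, 24, [3830, 3821]⟩) (.leaf ⟨1310, 0, 1209, 3, [12027, 12020, 11469, 11476, 10338]⟩)) (.node (.leaf ⟨936, 7, 912, 4, [7929, 7924, 7878, 7766]⟩) (.leaf ⟨0, 12, 0, 0, []⟩)))))) (.node (.node (.node (.node (.node (.leaf ⟨59, 3, 54, 7, [507, 91, 490, 494]⟩) (.leaf ⟨755, 7, 799, 20, [8609, 8701, 8674]⟩)) (.node (.leaf ⟨536, 1, 150,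 22, [4605, 4565, 1023, 1195]⟩) (.leaf ⟨1327, 0, 1393, 32, [12227, 12274, 12797]⟩))) (.node (.node (.leaf ⟨369, 7, 304, 19, [2557, 2512, 2516]⟩) (.leaf ⟨1251, 4, 1252, 0, []⟩)) (.node (.leaf ⟨698, 7, 697, 20, [6651, 6057, 5876]⟩) (.leaf ⟨1573, 11, 1184, 100, [14845, 14843, 9705, 3320, 8552, 10922, 10055]⟩)))) (.node (.node (.node (.leaf ⟨183, 4, 184, 0, []⟩) (.leaf ⟨1154, 7, 1136, 4, [9715, 9708, 9545, 9554]⟩)) (.node (.leaf ⟨136, 9, 668, 0, []⟩) (.leaf ⟨1488, 9, 1384, 21, [13817, 10281, 11563, 12669]⟩))) (.node (.node (.leaf ⟨452, 2, 394, 6, [3579, 2769]⟩) (.leaf ⟨905, 11, 1250, 13, [11773, 11766, 11016]⟩)) (.node (.leaf ⟨881, 3, 888, 30, [7657, 7677]⟩) (.leaf ⟨0, 12, 0, 0, []⟩))))) (.node (.node (.node (.node (.leaf ⟨120, 3, 116, 7, [1021, 1018, 1002, 1004]⟩) (.leaf ⟨1090, 3, 1102, 39, [9130, 8272, 9213]⟩)) (.node (.leaf ⟨578, 7, 581, 20, [4855, 5067, 5064]⟩) (.leaf ⟨936,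 11, 1436, 37, [7937, 3792, 7451, 12475, 12473, 6422, 13309]⟩))) (.node (.node (.leaf ⟨355, 3, 427, 24, [3064, 3038]⟩) (.leaf ⟨1228, 10, 1047, 9, [11261, 8331, 8817]⟩)) (.node (.leaf ⟨791, 4, 792, 0, []⟩) (.leaf ⟨1625, 0, 1604, 10, [15353, 10243, 15085]⟩)))) (.node (.node (.node (.leaf ⟨55, 8, 45, 46, [2028, 1707]⟩) (.leaf ⟨1197, 4, 1198, 0, []⟩)) (.node (.leaf ⟨716, 7, 541, 20, [6125, 5760, 5776]⟩) (.leaf ⟨1544, 8, 970, 17, [14331, 12503, 12609, 12615]⟩))) (.node (.node (.leaf ⟨406, 6, 484, 87, [3225, 3393, 2820, 3524, 4091]⟩) (.leaf ⟨516, 4, 1340, 0, []⟩)) (.node (.leaf ⟨562, 3, 907, 24, [8188, 8178]⟩) (.leaf ⟨0, 12, 0, 0, []⟩))))))))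

def factB : Arr (CFact) :=
  (.node (.node (.node (.node (.node (.node factB0 factB32) (.node factB16 factB48)) (.node (.node factB8 factB40) (.node factB24 factB56))) (.node (.node (.node factB4 factB36) (.node factB20 factB52)) (.node (.node factB12 factB44) (.node factB28 factB60)))) (.node (.node (.node (.node factB2 factB34) (.node factB18 factB50)) (.node (.node factB10 factB42) (.node factB26 factB58))) (.node (.node (.node factB6 factB38) (.node factB22 factB54)) (.node (.node factB14 factB46) (.node factB30 factB62))))) (.node (.node (.node (.node (.node factB1 factB33) (.node factB17 factB49)) (.node (.node factB9 factB41) (.node factB25 factB57))) (.node (.node (.node factB5 factB37) (.node factB21 factB53)) (.node (.node factB13 factB45) (.node factB29 factB61)))) (.node (.node (.node (.node factB3 factB35) (.node factB19 factB51)) (.node (.node factB11 factB43)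 (.node factB27 factB59))) (.node (.node (.node factB7 factB39) (.node factB23 factB55)) (.node (.node factB15 factB47) (.node factB31 factB63))))))

def parB0 : Arr (ℕ × ℕ) :=
  (.node (.node (.node (.node (.node (.node (.node (.leaf (0, 0)) (.leaf (1023, 4))) (.node (.leaf (511, 2)) (.leaf (1294, 1)))) (.node (.node (.leaf (255, 2)) (.leaf (1279, 4))) (.node (.leaf (427, 4)) (.leaf (0, 0))))) (.node (.node (.node (.leaf (127, 4)) (.leaf (372, 4))) (.node (.leaf (639, 1)) (.leaf (0, 0)))) (.node (.node (.leaf (383, 2)) (.leaf (680, 4))) (.node (.leaf (895, 4)) (.leaf (0, 0)))))) (.node (.node (.node (.node (.leaf (63, 4)) (.leaf (1087, 4))) (.node (.leaf (575, 2)) (.leaf (1599, 2)))) (.node (.node (.leaf (319, 1)) (.leaf (1343, 4))) (.node (.leaf (831, 4)) (.leaf (0, 0))))) (.node (.node (.node (.leaf (191, 2)) (.leaf (394, 4))) (.node (.leaf (703, 2)) (.leaf (0, 0))))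 (.node (.node (.leaf (371, 2)) (.leaf (761, 8))) (.node (.leaf (959, 4)) (.leaf (0, 0))))))) (.node (.node (.node (.node (.node (.leaf (3, 10)) (.leaf (1055, 4))) (.node (.leaf (543, 2)) (.leaf (813, 11)))) (.node (.node (.leaf (50, 10)) (.leaf (493, 4))) (.node (.leaf (799, 4)) (.leaf (0, 0))))) (.node (.node (.node (.leaf (159, 4)) (.leaf (1183, 4))) (.node (.leaf (671, 1)) (.leaf (0, 0)))) (.node (.node (.leaf (70, 9)) (.leaf (1439, 4))) (.node (.leaf (927, 4)) (.leaf (0, 0)))))) (.node (.node (.node (.node (.leaf (95, 4)) (.leaf (319, 4))) (.node (.leaf (126, 1)) (.leaf (0, 0)))) (.node (.node (.leaf (351, 1)) (.leaf (1375, 4))) (.node (.leaf (863, 4)) (.leaf (0, 0))))) (.node (.node (.node (.leaf (223, 1)) (.leaf (560, 4))) (.node (.leaf (735, 2)) (.leaf (0, 0)))) (.node (.node (.leaf (479, 2)) (.leaf (776, 11))) (.node (.leaf (991, 4)) (.leaf (0, 0)))))))) (.node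 (.node (.node (.node (.node (.node (.leaf (1, 10)) (.leaf (1039, 4))) (.node (.leaf (116, 1)) (.leaf (1551, 2)))) (.node (.node (.leaf (271, 1)) (.leaf (1295, 4))) (.node (.leaf (783, 4)) (.leaf (0, 0))))) (.node (.node (.node (.leaf (143, 4)) (.leaf (1167, 4))) (.node (.leaf (655, 2)) (.leaf (0, 0)))) (.node (.node (.leaf (399, 1)) (.leaf (1423, 4))) (.node (.leaf (911, 4)) (.leaf (0, 0)))))) (.node (.node (.node (.node (.leaf (79, 4)) (.leaf (1103, 4))) (.node (.leaf (123, 11)) (.leaf (1399, 1)))) (.node (.node (.leaf (335, 2)) (.leaf (1359, 4))) (.node (.leaf (458, 4)) (.leaf (0, 0))))) (.node (.node (.node (.leaf (43, 1)) (.leaf (1231, 4))) (.node (.leaf (719, 1)) (.leaf (0, 0)))) (.node (.node (.leaf (84, 8)) (.leaf (894, 1))) (.node (.leaf (975, 4)) (.leaf (0, 0))))))) (.node (.node (.node (.node (.node (.leaf (47, 4)) (.leaf (1071, 4))) (.node (.leaf (118, 11))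 (.leaf (821, 1)))) (.node (.node (.leaf (303, 1)) (.leaf (1327, 4))) (.node (.leaf (815, 4)) (.leaf (0, 0))))) (.node (.node (.node (.leaf (175, 4)) (.leaf (684, 4))) (.node (.leaf (569, 2)) (.leaf (0, 0)))) (.node (.node (.leaf (431, 1)) (.leaf (670, 4))) (.node (.leaf (256, 4)) (.leaf (0, 0)))))) (.node (.node (.node (.node (.leaf (111, 4)) (.leaf (1135, 4))) (.node (.leaf (623, 2)) (.leaf (0, 0)))) (.node (.node (.leaf (303, 2)) (.leaf (649, 4))) (.node (.leaf (879, 4)) (.leaf (0, 0))))) (.node (.node (.node (.leaf (239, 2)) (.leaf (452, 4))) (.node (.leaf (503, 1)) (.leaf (0, 0)))) (.node (.node (.leaf (495, 2)) (.leaf (1519, 2))) (.node (.leaf (1007, 4)) (.leaf (0, 0)))))))))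

def parB1 : Arr (ℕ × ℕ) :=
  (.node (.node (.node (.node (.node (.node (.node (.leaf (0, 4)) (.leaf (1024, 4))) (.node (.leaf (114, 8)) (.leaf (1536, 2)))) (.node (.node (.leaf (256, 1)) (.leaf (1280, 4))) (.node (.leaf (768, 4)) (.leaf (0, 0))))) (.node (.node (.node (.leaf (128, 4)) (.leaf (404, 4))) (.node (.leaf (130, 8)) (.leaf (0, 0)))) (.node (.node (.leaf (384, 1)) (.leaf (1408, 4))) (.node (.leaf (896, 4)) (.leaf (0, 0)))))) (.node (.node (.node (.node (.leaf (11, 4)) (.leaf (1088, 4))) (.node (.leaf (576, 1)) (.leaf (1045, 1)))) (.node (.node (.leaf (320, 2)) (.leaf (517, 4))) (.node (.leaf (601, 4)) (.leaf (0, 0))))) (.node (.node (.node (.leaf (41, 8)) (.leaf (1216, 4))) (.node (.leaf (704, 1)) (.leaf (0, 0)))) (.node (.node (.leaf (448, 1)) (.leaf (764, 1))) (.node (.leaf (960, 4)) (.leaf (0, 0))))))) (.node (.node (.node (.node (.node (.leaf (8, 2)) (.leaf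 (597, 4))) (.node (.leaf (117, 8)) (.leaf (1260, 1)))) (.node (.node (.leaf (50, 11)) (.leaf (1312, 4))) (.node (.leaf (800, 4)) (.leaf (0, 0))))) (.node (.node (.node (.leaf (32, 4)) (.leaf (1184, 4))) (.node (.leaf (672, 2)) (.leaf (0, 0)))) (.node (.node (.leaf (71, 1)) (.leaf (640, 4))) (.node (.leaf (928, 4)) (.leaf (0, 0)))))) (.node (.node (.node (.node (.leaf (96, 4)) (.leaf (1120, 4))) (.node (.leaf (574, 2)) (.leaf (0, 0)))) (.node (.node (.leaf (352, 2)) (.leaf (1376, 4))) (.node (.leaf (864, 4)) (.leaf (0, 0))))) (.node (.node (.node (.leaf (224, 2)) (.leaf (423, 4))) (.node (.leaf (621, 2)) (.leaf (0, 0)))) (.node (.node (.leaf (480, 1)) (.leaf (917, 1))) (.node (.leaf (992, 4)) (.leaf (0, 0)))))))) (.node (.node (.node (.node (.node (.node (.leaf (10, 2)) (.leaf (297, 4))) (.node (.leaf (528, 2)) (.leaf (1491, 2)))) (.node (.node (.leaf (272, 2)) (.leaf (482,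 4))) (.node (.leaf (784, 4)) (.leaf (0, 0))))) (.node (.node (.node (.leaf (144, 4)) (.leaf (1168, 4))) (.node (.leaf (656, 1)) (.leaf (0, 0)))) (.node (.node (.leaf (400, 2)) (.leaf (650, 4))) (.node (.leaf (912, 4)) (.leaf (0, 0)))))) (.node (.node (.node (.node (.leaf (80, 4)) (.leaf (1104, 4))) (.node (.leaf (124, 1)) (.leaf (1613, 2)))) (.node (.node (.leaf (57, 8)) (.leaf (521, 4))) (.node (.leaf (848, 4)) (.leaf (0, 0))))) (.node (.node (.node (.leaf (208, 2)) (.leaf (1232, 4))) (.node (.leaf (720, 2)) (.leaf (0, 0)))) (.node (.node (.leaf (84, 10)) (.leaf (1488, 2))) (.node (.leaf (976, 4)) (.leaf (0, 0))))))) (.node (.node (.node (.node (.node (.leaf (48, 4)) (.leaf (1072, 4))) (.node (.leaf (119, 1)) (.leaf (1584, 2)))) (.node (.node (.leaf (304, 2)) (.leaf (498, 4))) (.node (.leaf (816, 4)) (.leaf (0, 0))))) (.node (.node (.node (.leaf (176, 4)) (.leaf (386,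 4))) (.node (.leaf (688, 1)) (.leaf (0, 0)))) (.node (.node (.leaf (73, 8)) (.leaf (1456, 4))) (.node (.leaf (944, 4)) (.leaf (0, 0)))))) (.node (.node (.node (.node (.leaf (23, 4)) (.leaf (739, 4))) (.node (.leaf (128, 10)) (.leaf (0, 0)))) (.node (.node (.leaf (62, 10)) (.leaf (1392, 4))) (.node (.leaf (880, 4)) (.leaf (0, 0))))) (.node (.node (.node (.leaf (240, 1)) (.leaf (1264, 4))) (.node (.leaf (501, 2)) (.leaf (0, 0)))) (.node (.node (.leaf (496, 1)) (.leaf (784, 8))) (.node (.leaf (273, 4)) (.leaf (0, 0)))))))))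

def parB2 : Arr (ℕ × ℕ) :=
  (.node (.node (.node (.node (.node (.node (.node (.leaf (1, 4)) (.leaf (288, 4))) (.node (.leaf (114, 9)) (.leaf (1486, 2)))) (.node (.node (.leaf (47, 8)) (.leaf (463, 4))) (.node (.leaf (211, 4)) (.leaf (0, 0))))) (.node (.node (.node (.leaf (129, 4)) (.leaf (1153, 4))) (.node (.leaf (130, 10)) (.leaf (0, 0)))) (.node (.node (.leaf (385, 2)) (.leaf (1409, 4))) (.node (.leaf (897, 4)) (.leaf (0, 0)))))) (.node (.node (.node (.node (.leaf (65, 4)) (.leaf (1089, 4))) (.node (.leaf (577, 2)) (.leaf (1601, 2)))) (.node (.node (.leaf (321, 1)) (.leaf (707, 4))) (.node (.leaf (205, 4)) (.leaf (0, 0))))) (.node (.node (.node (.leaf (41, 9)) (.leaf (1217, 4))) (.node (.leaf (143, 8)) (.leaf (0, 0)))) (.node (.node (.leaf (79, 8)) (.leaf (1473, 2))) (.node (.leaf (961, 4)) (.leaf (0, 0))))))) (.node (.node (.node (.node (.node (.leaf (5, 1)) (.leaf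 (1057, 4))) (.node (.leaf (117, 9)) (.leaf (1569, 2)))) (.node (.node (.leaf (51, 1)) (.leaf (1313, 4))) (.node (.leaf (801, 4)) (.leaf (0, 0))))) (.node (.node (.node (.leaf (161, 4)) (.leaf (379, 4))) (.node (.leaf (673, 1)) (.leaf (0, 0)))) (.node (.node (.leaf (417, 2)) (.leaf (645, 4))) (.node (.leaf (929, 4)) (.leaf (0, 0)))))) (.node (.node (.node (.node (.leaf (97, 4)) (.leaf (495, 4))) (.node (.leaf (609, 1)) (.leaf (0, 0)))) (.node (.node (.leaf (353, 1)) (.leaf (1377, 4))) (.node (.leaf (865, 4)) (.leaf (0, 0))))) (.node (.node (.node (.leaf (225, 1)) (.leaf (1249, 4))) (.node (.leaf (157, 1)) (.leaf (0, 0)))) (.node (.node (.leaf (481, 2)) (.leaf (1505, 2))) (.node (.leaf (993, 4)) (.leaf (0, 0)))))))) (.node (.node (.node (.node (.node (.node (.leaf (17, 1)) (.leaf (322, 4))) (.node (.leaf (529, 1)) (.leaf (804, 10)))) (.node (.node (.leaf (273, 1)) (.leaf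 (1297, 4))) (.node (.leaf (785, 4)) (.leaf (0, 0))))) (.node (.node (.node (.leaf (145, 4)) (.leaf (1169, 4))) (.node (.leaf (135, 8)) (.leaf (0, 0)))) (.node (.node (.leaf (401, 1)) (.leaf (608, 4))) (.node (.leaf (913, 4)) (.leaf (0, 0)))))) (.node (.node (.node (.node (.leaf (81, 4)) (.leaf (596, 4))) (.node (.leaf (593, 2)) (.leaf (1517, 2)))) (.node (.node (.leaf (57, 10)) (.leaf (1361, 4))) (.node (.leaf (323, 4)) (.leaf (0, 0))))) (.node (.node (.node (.leaf (209, 1)) (.leaf (1233, 4))) (.node (.leaf (721, 1)) (.leaf (0, 0)))) (.node (.node (.leaf (85, 1)) (.leaf (1489, 1))) (.node (.leaf (977, 4)) (.leaf (0, 0))))))) (.node (.node (.node (.node (.node (.leaf (49, 4)) (.leaf (1073, 4))) (.node (.leaf (121, 1)) (.leaf (821, 10)))) (.node (.node (.leaf (305, 1)) (.leaf (1329, 4))) (.node (.leaf (200, 4)) (.leaf (0, 0))))) (.node (.node (.node (.leaf (177, 4)) (.leaf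 (1201, 4))) (.node (.leaf (141, 10)) (.leaf (0, 0)))) (.node (.node (.leaf (73, 9)) (.leaf (1457, 4))) (.node (.leaf (732, 4)) (.leaf (0, 0)))))) (.node (.node (.node (.node (.leaf (113, 4)) (.leaf (347, 4))) (.node (.leaf (129, 1)) (.leaf (0, 0)))) (.node (.node (.leaf (62, 11)) (.leaf (1393, 4))) (.node (.leaf (881, 4)) (.leaf (0, 0))))) (.node (.node (.node (.leaf (241, 2)) (.leaf (1265, 4))) (.node (.leaf (185, 4)) (.leaf (0, 0)))) (.node (.node (.leaf (497, 2)) (.leaf (786, 1))) (.node (.leaf (623, 4)) (.leaf (0, 0)))))))))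

def parB3 : Arr (ℕ × ℕ) :=
  (.node (.node (.node (.node (.node (.node (.node (.leaf (2, 4)) (.leaf (352, 4))) (.node (.leaf (114, 10)) (.leaf (793, 9)))) (.node (.node (.leaf (47, 10)) (.leaf (1282, 4))) (.node (.leaf (189, 4)) (.leaf (0, 0))))) (.node (.node (.node (.leaf (26, 4)) (.leaf (580, 4))) (.node (.leaf (130, 11)) (.leaf (0, 0)))) (.node (.node (.leaf (65, 10)) (.leaf (1410, 4))) (.node (.leaf (229, 4)) (.leaf (0, 0)))))) (.node (.node (.node (.node (.leaf (66, 4)) (.leaf (1090, 4))) (.node (.leaf (578, 1)) (.leaf (1506, 2)))) (.node (.node (.leaf (322, 2)) (.leaf (1346, 4))) (.node (.leaf (834, 4)) (.leaf (0, 0))))) (.node (.node (.node (.leaf (41, 10)) (.leaf (1218, 4))) (.node (.leaf (143, 11)) (.leaf (0, 0)))) (.node (.node (.leaf (79, 10)) (.leaf (1101, 1))) (.node (.leaf (962, 4)) (.leaf (0, 0))))))) (.node (.node (.node (.node (.node (.leaf (32, 1))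 (.leaf (1058, 4))) (.node (.leaf (117, 10)) (.leaf (814, 8)))) (.node (.node (.leaf (290, 2)) (.leaf (1314, 4))) (.node (.leaf (802, 4)) (.leaf (0, 0))))) (.node (.node (.node (.leaf (162, 4)) (.leaf (1186, 4))) (.node (.leaf (674, 2)) (.leaf (0, 0)))) (.node (.node (.leaf (418, 1)) (.leaf (1442, 4))) (.node (.leaf (510, 4)) (.leaf (0, 0)))))) (.node (.node (.node (.node (.leaf (98, 4)) (.leaf (325, 4))) (.node (.leaf (126, 8)) (.leaf (0, 0)))) (.node (.node (.leaf (60, 8)) (.leaf (535, 4))) (.node (.leaf (866, 4)) (.leaf (0, 0))))) (.node (.node (.node (.leaf (226, 2)) (.leaf (1250, 4))) (.node (.leaf (673, 2)) (.leaf (0, 0)))) (.node (.node (.leaf (92, 9)) (.leaf (1506, 1))) (.node (.leaf (994, 4)) (.leaf (0, 0)))))))) (.node (.node (.node (.node (.node (.node (.leaf (18, 2)) (.leaf (1042, 4))) (.node (.leaf (530, 2)) (.leaf (804, 11)))) (.node (.node (.leaf (274, 2))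 (.leaf (595, 4))) (.node (.leaf (328, 4)) (.leaf (0, 0))))) (.node (.node (.node (.leaf (146, 4)) (.leaf (368, 4))) (.node (.leaf (135, 9)) (.leaf (0, 0)))) (.node (.node (.leaf (402, 2)) (.leaf (1426, 4))) (.node (.leaf (241, 4)) (.leaf (0, 0)))))) (.node (.node (.node (.node (.leaf (15, 4)) (.leaf (314, 4))) (.node (.leaf (594, 1)) (.leaf (880, 10)))) (.node (.node (.leaf (57, 11)) (.leaf (1362, 4))) (.node (.leaf (850, 4)) (.leaf (0, 0))))) (.node (.node (.node (.leaf (210, 2)) (.leaf (1234, 4))) (.node (.leaf (148, 9)) (.leaf (0, 0)))) (.node (.node (.leaf (391, 2)) (.leaf (1490, 2))) (.node (.leaf (978, 4)) (.leaf (0, 0))))))) (.node (.node (.node (.node (.node (.leaf (50, 4)) (.leaf (551, 4))) (.node (.leaf (562, 2)) (.leaf (824, 8)))) (.node (.node (.leaf (306, 2)) (.leaf (1330, 4))) (.node (.leaf (818, 4)) (.leaf (0, 0))))) (.node (.node (.node (.leaf (38, 4))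 (.leaf (1202, 4))) (.node (.leaf (142, 1)) (.leaf (0, 0)))) (.node (.node (.leaf (73, 10)) (.leaf (1458, 4))) (.node (.leaf (257, 4)) (.leaf (0, 0)))))) (.node (.node (.node (.node (.leaf (114, 4)) (.leaf (1138, 4))) (.node (.leaf (626, 2)) (.leaf (0, 0)))) (.node (.node (.leaf (250, 2)) (.leaf (606, 4))) (.node (.leaf (225, 4)) (.leaf (0, 0))))) (.node (.node (.node (.leaf (242, 1)) (.leaf (1266, 4))) (.node (.leaf (754, 4)) (.leaf (0, 0)))) (.node (.node (.leaf (498, 1)) (.leaf (1522, 2))) (.node (.leaf (1010, 4)) (.leaf (0, 0)))))))))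

def parB4 : Arr (ℕ × ℕ) :=
  (.node (.node (.node (.node (.node (.node (.node (.leaf (3, 4)) (.leaf (1027, 4))) (.node (.leaf (115, 1)) (.leaf (1060, 1)))) (.node (.node (.leaf (47, 11)) (.leaf (1283, 4))) (.node (.leaf (771, 4)) (.leaf (0, 0))))) (.node (.node (.node (.leaf (131, 4)) (.leaf (365, 4))) (.node (.leaf (501, 1)) (.leaf (0, 0)))) (.node (.node (.leaf (66, 1)) (.leaf (1411, 4))) (.node (.leaf (899, 4)) (.leaf (0, 0)))))) (.node (.node (.node (.node (.leaf (67, 4)) (.leaf (311, 4))) (.node (.leaf (122, 10)) (.leaf (1582, 2)))) (.node (.node (.leaf (323, 1)) (.leaf (1347, 4))) (.node (.leaf (835, 4)) (.leaf (0, 0))))) (.node (.node (.node (.leaf (41, 11)) (.leaf (1219, 4))) (.node (.leaf (585, 2)) (.leaf (0, 0)))) (.node (.node (.leaf (395, 2)) (.leaf (1475, 2))) (.node (.leaf (263, 4)) (.leaf (0, 0))))))) (.node (.node (.node (.node (.node (.leaf (35, 2)) (.leaf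 (305, 4))) (.node (.leaf (117, 11)) (.leaf (1464, 2)))) (.node (.node (.leaf (291, 1)) (.leaf (1315, 4))) (.node (.leaf (473, 4)) (.leaf (0, 0))))) (.node (.node (.node (.leaf (163, 4)) (.leaf (1187, 4))) (.node (.leaf (675, 1)) (.leaf (0, 0)))) (.node (.node (.leaf (419, 2)) (.leaf (1443, 4))) (.node (.leaf (931, 4)) (.leaf (0, 0)))))) (.node (.node (.node (.node (.leaf (99, 4)) (.leaf (1123, 4))) (.node (.leaf (126, 10)) (.leaf (0, 0)))) (.node (.node (.leaf (60, 9)) (.leaf (1379, 4))) (.node (.leaf (222, 4)) (.leaf (0, 0))))) (.node (.node (.node (.leaf (44, 9)) (.leaf (1251, 4))) (.node (.leaf (680, 2)) (.leaf (0, 0)))) (.node (.node (.leaf (375, 2)) (.leaf (1507, 2))) (.node (.leaf (995, 4)) (.leaf (0, 0)))))))) (.node (.node (.node (.node (.node (.node (.leaf (19, 1)) (.leaf (302, 4))) (.node (.leaf (531, 1)) (.leaf (1175, 1)))) (.node (.node (.leaf (275, 1)) (.leaf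 (1299, 4))) (.node (.leaf (787, 4)) (.leaf (0, 0))))) (.node (.node (.node (.leaf (147, 4)) (.leaf (1171, 4))) (.node (.leaf (135, 10)) (.leaf (0, 0)))) (.node (.node (.leaf (68, 9)) (.leaf (1427, 4))) (.node (.leaf (349, 4)) (.leaf (0, 0)))))) (.node (.node (.node (.node (.leaf (83, 4)) (.leaf (1107, 4))) (.node (.leaf (595, 2)) (.leaf (882, 10)))) (.node (.node (.leaf (58, 1)) (.leaf (701, 4))) (.node (.leaf (547, 4)) (.leaf (0, 0))))) (.node (.node (.node (.leaf (211, 1)) (.leaf (399, 4))) (.node (.leaf (148, 11)) (.leaf (0, 0)))) (.node (.node (.leaf (398, 2)) (.leaf (768, 8))) (.node (.leaf (266, 4)) (.leaf (0, 0))))))) (.node (.node (.node (.node (.node (.leaf (51, 4)) (.leaf (308, 4))) (.node (.leaf (563, 1)) (.leaf (824, 9)))) (.node (.node (.leaf (307, 1)) (.leaf (1331, 4))) (.node (.leaf (275, 4)) (.leaf (0, 0))))) (.node (.node (.node (.leaf (179, 4)) (.leaf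 (1203, 4))) (.node (.leaf (591, 1)) (.leaf (0, 0)))) (.node (.node (.leaf (380, 2)) (.leaf (1459, 4))) (.node (.leaf (947, 4)) (.leaf (0, 0)))))) (.node (.node (.node (.node (.leaf (115, 4)) (.leaf (1139, 4))) (.node (.leaf (627, 1)) (.leaf (0, 0)))) (.node (.node (.leaf (371, 1)) (.leaf (1395, 4))) (.node (.leaf (883, 4)) (.leaf (0, 0))))) (.node (.node (.node (.leaf (243, 2)) (.leaf (569, 4))) (.node (.leaf (755, 4)) (.leaf (0, 0)))) (.node (.node (.leaf (499, 2)) (.leaf (787, 1))) (.node (.leaf (508, 4)) (.leaf (0, 0)))))))))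

def parB5 : Arr (ℕ × ℕ) :=
  (.node (.node (.node (.node (.node (.node (.node (.leaf (4, 4)) (.leaf (289, 4))) (.node (.leaf (516, 2)) (.leaf (1540, 2)))) (.node (.node (.leaf (48, 1)) (.leaf (1284, 4))) (.node (.leaf (772, 4)) (.leaf (0, 0))))) (.node (.node (.node (.leaf (132, 4)) (.leaf (1156, 4))) (.node (.leaf (644, 2)) (.leaf (0, 0)))) (.node (.node (.leaf (388, 2)) (.leaf (590, 4))) (.node (.leaf (900, 4)) (.leaf (0, 0)))))) (.node (.node (.node (.node (.leaf (68, 4)) (.leaf (1092, 4))) (.node (.leaf (122, 11)) (.leaf (1583, 2)))) (.node (.node (.leaf (324, 2)) (.leaf (1348, 4))) (.node (.leaf (836, 4)) (.leaf (0, 0))))) (.node (.node (.node (.leaf (42, 1)) (.leaf (395, 4))) (.node (.leaf (708, 1)) (.leaf (0, 0)))) (.node (.node (.leaf (452, 1)) (.leaf (764, 10))) (.node (.leaf (964, 4)) (.leaf (0, 0))))))) (.node (.node (.node (.node (.node (.leaf (36, 1)) (.leaf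 (1060, 4))) (.node (.leaf (118, 1)) (.leaf (1146, 1)))) (.node (.node (.leaf (292, 2)) (.leaf (1316, 4))) (.node (.leaf (804, 4)) (.leaf (0, 0))))) (.node (.node (.node (.leaf (164, 4)) (.leaf (1188, 4))) (.node (.leaf (676, 2)) (.leaf (0, 0)))) (.node (.node (.leaf (420, 1)) (.leaf (1444, 4))) (.node (.leaf (932, 4)) (.leaf (0, 0)))))) (.node (.node (.node (.node (.leaf (21, 4)) (.leaf (467, 4))) (.node (.leaf (127, 1)) (.leaf (0, 0)))) (.node (.node (.leaf (60, 10)) (.leaf (697, 4))) (.node (.leaf (868, 4)) (.leaf (0, 0))))) (.node (.node (.node (.leaf (44, 10)) (.leaf (549, 4))) (.node (.leaf (734, 2)) (.leaf (0, 0)))) (.node (.node (.leaf (94, 10)) (.leaf (779, 8))) (.node (.leaf (269, 4)) (.leaf (0, 0)))))))) (.node (.node (.node (.node (.node (.node (.leaf (20, 2)) (.leaf (1044, 4))) (.node (.leaf (532, 2)) (.leaf (1556, 2)))) (.node (.node (.leaf (49, 8)) (.leaf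 (1300, 4))) (.node (.leaf (594, 4)) (.leaf (0, 0))))) (.node (.node (.node (.leaf (30, 4)) (.leaf (557, 4))) (.node (.leaf (135, 11)) (.leaf (0, 0)))) (.node (.node (.leaf (68, 10)) (.leaf (1428, 4))) (.node (.leaf (916, 4)) (.leaf (0, 0)))))) (.node (.node (.node (.node (.leaf (84, 4)) (.leaf (1108, 4))) (.node (.leaf (596, 1)) (.leaf (1533, 2)))) (.node (.node (.leaf (211, 2)) (.leaf (1364, 4))) (.node (.leaf (218, 4)) (.leaf (0, 0))))) (.node (.node (.node (.leaf (212, 2)) (.leaf (1236, 4))) (.node (.leaf (559, 1)) (.leaf (0, 0)))) (.node (.node (.leaf (456, 2)) (.leaf (881, 1))) (.node (.leaf (980, 4)) (.leaf (0, 0))))))) (.node (.node (.node (.node (.node (.leaf (9, 4)) (.leaf (1076, 4))) (.node (.leaf (564, 2)) (.leaf (824, 11)))) (.node (.node (.leaf (308, 2)) (.leaf (651, 4))) (.node (.leaf (201, 4)) (.leaf (0, 0))))) (.node (.node (.node (.leaf (180, 4)) (.leaf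 (1204, 4))) (.node (.leaf (692, 2)) (.leaf (0, 0)))) (.node (.node (.leaf (74, 10)) (.leaf (826, 1))) (.node (.leaf (455, 4)) (.leaf (0, 0)))))) (.node (.node (.node (.node (.leaf (116, 4)) (.leaf (1140, 4))) (.node (.leaf (628, 2)) (.leaf (0, 0)))) (.node (.node (.leaf (372, 2)) (.leaf (585, 4))) (.node (.leaf (632, 4)) (.leaf (0, 0))))) (.node (.node (.node (.leaf (244, 1)) (.leaf (453, 4))) (.node (.leaf (756, 4)) (.leaf (0, 0)))) (.node (.node (.leaf (113, 8)) (.leaf (1524, 2))) (.node (.leaf (1012, 4)) (.leaf (0, 0)))))))))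

def parB6 : Arr (ℕ × ℕ) :=
  (.node (.node (.node (.node (.node (.node (.node (.leaf (5, 4)) (.leaf (1029, 4))) (.node (.leaf (517, 1)) (.leaf (794, 11)))) (.node (.node (.leaf (229, 1)) (.leaf (1285, 4))) (.node (.leaf (773, 4)) (.leaf (0, 0))))) (.node (.node (.node (.leaf (133, 4)) (.leaf (615, 4))) (.node (.leaf (133, 1)) (.leaf (0, 0)))) (.node (.node (.leaf (389, 1)) (.leaf (1413, 4))) (.node (.leaf (901, 4)) (.leaf (0, 0)))))) (.node (.node (.node (.node (.leaf (69, 4)) (.leaf (1093, 4))) (.node (.leaf (123, 1)) (.leaf (846, 1)))) (.node (.node (.leaf (56, 9)) (.leaf (518, 4))) (.node (.leaf (207, 4)) (.leaf (0, 0))))) (.node (.node (.node (.leaf (197, 2)) (.leaf (1221, 4))) (.node (.leaf (709, 2)) (.leaf (0, 0)))) (.node (.node (.leaf (418, 2)) (.leaf (1298, 1))) (.node (.leaf (965, 4)) (.leaf (0, 0))))))) (.node (.node (.node (.node (.node (.leaf (37, 2)) (.leaf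 (1061, 4))) (.node (.leaf (549, 2)) (.leaf (817, 8)))) (.node (.node (.leaf (293, 1)) (.leaf (494, 4))) (.node (.leaf (214, 4)) (.leaf (0, 0))))) (.node (.node (.node (.leaf (165, 4)) (.leaf (541, 4))) (.node (.leaf (138, 8)) (.leaf (0, 0)))) (.node (.node (.leaf (421, 2)) (.leaf (643, 4))) (.node (.leaf (933, 4)) (.leaf (0, 0)))))) (.node (.node (.node (.node (.leaf (101, 4)) (.leaf (330, 4))) (.node (.leaf (602, 1)) (.leaf (0, 0)))) (.node (.node (.leaf (61, 1)) (.leaf (536, 4))) (.node (.leaf (869, 4)) (.leaf (0, 0))))) (.node (.node (.node (.leaf (44, 11)) (.leaf (426, 4))) (.node (.leaf (741, 1)) (.leaf (0, 0)))) (.node (.node (.leaf (369, 1)) (.leaf (1471, 2))) (.node (.leaf (997, 4)) (.leaf (0, 0)))))))) (.node (.node (.node (.node (.node (.node (.leaf (2, 9)) (.leaf (1045, 4))) (.node (.leaf (533, 1)) (.leaf (805, 9)))) (.node (.node (.leaf (49, 9)) (.leaf (486,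 4))) (.node (.leaf (253, 4)) (.leaf (0, 0))))) (.node (.node (.node (.leaf (149, 4)) (.leaf (1173, 4))) (.node (.leaf (560, 2)) (.leaf (0, 0)))) (.node (.node (.leaf (242, 2)) (.leaf (1429, 4))) (.node (.leaf (327, 4)) (.leaf (0, 0)))))) (.node (.node (.node (.node (.leaf (85, 4)) (.leaf (1109, 4))) (.node (.leaf (597, 2)) (.leaf (892, 8)))) (.node (.node (.leaf (297, 2)) (.leaf (532, 4))) (.node (.leaf (321, 4)) (.leaf (0, 0))))) (.node (.node (.node (.leaf (213, 1)) (.leaf (540, 4))) (.node (.leaf (662, 2)) (.leaf (0, 0)))) (.node (.node (.leaf (469, 1)) (.leaf (1493, 2))) (.node (.leaf (981, 4)) (.leaf (0, 0))))))) (.node (.node (.node (.node (.node (.leaf (53, 4)) (.leaf (1077, 4))) (.node (.leaf (565, 1)) (.leaf (826, 10)))) (.node (.node (.leaf (53, 8)) (.leaf (503, 4))) (.node (.leaf (821, 4)) (.leaf (0, 0))))) (.node (.node (.node (.leaf (181, 4)) (.leaf (388,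 4))) (.node (.leaf (693, 1)) (.leaf (0, 0)))) (.node (.node (.leaf (76, 1)) (.leaf (1461, 2))) (.node (.leaf (260, 4)) (.leaf (0, 0)))))) (.node (.node (.node (.node (.leaf (117, 4)) (.leaf (1141, 4))) (.node (.leaf (629, 1)) (.leaf (0, 0)))) (.node (.node (.leaf (373, 1)) (.leaf (586, 4))) (.node (.leaf (885, 4)) (.leaf (0, 0))))) (.node (.node (.node (.leaf (245, 2)) (.leaf (1269, 4))) (.node (.leaf (757, 4)) (.leaf (0, 0)))) (.node (.node (.leaf (113, 9)) (.leaf (787, 10))) (.node (.leaf (280, 4)) (.leaf (0, 0)))))))))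

def parB7 : Arr (ℕ × ℕ) :=
  (.node (.node (.node (.node (.node (.node (.node (.leaf (1, 1)) (.leaf (1030, 4))) (.node (.leaf (518, 2)) (.leaf (795, 11)))) (.node (.node (.leaf (262, 2)) (.leaf (479, 4))) (.node (.leaf (774, 4)) (.leaf (0, 0))))) (.node (.node (.node (.leaf (134, 4)) (.leaf (1158, 4))) (.node (.leaf (646, 2)) (.leaf (0, 0)))) (.node (.node (.leaf (390, 2)) (.leaf (1414, 4))) (.node (.leaf (902, 4)) (.leaf (0, 0)))))) (.node (.node (.node (.node (.leaf (12, 4)) (.leaf (1094, 4))) (.node (.leaf (582, 2)) (.leaf (1606, 2)))) (.node (.node (.leaf (56, 10)) (.leaf (604, 4))) (.node (.leaf (838, 4)) (.leaf (0, 0))))) (.node (.node (.node (.leaf (198, 1)) (.leaf (738, 4))) (.node (.leaf (710, 1)) (.leaf (0, 0)))) (.node (.node (.leaf (80, 11)) (.leaf (1478, 2))) (.node (.leaf (966, 4)) (.leaf (0, 0))))))) (.node (.node (.node (.node (.node (.leaf (38, 1)) (.leaf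 (1062, 4))) (.node (.leaf (550, 1)) (.leaf (817, 9)))) (.node (.node (.leaf (294, 2)) (.leaf (1318, 4))) (.node (.leaf (197, 4)) (.leaf (0, 0))))) (.node (.node (.node (.leaf (34, 4)) (.leaf (381, 4))) (.node (.leaf (138, 9)) (.leaf (0, 0)))) (.node (.node (.leaf (422, 1)) (.leaf (705, 4))) (.node (.leaf (507, 4)) (.leaf (0, 0)))))) (.node (.node (.node (.node (.leaf (102, 4)) (.leaf (624, 4))) (.node (.leaf (614, 2)) (.leaf (0, 0)))) (.node (.node (.leaf (358, 2)) (.leaf (1382, 4))) (.node (.leaf (870, 4)) (.leaf (0, 0))))) (.node (.node (.node (.leaf (45, 1)) (.leaf (1254, 4))) (.node (.leaf (524, 2)) (.leaf (0, 0)))) (.node (.node (.leaf (485, 1)) (.leaf (780, 8))) (.node (.leaf (998, 4)) (.leaf (0, 0)))))))) (.node (.node (.node (.node (.node (.node (.leaf (3, 1)) (.leaf (1046, 4))) (.node (.leaf (534, 2)) (.leaf (805, 11)))) (.node (.node (.leaf (49, 10)) (.leaf (1302,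 4))) (.node (.leaf (790, 4)) (.leaf (0, 0))))) (.node (.node (.node (.leaf (150, 4)) (.leaf (1174, 4))) (.node (.leaf (662, 1)) (.leaf (0, 0)))) (.node (.node (.leaf (69, 8)) (.leaf (610, 4))) (.node (.leaf (918, 4)) (.leaf (0, 0)))))) (.node (.node (.node (.node (.leaf (86, 4)) (.leaf (1110, 4))) (.node (.leaf (598, 1)) (.leaf (1619, 1)))) (.node (.node (.leaf (342, 1)) (.leaf (1366, 4))) (.node (.leaf (854, 4)) (.leaf (0, 0))))) (.node (.node (.node (.leaf (214, 2)) (.leaf (419, 4))) (.node (.leaf (726, 1)) (.leaf (0, 0)))) (.node (.node (.leaf (216, 2)) (.leaf (1217, 1))) (.node (.leaf (982, 4)) (.leaf (0, 0))))))) (.node (.node (.node (.node (.node (.leaf (54, 4)) (.leaf (1078, 4))) (.node (.leaf (566, 2)) (.leaf (1378, 1)))) (.node (.node (.leaf (53, 9)) (.leaf (1334, 4))) (.node (.leaf (822, 4)) (.leaf (0, 0))))) (.node (.node (.node (.leaf (182, 4)) (.leaf (1206,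 4))) (.node (.leaf (694, 2)) (.leaf (0, 0)))) (.node (.node (.leaf (438, 2)) (.leaf (1462, 1))) (.node (.leaf (950, 4)) (.leaf (0, 0)))))) (.node (.node (.node (.node (.leaf (24, 4)) (.leaf (1142, 4))) (.node (.leaf (630, 2)) (.leaf (0, 0)))) (.node (.node (.leaf (374, 2)) (.leaf (730, 4))) (.node (.leaf (886, 4)) (.leaf (0, 0))))) (.node (.node (.node (.leaf (46, 8)) (.leaf (1270, 4))) (.node (.leaf (758, 4)) (.leaf (0, 0)))) (.node (.node (.leaf (113, 10)) (.leaf (1348, 1))) (.node (.leaf (279, 4)) (.leaf (0, 0)))))))))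

def parB8 : Arr (ℕ × ℕ) :=
  (.node (.node (.node (.node (.node (.node (.node (.leaf (7, 2)) (.leaf (1031, 4))) (.node (.leaf (519, 1)) (.leaf (1353, 1)))) (.node (.node (.leaf (263, 1)) (.leaf (1287, 4))) (.node (.leaf (775, 4)) (.leaf (0, 0))))) (.node (.node (.node (.leaf (135, 4)) (.leaf (1159, 4))) (.node (.leaf (647, 1)) (.leaf (0, 0)))) (.node (.node (.leaf (391, 1)) (.leaf (671, 4))) (.node (.leaf (903, 4)) (.leaf (0, 0)))))) (.node (.node (.node (.node (.leaf (71, 4)) (.leaf (1095, 4))) (.node (.leaf (583, 1)) (.leaf (848, 9)))) (.node (.node (.leaf (56, 11)) (.leaf (1351, 4))) (.node (.leaf (432, 4)) (.leaf (0, 0))))) (.node (.node (.node (.leaf (199, 2)) (.leaf (1223, 4))) (.node (.leaf (145, 8)) (.leaf (0, 0)))) (.node (.node (.leaf (81, 11)) (.leaf (1394, 1))) (.node (.leaf (967, 4)) (.leaf (0, 0))))))) (.node (.node (.node (.node (.node (.leaf (32, 2)) (.leaf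 (598, 4))) (.node (.leaf (551, 2)) (.leaf (817, 11)))) (.node (.node (.leaf (295, 1)) (.leaf (1319, 4))) (.node (.leaf (807, 4)) (.leaf (0, 0))))) (.node (.node (.node (.leaf (167, 4)) (.leaf (1191, 4))) (.node (.leaf (138, 10)) (.leaf (0, 0)))) (.node (.node (.leaf (71, 9)) (.leaf (1447, 4))) (.node (.leaf (935, 4)) (.leaf (0, 0)))))) (.node (.node (.node (.node (.leaf (103, 4)) (.leaf (1127, 4))) (.node (.leaf (615, 1)) (.leaf (0, 0)))) (.node (.node (.leaf (359, 1)) (.leaf (582, 4))) (.node (.leaf (871, 4)) (.leaf (0, 0))))) (.node (.node (.node (.leaf (231, 2)) (.leaf (1255, 4))) (.node (.leaf (159, 10)) (.leaf (0, 0)))) (.node (.node (.leaf (195, 1)) (.leaf (783, 1))) (.node (.leaf (999, 4)) (.leaf (0, 0)))))))) (.node (.node (.node (.node (.node (.node (.leaf (23, 2)) (.leaf (1047, 4))) (.node (.leaf (116, 9)) (.leaf (1555, 2)))) (.node (.node (.leaf (49, 11)) (.leaf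 (1303, 4))) (.node (.leaf (791, 4)) (.leaf (0, 0))))) (.node (.node (.node (.leaf (151, 4)) (.leaf (369, 4))) (.node (.leaf (663, 2)) (.leaf (0, 0)))) (.node (.node (.leaf (69, 10)) (.leaf (1431, 4))) (.node (.leaf (435, 4)) (.leaf (0, 0)))))) (.node (.node (.node (.node (.leaf (87, 4)) (.leaf (316, 4))) (.node (.leaf (124, 8)) (.leaf (1623, 2)))) (.node (.node (.leaf (58, 10)) (.leaf (1367, 4))) (.node (.leaf (220, 4)) (.leaf (0, 0))))) (.node (.node (.node (.leaf (43, 8)) (.leaf (1239, 4))) (.node (.leaf (151, 8)) (.leaf (0, 0)))) (.node (.node (.leaf (422, 2)) (.leaf (1495, 2))) (.node (.leaf (983, 4)) (.leaf (0, 0))))))) (.node (.node (.node (.node (.node (.leaf (55, 4)) (.leaf (1079, 4))) (.node (.leaf (567, 1)) (.leaf (827, 9)))) (.node (.node (.leaf (53, 10)) (.leaf (1335, 4))) (.node (.leaf (823, 4)) (.leaf (0, 0))))) (.node (.node (.node (.leaf (183, 4)) (.leaf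 (1207, 4))) (.node (.leaf (695, 1)) (.leaf (0, 0)))) (.node (.node (.leaf (439, 1)) (.leaf (1463, 2))) (.node (.leaf (281, 4)) (.leaf (0, 0)))))) (.node (.node (.node (.node (.leaf (119, 4)) (.leaf (348, 4))) (.node (.leaf (631, 1)) (.leaf (0, 0)))) (.node (.node (.leaf (375, 1)) (.leaf (1399, 4))) (.node (.leaf (227, 4)) (.leaf (0, 0))))) (.node (.node (.node (.leaf (46, 9)) (.leaf (1271, 4))) (.node (.leaf (186, 4)) (.leaf (0, 0)))) (.node (.node (.leaf (113, 11)) (.leaf (788, 11))) (.node (.leaf (320, 4)) (.leaf (0, 0)))))))))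

def parB9 : Arr (ℕ × ℕ) :=
  (.node (.node (.node (.node (.node (.node (.node (.leaf (8, 1)) (.leaf (1032, 4))) (.node (.leaf (520, 2)) (.leaf (1544, 2)))) (.node (.node (.leaf (264, 2)) (.leaf (1288, 4))) (.node (.leaf (190, 4)) (.leaf (0, 0))))) (.node (.node (.node (.leaf (27, 4)) (.leaf (366, 4))) (.node (.leaf (648, 2)) (.leaf (0, 0)))) (.node (.node (.leaf (392, 2)) (.leaf (1416, 4))) (.node (.leaf (230, 4)) (.leaf (0, 0)))))) (.node (.node (.node (.node (.leaf (72, 4)) (.leaf (312, 4))) (.node (.leaf (584, 2)) (.leaf (849, 9)))) (.node (.node (.leaf (57, 1)) (.leaf (605, 4))) (.node (.leaf (208, 4)) (.leaf (0, 0))))) (.node (.node (.node (.leaf (200, 1)) (.leaf (1224, 4))) (.node (.leaf (145, 9)) (.leaf (0, 0)))) (.node (.node (.leaf (260, 2)) (.leaf (1480, 2))) (.node (.leaf (264, 4)) (.leaf (0, 0))))))) (.node (.node (.node (.node (.node (.leaf (7, 4)) (.leaf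 (306, 4))) (.node (.leaf (552, 1)) (.leaf (819, 1)))) (.node (.node (.leaf (51, 8)) (.leaf (1320, 4))) (.node (.leaf (808, 4)) (.leaf (0, 0))))) (.node (.node (.node (.leaf (168, 4)) (.leaf (748, 4))) (.node (.leaf (139, 1)) (.leaf (0, 0)))) (.node (.node (.leaf (71, 10)) (.leaf (1448, 4))) (.node (.leaf (466, 4)) (.leaf (0, 0)))))) (.node (.node (.node (.node (.leaf (104, 4)) (.leaf (336, 4))) (.node (.leaf (616, 2)) (.leaf (0, 0)))) (.node (.node (.leaf (360, 2)) (.leaf (578, 4))) (.node (.leaf (223, 4)) (.leaf (0, 0))))) (.node (.node (.node (.leaf (55, 1)) (.leaf (1256, 4))) (.node (.leaf (704, 2)) (.leaf (0, 0)))) (.node (.node (.leaf (193, 2)) (.leaf (1512, 2))) (.node (.leaf (1000, 4)) (.leaf (0, 0)))))))) (.node (.node (.node (.node (.node (.node (.leaf (24, 1)) (.leaf (1048, 4))) (.node (.leaf (117, 1)) (.leaf (960, 1)))) (.node (.node (.leaf (50, 1)) (.leaf (1304,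 4))) (.node (.leaf (792, 4)) (.leaf (0, 0))))) (.node (.node (.node (.leaf (152, 4)) (.leaf (1176, 4))) (.node (.leaf (664, 1)) (.leaf (0, 0)))) (.node (.node (.leaf (70, 1)) (.leaf (1432, 4))) (.node (.leaf (243, 4)) (.leaf (0, 0)))))) (.node (.node (.node (.node (.leaf (16, 4)) (.leaf (1112, 4))) (.node (.leaf (124, 9)) (.leaf (1188, 1)))) (.node (.node (.leaf (58, 11)) (.leaf (1368, 4))) (.node (.leaf (856, 4)) (.leaf (0, 0))))) (.node (.node (.node (.leaf (43, 9)) (.leaf (726, 4))) (.node (.leaf (151, 10)) (.leaf (0, 0)))) (.node (.node (.leaf (254, 2)) (.leaf (1468, 2))) (.node (.leaf (267, 4)) (.leaf (0, 0))))))) (.node (.node (.node (.node (.node (.leaf (56, 4)) (.leaf (1080, 4))) (.node (.leaf (121, 8)) (.leaf (827, 11)))) (.node (.node (.leaf (53, 11)) (.leaf (1336, 4))) (.node (.leaf (202, 4)) (.leaf (0, 0))))) (.node (.node (.node (.leaf (41, 1)) (.leaf (1208,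 4))) (.node (.leaf (696, 2)) (.leaf (0, 0)))) (.node (.node (.leaf (440, 2)) (.leaf (756, 8))) (.node (.leaf (261, 4)) (.leaf (0, 0)))))) (.node (.node (.node (.node (.leaf (120, 4)) (.leaf (1144, 4))) (.node (.leaf (632, 2)) (.leaf (0, 0)))) (.node (.node (.leaf (64, 9)) (.leaf (1400, 4))) (.node (.leaf (888, 4)) (.leaf (0, 0))))) (.node (.node (.node (.leaf (46, 10)) (.leaf (1272, 4))) (.node (.leaf (760, 4)) (.leaf (0, 0)))) (.node (.node (.leaf (114, 1)) (.leaf (908, 1))) (.node (.leaf (1016, 4)) (.leaf (0, 0)))))))))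

def parB10 : Arr (ℕ × ℕ) :=
  (.node (.node (.node (.node (.node (.node (.node (.leaf (9, 2)) (.leaf (1033, 4))) (.node (.leaf (521, 1)) (.leaf (797, 10)))) (.node (.node (.leaf (265, 1)) (.leaf (1289, 4))) (.node (.leaf (777, 4)) (.leaf (0, 0))))) (.node (.node (.node (.leaf (137, 4)) (.leaf (1161, 4))) (.node (.leaf (649, 1)) (.leaf (0, 0)))) (.node (.node (.leaf (393, 1)) (.leaf (752, 4))) (.node (.leaf (905, 4)) (.leaf (0, 0)))))) (.node (.node (.node (.node (.leaf (73, 4)) (.leaf (1097, 4))) (.node (.leaf (585, 1)) (.leaf (849, 11)))) (.node (.node (.leaf (329, 2)) (.leaf (1353, 4))) (.node (.leaf (475, 4)) (.leaf (0, 0))))) (.node (.node (.node (.leaf (201, 2)) (.leaf (397, 4))) (.node (.leaf (145, 10)) (.leaf (0, 0)))) (.node (.node (.leaf (457, 1)) (.leaf (959, 1))) (.node (.leaf (969, 4)) (.leaf (0, 0))))))) (.node (.node (.node (.node (.node (.leaf (41, 4))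 (.leaf (1065, 4))) (.node (.leaf (553, 2)) (.leaf (1577, 2)))) (.node (.node (.leaf (51, 9)) (.leaf (1321, 4))) (.node (.leaf (809, 4)) (.leaf (0, 0))))) (.node (.node (.node (.leaf (169, 4)) (.leaf (1193, 4))) (.node (.leaf (594, 2)) (.leaf (0, 0)))) (.node (.node (.leaf (71, 11)) (.leaf (1449, 4))) (.node (.leaf (252, 4)) (.leaf (0, 0)))))) (.node (.node (.node (.node (.leaf (105, 4)) (.leaf (459, 4))) (.node (.leaf (617, 1)) (.leaf (0, 0)))) (.node (.node (.leaf (361, 1)) (.leaf (1385, 4))) (.node (.leaf (873, 4)) (.leaf (0, 0))))) (.node (.node (.node (.leaf (233, 2)) (.leaf (559, 4))) (.node (.leaf (712, 1)) (.leaf (0, 0)))) (.node (.node (.leaf (207, 2)) (.leaf (1369, 1))) (.node (.leaf (474, 4)) (.leaf (0, 0)))))))) (.node (.node (.node (.node (.node (.node (.leaf (25, 2)) (.leaf (303, 4))) (.node (.leaf (537, 2)) (.leaf (1561, 2)))) (.node (.node (.leaf (281, 2))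 (.leaf (663, 4))) (.node (.leaf (206, 4)) (.leaf (0, 0))))) (.node (.node (.node (.leaf (153, 4)) (.leaf (658, 4))) (.node (.leaf (665, 2)) (.leaf (0, 0)))) (.node (.node (.leaf (299, 1)) (.leaf (1433, 4))) (.node (.leaf (357, 4)) (.leaf (0, 0)))))) (.node (.node (.node (.node (.leaf (89, 4)) (.leaf (1113, 4))) (.node (.leaf (124, 10)) (.leaf (939, 9)))) (.node (.node (.leaf (196, 2)) (.leaf (533, 4))) (.node (.leaf (857, 4)) (.leaf (0, 0))))) (.node (.node (.node (.leaf (43, 10)) (.leaf (1241, 4))) (.node (.leaf (677, 2)) (.leaf (0, 0)))) (.node (.node (.leaf (202, 2)) (.leaf (771, 9))) (.node (.leaf (985, 4)) (.leaf (0, 0))))))) (.node (.node (.node (.node (.node (.leaf (57, 4)) (.leaf (309, 4))) (.node (.leaf (121, 9)) (.leaf (1530, 2)))) (.node (.node (.leaf (54, 1)) (.leaf (1337, 4))) (.node (.leaf (825, 4)) (.leaf (0, 0))))) (.node (.node (.node (.leaf (185, 2))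 (.leaf (1209, 4))) (.node (.leaf (142, 9)) (.leaf (0, 0)))) (.node (.node (.leaf (441, 1)) (.leaf (1375, 1))) (.node (.leaf (953, 4)) (.leaf (0, 0)))))) (.node (.node (.node (.node (.leaf (121, 4)) (.leaf (1145, 4))) (.node (.leaf (129, 8)) (.leaf (0, 0)))) (.node (.node (.leaf (64, 10)) (.leaf (1401, 4))) (.node (.leaf (889, 4)) (.leaf (0, 0))))) (.node (.node (.node (.leaf (46, 11)) (.leaf (454, 4))) (.node (.leaf (761, 4)) (.leaf (0, 0)))) (.node (.node (.leaf (505, 2)) (.leaf (1529, 2))) (.node (.leaf (355, 4)) (.leaf (0, 0)))))))))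

def parB11 : Arr (ℕ × ℕ) :=
  (.node (.node (.node (.node (.node (.node (.node (.leaf (10, 1)) (.leaf (350, 4))) (.node (.leaf (522, 2)) (.leaf (800, 1)))) (.node (.node (.leaf (48, 8)) (.leaf (1290, 4))) (.node (.leaf (778, 4)) (.leaf (0, 0))))) (.node (.node (.node (.leaf (138, 4)) (.leaf (1162, 4))) (.node (.leaf (133, 9)) (.leaf (0, 0)))) (.node (.node (.leaf (394, 2)) (.leaf (1418, 4))) (.node (.leaf (906, 4)) (.leaf (0, 0)))))) (.node (.node (.node (.node (.leaf (74, 4)) (.leaf (1098, 4))) (.node (.leaf (586, 2)) (.leaf (1000, 1)))) (.node (.node (.leaf (330, 1)) (.leaf (591, 4))) (.node (.leaf (842, 4)) (.leaf (0, 0))))) (.node (.node (.node (.leaf (202, 1)) (.leaf (1226, 4))) (.node (.leaf (548, 2)) (.leaf (0, 0)))) (.node (.node (.leaf (256, 2)) (.leaf (1482, 2))) (.node (.leaf (970, 4)) (.leaf (0, 0))))))) (.node (.node (.node (.node (.node (.leaf (42, 4)) (.leaf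 (1066, 4))) (.node (.leaf (554, 1)) (.leaf (1578, 1)))) (.node (.node (.leaf (51, 10)) (.leaf (497, 4))) (.node (.leaf (198, 4)) (.leaf (0, 0))))) (.node (.node (.node (.leaf (170, 4)) (.leaf (1194, 4))) (.node (.leaf (682, 1)) (.leaf (0, 0)))) (.node (.node (.leaf (72, 1)) (.leaf (652, 4))) (.node (.leaf (938, 4)) (.leaf (0, 0)))))) (.node (.node (.node (.node (.leaf (22, 4)) (.leaf (1130, 4))) (.node (.leaf (618, 2)) (.leaf (0, 0)))) (.node (.node (.leaf (61, 9)) (.leaf (692, 4))) (.node (.leaf (546, 4)) (.leaf (0, 0))))) (.node (.node (.node (.leaf (234, 1)) (.leaf (446, 4))) (.node (.leaf (736, 2)) (.leaf (0, 0)))) (.node (.node (.leaf (291, 2)) (.leaf (1514, 2))) (.node (.leaf (1002, 4)) (.leaf (0, 0)))))))) (.node (.node (.node (.node (.node (.node (.leaf (26, 1)) (.leaf (1050, 4))) (.node (.leaf (538, 1)) (.leaf (808, 8)))) (.node (.node (.leaf (282, 1)) (.leaf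 (488, 4))) (.node (.leaf (794, 4)) (.leaf (0, 0))))) (.node (.node (.node (.leaf (31, 4)) (.leaf (1178, 4))) (.node (.leaf (666, 1)) (.leaf (0, 0)))) (.node (.node (.leaf (410, 2)) (.leaf (1434, 4))) (.node (.leaf (922, 4)) (.leaf (0, 0)))))) (.node (.node (.node (.node (.leaf (90, 4)) (.leaf (1114, 4))) (.node (.leaf (124, 11)) (.leaf (942, 8)))) (.node (.node (.leaf (346, 1)) (.leaf (1370, 4))) (.node (.leaf (858, 4)) (.leaf (0, 0))))) (.node (.node (.node (.leaf (43, 11)) (.leaf (1242, 4))) (.node (.leaf (730, 1)) (.leaf (0, 0)))) (.node (.node (.leaf (90, 9)) (.leaf (923, 1))) (.node (.leaf (986, 4)) (.leaf (0, 0))))))) (.node (.node (.node (.node (.node (.leaf (10, 4)) (.leaf (1082, 4))) (.node (.leaf (121, 10)) (.leaf (1521, 2)))) (.node (.node (.leaf (282, 2)) (.leaf (1338, 4))) (.node (.leaf (270, 4)) (.leaf (0, 0))))) (.node (.node (.node (.leaf (186, 1)) (.leaf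 (389, 4))) (.node (.leaf (143, 1)) (.leaf (0, 0)))) (.node (.node (.leaf (76, 11)) (.leaf (1466, 2))) (.node (.leaf (954, 4)) (.leaf (0, 0)))))) (.node (.node (.node (.node (.leaf (122, 4)) (.leaf (1146, 4))) (.node (.leaf (129, 10)) (.leaf (0, 0)))) (.node (.node (.leaf (65, 1)) (.leaf (676, 4))) (.node (.leaf (890, 4)) (.leaf (0, 0))))) (.node (.node (.node (.leaf (47, 1)) (.leaf (460, 4))) (.node (.leaf (762, 4)) (.leaf (0, 0)))) (.node (.node (.leaf (506, 1)) (.leaf (1351, 1))) (.node (.leaf (1018, 4)) (.leaf (0, 0)))))))))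

def parB12 : Arr (ℕ × ℕ) :=
  (.node (.node (.node (.node (.node (.node (.node (.leaf (11, 2)) (.leaf (1035, 4))) (.node (.leaf (115, 8)) (.leaf (1508, 2)))) (.node (.node (.leaf (48, 9)) (.leaf (480, 4))) (.node (.leaf (779, 4)) (.leaf (0, 0))))) (.node (.node (.node (.leaf (139, 4)) (.leaf (1163, 4))) (.node (.leaf (133, 11)) (.leaf (0, 0)))) (.node (.node (.leaf (66, 8)) (.leaf (1419, 4))) (.node (.leaf (907, 4)) (.leaf (0, 0)))))) (.node (.node (.node (.node (.leaf (75, 4)) (.leaf (1099, 4))) (.node (.leaf (587, 1)) (.leaf (1372, 1)))) (.node (.node (.leaf (331, 2)) (.leaf (731, 4))) (.node (.leaf (251, 4)) (.leaf (0, 0))))) (.node (.node (.node (.leaf (203, 2)) (.leaf (572, 4))) (.node (.leaf (715, 1)) (.leaf (0, 0)))) (.node (.node (.leaf (83, 10)) (.leaf (1483, 1))) (.node (.leaf (971, 4)) (.leaf (0, 0))))))) (.node (.node (.node (.node (.node (.leaf (43, 4)) (.leaf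 (1067, 4))) (.node (.leaf (555, 2)) (.leaf (819, 10)))) (.node (.node (.leaf (51, 11)) (.leaf (1323, 4))) (.node (.leaf (811, 4)) (.leaf (0, 0))))) (.node (.node (.node (.leaf (171, 4)) (.leaf (384, 4))) (.node (.leaf (683, 2)) (.leaf (0, 0)))) (.node (.node (.leaf (405, 1)) (.leaf (1451, 4))) (.node (.leaf (449, 4)) (.leaf (0, 0)))))) (.node (.node (.node (.node (.leaf (107, 4)) (.leaf (403, 4))) (.node (.leaf (127, 9)) (.leaf (0, 0)))) (.node (.node (.leaf (61, 11)) (.leaf (1387, 4))) (.node (.leaf (875, 4)) (.leaf (0, 0))))) (.node (.node (.node (.leaf (235, 2)) (.leaf (1259, 4))) (.node (.leaf (666, 2)) (.leaf (0, 0)))) (.node (.node (.leaf (252, 2)) (.leaf (783, 9))) (.node (.leaf (364, 4)) (.leaf (0, 0)))))))) (.node (.node (.node (.node (.node (.node (.leaf (27, 2)) (.leaf (1051, 4))) (.node (.leaf (539, 2)) (.leaf (1496, 2)))) (.node (.node (.leaf (283, 2)) (.leaf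 (1307, 4))) (.node (.leaf (795, 4)) (.leaf (0, 0))))) (.node (.node (.node (.leaf (155, 4)) (.leaf (1179, 4))) (.node (.leaf (136, 9)) (.leaf (0, 0)))) (.node (.node (.leaf (411, 1)) (.leaf (637, 4))) (.node (.leaf (356, 4)) (.leaf (0, 0)))))) (.node (.node (.node (.node (.leaf (91, 4)) (.leaf (1115, 4))) (.node (.leaf (125, 1)) (.leaf (1627, 1)))) (.node (.node (.leaf (347, 2)) (.leaf (743, 4))) (.node (.leaf (859, 4)) (.leaf (0, 0))))) (.node (.node (.node (.leaf (44, 1)) (.leaf (420, 4))) (.node (.leaf (700, 2)) (.leaf (0, 0)))) (.node (.node (.leaf (219, 2)) (.leaf (1499, 2))) (.node (.leaf (987, 4)) (.leaf (0, 0))))))) (.node (.node (.node (.node (.node (.leaf (59, 4)) (.leaf (1083, 4))) (.node (.leaf (121, 11)) (.leaf (833, 1)))) (.node (.node (.leaf (315, 1)) (.leaf (516, 4))) (.node (.leaf (203, 4)) (.leaf (0, 0))))) (.node (.node (.node (.leaf (187, 2)) (.leaf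 (1211, 4))) (.node (.leaf (699, 2)) (.leaf (0, 0)))) (.node (.node (.leaf (327, 2)) (.leaf (757, 9))) (.node (.leaf (955, 4)) (.leaf (0, 0)))))) (.node (.node (.node (.node (.leaf (123, 4)) (.leaf (1147, 4))) (.node (.leaf (129, 11)) (.leaf (0, 0)))) (.node (.node (.leaf (379, 2)) (.leaf (1403, 4))) (.node (.leaf (633, 4)) (.leaf (0, 0))))) (.node (.node (.node (.leaf (251, 2)) (.leaf (1275, 4))) (.node (.leaf (763, 4)) (.leaf (0, 0)))) (.node (.node (.leaf (507, 2)) (.leaf (789, 8))) (.node (.leaf (747, 4)) (.leaf (0, 0)))))))))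

def parB13 : Arr (ℕ × ℕ) :=
  (.node (.node (.node (.node (.node (.node (.node (.leaf (12, 1)) (.leaf (396, 4))) (.node (.leaf (115, 9)) (.leaf (800, 10)))) (.node (.node (.leaf (48, 10)) (.leaf (1292, 4))) (.node (.leaf (780, 4)) (.leaf (0, 0))))) (.node (.node (.node (.leaf (140, 4)) (.leaf (716, 4))) (.node (.leaf (135, 1)) (.leaf (0, 0)))) (.node (.node (.leaf (66, 9)) (.leaf (1420, 4))) (.node (.leaf (908, 4)) (.leaf (0, 0)))))) (.node (.node (.node (.node (.leaf (14, 4)) (.leaf (567, 4))) (.node (.leaf (123, 8)) (.leaf (859, 10)))) (.node (.node (.leaf (332, 1)) (.leaf (1356, 4))) (.node (.leaf (844, 4)) (.leaf (0, 0))))) (.node (.node (.node (.leaf (42, 8)) (.leaf (1228, 4))) (.node (.leaf (147, 10)) (.leaf (0, 0)))) (.node (.node (.leaf (84, 1)) (.leaf (1484, 2))) (.node (.leaf (972, 4)) (.leaf (0, 0))))))) (.node (.node (.node (.node (.node (.leaf (44, 4)) (.leaf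 (1068, 4))) (.node (.leaf (118, 8)) (.leaf (820, 1)))) (.node (.node (.leaf (103, 1)) (.leaf (1324, 4))) (.node (.leaf (661, 4)) (.leaf (0, 0))))) (.node (.node (.node (.leaf (35, 4)) (.leaf (1196, 4))) (.node (.leaf (139, 8)) (.leaf (0, 0)))) (.node (.node (.leaf (293, 2)) (.leaf (1452, 4))) (.node (.leaf (254, 4)) (.leaf (0, 0)))))) (.node (.node (.node (.node (.leaf (108, 4)) (.leaf (1132, 4))) (.node (.leaf (127, 10)) (.leaf (0, 0)))) (.node (.node (.leaf (62, 1)) (.leaf (1388, 4))) (.node (.leaf (876, 4)) (.leaf (0, 0))))) (.node (.node (.node (.leaf (45, 9)) (.leaf (1260, 4))) (.node (.leaf (166, 10)) (.leaf (0, 0)))) (.node (.node (.leaf (113, 1)) (.leaf (783, 10))) (.node (.leaf (622, 4)) (.leaf (0, 0)))))))) (.node (.node (.node (.node (.node (.node (.leaf (28, 1)) (.leaf (1052, 4))) (.node (.leaf (540, 1)) (.leaf (1552, 2)))) (.node (.node (.leaf (284, 1)) (.leaf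 (1308, 4))) (.node (.leaf (796, 4)) (.leaf (0, 0))))) (.node (.node (.node (.leaf (156, 4)) (.leaf (370, 4))) (.node (.leaf (136, 10)) (.leaf (0, 0)))) (.node (.node (.leaf (412, 2)) (.leaf (702, 4))) (.node (.leaf (924, 4)) (.leaf (0, 0)))))) (.node (.node (.node (.node (.leaf (92, 4)) (.leaf (318, 4))) (.node (.leaf (604, 2)) (.leaf (0, 0)))) (.node (.node (.leaf (60, 1)) (.leaf (526, 4))) (.node (.leaf (860, 4)) (.leaf (0, 0))))) (.node (.node (.node (.leaf (220, 2)) (.leaf (1244, 4))) (.node (.leaf (152, 11)) (.leaf (0, 0)))) (.node (.node (.leaf (476, 1)) (.leaf (1500, 1))) (.node (.leaf (988, 4)) (.leaf (0, 0))))))) (.node (.node (.node (.node (.node (.leaf (60, 4)) (.leaf (1084, 4))) (.node (.leaf (122, 1)) (.leaf (833, 10)))) (.node (.node (.leaf (54, 10)) (.leaf (1340, 4))) (.node (.leaf (828, 4)) (.leaf (0, 0))))) (.node (.node (.node (.leaf (188, 1)) (.leaf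 (568, 4))) (.node (.leaf (700, 1)) (.leaf (0, 0)))) (.node (.node (.leaf (444, 1)) (.leaf (757, 11))) (.node (.leaf (956, 4)) (.leaf (0, 0)))))) (.node (.node (.node (.node (.leaf (25, 4)) (.leaf (1148, 4))) (.node (.leaf (130, 1)) (.leaf (0, 0)))) (.node (.node (.leaf (380, 1)) (.leaf (1404, 4))) (.node (.leaf (228, 4)) (.leaf (0, 0))))) (.node (.node (.node (.leaf (252, 1)) (.leaf (461, 4))) (.node (.leaf (187, 4)) (.leaf (0, 0)))) (.node (.node (.leaf (508, 1)) (.leaf (789, 9))) (.node (.leaf (286, 4)) (.leaf (0, 0)))))))))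

def parB14 : Arr (ℕ × ℕ) :=
  (.node (.node (.node (.node (.node (.node (.node (.leaf (13, 2)) (.leaf (291, 4))) (.node (.leaf (115, 10)) (.leaf (800, 11)))) (.node (.node (.leaf (49, 1)) (.leaf (725, 4))) (.node (.leaf (781, 4)) (.leaf (0, 0))))) (.node (.node (.node (.leaf (141, 4)) (.leaf (367, 4))) (.node (.leaf (596, 2)) (.leaf (0, 0)))) (.node (.node (.leaf (66, 10)) (.leaf (1421, 4))) (.node (.leaf (909, 4)) (.leaf (0, 0)))))) (.node (.node (.node (.node (.leaf (77, 4)) (.leaf (313, 4))) (.node (.leaf (123, 9)) (.leaf (863, 11)))) (.node (.node (.leaf (333, 2)) (.leaf (1357, 4))) (.node (.leaf (753, 4)) (.leaf (0, 0))))) (.node (.node (.node (.leaf (42, 9)) (.leaf (1229, 4))) (.node (.leaf (148, 1)) (.leaf (0, 0)))) (.node (.node (.leaf (366, 2)) (.leaf (767, 9))) (.node (.leaf (973, 4)) (.leaf (0, 0))))))) (.node (.node (.node (.node (.node (.leaf (45, 4)) (.leaf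 (1069, 4))) (.node (.leaf (118, 9)) (.leaf (1581, 2)))) (.node (.node (.leaf (53, 1)) (.leaf (1325, 4))) (.node (.leaf (199, 4)) (.leaf (0, 0))))) (.node (.node (.node (.leaf (173, 4)) (.leaf (1197, 4))) (.node (.leaf (139, 11)) (.leaf (0, 0)))) (.node (.node (.leaf (429, 1)) (.leaf (677, 4))) (.node (.leaf (941, 4)) (.leaf (0, 0)))))) (.node (.node (.node (.node (.leaf (109, 4)) (.leaf (678, 4))) (.node (.leaf (128, 1)) (.leaf (0, 0)))) (.node (.node (.leaf (365, 2)) (.leaf (581, 4))) (.node (.leaf (224, 4)) (.leaf (0, 0))))) (.node (.node (.node (.leaf (45, 11)) (.leaf (1261, 4))) (.node (.leaf (540, 2)) (.leaf (0, 0)))) (.node (.node (.leaf (493, 2)) (.leaf (783, 11))) (.node (.leaf (1005, 4)) (.leaf (0, 0)))))))) (.node (.node (.node (.node (.node (.node (.leaf (29, 2)) (.leaf (1053, 4))) (.node (.leaf (541, 2)) (.leaf (1397, 1)))) (.node (.node (.leaf (285, 2)) (.leaf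 (1309, 4))) (.node (.leaf (195, 4)) (.leaf (0, 0))))) (.node (.node (.node (.leaf (157, 4)) (.leaf (1181, 4))) (.node (.leaf (138, 1)) (.leaf (0, 0)))) (.node (.node (.leaf (413, 1)) (.leaf (1437, 4))) (.node (.leaf (410, 4)) (.leaf (0, 0)))))) (.node (.node (.node (.node (.leaf (93, 4)) (.leaf (1117, 4))) (.node (.leaf (156, 1)) (.leaf (0, 0)))) (.node (.node (.leaf (327, 1)) (.leaf (1373, 4))) (.node (.leaf (221, 4)) (.leaf (0, 0))))) (.node (.node (.node (.leaf (221, 1)) (.leaf (1245, 4))) (.node (.leaf (153, 11)) (.leaf (0, 0)))) (.node (.node (.leaf (370, 2)) (.leaf (1501, 2))) (.node (.leaf (989, 4)) (.leaf (0, 0))))))) (.node (.node (.node (.node (.node (.leaf (61, 4)) (.leaf (1085, 4))) (.node (.leaf (573, 2)) (.leaf (1500, 2)))) (.node (.node (.leaf (56, 1)) (.leaf (1341, 4))) (.node (.leaf (358, 4)) (.leaf (0, 0))))) (.node (.node (.node (.leaf (189, 2)) (.leaf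 (1213, 4))) (.node (.leaf (701, 2)) (.leaf (0, 0)))) (.node (.node (.leaf (437, 1)) (.leaf (1154, 1))) (.node (.leaf (262, 4)) (.leaf (0, 0)))))) (.node (.node (.node (.node (.leaf (125, 4)) (.leaf (354, 4))) (.node (.leaf (519, 2)) (.leaf (0, 0)))) (.node (.node (.leaf (381, 2)) (.leaf (1405, 4))) (.node (.leaf (893, 4)) (.leaf (0, 0))))) (.node (.node (.node (.leaf (253, 2)) (.leaf (1277, 4))) (.node (.leaf (326, 4)) (.leaf (0, 0)))) (.node (.node (.leaf (509, 2)) (.leaf (789, 11))) (.node (.leaf (1021, 4)) (.leaf (0, 0)))))))))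

def parB15 : Arr (ℕ × ℕ) :=
  (.node (.node (.node (.node (.node (.node (.node (.leaf (1, 9)) (.leaf (351, 4))) (.node (.leaf (115, 11)) (.leaf (801, 1)))) (.node (.node (.leaf (270, 2)) (.leaf (1294, 4))) (.node (.leaf (353, 4)) (.leaf (0, 0))))) (.node (.node (.node (.leaf (28, 4)) (.leaf (1166, 4))) (.node (.leaf (654, 1)) (.leaf (0, 0)))) (.node (.node (.leaf (351, 2)) (.leaf (607, 4))) (.node (.leaf (513, 4)) (.leaf (0, 0)))))) (.node (.node (.node (.node (.leaf (78, 4)) (.leaf (1102, 4))) (.node (.leaf (123, 10)) (.leaf (1132, 1)))) (.node (.node (.leaf (334, 1)) (.leaf (1358, 4))) (.node (.leaf (213, 4)) (.leaf (0, 0))))) (.node (.node (.node (.leaf (42, 10)) (.leaf (398, 4))) (.node (.leaf (718, 2)) (.leaf (0, 0)))) (.node (.node (.leaf (462, 1)) (.leaf (767, 11))) (.node (.leaf (265, 4)) (.leaf (0, 0))))))) (.node (.node (.node (.node (.node (.leaf (8, 4)) (.leaf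 (307, 4))) (.node (.leaf (118, 10)) (.leaf (820, 10)))) (.node (.node (.leaf (302, 2)) (.leaf (1326, 4))) (.node (.leaf (814, 4)) (.leaf (0, 0))))) (.node (.node (.node (.leaf (174, 4)) (.leaf (1198, 4))) (.node (.leaf (552, 2)) (.leaf (0, 0)))) (.node (.node (.leaf (430, 2)) (.leaf (1454, 4))) (.node (.leaf (489, 4)) (.leaf (0, 0)))))) (.node (.node (.node (.node (.leaf (110, 4)) (.leaf (428, 4))) (.node (.leaf (622, 2)) (.leaf (0, 0)))) (.node (.node (.leaf (366, 1)) (.leaf (1390, 4))) (.node (.leaf (878, 4)) (.leaf (0, 0))))) (.node (.node (.node (.leaf (46, 1)) (.leaf (619, 4))) (.node (.leaf (749, 1)) (.leaf (0, 0)))) (.node (.node (.leaf (494, 1)) (.leaf (971, 1))) (.node (.leaf (1006, 4)) (.leaf (0, 0)))))))) (.node (.node (.node (.node (.node (.node (.leaf (3, 9)) (.leaf (304, 4))) (.node (.leaf (542, 1)) (.leaf (1201, 1)))) (.node (.node (.leaf (286, 1)) (.leaf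 (1310, 4))) (.node (.leaf (798, 4)) (.leaf (0, 0))))) (.node (.node (.node (.leaf (158, 4)) (.leaf (566, 4))) (.node (.leaf (670, 2)) (.leaf (0, 0)))) (.node (.node (.leaf (414, 2)) (.leaf (1438, 4))) (.node (.leaf (625, 4)) (.leaf (0, 0)))))) (.node (.node (.node (.node (.leaf (17, 4)) (.leaf (361, 4))) (.node (.leaf (125, 10)) (.leaf (0, 0)))) (.node (.node (.leaf (350, 2)) (.leaf (1374, 4))) (.node (.leaf (862, 4)) (.leaf (0, 0))))) (.node (.node (.node (.leaf (222, 2)) (.leaf (1246, 4))) (.node (.leaf (660, 1)) (.leaf (0, 0)))) (.node (.node (.leaf (478, 1)) (.leaf (776, 9))) (.node (.leaf (268, 4)) (.leaf (0, 0))))))) (.node (.node (.node (.node (.node (.leaf (62, 4)) (.leaf (310, 4))) (.node (.leaf (574, 1)) (.leaf (835, 1)))) (.node (.node (.leaf (318, 2)) (.leaf (679, 4))) (.node (.leaf (204, 4)) (.leaf (0, 0))))) (.node (.node (.node (.leaf (190, 1)) (.leaf (1214,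 4))) (.node (.leaf (702, 1)) (.leaf (0, 0)))) (.node (.node (.leaf (249, 1)) (.leaf (1470, 2))) (.node (.leaf (958, 4)) (.leaf (0, 0)))))) (.node (.node (.node (.node (.leaf (126, 4)) (.leaf (1150, 4))) (.node (.leaf (589, 2)) (.leaf (0, 0)))) (.node (.node (.leaf (382, 1)) (.leaf (1406, 4))) (.node (.leaf (894, 4)) (.leaf (0, 0))))) (.node (.node (.node (.leaf (254, 1)) (.leaf (1278, 4))) (.node (.leaf (766, 4)) (.leaf (0, 0)))) (.node (.node (.leaf (510, 1)) (.leaf (1095, 1))) (.node (.leaf (565, 4)) (.leaf (0, 0)))))))))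

def parB : Arr (ℕ × ℕ) :=
  (.node (.node (.node (.node parB0 parB8) (.node parB4 parB12)) (.node (.node parB2 parB10) (.node parB6 parB14))) (.node (.node (.node parB1 parB9) (.node parB5 parB13)) (.node (.node parB3 parB11) (.node parB7 parB15))))

def wordsB0 : Arr (ℕ × ℕ × Bool) :=
  (.node (.node (.node (.node (.node (.node (.node (.leaf (17, 2, false)) (.leaf (18, 3, true))) (.node (.leaf (18, 2, false)) (.leaf (18, 0, true)))) (.node (.node (.leaf (8, 1, false)) (.leaf (15, 2, false))) (.node (.leaf (8, 3, false)) (.leaf (0, 0, false))))) (.node (.node (.node (.leaf (4, 1, false)) (.leaf (16, 4, false))) (.node (.leaf (19, 2, false)) (.leaf (14, 0, false)))) (.node (.node (.leaf (6, 0, false)) (.leaf (15, 4, true))) (.node (.leaf (10, 4, true)) (.leaf (0, 0, false)))))) (.node (.node (.node (.node (.leaf (2, 0, true)) (.leaf (10, 3, true))) (.node (.leaf (11, 0,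 false)) (.leaf (8, 0, false)))) (.node (.node (.leaf (10, 0, false)) (.leaf (18, 4, false))) (.node (.leaf (17, 3, false)) (.leaf (0, 0, false))))) (.node (.node (.node (.leaf (8, 4, false)) (.leaf (10, 3, false))) (.node (.leaf (12, 0, false)) (.leaf (0, 0, false)))) (.node (.node (.leaf (2, 0, false)) (.leaf (10, 2, false))) (.node (.leaf (19, 5, false)) (.leaf (0, 0, false))))))) (.node (.node (.node (.node (.node (.leaf (18, 1, true)) (.leaf (25, 0, false))) (.node (.leaf (15, 4, false)) (.leaf (19, 3, false)))) (.node (.node (.leaf (9, 1, false)) (.leaf (19, 1, false))) (.node (.leaf (19, 1, true)) (.leaf (0, 0, false))))) (.node (.node (.node (.leaf (3, 0, true)) (.leaf (16, 0, false))) (.node (.leaf (8, 5, false)) (.leaf (0, 0, false)))) (.node (.node (.leaf (9, 0, false)) (.leaf (15, 0, true))) (.node (.leaf (16, 2, true)) (.leaf (0, 0, false)))))) (.node (.node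 (.node (.node (.leaf (14, 0, true)) (.leaf (19, 4, false))) (.node (.leaf (19, 4, true)) (.leaf (3, 1, false)))) (.node (.node (.leaf (23, 1, false)) (.leaf (19, 7, false))) (.node (.leaf (11, 2, false)) (.leaf (0, 0, false))))) (.node (.node (.node (.leaf (23, 0, false)) (.leaf (16, 0, true))) (.node (.leaf (4, 0, false)) (.leaf (0, 0, false)))) (.node (.node (.leaf (5, 1, false)) (.leaf (18, 0, false))) (.node (.leaf (18, 3, false)) (.leaf (0, 0, false)))))))) (.node (.node (.node (.node (.node (.node (.leaf (16, 1, true)) (.leaf (16, 3, false))) (.node (.leaf (16, 2, false)) (.leaf (15, 1, false)))) (.node (.node (.leaf (11, 1, true)) (.leaf (15, 3, true))) (.node (.leaf (13, 1, false)) (.leaf (0, 0, false))))) (.node (.node (.node (.leaf (5, 3, false)) (.leaf (18, 2, true))) (.node (.leaf (8, 2, false)) (.leaf (0, 0, false)))) (.node (.node (.leaf (12, 1, false)) (.leaf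 (15, 0, false))) (.node (.leaf (10, 4, false)) (.leaf (0, 0, false)))))) (.node (.node (.node (.node (.leaf (15, 2, true)) (.leaf (5, 0, false))) (.node (.leaf (5, 2, false)) (.leaf (16, 5, true)))) (.node (.node (.leaf (0, 0, false)) (.leaf (16, 4, true))) (.node (.leaf (19, 0, false)) (.leaf (0, 0, false))))) (.node (.node (.node (.leaf (1, 0, false)) (.leaf (3, 0, false))) (.node (.leaf (13, 0, false)) (.leaf (0, 0, false)))) (.node (.node (.leaf (17, 0, false)) (.leaf (18, 4, true))) (.node (.leaf (16, 5, false)) (.leaf (0, 0, false))))))) (.node (.node (.node (.node (.node (.leaf (15, 3, false)) (.leaf (16, 3, true))) (.node (.leaf (19, 6, true)) (.leaf (11, 3, true)))) (.node (.node (.leaf (10, 1, false)) (.leaf (15, 1, true))) (.node (.leaf (10, 1, true)) (.leaf (0, 0, false))))) (.node (.node (.node (.leaf (11, 1, false)) (.leaf (19, 7, true))) (.node (.leaf (9,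 2, false)) (.leaf (0, 0, false)))) (.node (.node (.leaf (3, 1, true)) (.leaf (19, 6, false))) (.node (.leaf (19, 3, true)) (.leaf (0, 0, false)))))) (.node (.node (.node (.node (.leaf (11, 0, true)) (.leaf (25, 1, false))) (.node (.leaf (19, 0, true)) (.leaf (11, 2, true)))) (.node (.node (.leaf (7, 0, false)) (.leaf (11, 3, false))) (.node (.leaf (18, 1, false)) (.leaf (0, 0, false))))) (.node (.node (.node (.leaf (10, 0, true)) (.leaf (16, 1, false))) (.node (.leaf (19, 5, true)) (.leaf (0, 0, false)))) (.node (.node (.leaf (9, 3, false)) (.leaf (19, 2, true))) (.node (.leaf (17, 1, false)) (.leaf (0, 0, false)))))))))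

def wordsB : Arr (ℕ × ℕ × Bool) :=
  wordsB0

def relsB : List (List ℕ) :=
  [[0, 0],
   [1, 1],
   [2, 2, 2],
   [1, 2, 1, 2, 1, 2, 1, 2, 1, 2],
   [0, 1, 0, 1],
   [0, 2, 0, 3],
   [6, 6],
   [7, 7],
   [6, 1, 3, 1, 2, 1],
   [7, 3, 6, 2],
   [8, 1, 2, 6, 1],
   [10, 7, 6, 1],
   [8, 9],
   [10, 11],
   [4, 4, 4, 4, 4, 4, 4],
   [2, 4, 3, 5, 5],
   [4, 0, 5, 7, 6, 0],
   [4, 6, 5, 0],
   [4, 7, 5, 6, 0],
   [8, 5, 10, 4, 9, 5, 11, 4],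
   [],
   [0, 0],
   [1, 1],
   [2, 3],
   [3, 2],
   [4, 5],
   [5, 4],
   [6, 6],
   [7, 7],
   [8, 9],
   [9, 8],
   [10, 11],
   [11, 10]]

def logB : Log :=
  ⟨relsB, [0, 1, 2, 6, 7, 8, 10], wordsB, 7704, factB, parB⟩

def live0 : Arr (ℕ) :=
  (.node (.node (.node (.node (.node (.node (.node (.leaf 0) (.leaf 1185)) (.node (.leaf 606) (.leaf 0))) (.node (.node (.leaf 278) (.leaf 1446)) (.node (.leaf 916) (.leaf 0)))) (.node (.node (.node (.leaf 138) (.leaf 1313)) (.node (.leaf 772) (.leaf 0))) (.node (.node (.leaf 447) (.leaf 1574)) (.node (.leaf 1053) (.leaf 0))))) (.node (.node (.node (.node (.leaf 74) (.leaf 1249)) (.node (.leaf 691) (.leaf 0))) (.node (.node (.leaf 355) (.leaf 1510)) (.node (.leaf 984) (.leaf 0)))) (.node (.node (.node (.leaf 202) (.leaf 1382)) (.node (.leaf 846) (.leaf 0))) (.node (.node (.leaf 538) (.leaf 0)) (.node (.leaf 1119) (.leaf 0))))))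 (.node (.node (.node (.node (.node (.leaf 42) (.leaf 1217)) (.node (.leaf 651) (.leaf 0))) (.node (.node (.leaf 314) (.leaf 1478)) (.node (.leaf 950) (.leaf 0)))) (.node (.node (.node (.leaf 170) (.leaf 1348)) (.node (.leaf 811) (.leaf 0))) (.node (.node (.leaf 494) (.leaf 1606)) (.node (.leaf 1087) (.leaf 0))))) (.node (.node (.node (.node (.leaf 106) (.leaf 1281)) (.node (.leaf 735) (.leaf 0))) (.node (.node (.leaf 396) (.leaf 1542)) (.node (.leaf 1019) (.leaf 0)))) (.node (.node (.node (.leaf 243) (.leaf 1414)) (.node (.leaf 880) (.leaf 0))) (.node (.node (.leaf 571) (.leaf 0)) (.node (.leaf 1153) (.leaf 0))))))) (.node (.node (.node (.node (.node (.node (.leaf 17) (.leaf 1201)) (.node (.leaf 628) (.leaf 0))) (.node (.node (.leaf 297) (.leaf 1462)) (.node (.leaf 934) (.leaf 0)))) (.node (.node (.node (.leaf 154) (.leaf 1331)) (.node (.leaf 791) (.leaf 0))) (.node (.node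 (.leaf 470) (.leaf 1590)) (.node (.leaf 1070) (.leaf 0))))) (.node (.node (.node (.node (.leaf 90) (.leaf 1265)) (.node (.leaf 713) (.leaf 0))) (.node (.node (.leaf 372) (.leaf 1526)) (.node (.leaf 1002) (.leaf 0)))) (.node (.node (.node (.leaf 218) (.leaf 1398)) (.node (.leaf 863) (.leaf 0))) (.node (.node (.leaf 554) (.leaf 0)) (.node (.leaf 1135) (.leaf 0)))))) (.node (.node (.node (.node (.node (.leaf 58) (.leaf 1233)) (.node (.leaf 671) (.leaf 0))) (.node (.node (.leaf 335) (.leaf 1494)) (.node (.leaf 967) (.leaf 0)))) (.node (.node (.node (.leaf 186) (.leaf 1364)) (.node (.leaf 829) (.leaf 0))) (.node (.node (.leaf 517) (.leaf 1622)) (.node (.leaf 1103) (.leaf 0))))) (.node (.node (.node (.node (.leaf 122) (.leaf 1297)) (.node (.leaf 755) (.leaf 0))) (.node (.node (.leaf 422) (.leaf 1558)) (.node (.leaf 1036) (.leaf 0)))) (.node (.node (.node (.leaf 262) (.leaf 1430))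 (.node (.leaf 896) (.leaf 0))) (.node (.node (.leaf 590) (.leaf 0)) (.node (.leaf 1169) (.leaf 0))))))))

def live1 : Arr (ℕ) :=
  (.node (.node (.node (.node (.node (.node (.node (.leaf 1) (.leaf 1186)) (.node (.leaf 607) (.leaf 0))) (.node (.node (.leaf 279) (.leaf 1447)) (.node (.leaf 917) (.leaf 0)))) (.node (.node (.node (.leaf 139) (.leaf 1314)) (.node (.leaf 774) (.leaf 0))) (.node (.node (.leaf 448) (.leaf 1575)) (.node (.leaf 1054) (.leaf 0))))) (.node (.node (.node (.node (.leaf 75) (.leaf 1250)) (.node (.leaf 692) (.leaf 0))) (.node (.node (.leaf 356) (.leaf 1511)) (.node (.leaf 985) (.leaf 0)))) (.node (.node (.node (.leaf 203) (.leaf 1383)) (.node (.leaf 847) (.leaf 0))) (.node (.node (.leaf 539) (.leaf 0)) (.node (.leaf 1120) (.leaf 0)))))) (.node (.node (.node (.node (.node (.leaf 43) (.leaf 1218)) (.node (.leaf 652) (.leaf 0))) (.node (.node (.leaf 316)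 (.leaf 1479)) (.node (.leaf 951) (.leaf 0)))) (.node (.node (.node (.leaf 171) (.leaf 1349)) (.node (.leaf 812) (.leaf 0))) (.node (.node (.leaf 495) (.leaf 1607)) (.node (.leaf 1088) (.leaf 0))))) (.node (.node (.node (.node (.leaf 107) (.leaf 1282)) (.node (.leaf 736) (.leaf 0))) (.node (.node (.leaf 397) (.leaf 1543)) (.node (.leaf 1020) (.leaf 0)))) (.node (.node (.node (.leaf 244) (.leaf 1415)) (.node (.leaf 881) (.leaf 0))) (.node (.node (.leaf 572) (.leaf 0)) (.node (.leaf 1154) (.leaf 0))))))) (.node (.node (.node (.node (.node (.node (.leaf 21) (.leaf 1202)) (.node (.leaf 631) (.leaf 0))) (.node (.node (.leaf 298) (.leaf 1463)) (.node (.leaf 935) (.leaf 0)))) (.node (.node (.node (.leaf 155) (.leaf 1332)) (.node (.leaf 793) (.leaf 0))) (.node (.node (.leaf 471) (.leaf 1591)) (.node (.leaf 1071) (.leaf 0))))) (.node (.node (.node (.node (.leaf 91) (.leaf 1266))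 (.node (.leaf 714) (.leaf 0))) (.node (.node (.leaf 373) (.leaf 1527)) (.node (.leaf 1003) (.leaf 0)))) (.node (.node (.node (.leaf 219) (.leaf 1399)) (.node (.leaf 864) (.leaf 0))) (.node (.node (.leaf 555) (.leaf 0)) (.node (.leaf 1136) (.leaf 0)))))) (.node (.node (.node (.node (.node (.leaf 59) (.leaf 1234)) (.node (.leaf 672) (.leaf 0))) (.node (.node (.leaf 336) (.leaf 1495)) (.node (.leaf 968) (.leaf 0)))) (.node (.node (.node (.leaf 187) (.leaf 1365)) (.node (.leaf 830) (.leaf 0))) (.node (.node (.leaf 518) (.leaf 1623)) (.node (.leaf 1104) (.leaf 0))))) (.node (.node (.node (.node (.leaf 123) (.leaf 1298)) (.node (.leaf 756) (.leaf 0))) (.node (.node (.leaf 423) (.leaf 1559)) (.node (.leaf 1037) (.leaf 0)))) (.node (.node (.node (.leaf 263) (.leaf 1431)) (.node (.leaf 898) (.leaf 0))) (.node (.node (.leaf 591) (.leaf 0)) (.node (.leaf 1170) (.leaf 0))))))))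

def live2 : Arr (ℕ) :=
  (.node (.node (.node (.node (.node (.node (.node (.leaf 2) (.leaf 1187)) (.node (.leaf 608) (.leaf 0))) (.node (.node (.leaf 280) (.leaf 1448)) (.node (.leaf 918) (.leaf 0)))) (.node (.node (.node (.leaf 140) (.leaf 1315)) (.node (.leaf 775) (.leaf 0))) (.node (.node (.leaf 449) (.leaf 1576)) (.node (.leaf 1055) (.leaf 0))))) (.node (.node (.node (.node (.leaf 76) (.leaf 1251)) (.node (.leaf 693) (.leaf 0))) (.node (.node (.leaf 357) (.leaf 1512)) (.node (.leaf 986) (.leaf 0)))) (.node (.node (.node (.leaf 204) (.leaf 1384)) (.node (.leaf 848) (.leaf 0))) (.node (.node (.leaf 540) (.leaf 0)) (.node (.leaf 1121) (.leaf 0)))))) (.node (.node (.node (.node (.node (.leaf 44) (.leaf 1219)) (.node (.leaf 653) (.leaf 0))) (.node (.node (.leaf 318) (.leaf 1480)) (.node (.leaf 952) (.leaf 0)))) (.node (.node (.node (.leaf 172) (.leaf 1350)) (.node (.leaf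 813) (.leaf 0))) (.node (.node (.leaf 496) (.leaf 1608)) (.node (.leaf 1089) (.leaf 0))))) (.node (.node (.node (.node (.leaf 108) (.leaf 1283)) (.node (.leaf 737) (.leaf 0))) (.node (.node (.leaf 398) (.leaf 1544)) (.node (.leaf 1021) (.leaf 0)))) (.node (.node (.node (.leaf 245) (.leaf 1416)) (.node (.leaf 882) (.leaf 0))) (.node (.node (.leaf 573) (.leaf 0)) (.node (.leaf 1155) (.leaf 0))))))) (.node (.node (.node (.node (.node (.node (.leaf 22) (.leaf 1203)) (.node (.leaf 632) (.leaf 0))) (.node (.node (.leaf 299) (.leaf 1464)) (.node (.leaf 936) (.leaf 0)))) (.node (.node (.node (.leaf 156) (.leaf 1333)) (.node (.leaf 794) (.leaf 0))) (.node (.node (.leaf 472) (.leaf 1592)) (.node (.leaf 1072) (.leaf 0))))) (.node (.node (.node (.node (.leaf 92) (.leaf 1267)) (.node (.leaf 716) (.leaf 0))) (.node (.node (.leaf 375) (.leaf 1528)) (.node (.leaf 1004) (.leaf 0)))) (.node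 (.node (.node (.leaf 220) (.leaf 1400)) (.node (.leaf 865) (.leaf 0))) (.node (.node (.leaf 556) (.leaf 0)) (.node (.leaf 1137) (.leaf 0)))))) (.node (.node (.node (.node (.node (.leaf 60) (.leaf 1235)) (.node (.leaf 673) (.leaf 0))) (.node (.node (.leaf 337) (.leaf 1496)) (.node (.leaf 969) (.leaf 0)))) (.node (.node (.node (.leaf 188) (.leaf 1366)) (.node (.leaf 831) (.leaf 0))) (.node (.node (.leaf 519) (.leaf 1624)) (.node (.leaf 1105) (.leaf 0))))) (.node (.node (.node (.node (.leaf 124) (.leaf 1299)) (.node (.leaf 757) (.leaf 0))) (.node (.node (.leaf 426) (.leaf 1560)) (.node (.leaf 1038) (.leaf 0)))) (.node (.node (.node (.leaf 264) (.leaf 1432)) (.node (.leaf 899) (.leaf 0))) (.node (.node (.leaf 592) (.leaf 0)) (.node (.leaf 1171) (.leaf 0))))))))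

def live3 : Arr (ℕ) :=
  (.node (.node (.node (.node (.node (.node (.node (.leaf 3) (.leaf 1188)) (.node (.leaf 610) (.leaf 0))) (.node (.node (.leaf 281) (.leaf 1449)) (.node (.leaf 919) (.leaf 0)))) (.node (.node (.node (.leaf 141) (.leaf 1317)) (.node (.leaf 776) (.leaf 0))) (.node (.node (.leaf 450) (.leaf 1577)) (.node (.leaf 1056) (.leaf 0))))) (.node (.node (.node (.node (.leaf 77) (.leaf 1252)) (.node (.leaf 697) (.leaf 0))) (.node (.node (.leaf 358) (.leaf 1513)) (.node (.leaf 988) (.leaf 0)))) (.node (.node (.node (.leaf 205) (.leaf 1385)) (.node (.leaf 849) (.leaf 0))) (.node (.node (.leaf 541) (.leaf 0)) (.node (.leaf 1122) (.leaf 0)))))) (.node (.node (.node (.node (.node (.leaf 45) (.leaf 1220)) (.node (.leaf 654) (.leaf 0))) (.node (.node (.leaf 319) (.leaf 1481)) (.node (.leaf 953) (.leaf 0)))) (.node (.node (.node (.leaf 173) (.leaf 1351)) (.node (.leaf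 814) (.leaf 0))) (.node (.node (.leaf 497) (.leaf 1609)) (.node (.leaf 1090) (.leaf 0))))) (.node (.node (.node (.node (.leaf 109) (.leaf 1284)) (.node (.leaf 738) (.leaf 0))) (.node (.node (.leaf 399) (.leaf 1545)) (.node (.leaf 1022) (.leaf 0)))) (.node (.node (.node (.leaf 246) (.leaf 1417)) (.node (.leaf 883) (.leaf 0))) (.node (.node (.leaf 574) (.leaf 0)) (.node (.leaf 1156) (.leaf 0))))))) (.node (.node (.node (.node (.node (.node (.leaf 23) (.leaf 1204)) (.node (.leaf 633) (.leaf 0))) (.node (.node (.leaf 300) (.leaf 1465)) (.node (.leaf 937) (.leaf 0)))) (.node (.node (.node (.leaf 157) (.leaf 1334)) (.node (.leaf 795) (.leaf 0))) (.node (.node (.leaf 473) (.leaf 1593)) (.node (.leaf 1073) (.leaf 0))))) (.node (.node (.node (.node (.leaf 93) (.leaf 1268)) (.node (.leaf 718) (.leaf 0))) (.node (.node (.leaf 377) (.leaf 1529)) (.node (.leaf 1005) (.leaf 0)))) (.node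 (.node (.node (.leaf 221) (.leaf 1401)) (.node (.leaf 867) (.leaf 0))) (.node (.node (.leaf 557) (.leaf 0)) (.node (.leaf 1138) (.leaf 0)))))) (.node (.node (.node (.node (.node (.leaf 61) (.leaf 1236)) (.node (.leaf 674) (.leaf 0))) (.node (.node (.leaf 339) (.leaf 1497)) (.node (.leaf 970) (.leaf 0)))) (.node (.node (.node (.leaf 189) (.leaf 1367)) (.node (.leaf 832) (.leaf 0))) (.node (.node (.leaf 520) (.leaf 1625)) (.node (.leaf 1106) (.leaf 0))))) (.node (.node (.node (.node (.leaf 125) (.leaf 1300)) (.node (.leaf 759) (.leaf 0))) (.node (.node (.leaf 427) (.leaf 1561)) (.node (.leaf 1039) (.leaf 0)))) (.node (.node (.node (.leaf 265) (.leaf 1433)) (.node (.leaf 900) (.leaf 0))) (.node (.node (.leaf 593) (.leaf 0)) (.node (.leaf 1172) (.leaf 0))))))))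

def live4 : Arr (ℕ) :=
  (.node (.node (.node (.node (.node (.node (.node (.leaf 4) (.leaf 1189)) (.node (.leaf 613) (.leaf 0))) (.node (.node (.leaf 282) (.leaf 1450)) (.node (.leaf 920) (.leaf 0)))) (.node (.node (.node (.leaf 142) (.leaf 1318)) (.node (.leaf 777) (.leaf 0))) (.node (.node (.leaf 452) (.leaf 1578)) (.node (.leaf 1057) (.leaf 0))))) (.node (.node (.node (.node (.leaf 78) (.leaf 1253)) (.node (.leaf 698) (.leaf 0))) (.node (.node (.leaf 360) (.leaf 1514)) (.node (.leaf 989) (.leaf 0)))) (.node (.node (.node (.leaf 206) (.leaf 1386)) (.node (.leaf 850) (.leaf 0))) (.node (.node (.leaf 542) (.leaf 0)) (.node (.leaf 1123) (.leaf 0)))))) (.node (.node (.node (.node (.node (.leaf 46) (.leaf 1221)) (.node (.leaf 655) (.leaf 0))) (.node (.node (.leaf 320) (.leaf 1482)) (.node (.leaf 954) (.leaf 0)))) (.node (.node (.node (.leaf 174) (.leaf 1352)) (.node (.leaf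 815) (.leaf 0))) (.node (.node (.leaf 498) (.leaf 1610)) (.node (.leaf 1091) (.leaf 0))))) (.node (.node (.node (.node (.leaf 110) (.leaf 1285)) (.node (.leaf 739) (.leaf 0))) (.node (.node (.leaf 403) (.leaf 1546)) (.node (.leaf 1023) (.leaf 0)))) (.node (.node (.node (.leaf 247) (.leaf 1418)) (.node (.leaf 884) (.leaf 0))) (.node (.node (.leaf 575) (.leaf 0)) (.node (.leaf 1157) (.leaf 0))))))) (.node (.node (.node (.node (.node (.node (.leaf 24) (.leaf 1205)) (.node (.leaf 634) (.leaf 0))) (.node (.node (.leaf 302) (.leaf 1466)) (.node (.leaf 938) (.leaf 0)))) (.node (.node (.node (.leaf 158) (.leaf 1335)) (.node (.leaf 797) (.leaf 0))) (.node (.node (.leaf 474) (.leaf 1594)) (.node (.leaf 1074) (.leaf 0))))) (.node (.node (.node (.node (.leaf 94) (.leaf 1269)) (.node (.leaf 720) (.leaf 0))) (.node (.node (.leaf 379) (.leaf 1530)) (.node (.leaf 1006) (.leaf 0)))) (.node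 (.node (.node (.leaf 222) (.leaf 1402)) (.node (.leaf 868) (.leaf 0))) (.node (.node (.leaf 558) (.leaf 0)) (.node (.leaf 1139) (.leaf 0)))))) (.node (.node (.node (.node (.node (.leaf 62) (.leaf 1237)) (.node (.leaf 675) (.leaf 0))) (.node (.node (.leaf 340) (.leaf 1498)) (.node (.leaf 971) (.leaf 0)))) (.node (.node (.node (.leaf 190) (.leaf 1369)) (.node (.leaf 833) (.leaf 0))) (.node (.node (.leaf 521) (.leaf 1626)) (.node (.leaf 1107) (.leaf 0))))) (.node (.node (.node (.node (.leaf 126) (.leaf 1301)) (.node (.leaf 760) (.leaf 0))) (.node (.node (.leaf 428) (.leaf 1562)) (.node (.leaf 1040) (.leaf 0)))) (.node (.node (.node (.leaf 266) (.leaf 1434)) (.node (.leaf 902) (.leaf 0))) (.node (.node (.leaf 594) (.leaf 0)) (.node (.leaf 1173) (.leaf 0))))))))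

def live5 : Arr (ℕ) :=
  (.node (.node (.node (.node (.node (.node (.node (.leaf 5) (.leaf 1190)) (.node (.leaf 614) (.leaf 0))) (.node (.node (.leaf 283) (.leaf 1451)) (.node (.leaf 921) (.leaf 0)))) (.node (.node (.node (.leaf 143) (.leaf 1319)) (.node (.leaf 778) (.leaf 0))) (.node (.node (.leaf 453) (.leaf 1579)) (.node (.leaf 1058) (.leaf 0))))) (.node (.node (.node (.node (.leaf 79) (.leaf 1254)) (.node (.leaf 699) (.leaf 0))) (.node (.node (.leaf 361) (.leaf 1515)) (.node (.leaf 990) (.leaf 0)))) (.node (.node (.node (.leaf 207) (.leaf 1387)) (.node (.leaf 851) (.leaf 0))) (.node (.node (.leaf 543) (.leaf 0)) (.node (.leaf 1124) (.leaf 0)))))) (.node (.node (.node (.node (.node (.leaf 47) (.leaf 1222)) (.node (.leaf 657) (.leaf 0))) (.node (.node (.leaf 321) (.leaf 1483)) (.node (.leaf 955) (.leaf 0)))) (.node (.node (.node (.leaf 175) (.leaf 1353)) (.node (.leaf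 817) (.leaf 0))) (.node (.node (.leaf 499) (.leaf 1611)) (.node (.leaf 1092) (.leaf 0))))) (.node (.node (.node (.node (.leaf 111) (.leaf 1286)) (.node (.leaf 742) (.leaf 0))) (.node (.node (.leaf 404) (.leaf 1547)) (.node (.leaf 1024) (.leaf 0)))) (.node (.node (.node (.leaf 248) (.leaf 1419)) (.node (.leaf 885) (.leaf 0))) (.node (.node (.leaf 578) (.leaf 0)) (.node (.leaf 1158) (.leaf 0))))))) (.node (.node (.node (.node (.node (.node (.leaf 25) (.leaf 1206)) (.node (.leaf 636) (.leaf 0))) (.node (.node (.leaf 303) (.leaf 1467)) (.node (.leaf 939) (.leaf 0)))) (.node (.node (.node (.leaf 159) (.leaf 1336)) (.node (.leaf 798) (.leaf 0))) (.node (.node (.leaf 475) (.leaf 1595)) (.node (.leaf 1075) (.leaf 0))))) (.node (.node (.node (.node (.leaf 95) (.leaf 1270)) (.node (.leaf 721) (.leaf 0))) (.node (.node (.leaf 381) (.leaf 1531)) (.node (.leaf 1008) (.leaf 0)))) (.node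 (.node (.node (.leaf 223) (.leaf 1403)) (.node (.leaf 869) (.leaf 0))) (.node (.node (.leaf 559) (.leaf 0)) (.node (.leaf 1141) (.leaf 0)))))) (.node (.node (.node (.node (.node (.leaf 63) (.leaf 1238)) (.node (.leaf 676) (.leaf 0))) (.node (.node (.leaf 341) (.leaf 1499)) (.node (.leaf 972) (.leaf 0)))) (.node (.node (.node (.leaf 191) (.leaf 1370)) (.node (.leaf 834) (.leaf 0))) (.node (.node (.leaf 522) (.leaf 1627)) (.node (.leaf 1108) (.leaf 0))))) (.node (.node (.node (.node (.leaf 127) (.leaf 1302)) (.node (.leaf 761) (.leaf 0))) (.node (.node (.leaf 429) (.leaf 1563)) (.node (.leaf 1041) (.leaf 0)))) (.node (.node (.node (.leaf 267) (.leaf 1435)) (.node (.leaf 903) (.leaf 0))) (.node (.node (.leaf 595) (.leaf 0)) (.node (.leaf 1174) (.leaf 0))))))))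

def live6 : Arr (ℕ) :=
  (.node (.node (.node (.node (.node (.node (.node (.leaf 6) (.leaf 1191)) (.node (.leaf 615) (.leaf 0))) (.node (.node (.leaf 286) (.leaf 1452)) (.node (.leaf 922) (.leaf 0)))) (.node (.node (.node (.leaf 144) (.leaf 1320)) (.node (.leaf 779) (.leaf 0))) (.node (.node (.leaf 454) (.leaf 1580)) (.node (.leaf 1059) (.leaf 0))))) (.node (.node (.node (.node (.leaf 80) (.leaf 1255)) (.node (.leaf 700) (.leaf 0))) (.node (.node (.leaf 362) (.leaf 1516)) (.node (.leaf 991) (.leaf 0)))) (.node (.node (.node (.leaf 208) (.leaf 1388)) (.node (.leaf 852) (.leaf 0))) (.node (.node (.leaf 544) (.leaf 0)) (.node (.leaf 1125) (.leaf 0)))))) (.node (.node (.node (.node (.node (.leaf 48) (.leaf 1223)) (.node (.leaf 658) (.leaf 0))) (.node (.node (.leaf 322) (.leaf 1484)) (.node (.leaf 956) (.leaf 0)))) (.node (.node (.node (.leaf 176) (.leaf 1354)) (.node (.leaf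 818) (.leaf 0))) (.node (.node (.leaf 500) (.leaf 1612)) (.node (.leaf 1093) (.leaf 0))))) (.node (.node (.node (.node (.leaf 112) (.leaf 1287)) (.node (.leaf 743) (.leaf 0))) (.node (.node (.leaf 406) (.leaf 1548)) (.node (.leaf 1025) (.leaf 0)))) (.node (.node (.node (.leaf 249) (.leaf 1420)) (.node (.leaf 886) (.leaf 0))) (.node (.node (.leaf 580) (.leaf 0)) (.node (.leaf 1159) (.leaf 0))))))) (.node (.node (.node (.node (.node (.node (.leaf 26) (.leaf 1207)) (.node (.leaf 637) (.leaf 0))) (.node (.node (.leaf 304) (.leaf 1468)) (.node (.leaf 940) (.leaf 0)))) (.node (.node (.node (.leaf 160) (.leaf 1337)) (.node (.leaf 799) (.leaf 0))) (.node (.node (.leaf 477) (.leaf 1596)) (.node (.leaf 1076) (.leaf 0))))) (.node (.node (.node (.node (.leaf 96) (.leaf 1271)) (.node (.leaf 724) (.leaf 0))) (.node (.node (.leaf 384) (.leaf 1532)) (.node (.leaf 1009) (.leaf 0)))) (.node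 (.node (.node (.leaf 224) (.leaf 1404)) (.node (.leaf 870) (.leaf 0))) (.node (.node (.leaf 560) (.leaf 0)) (.node (.leaf 1142) (.leaf 0)))))) (.node (.node (.node (.node (.node (.leaf 64) (.leaf 1239)) (.node (.leaf 677) (.leaf 0))) (.node (.node (.leaf 343) (.leaf 1500)) (.node (.leaf 974) (.leaf 0)))) (.node (.node (.node (.leaf 192) (.leaf 1371)) (.node (.leaf 835) (.leaf 0))) (.node (.node (.leaf 523) (.leaf 1628)) (.node (.leaf 1109) (.leaf 0))))) (.node (.node (.node (.node (.leaf 128) (.leaf 1303)) (.node (.leaf 762) (.leaf 0))) (.node (.node (.leaf 430) (.leaf 1564)) (.node (.leaf 1042) (.leaf 0)))) (.node (.node (.node (.leaf 268) (.leaf 1436)) (.node (.leaf 904) (.leaf 0))) (.node (.node (.leaf 596) (.leaf 0)) (.node (.leaf 1175) (.leaf 0))))))))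

def live7 : Arr (ℕ) :=
  (.node (.node (.node (.node (.node (.node (.node (.leaf 7) (.leaf 1192)) (.node (.leaf 617) (.leaf 0))) (.node (.node (.leaf 288) (.leaf 1453)) (.node (.leaf 923) (.leaf 0)))) (.node (.node (.node (.leaf 145) (.leaf 1321)) (.node (.leaf 780) (.leaf 0))) (.node (.node (.leaf 455) (.leaf 1581)) (.node (.leaf 1060) (.leaf 0))))) (.node (.node (.node (.node (.leaf 81) (.leaf 1256)) (.node (.leaf 701) (.leaf 0))) (.node (.node (.leaf 363) (.leaf 1517)) (.node (.leaf 992) (.leaf 0)))) (.node (.node (.node (.leaf 209) (.leaf 1389)) (.node (.leaf 853) (.leaf 0))) (.node (.node (.leaf 545) (.leaf 0)) (.node (.leaf 1126) (.leaf 0)))))) (.node (.node (.node (.node (.node (.leaf 49) (.leaf 1224)) (.node (.leaf 659) (.leaf 0))) (.node (.node (.leaf 323) (.leaf 1485)) (.node (.leaf 957) (.leaf 0)))) (.node (.node (.node (.leaf 177) (.leaf 1355)) (.node (.leaf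 819) (.leaf 0))) (.node (.node (.leaf 501) (.leaf 1613)) (.node (.leaf 1094) (.leaf 0))))) (.node (.node (.node (.node (.leaf 113) (.leaf 1288)) (.node (.leaf 745) (.leaf 0))) (.node (.node (.leaf 409) (.leaf 1549)) (.node (.leaf 1026) (.leaf 0)))) (.node (.node (.node (.leaf 250) (.leaf 1421)) (.node (.leaf 887) (.leaf 0))) (.node (.node (.leaf 581) (.leaf 0)) (.node (.leaf 1160) (.leaf 0))))))) (.node (.node (.node (.node (.node (.node (.leaf 27) (.leaf 1208)) (.node (.leaf 638) (.leaf 0))) (.node (.node (.leaf 305) (.leaf 1469)) (.node (.leaf 941) (.leaf 0)))) (.node (.node (.node (.leaf 161) (.leaf 1339)) (.node (.leaf 800) (.leaf 0))) (.node (.node (.leaf 479) (.leaf 1597)) (.node (.leaf 1077) (.leaf 0))))) (.node (.node (.node (.node (.leaf 97) (.leaf 1272)) (.node (.leaf 725) (.leaf 0))) (.node (.node (.leaf 386) (.leaf 1533)) (.node (.leaf 1010) (.leaf 0)))) (.node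 (.node (.node (.leaf 225) (.leaf 1405)) (.node (.leaf 871) (.leaf 0))) (.node (.node (.leaf 562) (.leaf 0)) (.node (.leaf 1143) (.leaf 0)))))) (.node (.node (.node (.node (.node (.leaf 65) (.leaf 1240)) (.node (.leaf 678) (.leaf 0))) (.node (.node (.leaf 345) (.leaf 1501)) (.node (.leaf 975) (.leaf 0)))) (.node (.node (.node (.leaf 193) (.leaf 1372)) (.node (.leaf 837) (.leaf 0))) (.node (.node (.leaf 524) (.leaf 0)) (.node (.leaf 1110) (.leaf 0))))) (.node (.node (.node (.node (.leaf 129) (.leaf 1304)) (.node (.leaf 763) (.leaf 0))) (.node (.node (.leaf 432) (.leaf 1565)) (.node (.leaf 1043) (.leaf 0)))) (.node (.node (.node (.leaf 269) (.leaf 1437)) (.node (.leaf 905) (.leaf 0))) (.node (.node (.leaf 597) (.leaf 0)) (.node (.leaf 1176) (.leaf 0))))))))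

def live8 : Arr (ℕ) :=
  (.node (.node (.node (.node (.node (.node (.node (.leaf 8) (.leaf 1193)) (.node (.leaf 619) (.leaf 0))) (.node (.node (.leaf 289) (.leaf 1454)) (.node (.leaf 924) (.leaf 0)))) (.node (.node (.node (.leaf 146) (.leaf 1322)) (.node (.leaf 782) (.leaf 0))) (.node (.node (.leaf 456) (.leaf 1582)) (.node (.leaf 1061) (.leaf 0))))) (.node (.node (.node (.node (.leaf 82) (.leaf 1257)) (.node (.leaf 702) (.leaf 0))) (.node (.node (.leaf 364) (.leaf 1518)) (.node (.leaf 994) (.leaf 0)))) (.node (.node (.node (.leaf 210) (.leaf 1390)) (.node (.leaf 854) (.leaf 0))) (.node (.node (.leaf 546) (.leaf 0)) (.node (.leaf 1127) (.leaf 0)))))) (.node (.node (.node (.node (.node (.leaf 50) (.leaf 1225)) (.node (.leaf 660) (.leaf 0))) (.node (.node (.leaf 325) (.leaf 1486)) (.node (.leaf 958) (.leaf 0)))) (.node (.node (.node (.leaf 178) (.leaf 1356)) (.node (.leaf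 820) (.leaf 0))) (.node (.node (.leaf 502) (.leaf 1614)) (.node (.leaf 1095) (.leaf 0))))) (.node (.node (.node (.node (.leaf 114) (.leaf 1289)) (.node (.leaf 746) (.leaf 0))) (.node (.node (.leaf 410) (.leaf 1550)) (.node (.leaf 1027) (.leaf 0)))) (.node (.node (.node (.leaf 251) (.leaf 1422)) (.node (.leaf 888) (.leaf 0))) (.node (.node (.leaf 582) (.leaf 0)) (.node (.leaf 1161) (.leaf 0))))))) (.node (.node (.node (.node (.node (.node (.leaf 28) (.leaf 1209)) (.node (.leaf 640) (.leaf 0))) (.node (.node (.leaf 306) (.leaf 1470)) (.node (.leaf 942) (.leaf 0)))) (.node (.node (.node (.leaf 162) (.leaf 1340)) (.node (.leaf 801) (.leaf 0))) (.node (.node (.leaf 480) (.leaf 1598)) (.node (.leaf 1078) (.leaf 0))))) (.node (.node (.node (.node (.leaf 98) (.leaf 1273)) (.node (.leaf 726) (.leaf 0))) (.node (.node (.leaf 388) (.leaf 1534)) (.node (.leaf 1011) (.leaf 0)))) (.node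 (.node (.node (.leaf 227) (.leaf 1406)) (.node (.leaf 872) (.leaf 0))) (.node (.node (.leaf 563) (.leaf 0)) (.node (.leaf 1144) (.leaf 0)))))) (.node (.node (.node (.node (.node (.leaf 66) (.leaf 1241)) (.node (.leaf 679) (.leaf 0))) (.node (.node (.leaf 347) (.leaf 1502)) (.node (.leaf 976) (.leaf 0)))) (.node (.node (.node (.leaf 194) (.leaf 1373)) (.node (.leaf 838) (.leaf 0))) (.node (.node (.leaf 525) (.leaf 0)) (.node (.leaf 1111) (.leaf 0))))) (.node (.node (.node (.node (.leaf 130) (.leaf 1305)) (.node (.leaf 764) (.leaf 0))) (.node (.node (.leaf 433) (.leaf 1566)) (.node (.leaf 1044) (.leaf 0)))) (.node (.node (.node (.leaf 270) (.leaf 1438)) (.node (.leaf 906) (.leaf 0))) (.node (.node (.leaf 598) (.leaf 0)) (.node (.leaf 1177) (.leaf 0))))))))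

def live9 : Arr (ℕ) :=
  (.node (.node (.node (.node (.node (.node (.node (.leaf 9) (.leaf 1194)) (.node (.leaf 620) (.leaf 0))) (.node (.node (.leaf 290) (.leaf 1455)) (.node (.leaf 925) (.leaf 0)))) (.node (.node (.node (.leaf 147) (.leaf 1323)) (.node (.leaf 783) (.leaf 0))) (.node (.node (.leaf 458) (.leaf 1583)) (.node (.leaf 1062) (.leaf 0))))) (.node (.node (.node (.node (.leaf 83) (.leaf 1258)) (.node (.leaf 704) (.leaf 0))) (.node (.node (.leaf 365) (.leaf 1519)) (.node (.leaf 995) (.leaf 0)))) (.node (.node (.node (.leaf 211) (.leaf 1391)) (.node (.leaf 855) (.leaf 0))) (.node (.node (.leaf 547) (.leaf 0)) (.node (.leaf 1128) (.leaf 0)))))) (.node (.node (.node (.node (.node (.leaf 51) (.leaf 1226)) (.node (.leaf 661) (.leaf 0))) (.node (.node (.leaf 326) (.leaf 1487)) (.node (.leaf 959) (.leaf 0)))) (.node (.node (.node (.leaf 179) (.leaf 1357)) (.node (.leaf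 821) (.leaf 0))) (.node (.node (.leaf 503) (.leaf 1615)) (.node (.leaf 1096) (.leaf 0))))) (.node (.node (.node (.node (.leaf 115) (.leaf 1290)) (.node (.leaf 747) (.leaf 0))) (.node (.node (.leaf 411) (.leaf 1551)) (.node (.leaf 1028) (.leaf 0)))) (.node (.node (.node (.leaf 252) (.leaf 1423)) (.node (.leaf 889) (.leaf 0))) (.node (.node (.leaf 583) (.leaf 0)) (.node (.leaf 1162) (.leaf 0))))))) (.node (.node (.node (.node (.node (.node (.leaf 30) (.leaf 1210)) (.node (.leaf 643) (.leaf 0))) (.node (.node (.leaf 307) (.leaf 1471)) (.node (.leaf 943) (.leaf 0)))) (.node (.node (.node (.leaf 163) (.leaf 1341)) (.node (.leaf 803) (.leaf 0))) (.node (.node (.leaf 482) (.leaf 1599)) (.node (.leaf 1079) (.leaf 0))))) (.node (.node (.node (.node (.leaf 99) (.leaf 1274)) (.node (.leaf 727) (.leaf 0))) (.node (.node (.leaf 389) (.leaf 1535)) (.node (.leaf 1012) (.leaf 0)))) (.node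 (.node (.node (.leaf 228) (.leaf 1407)) (.node (.leaf 873) (.leaf 0))) (.node (.node (.leaf 564) (.leaf 0)) (.node (.leaf 1145) (.leaf 0)))))) (.node (.node (.node (.node (.node (.leaf 67) (.leaf 1242)) (.node (.leaf 680) (.leaf 0))) (.node (.node (.leaf 348) (.leaf 1503)) (.node (.leaf 977) (.leaf 0)))) (.node (.node (.node (.leaf 195) (.leaf 1374)) (.node (.leaf 839) (.leaf 0))) (.node (.node (.leaf 526) (.leaf 0)) (.node (.leaf 1112) (.leaf 0))))) (.node (.node (.node (.node (.leaf 131) (.leaf 1306)) (.node (.leaf 765) (.leaf 0))) (.node (.node (.leaf 434) (.leaf 1567)) (.node (.leaf 1045) (.leaf 0)))) (.node (.node (.node (.leaf 271) (.leaf 1439)) (.node (.leaf 908) (.leaf 0))) (.node (.node (.leaf 599) (.leaf 0)) (.node (.leaf 1178) (.leaf 0))))))))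

def live10 : Arr (ℕ) :=
  (.node (.node (.node (.node (.node (.node (.node (.leaf 10) (.leaf 1195)) (.node (.leaf 622) (.leaf 0))) (.node (.node (.leaf 291) (.leaf 1456)) (.node (.leaf 926) (.leaf 0)))) (.node (.node (.node (.leaf 148) (.leaf 1324)) (.node (.leaf 784) (.leaf 0))) (.node (.node (.leaf 459) (.leaf 1584)) (.node (.leaf 1063) (.leaf 0))))) (.node (.node (.node (.node (.leaf 84) (.leaf 1259)) (.node (.leaf 705) (.leaf 0))) (.node (.node (.leaf 366) (.leaf 1520)) (.node (.leaf 996) (.leaf 0)))) (.node (.node (.node (.leaf 212) (.leaf 1392)) (.node (.leaf 856) (.leaf 0))) (.node (.node (.leaf 548) (.leaf 0)) (.node (.leaf 1129) (.leaf 0)))))) (.node (.node (.node (.node (.node (.leaf 52) (.leaf 1227)) (.node (.leaf 662) (.leaf 0))) (.node (.node (.leaf 327) (.leaf 1488)) (.node (.leaf 960) (.leaf 0)))) (.node (.node (.node (.leaf 180) (.leaf 1358)) (.node (.leaf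 822) (.leaf 0))) (.node (.node (.leaf 504) (.leaf 1616)) (.node (.leaf 1097) (.leaf 0))))) (.node (.node (.node (.node (.leaf 116) (.leaf 1291)) (.node (.leaf 748) (.leaf 0))) (.node (.node (.leaf 415) (.leaf 1552)) (.node (.leaf 1029) (.leaf 0)))) (.node (.node (.node (.leaf 253) (.leaf 1424)) (.node (.leaf 890) (.leaf 0))) (.node (.node (.leaf 584) (.leaf 0)) (.node (.leaf 1163) (.leaf 0))))))) (.node (.node (.node (.node (.node (.node (.leaf 31) (.leaf 1211)) (.node (.leaf 644) (.leaf 0))) (.node (.node (.leaf 308) (.leaf 1472)) (.node (.leaf 944) (.leaf 0)))) (.node (.node (.node (.leaf 164) (.leaf 1342)) (.node (.leaf 804) (.leaf 0))) (.node (.node (.leaf 484) (.leaf 1600)) (.node (.leaf 1081) (.leaf 0))))) (.node (.node (.node (.node (.leaf 100) (.leaf 1275)) (.node (.leaf 728) (.leaf 0))) (.node (.node (.leaf 390) (.leaf 1536)) (.node (.leaf 1013) (.leaf 0)))) (.node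 (.node (.node (.leaf 229) (.leaf 1408)) (.node (.leaf 874) (.leaf 0))) (.node (.node (.leaf 565) (.leaf 0)) (.node (.leaf 1146) (.leaf 0)))))) (.node (.node (.node (.node (.node (.leaf 68) (.leaf 1243)) (.node (.leaf 681) (.leaf 0))) (.node (.node (.leaf 349) (.leaf 1504)) (.node (.leaf 978) (.leaf 0)))) (.node (.node (.node (.leaf 196) (.leaf 1375)) (.node (.leaf 840) (.leaf 0))) (.node (.node (.leaf 527) (.leaf 0)) (.node (.leaf 1113) (.leaf 0))))) (.node (.node (.node (.node (.leaf 132) (.leaf 1307)) (.node (.leaf 766) (.leaf 0))) (.node (.node (.leaf 435) (.leaf 1568)) (.node (.leaf 1046) (.leaf 0)))) (.node (.node (.node (.leaf 272) (.leaf 1440)) (.node (.leaf 909) (.leaf 0))) (.node (.node (.leaf 600) (.leaf 0)) (.node (.leaf 1179) (.leaf 0))))))))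

def live11 : Arr (ℕ) :=
  (.node (.node (.node (.node (.node (.node (.node (.leaf 11) (.leaf 1196)) (.node (.leaf 623) (.leaf 0))) (.node (.node (.leaf 292) (.leaf 1457)) (.node (.leaf 927) (.leaf 0)))) (.node (.node (.node (.leaf 149) (.leaf 1326)) (.node (.leaf 786) (.leaf 0))) (.node (.node (.leaf 460) (.leaf 1585)) (.node (.leaf 1064) (.leaf 0))))) (.node (.node (.node (.node (.leaf 85) (.leaf 1260)) (.node (.leaf 707) (.leaf 0))) (.node (.node (.leaf 367) (.leaf 1521)) (.node (.leaf 997) (.leaf 0)))) (.node (.node (.node (.leaf 213) (.leaf 1393)) (.node (.leaf 857) (.leaf 0))) (.node (.node (.leaf 549) (.leaf 0)) (.node (.leaf 1130) (.leaf 0)))))) (.node (.node (.node (.node (.node (.leaf 53) (.leaf 1228)) (.node (.leaf 663) (.leaf 0))) (.node (.node (.leaf 328) (.leaf 1489)) (.node (.leaf 961) (.leaf 0)))) (.node (.node (.node (.leaf 181) (.leaf 1359)) (.node (.leaf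 824) (.leaf 0))) (.node (.node (.leaf 507) (.leaf 1617)) (.node (.leaf 1098) (.leaf 0))))) (.node (.node (.node (.node (.leaf 117) (.leaf 1292)) (.node (.leaf 750) (.leaf 0))) (.node (.node (.leaf 416) (.leaf 1553)) (.node (.leaf 1030) (.leaf 0)))) (.node (.node (.node (.leaf 254) (.leaf 1425)) (.node (.leaf 891) (.leaf 0))) (.node (.node (.leaf 585) (.leaf 0)) (.node (.leaf 1164) (.leaf 0))))))) (.node (.node (.node (.node (.node (.node (.leaf 32) (.leaf 1212)) (.node (.leaf 645) (.leaf 0))) (.node (.node (.leaf 309) (.leaf 1473)) (.node (.leaf 945) (.leaf 0)))) (.node (.node (.node (.leaf 165) (.leaf 1343)) (.node (.leaf 805) (.leaf 0))) (.node (.node (.leaf 486) (.leaf 1601)) (.node (.leaf 1082) (.leaf 0))))) (.node (.node (.node (.node (.leaf 101) (.leaf 1276)) (.node (.leaf 730) (.leaf 0))) (.node (.node (.leaf 391) (.leaf 1537)) (.node (.leaf 1014) (.leaf 0)))) (.node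 (.node (.node (.leaf 230) (.leaf 1409)) (.node (.leaf 875) (.leaf 0))) (.node (.node (.leaf 566) (.leaf 0)) (.node (.leaf 1147) (.leaf 0)))))) (.node (.node (.node (.node (.node (.leaf 69) (.leaf 1244)) (.node (.leaf 683) (.leaf 0))) (.node (.node (.leaf 350) (.leaf 1505)) (.node (.leaf 979) (.leaf 0)))) (.node (.node (.node (.leaf 197) (.leaf 1377)) (.node (.leaf 841) (.leaf 0))) (.node (.node (.leaf 532) (.leaf 0)) (.node (.leaf 1114) (.leaf 0))))) (.node (.node (.node (.node (.leaf 133) (.leaf 1308)) (.node (.leaf 767) (.leaf 0))) (.node (.node (.leaf 438) (.leaf 1569)) (.node (.leaf 1047) (.leaf 0)))) (.node (.node (.node (.leaf 273) (.leaf 1441)) (.node (.leaf 910) (.leaf 0))) (.node (.node (.leaf 601) (.leaf 0)) (.node (.leaf 1180) (.leaf 0))))))))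

def live12 : Arr (ℕ) :=
  (.node (.node (.node (.node (.node (.node (.node (.leaf 12) (.leaf 1197)) (.node (.leaf 624) (.leaf 0))) (.node (.node (.leaf 293) (.leaf 1458)) (.node (.leaf 928) (.leaf 0)))) (.node (.node (.node (.leaf 150) (.leaf 1327)) (.node (.leaf 787) (.leaf 0))) (.node (.node (.leaf 461) (.leaf 1586)) (.node (.leaf 1065) (.leaf 0))))) (.node (.node (.node (.node (.leaf 86) (.leaf 1261)) (.node (.leaf 708) (.leaf 0))) (.node (.node (.leaf 368) (.leaf 1522)) (.node (.leaf 998) (.leaf 0)))) (.node (.node (.node (.leaf 214) (.leaf 1394)) (.node (.leaf 859) (.leaf 0))) (.node (.node (.leaf 550) (.leaf 0)) (.node (.leaf 1131) (.leaf 0)))))) (.node (.node (.node (.node (.node (.leaf 54) (.leaf 1229)) (.node (.leaf 664) (.leaf 0))) (.node (.node (.leaf 329) (.leaf 1490)) (.node (.leaf 963) (.leaf 0)))) (.node (.node (.node (.leaf 182) (.leaf 1360)) (.node (.leaf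 825) (.leaf 0))) (.node (.node (.leaf 508) (.leaf 1618)) (.node (.leaf 1099) (.leaf 0))))) (.node (.node (.node (.node (.leaf 118) (.leaf 1293)) (.node (.leaf 751) (.leaf 0))) (.node (.node (.leaf 417) (.leaf 1554)) (.node (.leaf 1032) (.leaf 0)))) (.node (.node (.node (.leaf 256) (.leaf 1426)) (.node (.leaf 892) (.leaf 0))) (.node (.node (.leaf 586) (.leaf 0)) (.node (.leaf 1165) (.leaf 0))))))) (.node (.node (.node (.node (.node (.node (.leaf 34) (.leaf 1213)) (.node (.leaf 646) (.leaf 0))) (.node (.node (.leaf 310) (.leaf 1474)) (.node (.leaf 946) (.leaf 0)))) (.node (.node (.node (.leaf 166) (.leaf 1344)) (.node (.leaf 806) (.leaf 0))) (.node (.node (.leaf 487) (.leaf 1602)) (.node (.leaf 1083) (.leaf 0))))) (.node (.node (.node (.node (.leaf 102) (.leaf 1277)) (.node (.leaf 731) (.leaf 0))) (.node (.node (.leaf 392) (.leaf 1538)) (.node (.leaf 1015) (.leaf 0)))) (.node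 (.node (.node (.leaf 239) (.leaf 1410)) (.node (.leaf 876) (.leaf 0))) (.node (.node (.leaf 567) (.leaf 0)) (.node (.leaf 1149) (.leaf 0)))))) (.node (.node (.node (.node (.node (.leaf 70) (.leaf 1245)) (.node (.leaf 684) (.leaf 0))) (.node (.node (.leaf 351) (.leaf 1506)) (.node (.leaf 980) (.leaf 0)))) (.node (.node (.node (.leaf 198) (.leaf 1378)) (.node (.leaf 842) (.leaf 0))) (.node (.node (.leaf 533) (.leaf 0)) (.node (.leaf 1115) (.leaf 0))))) (.node (.node (.node (.node (.leaf 134) (.leaf 1309)) (.node (.leaf 768) (.leaf 0))) (.node (.node (.leaf 440) (.leaf 1570)) (.node (.leaf 1049) (.leaf 0)))) (.node (.node (.node (.leaf 274) (.leaf 1442)) (.node (.leaf 911) (.leaf 0))) (.node (.node (.leaf 602) (.leaf 0)) (.node (.leaf 1181) (.leaf 0))))))))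

def live13 : Arr (ℕ) :=
  (.node (.node (.node (.node (.node (.node (.node (.leaf 14) (.leaf 1198)) (.node (.leaf 625) (.leaf 0))) (.node (.node (.leaf 294) (.leaf 1459)) (.node (.leaf 930) (.leaf 0)))) (.node (.node (.node (.leaf 151) (.leaf 1328)) (.node (.leaf 788) (.leaf 0))) (.node (.node (.leaf 463) (.leaf 1587)) (.node (.leaf 1066) (.leaf 0))))) (.node (.node (.node (.node (.leaf 87) (.leaf 1262)) (.node (.leaf 709) (.leaf 0))) (.node (.node (.leaf 369) (.leaf 1523)) (.node (.leaf 999) (.leaf 0)))) (.node (.node (.node (.leaf 215) (.leaf 1395)) (.node (.leaf 860) (.leaf 0))) (.node (.node (.leaf 551) (.leaf 0)) (.node (.leaf 1132) (.leaf 0)))))) (.node (.node (.node (.node (.node (.leaf 55) (.leaf 1230)) (.node (.leaf 666) (.leaf 0))) (.node (.node (.leaf 330) (.leaf 1491)) (.node (.leaf 964) (.leaf 0)))) (.node (.node (.node (.leaf 183) (.leaf 1361)) (.node (.leaf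 826) (.leaf 0))) (.node (.node (.leaf 510) (.leaf 1619)) (.node (.leaf 1100) (.leaf 0))))) (.node (.node (.node (.node (.leaf 119) (.leaf 1294)) (.node (.leaf 752) (.leaf 0))) (.node (.node (.leaf 418) (.leaf 1555)) (.node (.leaf 1033) (.leaf 0)))) (.node (.node (.node (.leaf 257) (.leaf 1427)) (.node (.leaf 893) (.leaf 0))) (.node (.node (.leaf 587) (.leaf 0)) (.node (.leaf 1166) (.leaf 0))))))) (.node (.node (.node (.node (.node (.node (.leaf 35) (.leaf 1214)) (.node (.leaf 648) (.leaf 0))) (.node (.node (.leaf 311) (.leaf 1475)) (.node (.leaf 947) (.leaf 0)))) (.node (.node (.node (.leaf 167) (.leaf 1345)) (.node (.leaf 807) (.leaf 0))) (.node (.node (.leaf 488) (.leaf 1603)) (.node (.leaf 1084) (.leaf 0))))) (.node (.node (.node (.node (.leaf 103) (.leaf 1278)) (.node (.leaf 732) (.leaf 0))) (.node (.node (.leaf 393) (.leaf 1539)) (.node (.leaf 1016) (.leaf 0)))) (.node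 (.node (.node (.leaf 240) (.leaf 1411)) (.node (.leaf 877) (.leaf 0))) (.node (.node (.leaf 568) (.leaf 0)) (.node (.leaf 1150) (.leaf 0)))))) (.node (.node (.node (.node (.node (.leaf 71) (.leaf 1246)) (.node (.leaf 685) (.leaf 0))) (.node (.node (.leaf 352) (.leaf 1507)) (.node (.leaf 981) (.leaf 0)))) (.node (.node (.node (.leaf 199) (.leaf 1379)) (.node (.leaf 843) (.leaf 0))) (.node (.node (.leaf 535) (.leaf 0)) (.node (.leaf 1116) (.leaf 0))))) (.node (.node (.node (.node (.leaf 135) (.leaf 1310)) (.node (.leaf 769) (.leaf 0))) (.node (.node (.leaf 441) (.leaf 1571)) (.node (.leaf 1050) (.leaf 0)))) (.node (.node (.node (.leaf 275) (.leaf 1443)) (.node (.leaf 912) (.leaf 0))) (.node (.node (.leaf 603) (.leaf 0)) (.node (.leaf 1182) (.leaf 0))))))))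

def live14 : Arr (ℕ) :=
  (.node (.node (.node (.node (.node (.node (.node (.leaf 15) (.leaf 1199)) (.node (.leaf 626) (.leaf 0))) (.node (.node (.leaf 295) (.leaf 1460)) (.node (.leaf 931) (.leaf 0)))) (.node (.node (.node (.leaf 152) (.leaf 1329)) (.node (.leaf 789) (.leaf 0))) (.node (.node (.leaf 466) (.leaf 1588)) (.node (.leaf 1068) (.leaf 0))))) (.node (.node (.node (.node (.leaf 88) (.leaf 1263)) (.node (.leaf 711) (.leaf 0))) (.node (.node (.leaf 370) (.leaf 1524)) (.node (.leaf 1000) (.leaf 0)))) (.node (.node (.node (.leaf 216) (.leaf 1396)) (.node (.leaf 861) (.leaf 0))) (.node (.node (.leaf 552) (.leaf 0)) (.node (.leaf 1133) (.leaf 0)))))) (.node (.node (.node (.node (.node (.leaf 56) (.leaf 1231)) (.node (.leaf 668) (.leaf 0))) (.node (.node (.leaf 331) (.leaf 1492)) (.node (.leaf 965) (.leaf 0)))) (.node (.node (.node (.leaf 184) (.leaf 1362)) (.node (.leaf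 827) (.leaf 0))) (.node (.node (.leaf 513) (.leaf 1620)) (.node (.leaf 1101) (.leaf 0))))) (.node (.node (.node (.node (.leaf 120) (.leaf 1295)) (.node (.leaf 753) (.leaf 0))) (.node (.node (.leaf 419) (.leaf 1556)) (.node (.leaf 1034) (.leaf 0)))) (.node (.node (.node (.leaf 260) (.leaf 1428)) (.node (.leaf 894) (.leaf 0))) (.node (.node (.leaf 588) (.leaf 0)) (.node (.leaf 1167) (.leaf 0))))))) (.node (.node (.node (.node (.node (.node (.leaf 38) (.leaf 1215)) (.node (.leaf 649) (.leaf 0))) (.node (.node (.leaf 312) (.leaf 1476)) (.node (.leaf 948) (.leaf 0)))) (.node (.node (.node (.leaf 168) (.leaf 1346)) (.node (.leaf 808) (.leaf 0))) (.node (.node (.leaf 489) (.leaf 1604)) (.node (.leaf 1085) (.leaf 0))))) (.node (.node (.node (.node (.leaf 104) (.leaf 1279)) (.node (.leaf 733) (.leaf 0))) (.node (.node (.leaf 394) (.leaf 1540)) (.node (.leaf 1017) (.leaf 0)))) (.node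 (.node (.node (.leaf 241) (.leaf 1412)) (.node (.leaf 878) (.leaf 0))) (.node (.node (.leaf 569) (.leaf 0)) (.node (.leaf 1151) (.leaf 0)))))) (.node (.node (.node (.node (.node (.leaf 72) (.leaf 1247)) (.node (.leaf 686) (.leaf 0))) (.node (.node (.leaf 353) (.leaf 1508)) (.node (.leaf 982) (.leaf 0)))) (.node (.node (.node (.leaf 200) (.leaf 1380)) (.node (.leaf 844) (.leaf 0))) (.node (.node (.leaf 536) (.leaf 0)) (.node (.leaf 1117) (.leaf 0))))) (.node (.node (.node (.node (.leaf 136) (.leaf 1311)) (.node (.leaf 770) (.leaf 0))) (.node (.node (.leaf 443) (.leaf 1572)) (.node (.leaf 1051) (.leaf 0)))) (.node (.node (.node (.leaf 276) (.leaf 1444)) (.node (.leaf 914) (.leaf 0))) (.node (.node (.leaf 604) (.leaf 0)) (.node (.leaf 1183) (.leaf 0))))))))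

def live15 : Arr (ℕ) :=
  (.node (.node (.node (.node (.node (.node (.node (.leaf 16) (.leaf 1200)) (.node (.leaf 627) (.leaf 0))) (.node (.node (.leaf 296) (.leaf 1461)) (.node (.leaf 932) (.leaf 0)))) (.node (.node (.node (.leaf 153) (.leaf 1330)) (.node (.leaf 790) (.leaf 0))) (.node (.node (.leaf 467) (.leaf 1589)) (.node (.leaf 1069) (.leaf 0))))) (.node (.node (.node (.node (.leaf 89) (.leaf 1264)) (.node (.leaf 712) (.leaf 0))) (.node (.node (.leaf 371) (.leaf 1525)) (.node (.leaf 1001) (.leaf 0)))) (.node (.node (.node (.leaf 217) (.leaf 1397)) (.node (.leaf 862) (.leaf 0))) (.node (.node (.leaf 553) (.leaf 0)) (.node (.leaf 1134) (.leaf 0)))))) (.node (.node (.node (.node (.node (.leaf 57) (.leaf 1232)) (.node (.leaf 670) (.leaf 0))) (.node (.node (.leaf 334) (.leaf 1493)) (.node (.leaf 966) (.leaf 0)))) (.node (.node (.node (.leaf 185) (.leaf 1363)) (.node (.leaf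 828) (.leaf 0))) (.node (.node (.leaf 516) (.leaf 1621)) (.node (.leaf 1102) (.leaf 0))))) (.node (.node (.node (.node (.leaf 121) (.leaf 1296)) (.node (.leaf 754) (.leaf 0))) (.node (.node (.leaf 420) (.leaf 1557)) (.node (.leaf 1035) (.leaf 0)))) (.node (.node (.node (.leaf 261) (.leaf 1429)) (.node (.leaf 895) (.leaf 0))) (.node (.node (.leaf 589) (.leaf 0)) (.node (.leaf 1168) (.leaf 0))))))) (.node (.node (.node (.node (.node (.node (.leaf 41) (.leaf 1216)) (.node (.leaf 650) (.leaf 0))) (.node (.node (.leaf 313) (.leaf 1477)) (.node (.leaf 949) (.leaf 0)))) (.node (.node (.node (.leaf 169) (.leaf 1347)) (.node (.leaf 810) (.leaf 0))) (.node (.node (.leaf 493) (.leaf 1605)) (.node (.leaf 1086) (.leaf 0))))) (.node (.node (.node (.node (.leaf 105) (.leaf 1280)) (.node (.leaf 734) (.leaf 0))) (.node (.node (.leaf 395) (.leaf 1541)) (.node (.leaf 1018) (.leaf 0)))) (.node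 (.node (.node (.leaf 242) (.leaf 1413)) (.node (.leaf 879) (.leaf 0))) (.node (.node (.leaf 570) (.leaf 0)) (.node (.leaf 1152) (.leaf 0)))))) (.node (.node (.node (.node (.node (.leaf 73) (.leaf 1248)) (.node (.leaf 687) (.leaf 0))) (.node (.node (.leaf 354) (.leaf 1509)) (.node (.leaf 983) (.leaf 0)))) (.node (.node (.node (.leaf 201) (.leaf 1381)) (.node (.leaf 845) (.leaf 0))) (.node (.node (.leaf 537) (.leaf 0)) (.node (.leaf 1118) (.leaf 0))))) (.node (.node (.node (.node (.leaf 137) (.leaf 1312)) (.node (.leaf 771) (.leaf 0))) (.node (.node (.leaf 446) (.leaf 1573)) (.node (.leaf 1052) (.leaf 0)))) (.node (.node (.node (.leaf 277) (.leaf 1445)) (.node (.leaf 915) (.leaf 0))) (.node (.node (.leaf 605) (.leaf 0)) (.node (.leaf 1184) (.leaf 0))))))))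

def live : Arr (ℕ) :=
  (.node (.node (.node (.node live0 live8) (.node live4 live12)) (.node (.node live2 live10) (.node live6 live14))) (.node (.node (.node live1 live9) (.node live5 live13)) (.node (.node live3 live11) (.node live7 live15))))

def edge0 : Arr (ℕ × ℕ) :=
  (.node (.node (.node (.node (.node (.node (.node (.leaf (0, 1)) (.leaf (1135, 11829))) (.node (.leaf (446, 5014)) (.leaf (0, 0)))) (.node (.node (.leaf (226, 2612)) (.leaf (1232, 13444))) (.node (.leaf (788, 7949)) (.leaf (0, 0))))) (.node (.node (.node (.leaf (116, 1116)) (.leaf (1282, 13467))) (.node (.leaf (1079, 10645)) (.leaf (0, 0)))) (.node (.node (.leaf (358, 3516)) (.leaf (1441, 15125))) (.node (.leaf (826, 8865)) (.leaf (0, 0)))))) (.node (.node (.node (.node (.leaf (82, 759)) (.leaf (984, 10724))) (.node (.leaf (438, 5820)) (.leaf (0, 0)))) (.node (.node (.leaf (188, 3066)) (.leaf (1356,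 14087))) (.node (.leaf (728, 8287)) (.leaf (0, 0))))) (.node (.node (.node (.leaf (319, 2414)) (.leaf (1189, 12644))) (.node (.leaf (978, 9571)) (.leaf (0, 0)))) (.node (.node (.leaf (455, 6755)) (.leaf (0, 0))) (.node (.leaf (705, 9348)) (.leaf (0, 0))))))) (.node (.node (.node (.node (.node (.leaf (62, 573)) (.leaf (949, 10429))) (.node (.leaf (536, 6096)) (.leaf (0, 0)))) (.node (.node (.leaf (344, 2741)) (.leaf (1359, 14112))) (.node (.leaf (872, 8645)) (.leaf (0, 0))))) (.node (.node (.node (.leaf (118, 1366)) (.leaf (1283, 13481))) (.node (.leaf (652, 7270)) (.leaf (0, 0)))) (.node (.node (.leaf (569, 6404)) (.leaf (1423, 15106))) (.node (.leaf (803, 9102)) (.leaf (0, 0)))))) (.node (.node (.node (.node (.leaf (48, 921)) (.leaf (897, 11616))) (.node (.leaf (619, 6841)) (.leaf (0, 0)))) (.node (.node (.leaf (263, 3602)) (.leaf (1358, 14311))) (.node (.leaf (656, 8568))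 (.leaf (0, 0))))) (.node (.node (.node (.leaf (257, 4101)) (.leaf (1286, 13527))) (.node (.leaf (815, 8146)) (.leaf (0, 0)))) (.node (.node (.leaf (463, 6790)) (.leaf (0, 0))) (.node (.leaf (675, 9708)) (.leaf (0, 0)))))))) (.node (.node (.node (.node (.node (.node (.leaf (16, 139)) (.leaf (893, 10278))) (.node (.leaf (597, 6251)) (.leaf (0, 0)))) (.node (.node (.leaf (266, 2505)) (.leaf (1340, 13939))) (.node (.leaf (853, 8446)) (.leaf (0, 0))))) (.node (.node (.node (.leaf (168, 1465)) (.leaf (1153, 12212))) (.node (.leaf (864, 8569)) (.leaf (0, 0)))) (.node (.node (.leaf (361, 3856)) (.leaf (1337, 14911))) (.node (.leaf (1014, 9938)) (.leaf (0, 0)))))) (.node (.node (.node (.node (.leaf (50, 738)) (.leaf (985, 11372))) (.node (.leaf (440, 6075)) (.leaf (0, 0)))) (.node (.node (.leaf (222, 2582)) (.leaf (1327, 14494))) (.node (.leaf (770, 8392)) (.leaf (0, 0))))) (.node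 (.node (.node (.leaf (378, 4025)) (.leaf (1280, 13445))) (.node (.leaf (904, 8918)) (.leaf (0, 0)))) (.node (.node (.leaf (557, 5601)) (.leaf (0, 0))) (.node (.leaf (794, 9546)) (.leaf (0, 0))))))) (.node (.node (.node (.node (.node (.leaf (96, 920)) (.leaf (1110, 11471))) (.node (.leaf (419, 5642)) (.leaf (0, 0)))) (.node (.node (.leaf (303, 2238)) (.leaf (1390, 14475))) (.node (.leaf (1119, 11610)) (.leaf (0, 0))))) (.node (.node (.node (.leaf (354, 3608)) (.leaf (1219, 12679))) (.node (.leaf (637, 7368)) (.leaf (0, 0)))) (.node (.node (.leaf (492, 5383)) (.leaf (1310, 15325))) (.node (.leaf (1036, 10233)) (.leaf (0, 0)))))) (.node (.node (.node (.node (.leaf (148, 1259)) (.leaf (729, 11840))) (.node (.leaf (1089, 10735)) (.leaf (0, 0)))) (.node (.node (.leaf (181, 3004)) (.leaf (1313, 14509))) (.node (.leaf (1115, 11549)) (.leaf (0, 0))))) (.node (.node (.node (.leaf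 (411, 4133)) (.leaf (1160, 13222))) (.node (.leaf (941, 9195)) (.leaf (0, 0)))) (.node (.node (.leaf (436, 6024)) (.leaf (0, 0))) (.node (.leaf (806, 9870)) (.leaf (0, 0)))))))))

def edge1 : Arr (ℕ × ℕ) :=
  (.node (.node (.node (.node (.node (.node (.node (.leaf (0, 3)) (.leaf (740, 10182))) (.node (.leaf (146, 5009)) (.leaf (0, 0)))) (.node (.node (.leaf (338, 2614)) (.leaf (1252, 13452))) (.node (.leaf (1153, 12106)) (.leaf (0, 0))))) (.node (.node (.node (.leaf (559, 5636)) (.leaf (642, 12100))) (.node (.leaf (1006, 11060)) (.leaf (0, 0)))) (.node (.node (.leaf (230, 3509)) (.leaf (836, 14710))) (.node (.leaf (746, 10913)) (.leaf (0, 0)))))) (.node (.node (.node (.node (.leaf (219, 1681)) (.leaf (1243, 12960))) (.node (.leaf (132, 5819)) (.leaf (0, 0)))) (.node (.node (.leaf (372, 3068)) (.leaf (698, 13980))) (.node (.leaf (1404, 14669)) (.leaf (0, 0))))) (.node (.node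 (.node (.leaf (193, 1592)) (.leaf (1394, 14533))) (.node (.leaf (1440, 15102)) (.leaf (0, 0)))) (.node (.node (.leaf (449, 4626)) (.leaf (0, 0))) (.node (.leaf (1199, 12476)) (.leaf (0, 0))))))) (.node (.node (.node (.node (.node (.leaf (187, 1578)) (.leaf (1329, 13862))) (.node (.leaf (592, 6091)) (.leaf (0, 0)))) (.node (.node (.leaf (44, 2117)) (.leaf (1137, 13755))) (.node (.leaf (1050, 10960)) (.leaf (0, 0))))) (.node (.node (.node (.leaf (427, 4728)) (.leaf (1361, 14118))) (.node (.leaf (1376, 14305)) (.leaf (0, 0)))) (.node (.node (.leaf (417, 4428)) (.leaf (704, 15103))) (.node (.leaf (1419, 14839)) (.leaf (0, 0)))))) (.node (.node (.node (.node (.leaf (311, 2333)) (.leaf (931, 11625))) (.node (.leaf (552, 6453)) (.leaf (0, 0)))) (.node (.node (.leaf (367, 3604)) (.leaf (672, 14304))) (.node (.leaf (1086, 10945)) (.leaf (0, 0))))) (.node (.node (.node (.leaf (223,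 1725)) (.leaf (627, 13023))) (.node (.leaf (1342, 13947)) (.leaf (0, 0)))) (.node (.node (.leaf (556, 6792)) (.leaf (0, 0))) (.node (.leaf (997, 11085)) (.leaf (0, 0)))))))) (.node (.node (.node (.node (.node (.node (.leaf (15, 209)) (.leaf (1401, 14630))) (.node (.leaf (527, 5227)) (.leaf (0, 0)))) (.node (.node (.leaf (309, 2304)) (.leaf (1297, 13656))) (.node (.leaf (1267, 13268)) (.leaf (0, 0))))) (.node (.node (.node (.leaf (572, 5745)) (.leaf (788, 12215))) (.node (.leaf (626, 10946)) (.leaf (0, 0)))) (.node (.node (.leaf (378, 4027)) (.leaf (753, 14918))) (.node (.leaf (1328, 13855)) (.leaf (0, 0)))))) (.node (.node (.node (.node (.leaf (394, 3691)) (.leaf (1288, 13570))) (.node (.leaf (544, 6090)) (.leaf (0, 0)))) (.node (.node (.leaf (335, 2579)) (.leaf (1124, 14491))) (.node (.leaf (1310, 13745)) (.leaf (0, 0))))) (.node (.node (.node (.leaf (361, 2942)) (.leaf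 (1237, 12908))) (.node (.leaf (959, 11232)) (.leaf (0, 0)))) (.node (.node (.leaf (465, 4662)) (.leaf (0, 0))) (.node (.leaf (1140, 11907)) (.leaf (0, 0))))))) (.node (.node (.node (.node (.node (.leaf (308, 2284)) (.leaf (830, 11164))) (.node (.leaf (561, 5644)) (.leaf (0, 0)))) (.node (.node (.leaf (303, 2225)) (.leaf (912, 13854))) (.node (.leaf (887, 10187)) (.leaf (0, 0))))) (.node (.node (.node (.leaf (177, 1552)) (.leaf (747, 12483))) (.node (.leaf (806, 11098)) (.leaf (0, 0)))) (.node (.node (.leaf (433, 4496)) (.leaf (770, 15320))) (.node (.leaf (842, 11227)) (.leaf (0, 0)))))) (.node (.node (.node (.node (.leaf (482, 4816)) (.leaf (1041, 11848))) (.node (.leaf (1010, 11022)) (.leaf (0, 0)))) (.node (.node (.leaf (369, 3006)) (.leaf (760, 14500))) (.node (.leaf (914, 10903)) (.leaf (0, 0))))) (.node (.node (.node (.leaf (218, 1797)) (.leaf (954, 13232))) (.node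 (.leaf (1067, 11260)) (.leaf (0, 0)))) (.node (.node (.leaf (590, 6026)) (.leaf (0, 0))) (.node (.leaf (637, 11092)) (.leaf (0, 0)))))))))

def edge2 : Arr (ℕ × ℕ) :=
  (.node (.node (.node (.node (.node (.node (.node (.leaf (0, 4)) (.leaf (940, 10058))) (.node (.leaf (512, 5012)) (.leaf (0, 0)))) (.node (.node (.leaf (300, 2616)) (.leaf (1292, 13617))) (.node (.leaf (772, 7825)) (.leaf (0, 0))))) (.node (.node (.node (.leaf (133, 1115)) (.leaf (1156, 12095))) (.node (.leaf (644, 7089)) (.leaf (0, 0)))) (.node (.node (.leaf (336, 3510)) (.leaf (1442, 15138))) (.node (.leaf (1011, 9905)) (.leaf (0, 0)))))) (.node (.node (.node (.node (.leaf (68, 643)) (.leaf (1048, 10729))) (.node (.leaf (497, 5828)) (.leaf (0, 0)))) (.node (.node (.leaf (297, 3343)) (.leaf (1304, 13984))) (.node (.leaf (718, 8282)) (.leaf (0, 0))))) (.node (.node (.node (.leaf (404, 3968)) (.leaf (1218,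 12661))) (.node (.leaf (789, 7961)) (.leaf (0, 0)))) (.node (.node (.leaf (505, 4962)) (.leaf (0, 0))) (.node (.leaf (962, 9369)) (.leaf (0, 0))))))) (.node (.node (.node (.node (.node (.leaf (37, 465)) (.leaf (1060, 10437))) (.node (.leaf (607, 6442)) (.leaf (0, 0)))) (.node (.node (.leaf (179, 2123)) (.leaf (1313, 13758))) (.node (.leaf (698, 8058)) (.leaf (0, 0))))) (.node (.node (.node (.leaf (152, 1370)) (.leaf (1246, 12991))) (.node (.leaf (799, 8047)) (.leaf (0, 0)))) (.node (.node (.leaf (485, 4854)) (.leaf (1441, 15116))) (.node (.leaf (1138, 11873)) (.leaf (0, 0)))))) (.node (.node (.node (.node (.leaf (81, 916)) (.leaf (912, 11620))) (.node (.leaf (609, 6466)) (.leaf (0, 0)))) (.node (.node (.leaf (368, 3606)) (.leaf (1312, 14307))) (.node (.leaf (634, 8572)) (.leaf (0, 0))))) (.node (.node (.node (.leaf (225, 1726)) (.leaf (1280, 13447))) (.node (.leaf (742,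 7667)) (.leaf (0, 0)))) (.node (.node (.leaf (557, 6794)) (.leaf (0, 0))) (.node (.leaf (767, 9712)) (.leaf (0, 0)))))))) (.node (.node (.node (.node (.node (.node (.leaf (9, 136)) (.leaf (835, 10282))) (.node (.leaf (473, 5261)) (.leaf (0, 0)))) (.node (.node (.leaf (207, 2321)) (.leaf (1409, 14728))) (.node (.leaf (786, 7933)) (.leaf (0, 0))))) (.node (.node (.node (.leaf (129, 1232)) (.leaf (1264, 13225))) (.node (.leaf (791, 7983)) (.leaf (0, 0)))) (.node (.node (.leaf (324, 3866)) (.leaf (1407, 14917))) (.node (.leaf (915, 9005)) (.leaf (0, 0)))))) (.node (.node (.node (.node (.leaf (73, 740)) (.leaf (1055, 11376))) (.node (.leaf (488, 6085)) (.leaf (0, 0)))) (.node (.node (.leaf (337, 2586)) (.leaf (1390, 14493))) (.node (.leaf (683, 8396)) (.leaf (0, 0))))) (.node (.node (.node (.leaf (310, 2478)) (.leaf (1239, 12919))) (.node (.leaf (828, 8251)) (.leaf (0, 0))))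 (.node (.node (.leaf (533, 5284)) (.leaf (0, 0))) (.node (.leaf (860, 9550)) (.leaf (0, 0))))))) (.node (.node (.node (.node (.node (.leaf (51, 521)) (.leaf (1068, 10564))) (.node (.leaf (586, 5959)) (.leaf (0, 0)))) (.node (.node (.leaf (305, 2226)) (.leaf (1454, 15294))) (.node (.leaf (1031, 10135)) (.leaf (0, 0))))) (.node (.node (.node (.leaf (262, 1912)) (.leaf (1274, 13367))) (.node (.leaf (690, 7383)) (.leaf (0, 0)))) (.node (.node (.leaf (494, 4910)) (.leaf (1384, 15323))) (.node (.leaf (928, 9220)) (.leaf (0, 0)))))) (.node (.node (.node (.node (.leaf (170, 1495)) (.leaf (946, 11847))) (.node (.leaf (628, 7027)) (.leaf (0, 0)))) (.node (.node (.leaf (402, 3900)) (.leaf (1358, 14505))) (.node (.leaf (883, 8747)) (.leaf (0, 0))))) (.node (.node (.node (.leaf (241, 1800)) (.leaf (1165, 13226))) (.node (.leaf (1041, 10289)) (.leaf (0, 0)))) (.node (.node (.leaf (537,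 6028)) (.leaf (0, 0))) (.node (.leaf (899, 9874)) (.leaf (0, 0)))))))))

def edge3 : Arr (ℕ × ℕ) :=
  (.node (.node (.node (.node (.node (.node (.node (.leaf (1, 14)) (.leaf (334, 10060))) (.node (.leaf (1229, 12808)) (.leaf (0, 0)))) (.node (.node (.leaf (250, 2646)) (.leaf (586, 13448))) (.node (.leaf (769, 7796)) (.leaf (0, 0))))) (.node (.node (.node (.leaf (129, 1098)) (.leaf (1153, 12070))) (.node (.leaf (532, 7125)) (.leaf (0, 0)))) (.node (.node (.leaf (291, 3521)) (.leaf (1389, 14714))) (.node (.leaf (897, 8866)) (.leaf (0, 0)))))) (.node (.node (.node (.node (.leaf (65, 610)) (.leaf (1089, 10730))) (.node (.leaf (510, 5825)) (.leaf (0, 0)))) (.node (.node (.leaf (863, 8552)) (.leaf (1426, 14937))) (.node (.leaf (453, 8284)) (.leaf (0, 0))))) (.node (.node (.node (.leaf (684, 7340)) (.leaf (1217, 12646))) (.node (.leaf (199, 7472)) (.leaf (0, 0)))) (.node (.node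 (.leaf (326, 5470)) (.leaf (0, 0))) (.node (.leaf (337, 9350)) (.leaf (0, 0))))))) (.node (.node (.node (.node (.node (.leaf (33, 450)) (.leaf (1057, 10406))) (.node (.leaf (1170, 12224)) (.leaf (0, 0)))) (.node (.node (.leaf (948, 9246)) (.leaf (1332, 13891))) (.node (.leaf (801, 8060)) (.leaf (0, 0))))) (.node (.node (.node (.leaf (161, 1374)) (.leaf (1185, 12374))) (.node (.leaf (673, 7274)) (.leaf (0, 0)))) (.node (.node (.leaf (1156, 12090)) (.leaf (1345, 15114))) (.node (.leaf (929, 9104)) (.leaf (0, 0)))))) (.node (.node (.node (.node (.leaf (17, 918)) (.leaf (462, 11622))) (.node (.leaf (200, 6463)) (.leaf (0, 0)))) (.node (.node (.leaf (881, 8720)) (.leaf (1440, 15112))) (.node (.leaf (617, 8574)) (.leaf (0, 0))))) (.node (.node (.node (.leaf (773, 7830)) (.leaf (1249, 13024))) (.node (.leaf (737, 7644)) (.leaf (0, 0)))) (.node (.node (.leaf (812, 8128)) (.leaf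 (0, 0))) (.node (.leaf (993, 9714)) (.leaf (0, 0)))))))) (.node (.node (.node (.node (.node (.node (.leaf (85, 786)) (.leaf (1041, 10284))) (.node (.leaf (627, 7020)) (.leaf (0, 0)))) (.node (.node (.leaf (885, 8762)) (.leaf (1433, 15034))) (.node (.leaf (230, 7910)) (.leaf (0, 0))))) (.node (.node (.node (.leaf (25, 1234)) (.leaf (1169, 12200))) (.node (.leaf (447, 7179)) (.leaf (0, 0)))) (.node (.node (.leaf (384, 3859)) (.leaf (1385, 14908))) (.node (.leaf (280, 8962)) (.leaf (0, 0)))))) (.node (.node (.node (.node (.leaf (81, 744)) (.leaf (1105, 11384))) (.node (.leaf (446, 6082)) (.leaf (0, 0)))) (.node (.node (.leaf (991, 9684)) (.leaf (1423, 14902))) (.node (.leaf (849, 8400)) (.leaf (0, 0))))) (.node (.node (.node (.leaf (711, 7524)) (.leaf (603, 12858))) (.node (.leaf (721, 7568)) (.leaf (0, 0)))) (.node (.node (.leaf (343, 6182)) (.leaf (0, 0))) (.node (.leaf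 (977, 9554)) (.leaf (0, 0))))))) (.node (.node (.node (.node (.node (.leaf (9, 504)) (.leaf (1073, 10568))) (.node (.leaf (1250, 13040)) (.leaf (0, 0)))) (.node (.node (.leaf (236, 3420)) (.leaf (1305, 13860))) (.node (.leaf (817, 8154)) (.leaf (0, 0))))) (.node (.node (.node (.leaf (628, 7024)) (.leaf (1201, 12486))) (.node (.leaf (323, 7367)) (.leaf (0, 0)))) (.node (.node (.leaf (1181, 12334)) (.leaf (1352, 15326))) (.node (.leaf (945, 9222)) (.leaf (0, 0)))))) (.node (.node (.node (.node (.leaf (113, 1034)) (.leaf (1137, 11852))) (.node (.leaf (625, 7008)) (.leaf (0, 0)))) (.node (.node (.leaf (449, 4940)) (.leaf (1388, 14510))) (.node (.leaf (352, 8719)) (.leaf (0, 0))))) (.node (.node (.node (.leaf (808, 8110)) (.leaf (607, 13228))) (.node (.leaf (463, 7727)) (.leaf (0, 0)))) (.node (.node (.leaf (1247, 13000)) (.leaf (0, 0))) (.node (.leaf (1009, 9878)) (.leaf (0,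 0)))))))))

def edge4 : Arr (ℕ × ℕ) :=
  (.node (.node (.node (.node (.node (.node (.node (.leaf (1, 19)) (.leaf (1000, 10068))) (.node (.leaf (444, 5026)) (.leaf (0, 0)))) (.node (.node (.leaf (224, 4100)) (.leaf (1276, 13458))) (.node (.leaf (685, 7801)) (.leaf (0, 0))))) (.node (.node (.node (.leaf (117, 1132)) (.leaf (1168, 12213))) (.node (.leaf (1067, 10529)) (.leaf (0, 0)))) (.node (.node (.leaf (254, 3546)) (.leaf (1437, 15079))) (.node (.leaf (1120, 11617)) (.leaf (0, 0)))))) (.node (.node (.node (.node (.leaf (53, 612)) (.leaf (624, 10734))) (.node (.leaf (542, 5842)) (.leaf (0, 0)))) (.node (.node (.leaf (405, 4407)) (.leaf (1386, 14419))) (.node (.leaf (1020, 10025)) (.leaf (0, 0))))) (.node (.node (.node (.leaf (318, 2413)) (.leaf (1188, 12650))) (.node (.leaf (960, 9349)) (.leaf (0, 0)))) (.node (.node (.leaf (609, 6472)) (.leaf (0, 0))) (.node (.leaf (702,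 9358)) (.leaf (0, 0))))))) (.node (.node (.node (.node (.node (.leaf (63, 593)) (.leaf (1047, 10421))) (.node (.leaf (431, 5433)) (.leaf (0, 0)))) (.node (.node (.leaf (350, 2767)) (.leaf (1392, 14508))) (.node (.leaf (635, 8069)) (.leaf (0, 0))))) (.node (.node (.node (.leaf (131, 1378)) (.leaf (1279, 13431))) (.node (.leaf (1076, 10607)) (.leaf (0, 0)))) (.node (.node (.leaf (612, 6543)) (.leaf (1408, 15124))) (.node (.leaf (725, 9108)) (.leaf (0, 0)))))) (.node (.node (.node (.node (.leaf (43, 926)) (.leaf (813, 11632))) (.node (.leaf (449, 6473)) (.leaf (0, 0)))) (.node (.node (.leaf (262, 3832)) (.leaf (1362, 14319))) (.node (.leaf (660, 8580)) (.leaf (0, 0))))) (.node (.node (.node (.leaf (338, 2597)) (.leaf (1178, 13026))) (.node (.leaf (1124, 11675)) (.leaf (0, 0)))) (.node (.node (.leaf (611, 6519)) (.leaf (0, 0))) (.node (.leaf (703, 9718)) (.leaf (0, 0))))))))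 (.node (.node (.node (.node (.node (.node (.leaf (17, 177)) (.leaf (1122, 11643))) (.node (.leaf (530, 5251)) (.leaf (0, 0)))) (.node (.node (.leaf (203, 3126)) (.leaf (1341, 13943))) (.node (.leaf (779, 7924)) (.leaf (0, 0))))) (.node (.node (.node (.leaf (163, 1405)) (.leaf (1236, 12896))) (.node (.leaf (654, 7173)) (.leaf (0, 0)))) (.node (.node (.leaf (363, 3892)) (.leaf (1443, 15150))) (.node (.leaf (808, 8968)) (.leaf (0, 0)))))) (.node (.node (.node (.node (.leaf (51, 748)) (.leaf (1085, 11388))) (.node (.leaf (441, 6702)) (.leaf (0, 0)))) (.node (.node (.leaf (223, 2588)) (.leaf (1305, 14126))) (.node (.leaf (777, 8404)) (.leaf (0, 0))))) (.node (.node (.node (.leaf (323, 2433)) (.leaf (1151, 12868))) (.node (.leaf (1100, 11303)) (.leaf (0, 0)))) (.node (.node (.leaf (479, 5619)) (.leaf (0, 0))) (.node (.leaf (682, 9558)) (.leaf (0, 0))))))) (.node (.node (.node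 (.node (.node (.leaf (61, 561)) (.leaf (956, 10570))) (.node (.leaf (418, 5646)) (.leaf (0, 0)))) (.node (.node (.leaf (248, 2235)) (.leaf (1331, 13884))) (.node (.leaf (827, 8242)) (.leaf (0, 0))))) (.node (.node (.node (.leaf (399, 3803)) (.leaf (1162, 12495))) (.node (.leaf (885, 8767)) (.leaf (0, 0)))) (.node (.node (.leaf (491, 5380)) (.leaf (1311, 15332))) (.node (.leaf (920, 9229)) (.leaf (0, 0)))))) (.node (.node (.node (.node (.leaf (143, 1224)) (.leaf (715, 11856))) (.node (.leaf (646, 8626)) (.leaf (0, 0)))) (.node (.node (.leaf (180, 3008)) (.leaf (1375, 14523))) (.node (.leaf (802, 8724)) (.leaf (0, 0))))) (.node (.node (.node (.leaf (407, 4043)) (.leaf (1192, 13238))) (.node (.leaf (822, 8186)) (.leaf (0, 0)))) (.node (.node (.leaf (543, 5834)) (.leaf (0, 0))) (.node (.leaf (937, 9880)) (.leaf (0, 0)))))))))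

def edge5 : Arr (ℕ × ℕ) :=
  (.node (.node (.node (.node (.node (.node (.node (.leaf (7, 76)) (.leaf (708, 10204))) (.node (.leaf (513, 5025)) (.leaf (0, 0)))) (.node (.node (.leaf (337, 4102)) (.leaf (702, 13463))) (.node (.leaf (1339, 13926)) (.leaf (0, 0))))) (.node (.node (.node (.leaf (570, 5690)) (.leaf (768, 12107))) (.node (.leaf (941, 11264)) (.leaf (0, 0)))) (.node (.node (.leaf (386, 3550)) (.leaf (895, 14724))) (.node (.leaf (831, 10194)) (.leaf (0, 0)))))) (.node (.node (.node (.node (.leaf (72, 2009)) (.leaf (1030, 11017))) (.node (.leaf (497, 5839)) (.leaf (0, 0)))) (.node (.node (.leaf (321, 2815)) (.leaf (1241, 13994))) (.node (.leaf (623, 11026)) (.leaf (0, 0))))) (.node (.node (.node (.leaf (192, 1593)) (.leaf (1388, 14453))) (.node (.leaf (1287, 13549)) (.leaf (0, 0)))) (.node (.node (.leaf (448, 4627)) (.leaf (0, 0))) (.node (.leaf (1276, 13398))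 (.leaf (0, 0))))))) (.node (.node (.node (.node (.node (.leaf (198, 1606)) (.leaf (1244, 12968))) (.node (.leaf (135, 5428)) (.leaf (0, 0)))) (.node (.node (.leaf (184, 2145)) (.leaf (1011, 13760))) (.node (.leaf (1206, 12547)) (.leaf (0, 0))))) (.node (.node (.node (.leaf (618, 6773)) (.leaf (1080, 12384))) (.node (.leaf (1273, 13356)) (.leaf (0, 0)))) (.node (.node (.leaf (416, 4429)) (.leaf (762, 15118))) (.node (.leaf (1236, 12901)) (.leaf (0, 0)))))) (.node (.node (.node (.node (.leaf (216, 1657)) (.leaf (1347, 14023))) (.node (.leaf (455, 6757)) (.leaf (0, 0)))) (.node (.node (.leaf (353, 3835)) (.leaf (709, 14314))) (.node (.leaf (1319, 13799)) (.leaf (0, 0))))) (.node (.node (.node (.leaf (226, 1728)) (.leaf (647, 13039))) (.node (.leaf (1327, 13850)) (.leaf (0, 0)))) (.node (.node (.leaf (141, 4814)) (.leaf (0, 0))) (.node (.leaf (1304, 13698)) (.leaf (0, 0))))))))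 (.node (.node (.node (.node (.node (.node (.leaf (4, 174)) (.leaf (1136, 11849))) (.node (.leaf (530, 5236)) (.leaf (0, 0)))) (.node (.node (.leaf (375, 3128)) (.leaf (1296, 13657))) (.node (.leaf (1209, 12574)) (.leaf (0, 0))))) (.node (.node (.node (.leaf (104, 4734)) (.leaf (725, 12205))) (.node (.leaf (1126, 11720)) (.leaf (0, 0)))) (.node (.node (.leaf (363, 3884)) (.leaf (1212, 14923))) (.node (.leaf (827, 9976)) (.leaf (0, 0)))))) (.node (.node (.node (.node (.leaf (209, 1639)) (.leaf (1042, 11397))) (.node (.leaf (613, 6704)) (.leaf (0, 0)))) (.node (.node (.leaf (257, 4103)) (.leaf (1184, 14119))) (.node (.leaf (1100, 11310)) (.leaf (0, 0))))) (.node (.node (.node (.leaf (81, 1638)) (.leaf (1450, 15238))) (.node (.leaf (777, 11220)) (.leaf (0, 0)))) (.node (.node (.leaf (464, 4663)) (.leaf (0, 0))) (.node (.leaf (1256, 13121)) (.leaf (0, 0))))))) (.node (.node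 (.node (.node (.node (.leaf (186, 1577)) (.leaf (1274, 13372))) (.node (.leaf (560, 5645)) (.leaf (0, 0)))) (.node (.node (.leaf (87, 2228)) (.leaf (1056, 13863))) (.node (.leaf (808, 9978)) (.leaf (0, 0))))) (.node (.node (.node (.leaf (176, 1553)) (.leaf (920, 12496))) (.node (.leaf (774, 10489)) (.leaf (0, 0)))) (.node (.node (.leaf (432, 4497)) (.leaf (1453, 15329))) (.node (.leaf (1162, 12179)) (.leaf (0, 0)))))) (.node (.node (.node (.node (.leaf (488, 4884)) (.leaf (1312, 13754))) (.node (.leaf (683, 10934)) (.leaf (0, 0)))) (.node (.node (.leaf (368, 3007)) (.leaf (884, 14518))) (.node (.leaf (834, 11273)) (.leaf (0, 0))))) (.node (.node (.node (.leaf (242, 1804)) (.leaf (1148, 13247))) (.node (.leaf (1424, 14919)) (.leaf (0, 0)))) (.node (.node (.leaf (577, 5838)) (.leaf (0, 0))) (.node (.leaf (1293, 13632)) (.leaf (0, 0)))))))))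

def edge6 : Arr (ℕ × ℕ) :=
  (.node (.node (.node (.node (.node (.node (.node (.leaf (4, 50)) (.leaf (846, 10075))) (.node (.leaf (510, 5022)) (.leaf (0, 0)))) (.node (.node (.leaf (338, 4104)) (.leaf (1293, 13629))) (.node (.leaf (770, 7807)) (.leaf (0, 0))))) (.node (.node (.node (.leaf (137, 1167)) (.leaf (1160, 12137))) (.node (.leaf (645, 7093)) (.leaf (0, 0)))) (.node (.node (.leaf (231, 3544)) (.leaf (1295, 14727))) (.node (.leaf (1014, 9931)) (.leaf (0, 0)))))) (.node (.node (.node (.node (.leaf (72, 677)) (.leaf (1045, 10738))) (.node (.leaf (578, 5846)) (.leaf (0, 0)))) (.node (.node (.leaf (356, 2816)) (.leaf (1332, 13999))) (.node (.leaf (752, 8314)) (.leaf (0, 0))))) (.node (.node (.node (.leaf (194, 1594)) (.leaf (1216, 12652))) (.node (.leaf (676, 7483)) (.leaf (0, 0)))) (.node (.node (.leaf (450, 4628)) (.leaf (0, 0))) (.node (.leaf (991, 9693)) (.leaf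 (0, 0))))))) (.node (.node (.node (.node (.node (.leaf (41, 483)) (.leaf (1063, 10467))) (.node (.leaf (492, 5436)) (.leaf (0, 0)))) (.node (.node (.leaf (264, 2138)) (.leaf (1376, 14308))) (.node (.leaf (696, 8064)) (.leaf (0, 0))))) (.node (.node (.node (.leaf (156, 1382)) (.leaf (1243, 12957))) (.node (.leaf (797, 8031)) (.leaf (0, 0)))) (.node (.node (.leaf (418, 4430)) (.leaf (1453, 15285))) (.node (.leaf (1136, 11843)) (.leaf (0, 0)))))) (.node (.node (.node (.node (.leaf (34, 933)) (.leaf (1022, 11636))) (.node (.leaf (617, 6716)) (.leaf (0, 0)))) (.node (.node (.leaf (370, 3836)) (.leaf (1300, 14329))) (.node (.leaf (635, 8584)) (.leaf (0, 0))))) (.node (.node (.node (.leaf (307, 2274)) (.leaf (1283, 13483))) (.node (.leaf (740, 7657)) (.leaf (0, 0)))) (.node (.node (.leaf (469, 6276)) (.leaf (0, 0))) (.node (.leaf (768, 9722)) (.leaf (0, 0)))))))) (.node (.node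 (.node (.node (.node (.node (.leaf (15, 213)) (.leaf (833, 10290))) (.node (.leaf (471, 5245)) (.leaf (0, 0)))) (.node (.node (.leaf (311, 3130)) (.leaf (1298, 13658))) (.node (.leaf (859, 8513)) (.leaf (0, 0))))) (.node (.node (.node (.leaf (160, 1369)) (.leaf (1261, 13191))) (.node (.leaf (792, 7991)) (.leaf (0, 0)))) (.node (.node (.leaf (323, 3874)) (.leaf (1418, 14924))) (.node (.leaf (1119, 11605)) (.leaf (0, 0)))))) (.node (.node (.node (.node (.leaf (77, 750)) (.leaf (1059, 11392))) (.node (.leaf (544, 6706)) (.leaf (0, 0)))) (.node (.node (.leaf (384, 3513)) (.leaf (1356, 14120))) (.node (.leaf (681, 8408)) (.leaf (0, 0))))) (.node (.node (.node (.leaf (376, 4017)) (.leaf (1240, 12925))) (.node (.leaf (832, 8281)) (.leaf (0, 0)))) (.node (.node (.leaf (466, 4664)) (.leaf (0, 0))) (.node (.leaf (861, 9562)) (.leaf (0, 0))))))) (.node (.node (.node (.node (.node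 (.leaf (88, 827)) (.leaf (1066, 10572))) (.node (.leaf (562, 5650)) (.leaf (0, 0)))) (.node (.node (.leaf (387, 4227)) (.leaf (1330, 13866))) (.node (.leaf (1034, 10171)) (.leaf (0, 0))))) (.node (.node (.node (.leaf (178, 1554)) (.leaf (1271, 13321))) (.node (.leaf (691, 7387)) (.leaf (0, 0)))) (.node (.node (.leaf (434, 4498)) (.leaf (1458, 15340))) (.node (.leaf (932, 9224)) (.leaf (0, 0)))))) (.node (.node (.node (.node (.leaf (174, 1541)) (.leaf (943, 11860))) (.node (.leaf (632, 7043)) (.leaf (0, 0)))) (.node (.node (.leaf (344, 3010)) (.leaf (1355, 14521))) (.node (.leaf (884, 8757)) (.leaf (0, 0))))) (.node (.node (.node (.leaf (341, 2717)) (.leaf (1226, 13242))) (.node (.leaf (1042, 10295)) (.leaf (0, 0)))) (.node (.node (.leaf (590, 6038)) (.leaf (0, 0))) (.node (.leaf (902, 9884)) (.leaf (0, 0)))))))))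

def edge7 : Arr (ℕ × ℕ) :=
  (.node (.node (.node (.node (.node (.node (.node (.leaf (2, 22)) (.leaf (1026, 10076))) (.node (.leaf (1257, 13122)) (.leaf (0, 0)))) (.node (.node (.leaf (860, 8520)) (.leaf (1282, 13464))) (.node (.leaf (222, 7798)) (.leaf (0, 0))))) (.node (.node (.node (.leaf (130, 1100)) (.leaf (1154, 12072))) (.node (.leaf (642, 7080)) (.leaf (0, 0)))) (.node (.node (.leaf (784, 7914)) (.leaf (1328, 14730))) (.node (.leaf (595, 8872)) (.leaf (0, 0)))))) (.node (.node (.node (.node (.leaf (66, 618)) (.leaf (1090, 10742))) (.node (.leaf (1221, 12722)) (.leaf (0, 0)))) (.node (.node (.leaf (776, 7846)) (.leaf (1371, 14240))) (.node (.leaf (834, 8292)) (.leaf (0, 0))))) (.node (.node (.node (.leaf (687, 7358)) (.leaf (488, 12655))) (.node (.leaf (382, 7480)) (.leaf (0, 0)))) (.node (.node (.leaf (316, 4942)) (.leaf (0, 0))) (.node (.leaf (962, 9364)) (.leaf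 (0, 0))))))) (.node (.node (.node (.node (.node (.leaf (34, 452)) (.leaf (1058, 10408))) (.node (.leaf (1285, 13514)) (.leaf (0, 0)))) (.node (.node (.leaf (953, 9284)) (.leaf (1373, 14269))) (.node (.leaf (259, 8066)) (.leaf (0, 0))))) (.node (.node (.node (.leaf (162, 1388)) (.leaf (432, 12380))) (.node (.leaf (553, 7281)) (.leaf (0, 0)))) (.node (.node (.leaf (963, 9380)) (.leaf (1462, 15404))) (.node (.leaf (930, 9114)) (.leaf (0, 0)))))) (.node (.node (.node (.node (.leaf (98, 934)) (.leaf (1122, 11640))) (.node (.leaf (371, 6470)) (.leaf (0, 0)))) (.node (.node (.leaf (1065, 10506)) (.leaf (1319, 14316))) (.node (.leaf (309, 8586)) (.leaf (0, 0))))) (.node (.node (.node (.leaf (615, 6672)) (.leaf (560, 13033))) (.node (.leaf (738, 7646)) (.leaf (0, 0)))) (.node (.node (.leaf (1067, 10524)) (.leaf (0, 0))) (.node (.leaf (486, 9724)) (.leaf (0, 0)))))))) (.node (.node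 (.node (.node (.node (.node (.leaf (91, 858)) (.leaf (1042, 10292))) (.node (.leaf (761, 8198)) (.leaf (0, 0)))) (.node (.node (.leaf (695, 7414)) (.leaf (1348, 14733))) (.node (.leaf (786, 7928)) (.leaf (0, 0))))) (.node (.node (.node (.leaf (146, 1242)) (.leaf (544, 12209))) (.node (.leaf (205, 7170)) (.leaf (0, 0)))) (.node (.node (.leaf (395, 3876)) (.leaf (1422, 14932))) (.node (.leaf (914, 8976)) (.leaf (0, 0)))))) (.node (.node (.node (.node (.leaf (82, 754)) (.leaf (1106, 11402))) (.node (.leaf (1163, 12184)) (.leaf (0, 0)))) (.node (.node (.leaf (484, 5084)) (.leaf (1380, 14957))) (.node (.leaf (328, 8410)) (.leaf (0, 0))))) (.node (.node (.node (.leaf (671, 7260)) (.leaf (1234, 12870))) (.node (.leaf (722, 7572)) (.leaf (0, 0)))) (.node (.node (.leaf (648, 7118)) (.leaf (0, 0))) (.node (.leaf (612, 9564)) (.leaf (0, 0))))))) (.node (.node (.node (.node (.node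 (.leaf (50, 514)) (.leaf (1074, 10574))) (.node (.leaf (275, 5649)) (.leaf (0, 0)))) (.node (.node (.leaf (970, 9468)) (.leaf (1368, 14211))) (.node (.leaf (557, 8158)) (.leaf (0, 0))))) (.node (.node (.node (.leaf (633, 7046)) (.leaf (436, 12492))) (.node (.leaf (364, 7374)) (.leaf (0, 0)))) (.node (.node (.leaf (1186, 12386)) (.leaf (1314, 15338))) (.node (.leaf (946, 9230)) (.leaf (0, 0)))))) (.node (.node (.node (.node (.leaf (114, 1038)) (.leaf (501, 11862))) (.node (.leaf (626, 7010)) (.leaf (0, 0)))) (.node (.node (.leaf (1088, 10722)) (.leaf (1399, 14618))) (.node (.leaf (619, 8726)) (.leaf (0, 0))))) (.node (.node (.node (.leaf (813, 8134)) (.leaf (1266, 13248))) (.node (.leaf (217, 7720)) (.leaf (0, 0)))) (.node (.node (.leaf (1191, 12410)) (.leaf (0, 0))) (.node (.leaf (546, 9886)) (.leaf (0, 0)))))))))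

def edge8 : Arr (ℕ × ℕ) :=
  (.node (.node (.node (.node (.node (.node (.node (.leaf (2, 27)) (.leaf (919, 10080))) (.node (.leaf (559, 5639)) (.leaf (0, 0)))) (.node (.node (.leaf (398, 3791)) (.leaf (1152, 13466))) (.node (.leaf (848, 8393)) (.leaf (0, 0))))) (.node (.node (.node (.leaf (172, 1515)) (.leaf (1274, 13365))) (.node (.leaf (877, 8691)) (.leaf (0, 0)))) (.node (.node (.leaf (253, 3558)) (.leaf (1458, 15351))) (.node (.leaf (838, 8878)) (.leaf (0, 0)))))) (.node (.node (.node (.node (.leaf (84, 779)) (.leaf (1095, 10803))) (.node (.leaf (613, 6613)) (.leaf (0, 0)))) (.node (.node (.leaf (233, 3052)) (.leaf (1372, 14255))) (.node (.leaf (1132, 11783)) (.leaf (0, 0))))) (.node (.node (.node (.leaf (299, 2202)) (.leaf (1259, 13157))) (.node (.leaf (776, 7851)) (.leaf (0, 0)))) (.node (.node (.leaf (617, 6723)) (.leaf (0, 0))) (.node (.leaf (676, 9373)) (.leaf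 (0, 0))))))) (.node (.node (.node (.node (.node (.leaf (52, 596)) (.leaf (631, 10416))) (.node (.leaf (458, 5448)) (.leaf (0, 0)))) (.node (.node (.leaf (404, 3975)) (.leaf (1300, 13768))) (.node (.leaf (881, 8725)) (.leaf (0, 0))))) (.node (.node (.node (.leaf (120, 1399)) (.leaf (1204, 12522))) (.node (.leaf (710, 7519)) (.leaf (0, 0)))) (.node (.node (.leaf (561, 5647)) (.leaf (1453, 15278))) (.node (.leaf (1007, 9861)) (.leaf (0, 0)))))) (.node (.node (.node (.node (.leaf (92, 938)) (.leaf (1041, 11642))) (.node (.leaf (505, 6488)) (.leaf (0, 0)))) (.node (.node (.leaf (176, 3609)) (.leaf (1394, 14537))) (.node (.leaf (1078, 10637)) (.leaf (0, 0))))) (.node (.node (.node (.leaf (256, 2613)) (.leaf (1224, 13044))) (.node (.leaf (1044, 10318)) (.leaf (0, 0)))) (.node (.node (.leaf (606, 6430)) (.leaf (0, 0))) (.node (.leaf (683, 9732)) (.leaf (0, 0)))))))) (.node (.node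 (.node (.node (.node (.node (.leaf (18, 305)) (.leaf (825, 10301))) (.node (.leaf (529, 5250)) (.leaf (0, 0)))) (.node (.node (.leaf (326, 2896)) (.leaf (1342, 13949))) (.node (.leaf (856, 8479)) (.leaf (0, 0))))) (.node (.node (.node (.leaf (140, 1244)) (.leaf (1175, 12274))) (.node (.leaf (1075, 10591)) (.leaf (0, 0)))) (.node (.node (.leaf (182, 3908)) (.leaf (1439, 15101))) (.node (.leaf (745, 8983)) (.leaf (0, 0)))))) (.node (.node (.node (.node (.leaf (64, 758)) (.leaf (647, 11406))) (.node (.leaf (502, 6116)) (.leaf (0, 0)))) (.node (.node (.leaf (225, 2596)) (.leaf (1377, 14318))) (.node (.leaf (711, 8418)) (.leaf (0, 0))))) (.node (.node (.node (.leaf (329, 2519)) (.leaf (1277, 13403))) (.node (.leaf (921, 9051)) (.leaf (0, 0)))) (.node (.node (.leaf (526, 5223)) (.leaf (0, 0))) (.node (.leaf (704, 9570)) (.leaf (0, 0))))))) (.node (.node (.node (.node (.node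 (.leaf (80, 739)) (.leaf (1049, 10578))) (.node (.leaf (484, 5654)) (.leaf (0, 0)))) (.node (.node (.leaf (301, 4248)) (.leaf (1306, 13871))) (.node (.leaf (888, 8801)) (.leaf (0, 0))))) (.node (.node (.node (.leaf (346, 2749)) (.leaf (1229, 12813))) (.node (.leaf (863, 8557)) (.leaf (0, 0)))) (.node (.node (.leaf (588, 5985)) (.leaf (1410, 15350))) (.node (.leaf (1101, 11321)) (.leaf (0, 0)))))) (.node (.node (.node (.node (.leaf (150, 1272)) (.leaf (756, 11870))) (.node (.leaf (1086, 10710)) (.leaf (0, 0)))) (.node (.node (.leaf (175, 3027)) (.leaf (1378, 14536))) (.node (.leaf (671, 8732)) (.leaf (0, 0))))) (.node (.node (.node (.leaf (286, 4183)) (.leaf (1291, 13605))) (.node (.leaf (995, 9745)) (.leaf (0, 0)))) (.node (.node (.leaf (607, 6444)) (.leaf (0, 0))) (.node (.leaf (1030, 10121)) (.leaf (0, 0)))))))))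

def edge9 : Arr (ℕ × ℕ) :=
  (.node (.node (.node (.node (.node (.node (.node (.leaf (13, 109)) (.leaf (1159, 12149))) (.node (.leaf (116, 5041)) (.leaf (0, 0)))) (.node (.node (.leaf (69, 1876)) (.leaf (877, 13471))) (.node (.leaf (1456, 15321)) (.leaf (0, 0))))) (.node (.node (.node (.leaf (130, 4765)) (.leaf (956, 12114))) (.node (.leaf (1152, 12101)) (.leaf (0, 0)))) (.node (.node (.leaf (385, 3551)) (.leaf (963, 14740))) (.node (.leaf (645, 11034)) (.leaf (0, 0)))))) (.node (.node (.node (.node (.leaf (379, 3188)) (.leaf (1414, 14786))) (.node (.leaf (441, 5879)) (.leaf (0, 0)))) (.node (.node (.leaf (355, 3054)) (.leaf (649, 14011))) (.node (.leaf (881, 11272)) (.leaf (0, 0))))) (.node (.node (.node (.leaf (100, 1596)) (.leaf (1116, 12668))) (.node (.leaf (1299, 13671)) (.leaf (0, 0)))) (.node (.node (.leaf (451, 4630)) (.leaf (0, 0))) (.node (.leaf (653, 9377))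 (.leaf (0, 0))))))) (.node (.node (.node (.node (.node (.leaf (210, 1640)) (.leaf (981, 11256))) (.node (.leaf (125, 5441)) (.leaf (0, 0)))) (.node (.node (.leaf (46, 2159)) (.leaf (1228, 13767))) (.node (.leaf (1132, 11794)) (.leaf (0, 0))))) (.node (.node (.node (.leaf (537, 5337)) (.leaf (1325, 13831))) (.node (.leaf (1229, 12814)) (.leaf (0, 0)))) (.node (.node (.leaf (419, 4432)) (.leaf (1311, 15134))) (.node (.leaf (1208, 12564)) (.leaf (0, 0)))))) (.node (.node (.node (.node (.leaf (182, 1565)) (.leaf (729, 11649))) (.node (.leaf (521, 6498)) (.leaf (0, 0)))) (.node (.node (.leaf (399, 3804)) (.leaf (1189, 14331))) (.node (.leaf (1301, 13683)) (.leaf (0, 0))))) (.node (.node (.node (.leaf (225, 1729)) (.leaf (1061, 13051))) (.node (.leaf (1397, 14579)) (.leaf (0, 0)))) (.node (.node (.leaf (112, 4817)) (.leaf (0, 0))) (.node (.leaf (646, 10938)) (.leaf (0, 0))))))))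 (.node (.node (.node (.node (.node (.node (.leaf (18, 307)) (.leaf (1105, 11396))) (.node (.leaf (529, 5237)) (.leaf (0, 0)))) (.node (.node (.leaf (360, 2902)) (.leaf (815, 13660))) (.node (.leaf (1197, 12446)) (.leaf (0, 0))))) (.node (.node (.node (.leaf (512, 5008)) (.leaf (1068, 12232))) (.node (.leaf (1125, 11706)) (.leaf (0, 0)))) (.node (.node (.leaf (92, 3902)) (.leaf (716, 14938))) (.node (.leaf (880, 10902)) (.leaf (0, 0)))))) (.node (.node (.node (.node (.leaf (334, 2569)) (.leaf (1178, 12310))) (.node (.leaf (550, 6131)) (.leaf (0, 0)))) (.node (.node (.leaf (256, 2615)) (.leaf (691, 14138))) (.node (.leaf (634, 10991)) (.leaf (0, 0))))) (.node (.node (.node (.leaf (34, 1641)) (.leaf (787, 12879))) (.node (.leaf (1052, 11052)) (.leaf (0, 0)))) (.node (.node (.leaf (173, 4666)) (.leaf (0, 0))) (.node (.leaf (1423, 14899)) (.leaf (0, 0))))))) (.node (.node (.node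 (.node (.node (.leaf (314, 2374)) (.leaf (1145, 11991))) (.node (.leaf (563, 5658)) (.leaf (0, 0)))) (.node (.node (.leaf (381, 4250)) (.leaf (684, 13868))) (.node (.leaf (690, 10919)) (.leaf (0, 0))))) (.node (.node (.node (.leaf (179, 1556)) (.leaf (710, 12509))) (.node (.leaf (818, 10918)) (.leaf (0, 0)))) (.node (.node (.leaf (435, 4500)) (.leaf (796, 15342))) (.node (.leaf (1093, 11040)) (.leaf (0, 0)))))) (.node (.node (.node (.node (.leaf (499, 4930)) (.leaf (1180, 12330))) (.node (.leaf (656, 10947)) (.leaf (0, 0)))) (.node (.node (.leaf (79, 3024)) (.leaf (1216, 14532))) (.node (.leaf (1071, 10828)) (.leaf (0, 0))))) (.node (.node (.node (.leaf (241, 1805)) (.leaf (1028, 13259))) (.node (.leaf (1149, 12040)) (.leaf (0, 0)))) (.node (.node (.leaf (167, 4926)) (.leaf (0, 0))) (.node (.leaf (624, 11023)) (.leaf (0, 0)))))))))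

def edge10 : Arr (ℕ × ℕ) :=
  (.node (.node (.node (.node (.node (.node (.node (.leaf (1, 28)) (.leaf (843, 10084))) (.node (.leaf (419, 5049)) (.leaf (0, 0)))) (.node (.node (.leaf (230, 3240)) (.leaf (1290, 13597))) (.node (.leaf (994, 9735)) (.leaf (0, 0))))) (.node (.node (.node (.leaf (134, 1127)) (.leaf (1157, 12123))) (.node (.leaf (648, 7109)) (.leaf (0, 0)))) (.node (.node (.leaf (379, 3552)) (.leaf (1421, 14868))) (.node (.leaf (906, 8929)) (.leaf (0, 0)))))) (.node (.node (.node (.node (.leaf (69, 651)) (.leaf (1049, 10748))) (.node (.leaf (616, 6687)) (.leaf (0, 0)))) (.node (.node (.leaf (321, 3056)) (.leaf (1347, 14020))) (.node (.leaf (749, 8294)) (.leaf (0, 0))))) (.node (.node (.node (.leaf (395, 3716)) (.leaf (1217, 12662))) (.node (.leaf (677, 7488)) (.leaf (0, 0)))) (.node (.node (.leaf (619, 6832)) (.leaf (0, 0))) (.node (.leaf (989, 9667)) (.leaf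 (0, 0))))))) (.node (.node (.node (.node (.node (.leaf (38, 469)) (.leaf (1061, 10447))) (.node (.leaf (503, 5477)) (.leaf (0, 0)))) (.node (.node (.leaf (291, 2162)) (.leaf (1315, 13770))) (.node (.leaf (697, 8076)) (.leaf (0, 0))))) (.node (.node (.node (.leaf (153, 1394)) (.leaf (1190, 12403))) (.node (.leaf (798, 8037)) (.leaf (0, 0)))) (.node (.node (.leaf (484, 4859)) (.leaf (1423, 15137))) (.node (.leaf (1139, 11883)) (.leaf (0, 0)))))) (.node (.node (.node (.node (.leaf (31, 942)) (.leaf (1020, 11646))) (.node (.leaf (553, 6484)) (.leaf (0, 0)))) (.node (.node (.leaf (353, 3839)) (.leaf (1379, 14338))) (.node (.leaf (626, 8595)) (.leaf (0, 0))))) (.node (.node (.node (.leaf (227, 1730)) (.leaf (1284, 13497))) (.node (.leaf (743, 7671)) (.leaf (0, 0)))) (.node (.node (.leaf (483, 4822)) (.leaf (0, 0))) (.node (.leaf (769, 9736)) (.leaf (0, 0)))))))) (.node (.node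 (.node (.node (.node (.node (.leaf (7, 308)) (.leaf (836, 10296))) (.node (.leaf (531, 5238)) (.leaf (0, 0)))) (.node (.node (.leaf (375, 3119)) (.leaf (1406, 14684))) (.node (.leaf (857, 8489)) (.leaf (0, 0))))) (.node (.node (.node (.leaf (157, 1341)) (.leaf (1262, 13203))) (.node (.leaf (802, 8075)) (.leaf (0, 0)))) (.node (.node (.leaf (352, 3906)) (.leaf (1433, 15031))) (.node (.leaf (1116, 11567)) (.leaf (0, 0)))))) (.node (.node (.node (.node (.leaf (74, 760)) (.leaf (1056, 11410))) (.node (.leaf (517, 6120)) (.leaf (0, 0)))) (.node (.node (.leaf (410, 4084)) (.leaf (1314, 14148))) (.node (.leaf (682, 8422)) (.leaf (0, 0))))) (.node (.node (.node (.leaf (211, 1642)) (.leaf (1237, 12905))) (.node (.leaf (829, 8257)) (.leaf (0, 0)))) (.node (.node (.leaf (532, 6949)) (.leaf (0, 0))) (.node (.leaf (862, 9574)) (.leaf (0, 0))))))) (.node (.node (.node (.node (.node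 (.leaf (85, 793)) (.leaf (1069, 10580))) (.node (.leaf (612, 6536)) (.leaf (0, 0)))) (.node (.node (.leaf (226, 4252)) (.leaf (1398, 14590))) (.node (.leaf (826, 8231)) (.leaf (0, 0))))) (.node (.node (.node (.leaf (261, 1917)) (.leaf (1207, 12555))) (.node (.leaf (1113, 11527)) (.leaf (0, 0)))) (.node (.node (.leaf (535, 5298)) (.leaf (1338, 15344))) (.node (.leaf (929, 9234)) (.leaf (0, 0)))))) (.node (.node (.node (.node (.leaf (171, 1505)) (.leaf (944, 11874))) (.node (.leaf (629, 7031)) (.leaf (0, 0)))) (.node (.node (.leaf (354, 3599)) (.leaf (1401, 14639))) (.node (.leaf (1076, 10609)) (.leaf (0, 0))))) (.node (.node (.node (.leaf (243, 1806)) (.leaf (1224, 13254))) (.node (.leaf (1038, 10257)) (.leaf (0, 0)))) (.node (.node (.leaf (441, 5420)) (.leaf (0, 0))) (.node (.leaf (891, 9899)) (.leaf (0, 0)))))))))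

def edge11 : Arr (ℕ × ℕ) :=
  (.node (.node (.node (.node (.node (.node (.node (.leaf (3, 32)) (.leaf (1027, 10088))) (.node (.leaf (1260, 13170)) (.leaf (0, 0)))) (.node (.node (.leaf (859, 8506)) (.leaf (1283, 13474))) (.node (.leaf (771, 7810)) (.leaf (0, 0))))) (.node (.node (.node (.leaf (131, 1102)) (.leaf (578, 12085))) (.node (.leaf (643, 7082)) (.leaf (0, 0)))) (.node (.node (.leaf (790, 7966)) (.leaf (1450, 15246))) (.node (.leaf (899, 8882)) (.leaf (0, 0)))))) (.node (.node (.node (.node (.leaf (12, 626)) (.leaf (1091, 10750))) (.node (.leaf (1155, 12082)) (.leaf (0, 0)))) (.node (.node (.leaf (774, 7836)) (.leaf (1298, 14017))) (.node (.leaf (533, 8321)) (.leaf (0, 0))))) (.node (.node (.node (.leaf (690, 7378)) (.leaf (489, 12664))) (.node (.leaf (707, 7490)) (.leaf (0, 0)))) (.node (.node (.leaf (1077, 10616)) (.leaf (0, 0))) (.node (.leaf (417, 9371)) (.leaf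 (0, 0))))))) (.node (.node (.node (.node (.node (.leaf (35, 454)) (.leaf (1059, 10410))) (.node (.leaf (331, 5499)) (.leaf (0, 0)))) (.node (.node (.leaf (958, 9326)) (.leaf (1439, 15099))) (.node (.leaf (516, 8078)) (.leaf (0, 0))))) (.node (.node (.node (.leaf (28, 1396)) (.leaf (437, 12388))) (.node (.leaf (376, 7288)) (.leaf (0, 0)))) (.node (.node (.leaf (324, 5117)) (.leaf (1336, 15140))) (.node (.leaf (931, 9118)) (.leaf (0, 0)))))) (.node (.node (.node (.node (.leaf (99, 946)) (.leaf (1123, 11652))) (.node (.leaf (187, 6486)) (.leaf (0, 0)))) (.node (.node (.leaf (1070, 10544)) (.leaf (1369, 14337))) (.node (.leaf (867, 8596)) (.leaf (0, 0))))) (.node (.node (.node (.leaf (227, 2649)) (.leaf (1251, 13054))) (.node (.leaf (602, 7648)) (.leaf (0, 0)))) (.node (.node (.leaf (677, 7302)) (.leaf (0, 0))) (.node (.leaf (327, 9738)) (.leaf (0, 0)))))))) (.node (.node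 (.node (.node (.node (.node (.leaf (97, 922)) (.leaf (1043, 10302))) (.node (.leaf (741, 7660)) (.leaf (0, 0)))) (.node (.node (.leaf (238, 3356)) (.leaf (1295, 13666))) (.node (.leaf (398, 7937)) (.leaf (0, 0))))) (.node (.node (.node (.leaf (147, 1246)) (.leaf (420, 12228))) (.node (.leaf (659, 7182)) (.leaf (0, 0)))) (.node (.node (.leaf (355, 3911)) (.leaf (1349, 14942))) (.node (.leaf (915, 9000)) (.leaf (0, 0)))))) (.node (.node (.node (.node (.leaf (83, 764)) (.leaf (478, 11412))) (.node (.leaf (1004, 9822)) (.leaf (0, 0)))) (.node (.node (.leaf (562, 5656)) (.leaf (1322, 14140))) (.node (.leaf (249, 8424)) (.leaf (0, 0))))) (.node (.node (.node (.leaf (714, 7546)) (.leaf (1235, 12882))) (.node (.leaf (573, 7595)) (.leaf (0, 0)))) (.node (.node (.leaf (288, 6200)) (.leaf (0, 0))) (.node (.leaf (310, 9576)) (.leaf (0, 0))))))) (.node (.node (.node (.node (.node (.leaf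 (51, 518)) (.leaf (558, 10582))) (.node (.leaf (293, 5652)) (.leaf (0, 0)))) (.node (.node (.leaf (781, 7894)) (.leaf (1404, 14671))) (.node (.leaf (819, 8164)) (.leaf (0, 0))))) (.node (.node (.node (.leaf (609, 6474)) (.leaf (1203, 12512))) (.node (.leaf (691, 7384)) (.leaf (0, 0)))) (.node (.node (.leaf (438, 5367)) (.leaf (1444, 15346))) (.node (.leaf (502, 9236)) (.leaf (0, 0)))))) (.node (.node (.node (.node (.leaf (20, 1042)) (.leaf (1139, 11876))) (.node (.leaf (528, 7023)) (.leaf (0, 0)))) (.node (.node (.leaf (1093, 10772)) (.leaf (1391, 14534))) (.node (.leaf (368, 8736)) (.leaf (0, 0))))) (.node (.node (.node (.leaf (818, 8160)) (.leaf (1267, 13260))) (.node (.leaf (755, 7730)) (.leaf (0, 0)))) (.node (.node (.leaf (621, 6972)) (.leaf (0, 0))) (.node (.leaf (1011, 9900)) (.leaf (0, 0)))))))))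

def edge12 : Arr (ℕ × ℕ) :=
  (.node (.node (.node (.node (.node (.node (.node (.leaf (3, 37)) (.leaf (1037, 10243))) (.node (.leaf (565, 5677)) (.leaf (0, 0)))) (.node (.node (.leaf (391, 3636)) (.leaf (1184, 13480))) (.node (.leaf (707, 7817)) (.leaf (0, 0))))) (.node (.node (.node (.leaf (161, 1379)) (.leaf (1275, 13377))) (.node (.leaf (870, 8624)) (.leaf (0, 0)))) (.node (.node (.leaf (249, 4220)) (.leaf (1333, 14748))) (.node (.leaf (755, 8887)) (.leaf (0, 0)))))) (.node (.node (.node (.node (.leaf (37, 632)) (.leaf (664, 10761))) (.node (.leaf (488, 5881)) (.leaf (0, 0)))) (.node (.node (.leaf (209, 2432)) (.leaf (1326, 14027))) (.node (.leaf (1012, 9913)) (.leaf (0, 0))))) (.node (.node (.node (.leaf (298, 3956)) (.leaf (1200, 12678))) (.node (.leaf (771, 7816)) (.leaf (0, 0)))) (.node (.node (.leaf (573, 6737)) (.leaf (0, 0))) (.node (.leaf (796, 9382)) (.leaf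 (0, 0))))))) (.node (.node (.node (.node (.node (.leaf (83, 769)) (.leaf (1112, 11511))) (.node (.leaf (517, 5495)) (.leaf (0, 0)))) (.node (.node (.leaf (191, 2416)) (.leaf (1301, 13774))) (.node (.leaf (928, 9103)) (.leaf (0, 0))))) (.node (.node (.node (.leaf (145, 1404)) (.leaf (1205, 12533))) (.node (.leaf (992, 9709)) (.leaf (0, 0)))) (.node (.node (.leaf (560, 5643)) (.leaf (1425, 15151))) (.node (.leaf (831, 9130)) (.leaf (0, 0)))))) (.node (.node (.node (.node (.leaf (93, 950)) (.leaf (1118, 11656))) (.node (.leaf (481, 6518)) (.leaf (0, 0)))) (.node (.node (.leaf (234, 2835)) (.leaf (1401, 14641))) (.node (.leaf (1061, 10445)) (.leaf (0, 0))))) (.node (.node (.node (.leaf (300, 2211)) (.leaf (1212, 13062))) (.node (.leaf (1131, 11769)) (.leaf (0, 0)))) (.node (.node (.leaf (563, 5661)) (.leaf (0, 0))) (.node (.leaf (754, 9744)) (.leaf (0, 0)))))))) (.node (.node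 (.node (.node (.node (.node (.leaf (19, 237)) (.leaf (1129, 11743))) (.node (.leaf (471, 5247)) (.leaf (0, 0)))) (.node (.node (.leaf (392, 3650)) (.leaf (1343, 13976))) (.node (.leaf (967, 9435)) (.leaf (0, 0))))) (.node (.node (.node (.leaf (141, 1250)) (.leaf (1182, 12351))) (.node (.leaf (653, 7196)) (.leaf (0, 0)))) (.node (.node (.leaf (316, 3934)) (.leaf (1415, 14951))) (.node (.leaf (890, 9007)) (.leaf (0, 0)))))) (.node (.node (.node (.node (.leaf (35, 768)) (.leaf (1092, 11418))) (.node (.leaf (598, 6294)) (.leaf (0, 0)))) (.node (.node (.leaf (229, 3232)) (.leaf (1370, 14229))) (.node (.leaf (764, 8432)) (.leaf (0, 0))))) (.node (.node (.node (.leaf (330, 2525)) (.leaf (1273, 13347))) (.node (.leaf (1039, 10267)) (.leaf (0, 0)))) (.node (.node (.leaf (475, 6266)) (.leaf (0, 0))) (.node (.leaf (1065, 10511)) (.leaf (0, 0))))))) (.node (.node (.node (.node (.node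 (.leaf (81, 749)) (.leaf (658, 10590))) (.node (.leaf (483, 5660)) (.leaf (0, 0)))) (.node (.node (.leaf (410, 4091)) (.leaf (1329, 13885))) (.node (.leaf (1142, 11927)) (.leaf (0, 0))))) (.node (.node (.node (.leaf (345, 2745)) (.leaf (1258, 13145))) (.node (.leaf (709, 7510)) (.leaf (0, 0)))) (.node (.node (.leaf (589, 6001)) (.leaf (1438, 15358))) (.node (.leaf (907, 9240)) (.leaf (0, 0)))))) (.node (.node (.node (.node (.leaf (169, 1481)) (.leaf (901, 11880))) (.node (.leaf (988, 9632)) (.leaf (0, 0)))) (.node (.node (.leaf (187, 3034)) (.leaf (1353, 14548))) (.node (.leaf (687, 8744)) (.leaf (0, 0))))) (.node (.node (.node (.leaf (397, 3763)) (.leaf (1262, 13262))) (.node (.leaf (899, 8886)) (.leaf (0, 0)))) (.node (.node (.leaf (509, 4984)) (.leaf (0, 0))) (.node (.leaf (760, 9902)) (.leaf (0, 0)))))))))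

def edge13 : Arr (ℕ × ℕ) :=
  (.node (.node (.node (.node (.node (.node (.node (.leaf (19, 232)) (.leaf (1459, 15352))) (.node (.leaf (424, 5071)) (.leaf (0, 0)))) (.node (.node (.leaf (40, 1879)) (.leaf (1305, 13705))) (.node (.leaf (1245, 12986)) (.leaf (0, 0))))) (.node (.node (.node (.leaf (533, 5283)) (.leaf (757, 12089))) (.node (.leaf (742, 10936)) (.leaf (0, 0)))) (.node (.node (.leaf (412, 4222)) (.leaf (679, 14745))) (.node (.leaf (744, 11097)) (.leaf (0, 0)))))) (.node (.node (.node (.node (.leaf (356, 2809)) (.leaf (1303, 13695))) (.node (.leaf (143, 5858)) (.leaf (0, 0)))) (.node (.node (.leaf (51, 2429)) (.leaf (1121, 14022))) (.node (.leaf (636, 11151)) (.leaf (0, 0))))) (.node (.node (.node (.leaf (235, 3958)) (.leaf (1144, 12683))) (.node (.leaf (1268, 13282)) (.leaf (0, 0)))) (.node (.node (.leaf (450, 4631)) (.leaf (0, 0))) (.node (.leaf (1410, 14741))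 (.leaf (0, 0))))))) (.node (.node (.node (.node (.node (.leaf (45, 2032)) (.leaf (1422, 14883))) (.node (.leaf (548, 5514)) (.leaf (0, 0)))) (.node (.node (.leaf (292, 2164)) (.leaf (1078, 13772))) (.node (.leaf (1405, 14679)) (.leaf (0, 0))))) (.node (.node (.node (.leaf (134, 4745)) (.leaf (1365, 14166))) (.node (.leaf (731, 11086)) (.leaf (0, 0)))) (.node (.node (.leaf (418, 4433)) (.leaf (1251, 15146))) (.node (.leaf (1120, 11624)) (.leaf (0, 0)))))) (.node (.node (.node (.node (.leaf (93, 2063)) (.leaf (958, 11665))) (.node (.leaf (147, 6513)) (.leaf (0, 0)))) (.node (.node (.leaf (322, 3055)) (.leaf (893, 14340))) (.node (.leaf (1224, 12766)) (.leaf (0, 0))))) (.node (.node (.node (.leaf (101, 1732)) (.leaf (1443, 15147))) (.node (.leaf (924, 11051)) (.leaf (0, 0)))) (.node (.node (.leaf (484, 4826)) (.leaf (0, 0))) (.node (.leaf (1048, 11007)) (.leaf (0, 0))))))))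 (.node (.node (.node (.node (.node (.node (.leaf (3, 233)) (.leaf (926, 10911))) (.node (.leaf (165, 5240)) (.leaf (0, 0)))) (.node (.node (.leaf (89, 1980)) (.leaf (706, 13670))) (.node (.leaf (1234, 12878)) (.leaf (0, 0))))) (.node (.node (.node (.leaf (611, 6512)) (.leaf (718, 12239))) (.node (.leaf (676, 9379)) (.leaf (0, 0)))) (.node (.node (.leaf (395, 3928)) (.leaf (767, 14946))) (.node (.leaf (633, 10895)) (.leaf (0, 0)))))) (.node (.node (.node (.node (.leaf (57, 2002)) (.leaf (1176, 12292))) (.node (.leaf (138, 6171)) (.leaf (0, 0)))) (.node (.node (.leaf (229, 2628)) (.leaf (761, 14151))) (.node (.leaf (1242, 12952)) (.leaf (0, 0))))) (.node (.node (.node (.leaf (212, 1644)) (.leaf (1076, 12887))) (.node (.leaf (1172, 12246)) (.leaf (0, 0)))) (.node (.node (.leaf (596, 6268)) (.leaf (0, 0))) (.node (.leaf (1173, 12256)) (.leaf (0, 0))))))) (.node (.node (.node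 (.node (.node (.leaf (323, 2428)) (.leaf (1130, 11763))) (.node (.leaf (562, 5659)) (.leaf (0, 0)))) (.node (.node (.leaf (59, 2272)) (.leaf (949, 13878))) (.node (.leaf (1214, 12614)) (.leaf (0, 0))))) (.node (.node (.node (.leaf (178, 1557)) (.leaf (1371, 14237))) (.node (.leaf (1362, 14139)) (.leaf (0, 0)))) (.node (.node (.leaf (434, 4501)) (.leaf (1027, 15353))) (.node (.leaf (1053, 10505)) (.leaf (0, 0)))))) (.node (.node (.node (.node (.leaf (510, 4988)) (.leaf (781, 11887))) (.node (.leaf (1248, 13022)) (.leaf (0, 0)))) (.node (.node (.leaf (62, 3031)) (.leaf (810, 14545))) (.node (.leaf (1215, 12633)) (.leaf (0, 0))))) (.node (.node (.node (.leaf (244, 1808)) (.leaf (784, 13269))) (.node (.leaf (938, 11106)) (.leaf (0, 0)))) (.node (.node (.leaf (114, 4931)) (.leaf (0, 0))) (.node (.leaf (1313, 13761)) (.leaf (0, 0)))))))))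

def edge14 : Arr (ℕ × ℕ) :=
  (.node (.node (.node (.node (.node (.node (.node (.leaf (5, 59)) (.leaf (847, 10094))) (.node (.leaf (487, 5064)) (.leaf (0, 0)))) (.node (.node (.leaf (260, 1882)) (.leaf (1294, 13639))) (.node (.leaf (992, 9711)) (.leaf (0, 0))))) (.node (.node (.node (.leaf (138, 1175)) (.leaf (1158, 12129))) (.node (.leaf (646, 7097)) (.leaf (0, 0)))) (.node (.node (.leaf (304, 4224)) (.leaf (1412, 14754))) (.node (.leaf (903, 8913)) (.leaf (0, 0)))))) (.node (.node (.node (.node (.leaf (58, 637)) (.leaf (1046, 10754))) (.node (.leaf (495, 5863)) (.leaf (0, 0)))) (.node (.node (.leaf (206, 2469)) (.leaf (1365, 14171))) (.node (.leaf (750, 8300)) (.leaf (0, 0))))) (.node (.node (.node (.leaf (236, 3960)) (.leaf (1154, 12685))) (.node (.leaf (675, 7494)) (.leaf (0, 0)))) (.node (.node (.leaf (452, 4632)) (.leaf (0, 0))) (.node (.leaf (990, 9679)) (.leaf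 (0, 0))))))) (.node (.node (.node (.node (.node (.leaf (42, 487)) (.leaf (1064, 10475))) (.node (.leaf (501, 5492)) (.leaf (0, 0)))) (.node (.node (.leaf (319, 2400)) (.leaf (1362, 14146))) (.node (.leaf (756, 8107)) (.leaf (0, 0))))) (.node (.node (.node (.leaf (118, 1411)) (.leaf (1191, 12413))) (.node (.leaf (680, 7319)) (.leaf (0, 0)))) (.node (.node (.leaf (420, 4434)) (.leaf (1449, 15229))) (.node (.leaf (1137, 11859)) (.leaf (0, 0)))))) (.node (.node (.node (.node (.leaf (35, 954)) (.leaf (1023, 11660))) (.node (.leaf (478, 6524)) (.leaf (0, 0)))) (.node (.node (.leaf (315, 2782)) (.leaf (1352, 14342))) (.node (.leaf (623, 8600)) (.leaf (0, 0))))) (.node (.node (.node (.leaf (306, 4255)) (.leaf (1281, 13461))) (.node (.leaf (747, 7695)) (.leaf (0, 0)))) (.node (.node (.leaf (424, 5075)) (.leaf (0, 0))) (.node (.leaf (1003, 9815)) (.leaf (0, 0)))))))) (.node (.node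 (.node (.node (.node (.node (.leaf (20, 238)) (.leaf (834, 10308))) (.node (.leaf (602, 6913)) (.leaf (0, 0)))) (.node (.node (.leaf (208, 2476)) (.leaf (1424, 14912))) (.node (.leaf (858, 8499)) (.leaf (0, 0))))) (.node (.node (.node (.leaf (161, 1381)) (.leaf (1268, 13277))) (.node (.leaf (800, 8057)) (.leaf (0, 0)))) (.node (.node (.leaf (234, 3932)) (.leaf (1420, 14949))) (.node (.leaf (1120, 11619)) (.leaf (0, 0)))))) (.node (.node (.node (.node (.leaf (78, 770)) (.leaf (1057, 11422))) (.node (.leaf (467, 6271)) (.leaf (0, 0)))) (.node (.node (.leaf (258, 2856)) (.leaf (1364, 14156))) (.node (.leaf (854, 8463)) (.leaf (0, 0))))) (.node (.node (.node (.leaf (244, 1814)) (.leaf (1241, 12939))) (.node (.leaf (830, 8263)) (.leaf (0, 0)))) (.node (.node (.leaf (601, 6354)) (.leaf (0, 0))) (.node (.leaf (987, 9621)) (.leaf (0, 0))))))) (.node (.node (.node (.node (.node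 (.leaf (89, 837)) (.leaf (881, 10594))) (.node (.leaf (564, 5664)) (.leaf (0, 0)))) (.node (.node (.leaf (224, 2280)) (.leaf (1306, 13880))) (.node (.leaf (823, 8211)) (.leaf (0, 0))))) (.node (.node (.node (.leaf (180, 1558)) (.leaf (1205, 12535))) (.node (.leaf (1114, 11541)) (.leaf (0, 0)))) (.node (.node (.leaf (436, 4502)) (.leaf (1427, 15354))) (.node (.leaf (930, 9242)) (.leaf (0, 0)))))) (.node (.node (.node (.node (.leaf (124, 1079)) (.leaf (947, 11884))) (.node (.leaf (630, 7035)) (.leaf (0, 0)))) (.node (.node (.leaf (320, 3071)) (.leaf (1396, 14560))) (.node (.leaf (1077, 10623)) (.leaf (0, 0))))) (.node (.node (.node (.leaf (219, 1813)) (.leaf (1227, 13266))) (.node (.leaf (1035, 10219)) (.leaf (0, 0)))) (.node (.node (.leaf (500, 4944)) (.leaf (0, 0))) (.node (.leaf (888, 9906)) (.leaf (0, 0)))))))))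

def edge15 : Arr (ℕ × ℕ) :=
  (.node (.node (.node (.node (.node (.node (.node (.leaf (4, 40)) (.leaf (1028, 10096))) (.node (.leaf (1265, 13234)) (.leaf (0, 0)))) (.node (.node (.leaf (802, 8070)) (.leaf (1284, 13490))) (.node (.leaf (378, 7815)) (.leaf (0, 0))))) (.node (.node (.node (.leaf (132, 1104)) (.leaf (415, 12078))) (.node (.leaf (179, 7084)) (.leaf (0, 0)))) (.node (.node (.leaf (582, 5922)) (.leaf (1424, 14914))) (.node (.leaf (503, 8888)) (.leaf (0, 0)))))) (.node (.node (.node (.node (.leaf (68, 638)) (.leaf (459, 10756))) (.node (.leaf (1215, 12618)) (.leaf (0, 0)))) (.node (.node (.leaf (689, 7370)) (.leaf (1296, 14024))) (.node (.leaf (836, 8302)) (.leaf (0, 0))))) (.node (.node (.node (.leaf (693, 7402)) (.leaf (1220, 12688))) (.node (.leaf (203, 7496)) (.leaf (0, 0)))) (.node (.node (.leaf (1029, 10106)) (.leaf (0, 0))) (.node (.leaf (400, 9386)) (.leaf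 (0, 0))))))) (.node (.node (.node (.node (.node (.leaf (36, 456)) (.leaf (468, 10412))) (.node (.leaf (284, 5496)) (.leaf (0, 0)))) (.node (.node (.leaf (961, 9354)) (.leaf (1364, 14165))) (.node (.leaf (804, 8082)) (.leaf (0, 0))))) (.node (.node (.node (.leaf (164, 1412)) (.leaf (1188, 12392))) (.node (.leaf (676, 7292)) (.leaf (0, 0)))) (.node (.node (.leaf (1161, 12150)) (.leaf (1408, 15152))) (.node (.leaf (932, 9122)) (.leaf (0, 0)))))) (.node (.node (.node (.node (.leaf (100, 958)) (.leaf (1124, 11670))) (.node (.leaf (1062, 10452)) (.leaf (0, 0)))) (.node (.node (.leaf (1075, 10586)) (.leaf (1455, 15313))) (.node (.leaf (474, 8602)) (.leaf (0, 0))))) (.node (.node (.node (.leaf (525, 5206)) (.leaf (496, 13064))) (.node (.leaf (740, 7654)) (.leaf (0, 0)))) (.node (.node (.leaf (202, 5080)) (.leaf (0, 0))) (.node (.leaf (996, 9750)) (.leaf (0, 0)))))))) (.node (.node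 (.node (.node (.node (.node (.leaf (103, 996)) (.leaf (1044, 10310))) (.node (.leaf (748, 7700)) (.leaf (0, 0)))) (.node (.node (.leaf (292, 3400)) (.leaf (1393, 14527))) (.node (.leaf (231, 7942)) (.leaf (0, 0))))) (.node (.node (.node (.leaf (148, 1254)) (.leaf (1172, 12242))) (.node (.leaf (549, 7195)) (.leaf (0, 0)))) (.node (.node (.leaf (666, 7222)) (.leaf (1456, 15319))) (.node (.leaf (916, 9008)) (.leaf (0, 0)))))) (.node (.node (.node (.node (.leaf (84, 774)) (.leaf (388, 11424))) (.node (.leaf (277, 6193)) (.leaf (0, 0)))) (.node (.node (.leaf (427, 5114)) (.leaf (1397, 14577))) (.node (.leaf (852, 8434)) (.leaf (0, 0))))) (.node (.node (.node (.leaf (719, 7560)) (.leaf (1236, 12890))) (.node (.leaf (211, 7584)) (.leaf (0, 0)))) (.node (.node (.leaf (1012, 9910)) (.leaf (0, 0))) (.node (.leaf (980, 9582)) (.leaf (0, 0))))))) (.node (.node (.node (.node (.node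 (.leaf (52, 522)) (.leaf (1076, 10602))) (.node (.leaf (270, 5663)) (.leaf (0, 0)))) (.node (.node (.leaf (356, 3525)) (.leaf (1435, 15058))) (.node (.leaf (820, 8168)) (.leaf (0, 0))))) (.node (.node (.node (.leaf (639, 7072)) (.leaf (580, 12529))) (.node (.leaf (507, 7391)) (.leaf (0, 0)))) (.node (.node (.leaf (604, 6552)) (.leaf (1353, 15364))) (.node (.leaf (287, 9244)) (.leaf (0, 0)))))) (.node (.node (.node (.node (.leaf (116, 1048)) (.leaf (1140, 11888))) (.node (.leaf (175, 7016)) (.leaf (0, 0)))) (.node (.node (.leaf (636, 7056)) (.leaf (1334, 14551))) (.node (.leaf (884, 8750)) (.leaf (0, 0))))) (.node (.node (.node (.leaf (823, 8208)) (.leaf (1268, 13270))) (.node (.leaf (571, 8101)) (.leaf (0, 0)))) (.node (.node (.leaf (318, 4937)) (.leaf (0, 0))) (.node (.leaf (467, 9908)) (.leaf (0, 0)))))))))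

def edge16 : Arr (ℕ × ℕ) :=
  (.node (.node (.node (.node (.node (.node (.node (.leaf (4, 45)) (.leaf (906, 10105))) (.node (.leaf (570, 5697)) (.leaf (0, 0)))) (.node (.node (.leaf (348, 2759)) (.leaf (1174, 13494))) (.node (.leaf (699, 7822)) (.leaf (0, 0))))) (.node (.node (.node (.leaf (174, 1539)) (.leaf (1290, 13595))) (.node (.leaf (1083, 10683)) (.leaf (0, 0)))) (.node (.node (.leaf (185, 3584)) (.leaf (1334, 14758))) (.node (.leaf (716, 8894)) (.leaf (0, 0)))))) (.node (.node (.node (.node (.leaf (74, 691)) (.leaf (1107, 11419))) (.node (.leaf (614, 6653)) (.leaf (0, 0)))) (.node (.node (.leaf (406, 4007)) (.leaf (1325, 14036))) (.node (.leaf (762, 8322)) (.leaf (0, 0))))) (.node (.node (.node (.leaf (295, 4328)) (.leaf (1289, 13581))) (.node (.leaf (655, 7502)) (.leaf (0, 0)))) (.node (.node (.leaf (453, 5768)) (.leaf (0, 0))) (.node (.leaf (1114, 11539)) (.leaf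 (0, 0))))))) (.node (.node (.node (.node (.node (.leaf (54, 538)) (.leaf (639, 10434))) (.node (.leaf (508, 5518)) (.leaf (0, 0)))) (.node (.node (.leaf (190, 2419)) (.leaf (1366, 14186))) (.node (.leaf (934, 9145)) (.leaf (0, 0))))) (.node (.node (.node (.leaf (110, 1416)) (.leaf (1217, 12651))) (.node (.leaf (962, 9372)) (.leaf (0, 0)))) (.node (.node (.leaf (586, 5961)) (.leaf (1433, 15161))) (.node (.leaf (927, 9124)) (.leaf (0, 0)))))) (.node (.node (.node (.node (.leaf (58, 962)) (.leaf (737, 11674))) (.node (.leaf (417, 6542)) (.leaf (0, 0)))) (.node (.node (.leaf (232, 2821)) (.leaf (1461, 15386))) (.node (.leaf (1052, 10377)) (.leaf (0, 0))))) (.node (.node (.node (.leaf (252, 3250)) (.leaf (1237, 13070))) (.node (.leaf (1021, 10033)) (.leaf (0, 0)))) (.node (.node (.leaf (562, 5655)) (.leaf (0, 0))) (.node (.leaf (839, 9754)) (.leaf (0, 0)))))))) (.node (.node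 (.node (.node (.node (.node (.leaf (20, 241)) (.leaf (738, 10319))) (.node (.leaf (527, 6942)) (.leaf (0, 0)))) (.node (.node (.leaf (216, 2080)) (.leaf (1314, 13769))) (.node (.leaf (768, 7948)) (.leaf (0, 0))))) (.node (.node (.node (.leaf (112, 1258)) (.leaf (1272, 13333))) (.node (.leaf (865, 8581)) (.leaf (0, 0)))) (.node (.node (.leaf (290, 3974)) (.leaf (1462, 15401))) (.node (.leaf (821, 9012)) (.leaf (0, 0)))))) (.node (.node (.node (.node (.leaf (66, 778)) (.leaf (953, 11430))) (.node (.leaf (474, 6253)) (.leaf (0, 0)))) (.node (.node (.leaf (287, 2668)) (.leaf (1371, 14239))) (.node (.leaf (858, 8497)) (.leaf (0, 0))))) (.node (.node (.node (.leaf (331, 2531)) (.leaf (1169, 12897))) (.node (.leaf (933, 9137)) (.leaf (0, 0)))) (.node (.node (.leaf (558, 6217)) (.leaf (0, 0))) (.node (.leaf (1051, 10369)) (.leaf (0, 0))))))) (.node (.node (.node (.node (.node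 (.leaf (34, 597)) (.leaf (673, 10606))) (.node (.leaf (424, 5668)) (.leaf (0, 0)))) (.node (.node (.leaf (311, 2334)) (.leaf (1399, 14615))) (.node (.leaf (810, 8244)) (.leaf (0, 0))))) (.node (.node (.node (.leaf (369, 3009)) (.leaf (1186, 12523))) (.node (.leaf (1077, 10621)) (.leaf (0, 0)))) (.node (.node (.leaf (496, 6025)) (.leaf (1309, 15377))) (.node (.leaf (1070, 10549)) (.leaf (0, 0)))))) (.node (.node (.node (.node (.leaf (128, 1117)) (.leaf (1019, 11890))) (.node (.leaf (1045, 10327)) (.leaf (0, 0)))) (.node (.node (.leaf (189, 3046)) (.leaf (1354, 14566))) (.node (.leaf (697, 8754)) (.leaf (0, 0))))) (.node (.node (.node (.leaf (285, 3767)) (.leaf (1245, 13274))) (.node (.leaf (1138, 11871)) (.leaf (0, 0)))) (.node (.node (.leaf (457, 6741)) (.leaf (0, 0))) (.node (.leaf (835, 9912)) (.leaf (0, 0)))))))))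

def edge17 : Arr (ℕ × ℕ) :=
  (.node (.node (.node (.node (.node (.node (.node (.leaf (17, 175)) (.leaf (1266, 13258))) (.node (.leaf (117, 5127)) (.leaf (0, 0)))) (.node (.node (.leaf (261, 1884)) (.leaf (759, 13504))) (.node (.leaf (629, 10838)) (.leaf (0, 0))))) (.node (.node (.node (.leaf (576, 5818)) (.leaf (1018, 12099))) (.node (.leaf (1084, 11065)) (.leaf (0, 0)))) (.node (.node (.leaf (389, 3586)) (.leaf (1413, 14762))) (.node (.leaf (1439, 15095)) (.leaf (0, 0)))))) (.node (.node (.node (.node (.leaf (343, 2689)) (.leaf (1163, 12190))) (.node (.leaf (614, 6641)) (.leaf (0, 0)))) (.node (.node (.leaf (206, 2467)) (.leaf (1204, 14033))) (.node (.leaf (1408, 14711)) (.leaf (0, 0))))) (.node (.node (.node (.leaf (196, 4331)) (.leaf (970, 12702))) (.node (.leaf (1025, 10205)) (.leaf (0, 0)))) (.node (.node (.leaf (453, 4634)) (.leaf (0, 0))) (.node (.leaf (1223,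 12757)) (.leaf (0, 0))))))) (.node (.node (.node (.node (.node (.leaf (220, 1714)) (.leaf (989, 10963))) (.node (.leaf (547, 5515)) (.leaf (0, 0)))) (.node (.node (.leaf (291, 2165)) (.leaf (809, 13783))) (.node (.leaf (1055, 11045)) (.leaf (0, 0))))) (.node (.node (.node (.leaf (157, 4586)) (.leaf (1351, 14053))) (.node (.leaf (659, 9378)) (.leaf (0, 0)))) (.node (.node (.leaf (421, 4436)) (.leaf (713, 15156))) (.node (.leaf (724, 11079)) (.leaf (0, 0)))))) (.node (.node (.node (.node (.leaf (194, 1597)) (.leaf (1360, 14490))) (.node (.leaf (569, 6538)) (.leaf (0, 0)))) (.node (.node (.leaf (67, 2808)) (.leaf (1428, 14965))) (.node (.leaf (921, 11042)) (.leaf (0, 0))))) (.node (.node (.node (.leaf (380, 3216)) (.leaf (1280, 13453))) (.node (.leaf (1024, 10183)) (.leaf (0, 0)))) (.node (.node (.leaf (483, 4827)) (.leaf (0, 0))) (.node (.leaf (1143, 11948)) (.leaf (0, 0))))))))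 (.node (.node (.node (.node (.node (.node (.leaf (21, 242)) (.leaf (1355, 14077))) (.node (.leaf (597, 6944)) (.leaf (0, 0)))) (.node (.node (.leaf (43, 2077)) (.leaf (1210, 13677))) (.node (.leaf (1168, 12214)) (.leaf (0, 0))))) (.node (.node (.node (.leaf (606, 6427)) (.leaf (723, 12247))) (.node (.leaf (1368, 14203)) (.leaf (0, 0)))) (.node (.node (.leaf (94, 3970)) (.leaf (1380, 14964))) (.node (.leaf (1038, 11002)) (.leaf (0, 0)))))) (.node (.node (.node (.node (.leaf (382, 3277)) (.leaf (824, 11441))) (.node (.leaf (467, 6269)) (.leaf (0, 0)))) (.node (.node (.leaf (55, 2665)) (.leaf (1258, 14158))) (.node (.leaf (1270, 13313)) (.leaf (0, 0))))) (.node (.node (.node (.leaf (211, 1645)) (.leaf (929, 12900))) (.node (.leaf (932, 11078)) (.leaf (0, 0)))) (.node (.node (.leaf (558, 6219)) (.leaf (0, 0))) (.node (.leaf (891, 9651)) (.leaf (0, 0))))))) (.node (.node (.node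 (.node (.node (.leaf (329, 2512)) (.leaf (1235, 12886))) (.node (.leaf (565, 5674)) (.leaf (0, 0)))) (.node (.node (.leaf (48, 2285)) (.leaf (695, 13892))) (.node (.leaf (1353, 14060)) (.leaf (0, 0))))) (.node (.node (.node (.leaf (181, 1560)) (.leaf (1348, 14032))) (.node (.leaf (1430, 14986)) (.leaf (0, 0)))) (.node (.node (.leaf (437, 4504)) (.leaf (917, 15370))) (.node (.leaf (1157, 12124)) (.leaf (0, 0)))))) (.node (.node (.node (.node (.leaf (514, 5040)) (.leaf (976, 11906))) (.node (.leaf (1066, 11019)) (.leaf (0, 0)))) (.node (.node (.leaf (320, 3069)) (.leaf (1141, 14562))) (.node (.leaf (1393, 14519)) (.leaf (0, 0))))) (.node (.node (.node (.leaf (243, 1809)) (.leaf (707, 13283))) (.node (.leaf (1225, 12781)) (.leaf (0, 0)))) (.node (.node (.leaf (501, 4948)) (.leaf (0, 0))) (.node (.leaf (696, 11146)) (.leaf (0, 0)))))))))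

def edge18 : Arr (ℕ × ℕ) :=
  (.node (.node (.node (.node (.node (.node (.node (.leaf (2, 46)) (.leaf (844, 10100))) (.node (.leaf (508, 5132)) (.leaf (0, 0)))) (.node (.node (.leaf (184, 2149)) (.leaf (1291, 13607))) (.node (.leaf (993, 9721)) (.leaf (0, 0))))) (.node (.node (.node (.leaf (135, 1147)) (.leaf (1221, 12727))) (.node (.leaf (951, 9271)) (.leaf (0, 0)))) (.node (.node (.leaf (350, 3582)) (.leaf (1422, 14888))) (.node (.leaf (904, 8917)) (.leaf (0, 0)))))) (.node (.node (.node (.node (.leaf (55, 644)) (.leaf (1047, 10768))) (.node (.leaf (442, 6644)) (.leaf (0, 0)))) (.node (.node (.leaf (325, 2448)) (.leaf (1349, 14040))) (.node (.leaf (753, 8313)) (.leaf (0, 0))))) (.node (.node (.node (.leaf (238, 4332)) (.leaf (1151, 12694))) (.node (.leaf (966, 9419)) (.leaf (0, 0)))) (.node (.node (.leaf (574, 5762)) (.leaf (0, 0))) (.node (.leaf (885, 9396)) (.leaf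 (0, 0))))))) (.node (.node (.node (.node (.node (.leaf (39, 473)) (.leaf (1106, 11409))) (.node (.leaf (507, 5541)) (.leaf (0, 0)))) (.node (.node (.leaf (293, 2166)) (.leaf (1317, 13792))) (.node (.leaf (754, 8084)) (.leaf (0, 0))))) (.node (.node (.node (.leaf (115, 1420)) (.leaf (1189, 12399))) (.node (.leaf (678, 7309)) (.leaf (0, 0)))) (.node (.node (.leaf (514, 5043)) (.leaf (1417, 15165))) (.node (.leaf (1140, 11893)) (.leaf (0, 0)))))) (.node (.node (.node (.node (.leaf (32, 966)) (.leaf (1021, 11678))) (.node (.leaf (561, 6540)) (.leaf (0, 0)))) (.node (.node (.leaf (322, 3059)) (.leaf (1367, 14961))) (.node (.leaf (624, 8608)) (.leaf (0, 0))))) (.node (.node (.node (.leaf (386, 3555)) (.leaf (1208, 13072))) (.node (.leaf (744, 7677)) (.leaf (0, 0)))) (.node (.node (.leaf (417, 4857)) (.leaf (0, 0))) (.node (.leaf (1000, 9791)) (.leaf (0, 0)))))))) (.node (.node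 (.node (.node (.node (.node (.leaf (30, 378)) (.leaf (837, 10314))) (.node (.leaf (465, 6946)) (.leaf (0, 0)))) (.node (.node (.leaf (277, 2082)) (.leaf (1301, 13680))) (.node (.leaf (699, 7952)) (.leaf (0, 0))))) (.node (.node (.node (.leaf (158, 1351)) (.leaf (1265, 13241))) (.node (.leaf (801, 8063)) (.leaf (0, 0)))) (.node (.node (.leaf (191, 3972)) (.leaf (1363, 14966))) (.node (.leaf (1117, 11579)) (.leaf (0, 0)))))) (.node (.node (.node (.node (.leaf (75, 780)) (.leaf (1080, 11434))) (.node (.leaf (597, 6240)) (.leaf (0, 0)))) (.node (.node (.leaf (247, 3453)) (.leaf (1428, 14962))) (.node (.leaf (855, 8471)) (.leaf (0, 0))))) (.node (.node (.node (.leaf (213, 1646)) (.leaf (1238, 12913))) (.node (.leaf (731, 7625)) (.leaf (0, 0)))) (.node (.node (.leaf (611, 6515)) (.leaf (0, 0))) (.node (.leaf (984, 9603)) (.leaf (0, 0))))))) (.node (.node (.node (.node (.node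 (.leaf (86, 805)) (.leaf (879, 10610))) (.node (.leaf (606, 6428)) (.leaf (0, 0)))) (.node (.node (.leaf (202, 2295)) (.leaf (1303, 13897))) (.node (.leaf (827, 8237)) (.leaf (0, 0))))) (.node (.node (.node (.leaf (288, 2121)) (.leaf (1206, 12541))) (.node (.leaf (1115, 11551)) (.leaf (0, 0)))) (.node (.node (.leaf (534, 5293)) (.leaf (1456, 15373))) (.node (.leaf (641, 9252)) (.leaf (0, 0)))))) (.node (.node (.node (.node (.leaf (121, 1065)) (.leaf (945, 11894))) (.node (.leaf (868, 8607)) (.leaf (0, 0)))) (.node (.node (.leaf (292, 3048)) (.leaf (1445, 15171))) (.node (.leaf (1075, 10593)) (.leaf (0, 0))))) (.node (.node (.node (.leaf (210, 1810)) (.leaf (1225, 13278))) (.node (.leaf (1036, 10235)) (.leaf (0, 0)))) (.node (.node (.leaf (551, 5729)) (.leaf (0, 0))) (.node (.leaf (889, 9916)) (.leaf (0, 0)))))))))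

def edge19 : Arr (ℕ × ℕ) :=
  (.node (.node (.node (.node (.node (.node (.node (.leaf (5, 52)) (.leaf (451, 10102))) (.node (.leaf (274, 5131)) (.leaf (0, 0)))) (.node (.node (.leaf (508, 4976)) (.leaf (537, 13500))) (.node (.leaf (223, 7826)) (.leaf (0, 0))))) (.node (.node (.node (.leaf (23, 1106)) (.leaf (1157, 12120))) (.node (.leaf (645, 7090)) (.leaf (0, 0)))) (.node (.node (.leaf (1103, 11356)) (.leaf (1386, 14761))) (.node (.leaf (901, 8898)) (.leaf (0, 0)))))) (.node (.node (.node (.node (.leaf (69, 648)) (.leaf (369, 10770))) (.node (.leaf (1204, 12526)) (.leaf (0, 0)))) (.node (.node (.leaf (319, 3653)) (.leaf (1409, 14723))) (.node (.leaf (837, 8304)) (.leaf (0, 0))))) (.node (.node (.node (.leaf (658, 7180)) (.leaf (577, 12696))) (.node (.leaf (709, 7506)) (.leaf (0, 0)))) (.node (.node (.leaf (247, 5488)) (.leaf (0, 0))) (.node (.leaf (965, 9400)) (.leaf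 (0, 0))))))) (.node (.node (.node (.node (.node (.leaf (7, 458)) (.leaf (1061, 10440))) (.node (.leaf (193, 5526)) (.leaf (0, 0)))) (.node (.node (.leaf (861, 8534)) (.leaf (1299, 13789))) (.node (.leaf (805, 8086)) (.leaf (0, 0))))) (.node (.node (.node (.leaf (165, 1424)) (.leaf (433, 12394))) (.node (.leaf (482, 7305)) (.leaf (0, 0)))) (.node (.node (.leaf (1166, 12170)) (.leaf (1374, 15158))) (.node (.leaf (547, 9126)) (.leaf (0, 0)))))) (.node (.node (.node (.node (.leaf (101, 970)) (.leaf (1125, 11684))) (.node (.leaf (978, 9566)) (.leaf (0, 0)))) (.node (.node (.leaf (973, 9504)) (.leaf (1427, 14955))) (.node (.leaf (869, 8610)) (.leaf (0, 0))))) (.node (.node (.node (.leaf (232, 3393)) (.leaf (1253, 13076))) (.node (.leaf (530, 7659)) (.leaf (0, 0)))) (.node (.node (.leaf (290, 5090)) (.leaf (0, 0))) (.node (.leaf (518, 9759)) (.leaf (0, 0)))))))) (.node (.node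 (.node (.node (.node (.node (.leaf (109, 1012)) (.leaf (464, 10316))) (.node (.leaf (641, 7122)) (.leaf (0, 0)))) (.node (.node (.leaf (888, 8796)) (.leaf (1416, 14803))) (.node (.leaf (789, 7956)) (.leaf (0, 0))))) (.node (.node (.node (.leaf (149, 1262)) (.leaf (1173, 12250))) (.node (.leaf (359, 7188)) (.leaf (0, 0)))) (.node (.node (.leaf (848, 8390)) (.leaf (1338, 14973))) (.node (.leaf (461, 9019)) (.leaf (0, 0)))))) (.node (.node (.node (.node (.leaf (15, 782)) (.leaf (1109, 11448))) (.node (.leaf (876, 8696)) (.leaf (0, 0)))) (.node (.node (.leaf (1025, 10064)) (.leaf (1400, 14628))) (.node (.leaf (380, 8453)) (.leaf (0, 0))))) (.node (.node (.node (.leaf (724, 7600)) (.leaf (492, 12894))) (.node (.leaf (725, 7602)) (.leaf (0, 0)))) (.node (.node (.leaf (350, 6180)) (.leaf (0, 0))) (.node (.leaf (527, 9647)) (.leaf (0, 0))))))) (.node (.node (.node (.node (.node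 (.leaf (53, 528)) (.leaf (450, 10612))) (.node (.leaf (404, 5666)) (.leaf (0, 0)))) (.node (.node (.leaf (252, 2299)) (.leaf (1461, 15383))) (.node (.leaf (821, 8172)) (.leaf (0, 0))))) (.node (.node (.node (.leaf (644, 7086)) (.leaf (495, 12520))) (.node (.leaf (206, 7398)) (.leaf (0, 0)))) (.node (.node (.leaf (1197, 12442)) (.leaf (1357, 15378))) (.node (.leaf (949, 9254)) (.leaf (0, 0)))))) (.node (.node (.node (.node (.leaf (117, 1050)) (.leaf (409, 11896))) (.node (.leaf (629, 7028)) (.leaf (0, 0)))) (.node (.node (.leaf (976, 9542)) (.leaf (1329, 14569))) (.node (.leaf (266, 8760)) (.leaf (0, 0))))) (.node (.node (.node (.leaf (828, 8248)) (.leaf (1269, 13286))) (.node (.leaf (757, 7736)) (.leaf (0, 0)))) (.node (.node (.leaf (654, 7154)) (.leaf (0, 0))) (.node (.leaf (1013, 9920)) (.leaf (0, 0)))))))))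

def edge20 : Arr (ℕ × ℕ) :=
  (.node (.node (.node (.node (.node (.node (.node (.leaf (5, 57)) (.leaf (1102, 11339))) (.node (.leaf (547, 5494)) (.leaf (0, 0)))) (.node (.node (.leaf (347, 2753)) (.leaf (1208, 13516))) (.node (.leaf (686, 7832)) (.leaf (0, 0))))) (.node (.node (.node (.leaf (121, 1112)) (.leaf (1193, 12431))) (.node (.leaf (1094, 10793)) (.leaf (0, 0)))) (.node (.node (.leaf (413, 4269)) (.leaf (1335, 14766))) (.node (.leaf (1139, 11881)) (.leaf (0, 0)))))) (.node (.node (.node (.node (.leaf (75, 697)) (.leaf (661, 10778))) (.node (.leaf (426, 5908)) (.leaf (0, 0)))) (.node (.node (.leaf (360, 2907)) (.leaf (1387, 14431))) (.node (.leaf (743, 8311)) (.leaf (0, 0))))) (.node (.node (.node (.leaf (294, 3940)) (.leaf (1247, 13005))) (.node (.leaf (691, 7511)) (.leaf (0, 0)))) (.node (.node (.leaf (452, 5769)) (.leaf (0, 0))) (.node (.leaf (798, 9402)) (.leaf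 (0, 0))))))) (.node (.node (.node (.node (.node (.leaf (67, 633)) (.leaf (867, 10444))) (.node (.leaf (507, 5550)) (.leaf (0, 0)))) (.node (.node (.leaf (393, 3675)) (.leaf (1350, 14812))) (.node (.leaf (830, 8266)) (.leaf (0, 0))))) (.node (.node (.node (.leaf (111, 1428)) (.leaf (1216, 12645))) (.node (.leaf (975, 9533)) (.leaf (0, 0)))) (.node (.node (.leaf (585, 5949)) (.leaf (1369, 15172))) (.node (.leaf (724, 9136)) (.leaf (0, 0)))))) (.node (.node (.node (.node (.leaf (47, 974)) (.leaf (1130, 11755))) (.node (.leaf (578, 6612)) (.leaf (0, 0)))) (.node (.node (.leaf (236, 3310)) (.leaf (1407, 14703))) (.node (.leaf (982, 9599)) (.leaf (0, 0))))) (.node (.node (.node (.leaf (339, 3233)) (.leaf (1243, 13085))) (.node (.leaf (910, 8987)) (.leaf (0, 0)))) (.node (.node (.leaf (568, 6581)) (.leaf (0, 0))) (.node (.leaf (731, 9762)) (.leaf (0, 0)))))))) (.node (.node (.node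 (.node (.node (.node (.leaf (21, 245)) (.leaf (628, 10326))) (.node (.leaf (618, 6779)) (.leaf (0, 0)))) (.node (.node (.leaf (214, 2084)) (.leaf (1315, 13775))) (.node (.leaf (862, 8550)) (.leaf (0, 0))))) (.node (.node (.node (.leaf (167, 1453)) (.leaf (1278, 13415))) (.node (.leaf (1093, 10779)) (.leaf (0, 0)))) (.node (.node (.leaf (321, 4406)) (.leaf (1374, 14984))) (.node (.leaf (942, 9205)) (.leaf (0, 0)))))) (.node (.node (.node (.node (.leaf (73, 790)) (.leaf (629, 11452))) (.node (.leaf (528, 6250)) (.leaf (0, 0)))) (.node (.node (.leaf (408, 4051)) (.leaf (1320, 14172))) (.node (.leaf (784, 8447)) (.leaf (0, 0))))) (.node (.node (.node (.leaf (278, 2089)) (.leaf (1252, 13071))) (.node (.leaf (929, 9109)) (.leaf (0, 0)))) (.node (.node (.leaf (478, 6283)) (.leaf (0, 0))) (.node (.leaf (1062, 10455)) (.leaf (0, 0))))))) (.node (.node (.node (.node (.node (.leaf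 (65, 613)) (.leaf (692, 10620))) (.node (.leaf (515, 5676)) (.leaf (0, 0)))) (.node (.node (.leaf (267, 2502)) (.leaf (1411, 14749))) (.node (.leaf (916, 9013)) (.leaf (0, 0))))) (.node (.node (.node (.leaf (368, 3005)) (.leaf (1187, 12532))) (.node (.leaf (958, 9331)) (.leaf (0, 0)))) (.node (.node (.leaf (590, 6021)) (.leaf (1380, 15387))) (.node (.leaf (1056, 10428)) (.leaf (0, 0)))))) (.node (.node (.node (.node (.leaf (129, 1133)) (.leaf (749, 11912))) (.node (.leaf (1109, 11453)) (.leaf (0, 0)))) (.node (.node (.leaf (201, 3086)) (.leaf (1355, 14585))) (.node (.leaf (689, 8766)) (.leaf (0, 0))))) (.node (.node (.node (.leaf (280, 3460)) (.leaf (1256, 13290))) (.node (.leaf (717, 7744)) (.leaf (0, 0)))) (.node (.node (.leaf (518, 5157)) (.leaf (0, 0))) (.node (.leaf (1134, 11815)) (.leaf (0, 0)))))))))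

def edge21 : Arr (ℕ × ℕ) :=
  (.node (.node (.node (.node (.node (.node (.node (.leaf (28, 328)) (.leaf (968, 10865))) (.node (.leaf (508, 5135)) (.leaf (0, 0)))) (.node (.node (.leaf (260, 1885)) (.leaf (1007, 13521))) (.node (.leaf (923, 11216)) (.leaf (0, 0))))) (.node (.node (.node (.leaf (581, 5904)) (.leaf (948, 12125))) (.node (.leaf (898, 11035)) (.leaf (0, 0)))) (.node (.node (.leaf (388, 3587)) (.leaf (1412, 14763))) (.node (.leaf (859, 11186)) (.leaf (0, 0)))))) (.node (.node (.node (.node (.leaf (258, 1877)) (.leaf (946, 11041))) (.node (.leaf (133, 5905)) (.leaf (0, 0)))) (.node (.node (.leaf (326, 2450)) (.leaf (873, 14042))) (.node (.leaf (918, 9972)) (.leaf (0, 0))))) (.node (.node (.node (.leaf (393, 3942)) (.leaf (1164, 12731))) (.node (.leaf (1377, 14315)) (.leaf (0, 0)))) (.node (.node (.leaf (452, 4635)) (.leaf (0, 0))) (.node (.leaf (1455, 15307))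 (.leaf (0, 0))))))) (.node (.node (.node (.node (.node (.leaf (232, 1748)) (.leaf (1250, 13050))) (.node (.leaf (507, 5539)) (.leaf (0, 0)))) (.node (.node (.leaf (294, 2168)) (.leaf (1318, 13794))) (.node (.leaf (1110, 11478)) (.leaf (0, 0))))) (.node (.node (.node (.leaf (531, 5241)) (.leaf (1378, 14330))) (.node (.leaf (812, 8836)) (.leaf (0, 0)))) (.node (.node (.leaf (420, 4437)) (.leaf (846, 15167))) (.node (.leaf (927, 11083)) (.leaf (0, 0)))))) (.node (.node (.node (.node (.leaf (227, 1733)) (.leaf (658, 11707))) (.node (.leaf (593, 6705)) (.leaf (0, 0)))) (.node (.node (.leaf (297, 3339)) (.leaf (663, 14351))) (.node (.leaf (780, 11198)) (.leaf (0, 0))))) (.node (.node (.node (.leaf (339, 2629)) (.leaf (984, 13083))) (.node (.leaf (1367, 14193)) (.leaf (0, 0)))) (.node (.node (.leaf (485, 4845)) (.leaf (0, 0))) (.node (.leaf (992, 11084)) (.leaf (0, 0))))))))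 (.node (.node (.node (.node (.node (.node (.leaf (20, 243)) (.leaf (875, 11012))) (.node (.leaf (131, 5282)) (.leaf (0, 0)))) (.node (.node (.leaf (278, 2086)) (.leaf (866, 13682))) (.node (.leaf (1134, 11820)) (.leaf (0, 0))))) (.node (.node (.node (.leaf (607, 6441)) (.leaf (979, 12257))) (.node (.leaf (1101, 11328)) (.leaf (0, 0)))) (.node (.node (.leaf (405, 4409)) (.leaf (1035, 14976))) (.node (.leaf (1460, 15371)) (.leaf (0, 0)))))) (.node (.node (.node (.node (.leaf (296, 2177)) (.leaf (699, 11461))) (.node (.leaf (532, 6945)) (.leaf (0, 0)))) (.node (.node (.leaf (247, 3449)) (.leaf (1187, 14167))) (.node (.leaf (1262, 13208)) (.leaf (0, 0))))) (.node (.node (.node (.leaf (214, 1648)) (.leaf (1232, 12909))) (.node (.leaf (1169, 12204)) (.leaf (0, 0)))) (.node (.node (.leaf (599, 6314)) (.leaf (0, 0))) (.node (.leaf (1058, 11257)) (.leaf (0, 0))))))) (.node (.node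 (.node (.node (.node (.leaf (90, 2042)) (.leaf (1402, 14649))) (.node (.leaf (564, 5675)) (.leaf (0, 0)))) (.node (.node (.leaf (272, 2305)) (.leaf (775, 13899))) (.node (.leaf (1003, 11005)) (.leaf (0, 0))))) (.node (.node (.node (.leaf (180, 1561)) (.leaf (1320, 13807))) (.node (.leaf (1118, 11598)) (.leaf (0, 0)))) (.node (.node (.leaf (436, 4505)) (.leaf (1462, 15394))) (.node (.leaf (1331, 13879)) (.leaf (0, 0)))))) (.node (.node (.node (.node (.leaf (516, 5126)) (.leaf (1396, 14563))) (.node (.leaf (772, 10839)) (.leaf (0, 0)))) (.node (.node (.leaf (374, 3088)) (.leaf (738, 14578))) (.node (.leaf (971, 10492)) (.leaf (0, 0))))) (.node (.node (.node (.leaf (383, 3462)) (.leaf (682, 13300))) (.node (.leaf (1155, 12088)) (.leaf (0, 0)))) (.node (.node (.leaf (500, 4949)) (.leaf (0, 0))) (.node (.leaf (862, 10927)) (.leaf (0, 0)))))))))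

def edge22 : Arr (ℕ × ℕ) :=
  (.node (.node (.node (.node (.node (.node (.node (.leaf (6, 69)) (.leaf (845, 10112))) (.node (.leaf (518, 5136)) (.leaf (0, 0)))) (.node (.node (.leaf (177, 1915)) (.leaf (1234, 13523))) (.node (.leaf (777, 7861)) (.leaf (0, 0))))) (.node (.node (.node (.leaf (142, 1211)) (.leaf (1219, 12681))) (.node (.leaf (948, 9251)) (.leaf (0, 0)))) (.node (.node (.leaf (366, 3588)) (.leaf (1307, 14768))) (.node (.leaf (907, 8935)) (.leaf (0, 0)))))) (.node (.node (.node (.node (.leaf (59, 652)) (.leaf (1073, 10785))) (.node (.leaf (582, 5914)) (.leaf (0, 0)))) (.node (.node (.leaf (400, 3860)) (.leaf (1431, 15015))) (.node (.leaf (751, 8306)) (.leaf (0, 0))))) (.node (.node (.node (.leaf (196, 4335)) (.leaf (1152, 12728))) (.node (.leaf (964, 9395)) (.leaf (0, 0)))) (.node (.node (.leaf (454, 4636)) (.leaf (0, 0))) (.node (.leaf (886, 9406)) (.leaf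 (0, 0))))))) (.node (.node (.node (.node (.node (.leaf (100, 965)) (.leaf (1103, 11363))) (.node (.leaf (516, 5544)) (.leaf (0, 0)))) (.node (.node (.leaf (372, 3062)) (.leaf (1402, 14652))) (.node (.leaf (757, 8104)) (.leaf (0, 0))))) (.node (.node (.node (.leaf (119, 1432)) (.leaf (1259, 13159))) (.node (.leaf (679, 7313)) (.leaf (0, 0)))) (.node (.node (.leaf (422, 4438)) (.leaf (1395, 15168))) (.node (.leaf (997, 9765)) (.leaf (0, 0)))))) (.node (.node (.node (.node (.leaf (36, 978)) (.leaf (1024, 11690))) (.node (.leaf (541, 6608)) (.leaf (0, 0)))) (.node (.node (.leaf (314, 3314)) (.leaf (1343, 14354))) (.node (.leaf (627, 8614)) (.leaf (0, 0))))) (.node (.node (.node (.leaf (398, 3787)) (.leaf (1211, 13080))) (.node (.leaf (745, 7683)) (.leaf (0, 0)))) (.node (.node (.leaf (415, 4846)) (.leaf (0, 0))) (.node (.leaf (1001, 9797)) (.leaf (0, 0)))))))) (.node (.node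 (.node (.node (.node (.node (.leaf (22, 246)) (.leaf (1052, 10379))) (.node (.leaf (463, 5286)) (.leaf (0, 0)))) (.node (.node (.leaf (332, 2542)) (.leaf (1377, 14325))) (.node (.leaf (700, 7962)) (.leaf (0, 0))))) (.node (.node (.node (.leaf (162, 1393)) (.leaf (1269, 13293))) (.node (.leaf (956, 9313)) (.leaf (0, 0)))) (.node (.node (.leaf (232, 4410)) (.leaf (1393, 14978))) (.node (.leaf (1118, 11595)) (.leaf (0, 0)))))) (.node (.node (.node (.node (.leaf (46, 797)) (.leaf (1078, 11456))) (.node (.leaf (620, 6885)) (.leaf (0, 0)))) (.node (.node (.leaf (240, 2707)) (.leaf (1346, 14168))) (.node (.leaf (856, 8481)) (.leaf (0, 0))))) (.node (.node (.node (.leaf (383, 3441)) (.leaf (1285, 13519))) (.node (.leaf (729, 7615)) (.leaf (0, 0)))) (.node (.node (.leaf (558, 6278)) (.leaf (0, 0))) (.node (.leaf (985, 9607)) (.leaf (0, 0))))))) (.node (.node (.node (.node (.node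 (.leaf (90, 851)) (.leaf (880, 10624))) (.node (.leaf (566, 5678)) (.leaf (0, 0)))) (.node (.node (.leaf (200, 2302)) (.leaf (1334, 13902))) (.node (.leaf (824, 8217)) (.leaf (0, 0))))) (.node (.node (.node (.leaf (182, 1562)) (.leaf (1215, 12623))) (.node (.leaf (796, 8023)) (.leaf (0, 0)))) (.node (.node (.leaf (438, 4506)) (.leaf (1373, 15393))) (.node (.leaf (639, 9258)) (.leaf (0, 0)))))) (.node (.node (.node (.node (.leaf (125, 1083)) (.leaf (1129, 11921))) (.node (.leaf (866, 8593)) (.leaf (0, 0)))) (.node (.node (.leaf (267, 3084)) (.leaf (1374, 14581))) (.node (.leaf (709, 8773)) (.leaf (0, 0))))) (.node (.node (.node (.leaf (217, 3493)) (.leaf (1228, 13294))) (.node (.leaf (1039, 10269)) (.leaf (0, 0)))) (.node (.node (.leaf (502, 4952)) (.leaf (0, 0))) (.node (.leaf (892, 9926)) (.leaf (0, 0)))))))))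

def edge23 : Arr (ℕ × ℕ) :=
  (.node (.node (.node (.node (.node (.node (.node (.leaf (6, 62)) (.leaf (340, 10114))) (.node (.leaf (285, 5506)) (.leaf (0, 0)))) (.node (.node (.leaf (320, 3361)) (.leaf (1286, 13524))) (.node (.leaf (585, 7834)) (.leaf (0, 0))))) (.node (.node (.node (.leaf (134, 1120)) (.leaf (1158, 12126))) (.node (.leaf (646, 7094)) (.leaf (0, 0)))) (.node (.node (.leaf (1108, 11426)) (.leaf (1359, 14771))) (.node (.leaf (902, 8904)) (.leaf (0, 0)))))) (.node (.node (.node (.node (.leaf (70, 654)) (.leaf (1094, 10788))) (.node (.leaf (374, 5911)) (.leaf (0, 0)))) (.node (.node (.leaf (960, 9344)) (.leaf (1454, 15296))) (.node (.leaf (245, 8308)) (.leaf (0, 0))))) (.node (.node (.node (.leaf (696, 7418)) (.leaf (1222, 12732))) (.node (.leaf (457, 7512)) (.leaf (0, 0)))) (.node (.node (.leaf (244, 5770)) (.leaf (0, 0))) (.node (.leaf (399, 9408)) (.leaf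 (0, 0))))))) (.node (.node (.node (.node (.node (.leaf (38, 466)) (.leaf (611, 10451))) (.node (.leaf (660, 7192)) (.leaf (0, 0)))) (.node (.node (.leaf (712, 7530)) (.leaf (1355, 14436))) (.node (.leaf (806, 8088)) (.leaf (0, 0))))) (.node (.node (.node (.leaf (166, 1436)) (.leaf (1190, 12400))) (.node (.leaf (308, 7298)) (.leaf (0, 0)))) (.node (.node (.leaf (392, 5088)) (.leaf (1351, 15182))) (.node (.leaf (934, 9140)) (.leaf (0, 0)))))) (.node (.node (.node (.node (.leaf (102, 982)) (.leaf (598, 11692))) (.node (.leaf (1175, 12278)) (.leaf (0, 0)))) (.node (.node (.leaf (992, 9704)) (.leaf (1459, 15362))) (.node (.leaf (870, 8616)) (.leaf (0, 0))))) (.node (.node (.node (.leaf (429, 5113)) (.leaf (1254, 13086))) (.node (.leaf (742, 7664)) (.leaf (0, 0)))) (.node (.node (.leaf (1219, 12674)) (.leaf (0, 0))) (.node (.leaf (998, 9768)) (.leaf (0, 0)))))))) (.node (.node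 (.node (.node (.node (.node (.leaf (115, 1044)) (.leaf (1046, 10328))) (.node (.leaf (835, 8318)) (.leaf (0, 0)))) (.node (.node (.leaf (893, 8838)) (.leaf (1430, 14994))) (.node (.leaf (386, 7964)) (.leaf (0, 0))))) (.node (.node (.node (.leaf (150, 1266)) (.leaf (1174, 12260))) (.node (.leaf (662, 7200)) (.leaf (0, 0)))) (.node (.node (.leaf (700, 7452)) (.leaf (1412, 14980))) (.node (.leaf (281, 9024)) (.leaf (0, 0)))))) (.node (.node (.node (.node (.leaf (86, 798)) (.leaf (1110, 11466))) (.node (.leaf (665, 7216)) (.leaf (0, 0)))) (.node (.node (.leaf (1030, 10118)) (.leaf (1434, 15047))) (.node (.leaf (256, 8444)) (.leaf (0, 0))))) (.node (.node (.node (.leaf (729, 7612)) (.leaf (1238, 12910))) (.node (.leaf (726, 7604)) (.leaf (0, 0)))) (.node (.node (.leaf (1097, 10846)) (.leaf (0, 0))) (.node (.leaf (982, 9588)) (.leaf (0, 0))))))) (.node (.node (.node (.node (.node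 (.leaf (54, 532)) (.leaf (377, 10626))) (.node (.leaf (1237, 12902)) (.leaf (0, 0)))) (.node (.node (.leaf (261, 2507)) (.leaf (1311, 13959))) (.node (.leaf (471, 8197)) (.leaf (0, 0))))) (.node (.node (.node (.leaf (499, 4939)) (.leaf (1206, 12536))) (.node (.leaf (694, 7404)) (.leaf (0, 0)))) (.node (.node (.leaf (576, 5837)) (.leaf (1448, 15389))) (.node (.leaf (950, 9262)) (.leaf (0, 0)))))) (.node (.node (.node (.node (.leaf (118, 1052)) (.leaf (1142, 11922))) (.node (.leaf (630, 7032)) (.leaf (0, 0)))) (.node (.node (.leaf (651, 7138)) (.leaf (1323, 14586))) (.node (.leaf (346, 8768)) (.leaf (0, 0))))) (.node (.node (.node (.leaf (833, 8288)) (.leaf (541, 13296))) (.node (.leaf (758, 7738)) (.leaf (0, 0)))) (.node (.node (.leaf (1138, 11864)) (.leaf (0, 0))) (.node (.leaf (1014, 9928)) (.leaf (0, 0)))))))))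

def edge24 : Arr (ℕ × ℕ) :=
  (.node (.node (.node (.node (.node (.node (.node (.leaf (6, 67)) (.leaf (1010, 10120))) (.node (.leaf (501, 5156)) (.leaf (0, 0)))) (.node (.node (.leaf (353, 3833)) (.leaf (1248, 13526))) (.node (.leaf (971, 9485)) (.leaf (0, 0))))) (.node (.node (.node (.leaf (104, 1124)) (.leaf (1254, 13094))) (.node (.leaf (625, 8627)) (.leaf (0, 0)))) (.node (.node (.leaf (414, 4301)) (.leaf (1384, 14782))) (.node (.leaf (999, 9784)) (.leaf (0, 0)))))) (.node (.node (.node (.node (.leaf (88, 825)) (.leaf (645, 10792))) (.node (.leaf (423, 5920)) (.leaf (0, 0)))) (.node (.node (.leaf (274, 2897)) (.leaf (1317, 14813))) (.node (.leaf (898, 8879)) (.leaf (0, 0))))) (.node (.node (.node (.leaf (328, 2488)) (.leaf (1209, 12740))) (.node (.leaf (674, 7518)) (.leaf (0, 0)))) (.node (.node (.leaf (574, 5764)) (.leaf (0, 0))) (.node (.leaf (793, 9416)) (.leaf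 (0, 0))))))) (.node (.node (.node (.node (.node (.leaf (86, 803)) (.leaf (981, 10454))) (.node (.leaf (503, 6128)) (.leaf (0, 0)))) (.node (.node (.leaf (197, 3941)) (.leaf (1452, 15273))) (.node (.leaf (1008, 9871)) (.leaf (0, 0))))) (.node (.node (.node (.leaf (142, 1440)) (.leaf (1206, 12544))) (.node (.leaf (989, 9665)) (.leaf (0, 0)))) (.node (.node (.leaf (615, 6669)) (.leaf (1400, 15190))) (.node (.leaf (804, 9144)) (.leaf (0, 0)))))) (.node (.node (.node (.node (.leaf (60, 986)) (.leaf (823, 11716))) (.node (.leaf (580, 6652)) (.leaf (0, 0)))) (.node (.node (.leaf (384, 3517)) (.leaf (1406, 14693))) (.node (.leaf (643, 8625)) (.leaf (0, 0))))) (.node (.node (.node (.leaf (255, 2865)) (.leaf (1158, 13095))) (.node (.leaf (1033, 10157)) (.leaf (0, 0)))) (.node (.node (.leaf (567, 6397)) (.leaf (0, 0))) (.node (.leaf (1018, 9999)) (.leaf (0, 0)))))))) (.node (.node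 (.node (.node (.node (.node (.leaf (22, 249)) (.leaf (954, 10333))) (.node (.leaf (537, 5338)) (.leaf (0, 0)))) (.node (.node (.leaf (213, 2088)) (.leaf (1398, 14601))) (.node (.leaf (991, 9691)) (.leaf (0, 0))))) (.node (.node (.node (.leaf (114, 1273)) (.leaf (1284, 13495))) (.node (.leaf (1084, 10694)) (.leaf (0, 0)))) (.node (.node (.leaf (324, 4006)) (.leaf (1402, 14990))) (.node (.leaf (1098, 10881)) (.leaf (0, 0)))))) (.node (.node (.node (.node (.leaf (38, 802)) (.leaf (1072, 11470))) (.node (.leaf (595, 6295)) (.leaf (0, 0)))) (.node (.node (.leaf (282, 2712)) (.leaf (1316, 14187))) (.node (.leaf (766, 8460)) (.leaf (0, 0))))) (.node (.node (.node (.leaf (277, 2085)) (.leaf (1261, 13189))) (.node (.leaf (845, 8382)) (.leaf (0, 0)))) (.node (.node (.leaf (459, 4679)) (.leaf (0, 0))) (.node (.leaf (869, 9598)) (.leaf (0, 0))))))) (.node (.node (.node (.node (.node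 (.leaf (36, 539)) (.leaf (866, 10636))) (.node (.leaf (487, 5682)) (.leaf (0, 0)))) (.node (.node (.leaf (327, 4367)) (.leaf (1412, 14759))) (.node (.leaf (753, 8187)) (.leaf (0, 0))))) (.node (.node (.node (.leaf (402, 3909)) (.leaf (1190, 12545))) (.node (.leaf (713, 7544)) (.leaf (0, 0)))) (.node (.node (.leaf (576, 5821)) (.leaf (1428, 15400))) (.node (.leaf (955, 9304)) (.leaf (0, 0)))))) (.node (.node (.node (.node (.leaf (160, 1367)) (.leaf (819, 11926))) (.node (.leaf (1148, 12021)) (.leaf (0, 0)))) (.node (.node (.leaf (202, 3092)) (.leaf (1302, 14600))) (.node (.leaf (669, 8778)) (.leaf (0, 0))))) (.node (.node (.node (.leaf (409, 4081)) (.leaf (1181, 13304))) (.node (.leaf (842, 8346)) (.leaf (0, 0)))) (.node (.node (.leaf (594, 6117)) (.leaf (0, 0))) (.node (.leaf (912, 9939)) (.leaf (0, 0)))))))))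

def edge25 : Arr (ℕ × ℕ) :=
  (.node (.node (.node (.node (.node (.node (.node (.leaf (25, 265)) (.leaf (1089, 11016))) (.node (.leaf (457, 6743)) (.leaf (0, 0)))) (.node (.node (.leaf (262, 1903)) (.leaf (988, 13533))) (.node (.leaf (689, 10488)) (.leaf (0, 0))))) (.node (.node (.node (.leaf (163, 4744)) (.leaf (1167, 12467))) (.node (.leaf (994, 10939)) (.leaf (0, 0)))) (.node (.node (.leaf (390, 3625)) (.leaf (1090, 14787))) (.node (.leaf (1417, 14826)) (.leaf (0, 0)))))) (.node (.node (.node (.node (.leaf (351, 2771)) (.leaf (838, 11024))) (.node (.leaf (583, 5930)) (.leaf (0, 0)))) (.node (.node (.leaf (325, 2451)) (.leaf (1452, 15265))) (.node (.leaf (1094, 11025)) (.leaf (0, 0))))) (.node (.node (.node (.leaf (33, 1607)) (.leaf (779, 12739))) (.node (.leaf (1202, 12508)) (.leaf (0, 0)))) (.node (.node (.leaf (171, 4638)) (.leaf (0, 0))) (.node (.leaf (1454, 15303))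 (.leaf (0, 0))))))) (.node (.node (.node (.node (.node (.leaf (239, 1788)) (.leaf (631, 11258))) (.node (.leaf (594, 6130)) (.leaf (0, 0)))) (.node (.node (.leaf (293, 2169)) (.leaf (1317, 13795))) (.node (.leaf (688, 11099)) (.leaf (0, 0))))) (.node (.node (.node (.leaf (487, 4883)) (.leaf (635, 12409))) (.node (.leaf (639, 10955)) (.leaf (0, 0)))) (.node (.node (.leaf (170, 4440)) (.leaf (1207, 15185))) (.node (.leaf (1146, 12002)) (.leaf (0, 0)))))) (.node (.node (.node (.node (.leaf (205, 1625)) (.leaf (657, 11721))) (.node (.leaf (580, 6640)) (.leaf (0, 0)))) (.node (.node (.leaf (255, 2867)) (.leaf (878, 14364))) (.node (.leaf (1033, 10933)) (.leaf (0, 0))))) (.node (.node (.node (.leaf (384, 3508)) (.leaf (1183, 13093))) (.node (.leaf (643, 10937)) (.leaf (0, 0)))) (.node (.node (.leaf (539, 5349)) (.leaf (0, 0))) (.node (.leaf (1290, 13600)) (.leaf (0, 0))))))))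 (.node (.node (.node (.node (.node (.node (.leaf (23, 250)) (.leaf (1160, 12140))) (.node (.leaf (120, 5291)) (.leaf (0, 0)))) (.node (.node (.leaf (277, 2087)) (.leaf (879, 13688))) (.node (.leaf (807, 8532)) (.leaf (0, 0))))) (.node (.node (.node (.leaf (509, 4981)) (.leaf (908, 12265))) (.node (.leaf (1083, 11059)) (.leaf (0, 0)))) (.node (.node (.leaf (376, 4013)) (.leaf (692, 14987))) (.node (.leaf (837, 9973)) (.leaf (0, 0)))))) (.node (.node (.node (.node (.leaf (283, 2101)) (.leaf (805, 11479))) (.node (.leaf (156, 6290)) (.leaf (0, 0)))) (.node (.node (.leaf (217, 3489)) (.leaf (939, 14182))) (.node (.leaf (1097, 10863)) (.leaf (0, 0))))) (.node (.node (.node (.leaf (213, 1649)) (.leaf (894, 12915))) (.node (.leaf (1292, 13620)) (.leaf (0, 0)))) (.node (.node (.leaf (126, 4676)) (.leaf (0, 0))) (.node (.leaf (783, 11191)) (.leaf (0, 0))))))) (.node (.node (.node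 (.node (.node (.leaf (231, 1745)) (.leaf (1315, 13773))) (.node (.leaf (142, 5680)) (.leaf (0, 0)))) (.node (.node (.leaf (207, 2319)) (.leaf (1335, 13904))) (.node (.leaf (1337, 13917)) (.leaf (0, 0))))) (.node (.node (.node (.leaf (98, 1564)) (.leaf (801, 12546))) (.node (.leaf (1433, 15028)) (.leaf (0, 0)))) (.node (.node (.leaf (174, 4508)) (.leaf (1461, 15395))) (.node (.leaf (782, 11171)) (.leaf (0, 0)))))) (.node (.node (.node (.node (.leaf (522, 5162)) (.leaf (1230, 12830))) (.node (.leaf (1192, 12420)) (.leaf (0, 0)))) (.node (.node (.leaf (373, 3089)) (.leaf (797, 14592))) (.node (.leaf (1352, 14057)) (.leaf (0, 0))))) (.node (.node (.node (.leaf (246, 3161)) (.leaf (852, 13312))) (.node (.leaf (1036, 11223)) (.leaf (0, 0)))) (.node (.node (.leaf (503, 4954)) (.leaf (0, 0))) (.node (.leaf (1390, 14470)) (.leaf (0, 0)))))))))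

def edge26 : Arr (ℕ × ℕ) :=
  (.node (.node (.node (.node (.node (.node (.node (.leaf (3, 70)) (.leaf (811, 10127))) (.node (.leaf (594, 6124)) (.leaf (0, 0)))) (.node (.node (.leaf (175, 1904)) (.leaf (1232, 13530))) (.node (.leaf (778, 7871)) (.leaf (0, 0))))) (.node (.node (.node (.leaf (139, 1189)) (.leaf (1222, 12735))) (.node (.leaf (952, 9277)) (.leaf (0, 0)))) (.node (.node (.leaf (364, 3622)) (.leaf (1309, 14784))) (.node (.leaf (905, 8925)) (.leaf (0, 0)))))) (.node (.node (.node (.node (.leaf (56, 658)) (.leaf (1070, 10796))) (.node (.leaf (605, 6412)) (.leaf (0, 0)))) (.node (.node (.leaf (204, 2452)) (.leaf (1430, 14997))) (.node (.leaf (1028, 10099)) (.leaf (0, 0))))) (.node (.node (.node (.leaf (199, 1610)) (.leaf (1155, 12736))) (.node (.leaf (965, 9405)) (.leaf (0, 0)))) (.node (.node (.leaf (573, 6728)) (.leaf (0, 0))) (.node (.leaf (887, 9420)) (.leaf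 (0, 0))))))) (.node (.node (.node (.node (.node (.leaf (97, 929)) (.leaf (1104, 11375))) (.node (.leaf (521, 6503)) (.leaf (0, 0)))) (.node (.node (.leaf (295, 2170)) (.leaf (1319, 13796))) (.node (.leaf (755, 8090)) (.leaf (0, 0))))) (.node (.node (.node (.leaf (116, 1444)) (.leaf (1257, 13129))) (.node (.leaf (705, 7479)) (.leaf (0, 0)))) (.node (.node (.leaf (486, 4876)) (.leaf (1435, 15186))) (.node (.leaf (995, 9747)) (.leaf (0, 0)))))) (.node (.node (.node (.node (.leaf (33, 990)) (.leaf (1133, 11803))) (.node (.leaf (540, 6634)) (.leaf (0, 0)))) (.node (.node (.leaf (222, 2854)) (.leaf (1341, 14368))) (.node (.leaf (625, 8620)) (.leaf (0, 0))))) (.node (.node (.node (.leaf (339, 3236)) (.leaf (1209, 13090))) (.node (.leaf (748, 7703)) (.leaf (0, 0)))) (.node (.node (.leaf (421, 4878)) (.leaf (0, 0))) (.node (.leaf (1004, 9829)) (.leaf (0, 0)))))))) (.node (.node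 (.node (.node (.node (.node (.leaf (29, 385)) (.leaf (1050, 10357))) (.node (.leaf (435, 5295)) (.leaf (0, 0)))) (.node (.node (.leaf (279, 2090)) (.leaf (1331, 13876))) (.node (.leaf (701, 7972)) (.leaf (0, 0))))) (.node (.node (.node (.leaf (159, 1359)) (.leaf (1266, 13253))) (.node (.leaf (953, 9289)) (.leaf (0, 0)))) (.node (.node (.leaf (360, 4002)) (.leaf (1366, 14988))) (.node (.leaf (926, 9085)) (.leaf (0, 0)))))) (.node (.node (.node (.node (.leaf (43, 806)) (.leaf (1081, 11474))) (.node (.leaf (475, 6304)) (.leaf (0, 0)))) (.node (.node (.leaf (239, 2695)) (.leaf (1350, 14809))) (.node (.leaf (969, 9461)) (.leaf (0, 0))))) (.node (.node (.node (.leaf (215, 1650)) (.leaf (1288, 13557))) (.node (.leaf (732, 7629)) (.leaf (0, 0)))) (.node (.node (.leaf (554, 5574)) (.leaf (0, 0))) (.node (.leaf (988, 9629)) (.leaf (0, 0))))))) (.node (.node (.node (.node (.node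 (.leaf (87, 815)) (.leaf (1086, 10705))) (.node (.leaf (603, 6372)) (.leaf (0, 0)))) (.node (.node (.leaf (275, 2324)) (.leaf (1432, 15016))) (.node (.leaf (825, 8223)) (.leaf (0, 0))))) (.node (.node (.node (.leaf (263, 1932)) (.leaf (1213, 12591))) (.node (.leaf (794, 8007)) (.leaf (0, 0)))) (.node (.node (.leaf (543, 5404)) (.leaf (1370, 15396))) (.node (.leaf (642, 9266)) (.leaf (0, 0)))))) (.node (.node (.node (.node (.leaf (122, 1071)) (.leaf (1126, 11930))) (.node (.leaf (869, 8613)) (.leaf (0, 0)))) (.node (.node (.leaf (273, 3133)) (.leaf (1329, 14594))) (.node (.leaf (710, 8780)) (.leaf (0, 0))))) (.node (.node (.node (.leaf (340, 3162)) (.leaf (1194, 13315))) (.node (.leaf (1037, 10245)) (.leaf (0, 0)))) (.node (.node (.leaf (547, 5490)) (.leaf (0, 0))) (.node (.leaf (890, 9932)) (.leaf (0, 0)))))))))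

def edge27 : Arr (ℕ × ℕ) :=
  (.node (.node (.node (.node (.node (.node (.node (.leaf (0, 74)) (.leaf (1031, 10128))) (.node (.leaf (997, 9760)) (.leaf (0, 0)))) (.node (.node (.leaf (866, 8590)) (.leaf (1287, 13534))) (.node (.leaf (775, 7840)) (.leaf (0, 0))))) (.node (.node (.node (.leaf (135, 1140)) (.leaf (1159, 12130))) (.node (.leaf (647, 7098)) (.leaf (0, 0)))) (.node (.node (.leaf (1113, 11520)) (.leaf (1457, 15336))) (.node (.leaf (278, 8908)) (.leaf (0, 0)))))) (.node (.node (.node (.node (.leaf (71, 662)) (.leaf (1095, 10798))) (.node (.leaf (195, 5918)) (.leaf (0, 0)))) (.node (.node (.leaf (235, 3371)) (.leaf (1392, 14810))) (.node (.leaf (839, 8334)) (.leaf (0, 0))))) (.node (.node (.node (.leaf (699, 7448)) (.leaf (1223, 12744))) (.node (.leaf (207, 7520)) (.leaf (0, 0)))) (.node (.node (.leaf (716, 7596)) (.leaf (0, 0))) (.node (.leaf (519, 9422)) (.leaf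 (0, 0))))))) (.node (.node (.node (.node (.node (.leaf (39, 470)) (.leaf (1063, 10460))) (.node (.leaf (1017, 9982)) (.leaf (0, 0)))) (.node (.node (.leaf (886, 8774)) (.leaf (1308, 14029))) (.node (.leaf (807, 8092)) (.leaf (0, 0))))) (.node (.node (.node (.leaf (167, 1448)) (.leaf (497, 12405))) (.node (.leaf (679, 7310)) (.leaf (0, 0)))) (.node (.node (.leaf (298, 5087)) (.leaf (1383, 15196))) (.node (.leaf (935, 9146)) (.leaf (0, 0)))))) (.node (.node (.node (.node (.leaf (18, 992)) (.leaf (1127, 11724))) (.node (.leaf (1207, 12550)) (.leaf (0, 0)))) (.node (.node (.leaf (357, 3256)) (.leaf (1301, 14370))) (.node (.leaf (262, 8622)) (.leaf (0, 0))))) (.node (.node (.node (.leaf (229, 2073)) (.leaf (1255, 13098))) (.node (.leaf (743, 7668)) (.leaf (0, 0)))) (.node (.node (.leaf (994, 9728)) (.leaf (0, 0))) (.node (.leaf (999, 9776)) (.leaf (0, 0)))))))) (.node (.node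 (.node (.node (.node (.node (.leaf (121, 1060)) (.leaf (1047, 10334))) (.node (.leaf (1270, 13302)) (.leaf (0, 0)))) (.node (.node (.leaf (898, 8874)) (.leaf (1401, 14644))) (.node (.leaf (426, 7974)) (.leaf (0, 0))))) (.node (.node (.node (.leaf (26, 1270)) (.leaf (613, 12281))) (.node (.leaf (663, 7202)) (.leaf (0, 0)))) (.node (.node (.leaf (322, 4021)) (.leaf (1318, 14998))) (.node (.leaf (919, 9032)) (.leaf (0, 0)))))) (.node (.node (.node (.node (.leaf (87, 808)) (.leaf (1111, 11486))) (.node (.leaf (397, 6292)) (.leaf (0, 0)))) (.node (.node (.leaf (1035, 10212)) (.leaf (1413, 14772))) (.node (.leaf (381, 8464)) (.leaf (0, 0))))) (.node (.node (.node (.leaf (734, 7638)) (.leaf (1239, 12916))) (.node (.leaf (727, 7606)) (.leaf (0, 0)))) (.node (.node (.leaf (1087, 10712)) (.leaf (0, 0))) (.node (.leaf (983, 9590)) (.leaf (0, 0))))))) (.node (.node (.node (.node (.node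 (.leaf (10, 536)) (.leaf (1079, 10640))) (.node (.leaf (1288, 13550)) (.leaf (0, 0)))) (.node (.node (.leaf (410, 4096)) (.leaf (1398, 14599))) (.node (.leaf (242, 8184)) (.leaf (0, 0))))) (.node (.node (.node (.leaf (299, 3354)) (.leaf (614, 12543))) (.node (.leaf (273, 7417)) (.leaf (0, 0)))) (.node (.node (.leaf (511, 5007)) (.leaf (1437, 15406))) (.node (.leaf (951, 9268)) (.leaf (0, 0)))))) (.node (.node (.node (.node (.leaf (119, 1054)) (.leaf (1143, 11934))) (.node (.leaf (631, 7036)) (.leaf (0, 0)))) (.node (.node (.leaf (394, 3697)) (.leaf (1324, 14603))) (.node (.leaf (887, 8784)) (.leaf (0, 0))))) (.node (.node (.node (.leaf (838, 8332)) (.leaf (584, 13308))) (.node (.leaf (218, 7740)) (.leaf (0, 0)))) (.node (.node (.leaf (947, 9238)) (.leaf (0, 0))) (.node (.leaf (332, 9934)) (.leaf (0, 0)))))))))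

def edge28 : Arr (ℕ × ℕ) :=
  (.node (.node (.node (.node (.node (.node (.node (.leaf (7, 81)) (.leaf (909, 10132))) (.node (.leaf (551, 5723)) (.leaf (0, 0)))) (.node (.node (.leaf (352, 3603)) (.leaf (1199, 13538))) (.node (.leaf (679, 7845)) (.leaf (0, 0))))) (.node (.node (.node (.leaf (105, 1144)) (.leaf (1240, 12926))) (.node (.leaf (1106, 11407)) (.leaf (0, 0)))) (.node (.node (.leaf (259, 3637)) (.leaf (1427, 14950))) (.node (.leaf (1035, 10217)) (.leaf (0, 0)))))) (.node (.node (.node (.node (.leaf (41, 671)) (.leaf (1090, 10802))) (.node (.leaf (538, 5934)) (.leaf (0, 0)))) (.node (.node (.leaf (310, 4366)) (.leaf (1388, 14446))) (.node (.leaf (996, 9755)) (.leaf (0, 0))))) (.node (.node (.node (.leaf (269, 2496)) (.leaf (1165, 12755))) (.node (.leaf (850, 8419)) (.leaf (0, 0)))) (.node (.node (.leaf (448, 6754)) (.leaf (0, 0))) (.node (.leaf (787, 9434)) (.leaf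 (0, 0))))))) (.node (.node (.node (.node (.node (.leaf (87, 813)) (.leaf (1053, 10464))) (.node (.leaf (519, 5722)) (.leaf (0, 0)))) (.node (.node (.leaf (196, 4329)) (.leaf (1368, 14206))) (.node (.leaf (847, 8368)) (.leaf (0, 0))))) (.node (.node (.node (.leaf (149, 1452)) (.leaf (1215, 12621))) (.node (.leaf (775, 7844)) (.leaf (0, 0)))) (.node (.node (.leaf (582, 5921)) (.leaf (1404, 15205))) (.node (.leaf (925, 9150)) (.leaf (0, 0)))))) (.node (.node (.node (.node (.leaf (151, 1279)) (.leaf (735, 11728))) (.node (.leaf (422, 6668)) (.leaf (0, 0)))) (.node (.node (.leaf (205, 2882)) (.leaf (1308, 14384))) (.node (.leaf (799, 8632)) (.leaf (0, 0))))) (.node (.node (.node (.leaf (220, 1747)) (.leaf (1293, 13627))) (.node (.leaf (837, 8310)) (.leaf (0, 0)))) (.node (.node (.leaf (566, 5683)) (.leaf (0, 0))) (.node (.leaf (902, 9785)) (.leaf (0, 0)))))))) (.node (.node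 (.node (.node (.node (.node (.leaf (23, 253)) (.leaf (1057, 10420))) (.node (.leaf (490, 5373)) (.leaf (0, 0)))) (.node (.node (.leaf (383, 3437)) (.leaf (1385, 14403))) (.node (.leaf (634, 7980)) (.leaf (0, 0))))) (.node (.node (.node (.leaf (103, 1278)) (.leaf (1170, 12275))) (.node (.leaf (986, 9614)) (.leaf (0, 0)))) (.node (.node (.leaf (241, 4042)) (.leaf (1324, 15007))) (.node (.leaf (1026, 10081)) (.leaf (0, 0)))))) (.node (.node (.node (.node (.leaf (39, 812)) (.leaf (951, 11490))) (.node (.leaf (575, 6322)) (.leaf (0, 0)))) (.node (.node (.leaf (396, 3733)) (.leaf (1373, 14274))) (.node (.leaf (782, 8468)) (.leaf (0, 0))))) (.node (.node (.node (.leaf (332, 2549)) (.leaf (1292, 13615))) (.node (.leaf (926, 9097)) (.leaf (0, 0)))) (.node (.node (.leaf (531, 5246)) (.leaf (0, 0))) (.node (.leaf (878, 9595)) (.leaf (0, 0))))))) (.node (.node (.node (.node (.node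 (.leaf (91, 863)) (.leaf (640, 10644))) (.node (.leaf (486, 6396)) (.leaf (0, 0)))) (.node (.node (.leaf (308, 2335)) (.leaf (1413, 14767))) (.node (.leaf (1126, 11717)) (.leaf (0, 0))))) (.node (.node (.node (.leaf (365, 2983)) (.leaf (1231, 12841))) (.node (.leaf (778, 7869)) (.leaf (0, 0)))) (.node (.node (.leaf (591, 6058)) (.leaf (0, 0))) (.node (.leaf (1111, 11491)) (.leaf (0, 0)))))) (.node (.node (.node (.node (.leaf (173, 1527)) (.leaf (940, 11938))) (.node (.leaf (1058, 10417)) (.leaf (0, 0)))) (.node (.node (.leaf (204, 3122)) (.leaf (1332, 14614))) (.node (.leaf (667, 8788)) (.leaf (0, 0))))) (.node (.node (.node (.leaf (284, 4167)) (.leaf (1166, 13318))) (.node (.leaf (908, 8945)) (.leaf (0, 0)))) (.node (.node (.leaf (550, 6129)) (.leaf (0, 0))) (.node (.leaf (714, 9946)) (.leaf (0, 0)))))))))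

def edge29 : Arr (ℕ × ℕ) :=
  (.node (.node (.node (.node (.node (.node (.node (.leaf (1, 77)) (.leaf (943, 10200))) (.node (.leaf (456, 5465)) (.leaf (0, 0)))) (.node (.node (.leaf (313, 2355)) (.leaf (705, 13548))) (.node (.leaf (1333, 13898)) (.leaf (0, 0))))) (.node (.node (.node (.leaf (545, 5429)) (.leaf (1026, 12148))) (.node (.leaf (1249, 13038)) (.leaf (0, 0)))) (.node (.node (.leaf (76, 3632)) (.leaf (680, 14791))) (.node (.leaf (1374, 14276)) (.leaf (0, 0)))))) (.node (.node (.node (.node (.leaf (362, 2923)) (.leaf (1384, 14391))) (.node (.leaf (582, 5931)) (.leaf (0, 0)))) (.node (.node (.leaf (377, 4373)) (.leaf (1188, 14052))) (.node (.leaf (940, 11116)) (.leaf (0, 0))))) (.node (.node (.node (.leaf (200, 1612)) (.leaf (964, 12756))) (.node (.leaf (791, 10952)) (.leaf (0, 0)))) (.node (.node (.leaf (609, 6756)) (.leaf (0, 0))) (.node (.leaf (1277, 13408))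 (.leaf (0, 0))))))) (.node (.node (.node (.node (.node (.leaf (248, 1834)) (.leaf (907, 10503))) (.node (.leaf (571, 5724)) (.leaf (0, 0)))) (.node (.node (.leaf (295, 2183)) (.leaf (865, 13798))) (.node (.leaf (790, 8533)) (.leaf (0, 0))))) (.node (.node (.node (.leaf (498, 4927)) (.leaf (687, 12635))) (.node (.leaf (1411, 14744)) (.leaf (0, 0)))) (.node (.node (.leaf (538, 5340)) (.leaf (728, 15211))) (.node (.leaf (765, 11167)) (.leaf (0, 0)))))) (.node (.node (.node (.node (.leaf (415, 4424)) (.leaf (951, 11731))) (.node (.leaf (158, 6662)) (.leaf (0, 0)))) (.node (.node (.leaf (60, 2881)) (.leaf (911, 14380))) (.node (.leaf (1016, 9971)) (.leaf (0, 0))))) (.node (.node (.node (.leaf (54, 1744)) (.leaf (937, 13111))) (.node (.leaf (1098, 10888)) (.leaf (0, 0)))) (.node (.node (.leaf (166, 4882)) (.leaf (0, 0))) (.node (.leaf (1434, 15041)) (.leaf (0, 0)))))))) (.node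 (.node (.node (.node (.node (.node (.leaf (22, 251)) (.leaf (1194, 12463))) (.node (.leaf (495, 5303)) (.leaf (0, 0)))) (.node (.node (.leaf (280, 2092)) (.leaf (1091, 13694))) (.node (.leaf (711, 10953)) (.leaf (0, 0))))) (.node (.node (.node (.leaf (587, 5971)) (.leaf (1081, 12285))) (.node (.leaf (1381, 14350)) (.leaf (0, 0)))) (.node (.node (.leaf (286, 4185)) (.leaf (1436, 15063))) (.node (.leaf (1240, 12929)) (.leaf (0, 0)))))) (.node (.node (.node (.node (.leaf (305, 2229)) (.leaf (735, 11497))) (.node (.leaf (469, 6315)) (.leaf (0, 0)))) (.node (.node (.leaf (68, 2688)) (.leaf (741, 14192))) (.node (.leaf (955, 11181)) (.leaf (0, 0))))) (.node (.node (.node (.leaf (215, 1663)) (.leaf (845, 12921))) (.node (.leaf (1129, 11744)) (.leaf (0, 0)))) (.node (.node (.leaf (111, 4777)) (.leaf (0, 0))) (.node (.leaf (1406, 14687)) (.leaf (0, 0))))))) (.node (.node (.node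 (.node (.node (.leaf (340, 2664)) (.leaf (844, 11055))) (.node (.leaf (584, 6398)) (.leaf (0, 0)))) (.node (.node (.leaf (96, 2332)) (.leaf (1334, 13905))) (.node (.leaf (654, 11447)) (.leaf (0, 0))))) (.node (.node (.node (.leaf (312, 2362)) (.leaf (1446, 15184))) (.node (.leaf (1332, 13893)) (.leaf (0, 0)))) (.node (.node (.leaf (541, 5412)) (.leaf (0, 0))) (.node (.leaf (1127, 11730)) (.leaf (0, 0)))))) (.node (.node (.node (.node (.leaf (526, 5220)) (.leaf (996, 11949))) (.node (.leaf (1062, 11259)) (.leaf (0, 0)))) (.node (.node (.leaf (273, 3129)) (.leaf (778, 14610))) (.node (.leaf (816, 10186)) (.leaf (0, 0))))) (.node (.node (.node (.leaf (341, 3448)) (.leaf (828, 13327))) (.node (.leaf (1284, 13505)) (.leaf (0, 0)))) (.node (.node (.leaf (502, 4955)) (.leaf (0, 0))) (.node (.leaf (1211, 12713)) (.leaf (0, 0)))))))))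

def edge30 : Arr (ℕ × ℕ) :=
  (.node (.node (.node (.node (.node (.node (.node (.leaf (8, 82)) (.leaf (808, 10136))) (.node (.leaf (509, 5149)) (.leaf (0, 0)))) (.node (.node (.leaf (181, 1934)) (.leaf (1235, 13542))) (.node (.leaf (776, 7853)) (.leaf (0, 0))))) (.node (.node (.node (.leaf (143, 1219)) (.leaf (1220, 12693))) (.node (.leaf (949, 9257)) (.leaf (0, 0)))) (.node (.node (.leaf (348, 3640)) (.leaf (1416, 14798))) (.node (.leaf (1008, 9873)) (.leaf (0, 0)))))) (.node (.node (.node (.node (.leaf (60, 666)) (.leaf (1074, 10806))) (.node (.leaf (584, 5938)) (.leaf (0, 0)))) (.node (.node (.leaf (392, 4360)) (.leaf (1452, 15262))) (.node (.leaf (1025, 10071)) (.leaf (0, 0))))) (.node (.node (.node (.leaf (271, 1964)) (.leaf (1153, 12750))) (.node (.leaf (977, 9561)) (.leaf (0, 0)))) (.node (.node (.leaf (610, 6758)) (.leaf (0, 0))) (.node (.leaf (852, 9443)) (.leaf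 (0, 0))))))) (.node (.node (.node (.node (.node (.leaf (101, 977)) (.leaf (1107, 11421))) (.node (.leaf (499, 5726)) (.leaf (0, 0)))) (.node (.node (.leaf (296, 2184)) (.leaf (1388, 14455))) (.node (.leaf (758, 8103)) (.leaf (0, 0))))) (.node (.node (.node (.leaf (120, 1456)) (.leaf (1258, 13147))) (.node (.leaf (706, 7487)) (.leaf (0, 0)))) (.node (.node (.leaf (622, 6988)) (.leaf (1451, 15250))) (.node (.leaf (998, 9773)) (.leaf (0, 0)))))) (.node (.node (.node (.node (.leaf (112, 1031)) (.leaf (1131, 11771))) (.node (.leaf (567, 6664)) (.leaf (0, 0)))) (.node (.node (.leaf (274, 2892)) (.leaf (1335, 14382))) (.node (.leaf (650, 8641)) (.leaf (0, 0))))) (.node (.node (.node (.leaf (335, 2572)) (.leaf (1212, 13102))) (.node (.leaf (746, 7689)) (.leaf (0, 0)))) (.node (.node (.leaf (425, 5354)) (.leaf (0, 0))) (.node (.leaf (1002, 9807)) (.leaf (0, 0)))))))) (.node (.node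 (.node (.node (.node (.node (.leaf (24, 254)) (.leaf (1053, 10387))) (.node (.leaf (433, 5300)) (.leaf (0, 0)))) (.node (.node (.leaf (331, 2537)) (.leaf (1345, 14002))) (.node (.leaf (668, 7984)) (.leaf (0, 0))))) (.node (.node (.node (.leaf (148, 1283)) (.leaf (1267, 13265))) (.node (.leaf (957, 9321)) (.leaf (0, 0)))) (.node (.node (.leaf (408, 4046)) (.leaf (1348, 15011))) (.node (.leaf (923, 9061)) (.leaf (0, 0)))))) (.node (.node (.node (.node (.leaf (47, 816)) (.leaf (1079, 11494))) (.node (.leaf (555, 6316)) (.leaf (0, 0)))) (.node (.node (.leaf (245, 3467)) (.leaf (1455, 15304))) (.node (.leaf (967, 9437)) (.leaf (0, 0))))) (.node (.node (.node (.leaf (216, 1664)) (.leaf (1286, 13529))) (.node (.leaf (730, 7619)) (.leaf (0, 0)))) (.node (.node (.leaf (472, 4782)) (.leaf (0, 0))) (.node (.leaf (986, 9611)) (.leaf (0, 0))))))) (.node (.node (.node (.node (.node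 (.leaf (64, 607)) (.leaf (1083, 10685))) (.node (.leaf (585, 6400)) (.leaf (0, 0)))) (.node (.node (.leaf (374, 3096)) (.leaf (1336, 13906))) (.node (.leaf (761, 8212)) (.leaf (0, 0))))) (.node (.node (.node (.leaf (414, 4292)) (.leaf (1214, 12607))) (.node (.leaf (795, 8011)) (.leaf (0, 0)))) (.node (.node (.leaf (614, 6630)) (.leaf (0, 0))) (.node (.leaf (640, 9272)) (.leaf (0, 0)))))) (.node (.node (.node (.node (.leaf (126, 1087)) (.leaf (1130, 11942))) (.node (.leaf (867, 8599)) (.leaf (0, 0)))) (.node (.node (.leaf (359, 3116)) (.leaf (1385, 14612))) (.node (.leaf (708, 8790)) (.leaf (0, 0))))) (.node (.node (.node (.leaf (246, 3450)) (.leaf (1195, 13322))) (.node (.leaf (821, 8175)) (.leaf (0, 0)))) (.node (.node (.leaf (504, 4956)) (.leaf (0, 0))) (.node (.leaf (921, 9953)) (.leaf (0, 0)))))))))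

def edge31 : Arr (ℕ × ℕ) :=
  (.node (.node (.node (.node (.node (.node (.node (.leaf (31, 444)) (.leaf (618, 10138))) (.node (.leaf (362, 5152)) (.leaf (0, 0)))) (.node (.node (.leaf (871, 8630)) (.leaf (566, 13544))) (.node (.leaf (224, 7842)) (.leaf (0, 0))))) (.node (.node (.node (.leaf (136, 1154)) (.leaf (1160, 12134))) (.node (.leaf (465, 7121)) (.leaf (0, 0)))) (.node (.node (.leaf (799, 8044)) (.leaf (1341, 14796))) (.node (.leaf (904, 8914)) (.leaf (0, 0)))))) (.node (.node (.node (.node (.leaf (72, 672)) (.leaf (1096, 10810))) (.node (.leaf (1200, 12478)) (.leaf (0, 0)))) (.node (.node (.leaf (358, 4385)) (.leaf (1333, 14048))) (.node (.leaf (574, 8375)) (.leaf (0, 0))))) (.node (.node (.node (.leaf (228, 3221)) (.leaf (485, 12752))) (.node (.leaf (338, 7526)) (.leaf (0, 0)))) (.node (.node (.leaf (363, 6762)) (.leaf (0, 0))) (.node (.leaf (302, 9438)) (.leaf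 (0, 0))))))) (.node (.node (.node (.node (.node (.leaf (40, 474)) (.leaf (1064, 10470))) (.node (.leaf (268, 5730)) (.leaf (0, 0)))) (.node (.node (.leaf (708, 7498)) (.leaf (1415, 14794))) (.node (.leaf (552, 8094)) (.leaf (0, 0))))) (.node (.node (.node (.leaf (168, 1460)) (.leaf (434, 12414))) (.node (.leaf (253, 7315)) (.leaf (0, 0)))) (.node (.node (.leaf (405, 4447)) (.leaf (1370, 15202))) (.node (.leaf (936, 9154)) (.leaf (0, 0)))))) (.node (.node (.node (.node (.leaf (104, 1000)) (.leaf (1128, 11732))) (.node (.leaf (321, 6666)) (.leaf (0, 0)))) (.node (.node (.leaf (184, 2887)) (.leaf (1405, 14677))) (.node (.leaf (551, 8636)) (.leaf (0, 0))))) (.node (.node (.node (.leaf (339, 2625)) (.leaf (1256, 13112))) (.node (.leaf (215, 7672)) (.leaf (0, 0)))) (.node (.node (.leaf (1224, 12760)) (.leaf (0, 0))) (.node (.leaf (329, 9782)) (.leaf (0, 0)))))))) (.node (.node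 (.node (.node (.node (.node (.leaf (127, 1092)) (.leaf (1048, 10338))) (.node (.leaf (513, 5368)) (.leaf (0, 0)))) (.node (.node (.leaf (903, 8910)) (.leaf (1447, 15206))) (.node (.leaf (792, 7986)) (.leaf (0, 0))))) (.node (.node (.node (.leaf (152, 1284)) (.leaf (425, 12272))) (.node (.leaf (664, 7204)) (.leaf (0, 0)))) (.node (.node (.leaf (1126, 11712)) (.leaf (1347, 15004))) (.node (.leaf (920, 9034)) (.leaf (0, 0)))))) (.node (.node (.node (.node (.leaf (88, 820)) (.leaf (1112, 11506))) (.node (.leaf (1133, 11796)) (.leaf (0, 0)))) (.node (.node (.leaf (1040, 10276)) (.leaf (1384, 14395))) (.node (.leaf (856, 8474)) (.leaf (0, 0))))) (.node (.node (.node (.leaf (739, 7650)) (.leaf (1240, 12922))) (.node (.leaf (728, 7608)) (.leaf (0, 0)))) (.node (.node (.leaf (822, 8194)) (.leaf (0, 0))) (.node (.leaf (312, 9592)) (.leaf (0, 0))))))) (.node (.node (.node (.node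 (.node (.leaf (56, 544)) (.leaf (600, 10649))) (.node (.leaf (975, 9530)) (.leaf (0, 0)))) (.node (.node (.leaf (304, 2336)) (.leaf (1390, 14479))) (.node (.leaf (824, 8214)) (.leaf (0, 0))))) (.node (.node (.node (.leaf (234, 3368)) (.leaf (442, 12556))) (.node (.leaf (387, 7410)) (.leaf (0, 0)))) (.node (.node (.leaf (443, 5831)) (.leaf (0, 0))) (.node (.leaf (952, 9274)) (.leaf (0, 0)))))) (.node (.node (.node (.node (.leaf (120, 1056)) (.leaf (1144, 11956))) (.node (.leaf (632, 7040)) (.leaf (0, 0)))) (.node (.node (.leaf (698, 7436)) (.leaf (1320, 14617))) (.node (.leaf (272, 8792)) (.leaf (0, 0))))) (.node (.node (.node (.leaf (843, 8352)) (.leaf (1272, 13330))) (.node (.leaf (760, 7748)) (.leaf (0, 0)))) (.node (.node (.leaf (900, 8892)) (.leaf (0, 0))) (.node (.leaf (1016, 9956)) (.leaf (0, 0)))))))))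

def edge32 : Arr (ℕ × ℕ) :=
  (.node (.node (.node (.node (.node (.node (.node (.leaf (8, 85)) (.leaf (1022, 10146))) (.node (.leaf (572, 5749)) (.leaf (0, 0)))) (.node (.node (.leaf (351, 2773)) (.leaf (1161, 13554))) (.node (.leaf (706, 7850)) (.leaf (0, 0))))) (.node (.node (.node (.leaf (154, 1309)) (.leaf (1264, 13223))) (.node (.leaf (665, 7212)) (.leaf (0, 0)))) (.node (.node (.leaf (275, 3651)) (.leaf (1420, 14854))) (.node (.leaf (720, 8919)) (.leaf (0, 0)))))) (.node (.node (.node (.node (.leaf (90, 849)) (.leaf (987, 10814))) (.node (.leaf (539, 5940)) (.leaf (0, 0)))) (.node (.node (.leaf (198, 2489)) (.leaf (1389, 14464))) (.node (.leaf (1017, 9987)) (.leaf (0, 0))))) (.node (.node (.node (.leaf (268, 2499)) (.leaf (1250, 13045))) (.node (.leaf (700, 7534)) (.leaf (0, 0)))) (.node (.node (.leaf (571, 5719)) (.leaf (0, 0))) (.node (.leaf (857, 9448)) (.leaf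 (0, 0))))))) (.node (.node (.node (.node (.node (.leaf (76, 705)) (.leaf (1082, 10669))) (.node (.leaf (506, 6853)) (.leaf (0, 0)))) (.node (.node (.leaf (238, 2187)) (.leaf (1365, 14173))) (.node (.leaf (913, 8969)) (.leaf (0, 0))))) (.node (.node (.node (.leaf (144, 1464)) (.leaf (1265, 13239))) (.node (.leaf (767, 7789)) (.leaf (0, 0)))) (.node (.node (.leaf (564, 5669)) (.leaf (1403, 15219))) (.node (.leaf (846, 9158)) (.leaf (0, 0)))))) (.node (.node (.node (.node (.leaf (134, 1125)) (.leaf (895, 11736))) (.node (.leaf (541, 6688)) (.leaf (0, 0)))) (.node (.node (.leaf (325, 2906)) (.leaf (1414, 14783))) (.node (.leaf (800, 8644)) (.leaf (0, 0))))) (.node (.node (.node (.leaf (356, 2820)) (.leaf (1269, 13291))) (.node (.leaf (938, 9175)) (.leaf (0, 0)))) (.node (.node (.leaf (579, 5880)) (.leaf (0, 0))) (.node (.leaf (1025, 10069)) (.leaf (0, 0)))))))) (.node (.node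 (.node (.node (.node (.node (.leaf (24, 257)) (.leaf (1149, 12031))) (.node (.leaf (544, 6097)) (.leaf (0, 0)))) (.node (.node (.leaf (245, 3461)) (.leaf (1357, 14099))) (.node (.leaf (873, 8657)) (.leaf (0, 0))))) (.node (.node (.node (.leaf (122, 1288)) (.leaf (1163, 12290))) (.node (.leaf (1091, 10760)) (.leaf (0, 0)))) (.node (.node (.leaf (341, 4050)) (.leaf (1422, 15024))) (.node (.leaf (945, 9228)) (.leaf (0, 0)))))) (.node (.node (.node (.node (.leaf (70, 824)) (.leaf (1059, 11510))) (.node (.leaf (477, 6344)) (.leaf (0, 0)))) (.node (.node (.leaf (288, 2740)) (.leaf (1319, 14207))) (.node (.leaf (786, 8478)) (.leaf (0, 0))))) (.node (.node (.node (.leaf (276, 2081)) (.leaf (1159, 12927))) (.node (.leaf (832, 8286)) (.leaf (0, 0)))) (.node (.node (.leaf (602, 6907)) (.leaf (0, 0))) (.node (.leaf (1088, 10725)) (.leaf (0, 0))))))) (.node (.node (.node (.node (.node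 (.leaf (44, 564)) (.leaf (876, 10654))) (.node (.leaf (485, 6580)) (.leaf (0, 0)))) (.node (.node (.leaf (366, 2993)) (.leaf (1307, 13911))) (.node (.leaf (1117, 11577)) (.leaf (0, 0))))) (.node (.node (.node (.leaf (349, 2763)) (.leaf (1285, 13517))) (.node (.leaf (636, 7420)) (.leaf (0, 0)))) (.node (.node (.leaf (592, 6074)) (.leaf (0, 0))) (.node (.leaf (632, 9283)) (.leaf (0, 0)))))) (.node (.node (.node (.node (.leaf (162, 1398)) (.leaf (747, 11962))) (.node (.leaf (952, 9282)) (.leaf (0, 0)))) (.node (.node (.leaf (206, 4010)) (.leaf (1446, 15191))) (.node (.leaf (818, 8800)) (.leaf (0, 0))))) (.node (.node (.node (.leaf (305, 2234)) (.leaf (1172, 13332))) (.node (.leaf (1011, 9903)) (.leaf (0, 0)))) (.node (.node (.leaf (521, 6505)) (.leaf (0, 0))) (.node (.leaf (730, 9960)) (.leaf (0, 0)))))))))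

def edge33 : Arr (ℕ × ℕ) :=
  (.node (.node (.node (.node (.node (.node (.node (.leaf (9, 86)) (.leaf (1257, 13136))) (.node (.leaf (168, 5146)) (.leaf (0, 0)))) (.node (.node (.leaf (88, 1938)) (.leaf (1104, 13571))) (.node (.leaf (1343, 13969)) (.leaf (0, 0))))) (.node (.node (.node (.leaf (443, 4572)) (.leaf (1046, 12141))) (.node (.leaf (841, 11168)) (.leaf (0, 0)))) (.node (.node (.leaf (77, 3646)) (.leaf (1263, 14800))) (.node (.leaf (701, 11225)) (.leaf (0, 0)))))) (.node (.node (.node (.node (.leaf (65, 2008)) (.leaf (795, 10826))) (.node (.leaf (567, 6399)) (.leaf (0, 0)))) (.node (.node (.leaf (63, 2484)) (.leaf (886, 14056))) (.node (.leaf (1002, 9810)) (.leaf (0, 0))))) (.node (.node (.node (.leaf (199, 1613)) (.leaf (867, 12767))) (.node (.leaf (1150, 12063)) (.leaf (0, 0)))) (.node (.node (.leaf (519, 5464)) (.leaf (0, 0))) (.node (.leaf (1029, 10864)) (.leaf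 (0, 0))))))) (.node (.node (.node (.node (.node (.leaf (259, 1878)) (.leaf (990, 10480))) (.node (.leaf (608, 6452)) (.leaf (0, 0)))) (.node (.node (.leaf (85, 2176)) (.leaf (1205, 13806))) (.node (.leaf (817, 9979)) (.leaf (0, 0))))) (.node (.node (.node (.leaf (520, 5147)) (.leaf (630, 12421))) (.node (.leaf (1415, 14790)) (.leaf (0, 0)))) (.node (.node (.leaf (515, 5070)) (.leaf (1001, 15214))) (.node (.leaf (1369, 14212)) (.leaf (0, 0)))))) (.node (.node (.node (.node (.leaf (145, 4735)) (.leaf (1437, 15075))) (.node (.leaf (591, 6681)) (.leaf (0, 0)))) (.node (.node (.leaf (274, 2903)) (.leaf (1095, 14390))) (.node (.leaf (874, 10969)) (.leaf (0, 0))))) (.node (.node (.node (.leaf (37, 1749)) (.leaf (977, 13120))) (.node (.leaf (899, 11096)) (.leaf (0, 0)))) (.node (.node (.leaf (113, 4885)) (.leaf (0, 0))) (.node (.leaf (655, 10207)) (.leaf (0, 0)))))))) (.node (.node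 (.node (.node (.node (.node (.leaf (24, 273)) (.leaf (995, 11006))) (.node (.leaf (440, 5319)) (.leaf (0, 0)))) (.node (.node (.leaf (279, 2093)) (.leaf (993, 13699))) (.node (.leaf (1387, 14423)) (.leaf (0, 0))))) (.node (.node (.node (.leaf (430, 4749)) (.leaf (1107, 12293))) (.node (.leaf (1385, 14396)) (.leaf (0, 0)))) (.node (.node (.leaf (284, 4169)) (.leaf (1112, 15018))) (.node (.leaf (1201, 12497)) (.leaf (0, 0)))))) (.node (.node (.node (.node (.leaf (264, 1939)) (.leaf (1432, 15019))) (.node (.leaf (601, 6346)) (.leaf (0, 0)))) (.node (.node (.leaf (56, 2737)) (.leaf (660, 14202))) (.node (.leaf (1226, 12790)) (.leaf (0, 0))))) (.node (.node (.node (.leaf (97, 1656)) (.leaf (919, 12928))) (.node (.leaf (1447, 15210)) (.leaf (0, 0)))) (.node (.node (.leaf (473, 4786)) (.leaf (0, 0))) (.node (.leaf (1253, 13082)) (.leaf (0, 0))))))) (.node (.node (.node (.node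 (.node (.leaf (344, 2736)) (.leaf (1185, 12385))) (.node (.leaf (568, 6583)) (.leaf (0, 0)))) (.node (.node (.leaf (183, 2363)) (.leaf (952, 13908))) (.node (.leaf (1108, 11440)) (.leaf (0, 0))))) (.node (.node (.node (.leaf (289, 2144)) (.leaf (930, 12565))) (.node (.leaf (1012, 11147)) (.leaf (0, 0)))) (.node (.node (.leaf (536, 5318)) (.leaf (0, 0))) (.node (.leaf (1336, 13909)) (.leaf (0, 0)))))) (.node (.node (.node (.node (.leaf (534, 5290)) (.leaf (1219, 12682))) (.node (.leaf (1307, 13720)) (.leaf (0, 0)))) (.node (.node (.leaf (406, 4012)) (.leaf (1231, 14621))) (.node (.leaf (863, 10914)) (.leaf (0, 0))))) (.node (.node (.node (.leaf (39, 1835)) (.leaf (1039, 13339))) (.node (.leaf (1392, 14501)) (.leaf (0, 0)))) (.node (.node (.leaf (505, 4958)) (.leaf (0, 0))) (.node (.leaf (871, 9970)) (.leaf (0, 0)))))))))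

def edge34 : Arr (ℕ × ℕ) :=
  (.node (.node (.node (.node (.node (.node (.node (.leaf (18, 311)) (.leaf (809, 10150))) (.node (.leaf (506, 6859)) (.leaf (0, 0)))) (.node (.node (.leaf (185, 2371)) (.leaf (1236, 13558))) (.node (.leaf (975, 9535)) (.leaf (0, 0))))) (.node (.node (.node (.leaf (140, 1197)) (.leaf (1223, 12749))) (.node (.leaf (950, 9265)) (.leaf (0, 0)))) (.node (.node (.leaf (378, 4029)) (.leaf (1438, 15082))) (.node (.leaf (1005, 9841)) (.leaf (0, 0)))))) (.node (.node (.node (.node (.leaf (57, 678)) (.leaf (1071, 10818))) (.node (.leaf (604, 6388)) (.leaf (0, 0)))) (.node (.node (.leaf (269, 2501)) (.leaf (1378, 14333))) (.node (.leaf (1026, 10083)) (.leaf (0, 0))))) (.node (.node (.node (.leaf (201, 1614)) (.leaf (1174, 12768))) (.node (.leaf (978, 9573)) (.leaf (0, 0)))) (.node (.node (.leaf (520, 5466)) (.leaf (0, 0))) (.node (.leaf (853, 9452)) (.leaf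 (0, 0))))))) (.node (.node (.node (.node (.node (.leaf (98, 941)) (.leaf (1105, 11391))) (.node (.leaf (571, 6147)) (.leaf (0, 0)))) (.node (.node (.leaf (294, 2188)) (.leaf (1372, 14248))) (.node (.leaf (816, 8153)) (.leaf (0, 0))))) (.node (.node (.node (.leaf (117, 1468)) (.leaf (1197, 12445))) (.node (.leaf (707, 7493)) (.leaf (0, 0)))) (.node (.node (.leaf (482, 5072)) (.leaf (1447, 15222))) (.node (.leaf (996, 9757)) (.leaf (0, 0)))))) (.node (.node (.node (.node (.leaf (109, 1019)) (.leaf (1134, 11817))) (.node (.leaf (577, 6684)) (.leaf (0, 0)))) (.node (.node (.leaf (361, 2910)) (.leaf (1460, 15374))) (.node (.leaf (651, 8648)) (.leaf (0, 0))))) (.node (.node (.node (.leaf (233, 1754)) (.leaf (1210, 13114))) (.node (.leaf (737, 7679)) (.leaf (0, 0)))) (.node (.node (.leaf (489, 4890)) (.leaf (0, 0))) (.node (.leaf (936, 9793)) (.leaf (0, 0)))))))) (.node (.node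 (.node (.node (.node (.node (.leaf (25, 274)) (.leaf (1051, 10365))) (.node (.leaf (498, 5326)) (.leaf (0, 0)))) (.node (.node (.leaf (281, 2094)) (.leaf (1305, 13702))) (.node (.leaf (666, 7992)) (.leaf (0, 0))))) (.node (.node (.node (.leaf (145, 1290)) (.leaf (1183, 12363))) (.node (.leaf (954, 9295)) (.leaf (0, 0)))) (.node (.node (.leaf (411, 4135)) (.leaf (1333, 15020))) (.node (.leaf (927, 9091)) (.leaf (0, 0)))))) (.node (.node (.node (.node (.leaf (44, 828)) (.leaf (1082, 11514))) (.node (.leaf (470, 6342)) (.leaf (0, 0)))) (.node (.node (.leaf (345, 2742)) (.leaf (1351, 14205))) (.node (.leaf (968, 9451)) (.leaf (0, 0))))) (.node (.node (.node (.leaf (214, 1666)) (.leaf (1289, 13583))) (.node (.leaf (733, 7633)) (.leaf (0, 0)))) (.node (.node (.leaf (529, 5258)) (.leaf (0, 0))) (.node (.leaf (1149, 12033)) (.leaf (0, 0))))))) (.node (.node (.node (.node (.node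 (.leaf (61, 563)) (.leaf (1084, 10693))) (.node (.leaf (587, 6584)) (.leaf (0, 0)))) (.node (.node (.leaf (313, 2352)) (.leaf (1383, 14378))) (.node (.leaf (759, 8218)) (.leaf (0, 0))))) (.node (.node (.node (.leaf (259, 2146)) (.leaf (1277, 13405))) (.node (.leaf (660, 7422)) (.leaf (0, 0)))) (.node (.node (.leaf (579, 5876)) (.leaf (0, 0))) (.node (.leaf (643, 9278)) (.leaf (0, 0)))))) (.node (.node (.node (.node (.leaf (123, 1075)) (.leaf (1127, 11966))) (.node (.leaf (870, 8619)) (.leaf (0, 0)))) (.node (.node (.leaf (363, 4014)) (.leaf (1322, 14622))) (.node (.leaf (896, 8861)) (.leaf (0, 0))))) (.node (.node (.node (.leaf (249, 1842)) (.leaf (1192, 13336))) (.node (.leaf (818, 8163)) (.leaf (0, 0)))) (.node (.node (.leaf (546, 5445)) (.leaf (0, 0))) (.node (.leaf (918, 9964)) (.leaf (0, 0)))))))))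

def edge35 : Arr (ℕ × ℕ) :=
  (.node (.node (.node (.node (.node (.node (.node (.leaf (37, 460)) (.leaf (1033, 10152))) (.node (.leaf (1102, 11334)) (.leaf (0, 0)))) (.node (.node (.leaf (874, 8664)) (.leaf (1289, 13576))) (.node (.leaf (777, 7856)) (.leaf (0, 0))))) (.node (.node (.node (.leaf (137, 1162)) (.leaf (616, 12138))) (.node (.leaf (180, 7110)) (.leaf (0, 0)))) (.node (.node (.leaf (314, 3648)) (.leaf (1350, 14806))) (.node (.leaf (905, 8920)) (.leaf (0, 0)))))) (.node (.node (.node (.node (.leaf (13, 680)) (.leaf (469, 10820))) (.node (.leaf (1271, 13316)) (.leaf (0, 0)))) (.node (.node (.leaf (850, 8414)) (.leaf (1343, 14058))) (.node (.leaf (841, 8340)) (.leaf (0, 0))))) (.node (.node (.node (.leaf (297, 2961)) (.leaf (1225, 12770))) (.node (.leaf (713, 7538)) (.leaf (0, 0)))) (.node (.node (.leaf (731, 7622)) (.leaf (0, 0))) (.node (.leaf (969, 9454)) (.leaf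 (0, 0))))))) (.node (.node (.node (.node (.node (.leaf (41, 480)) (.leaf (351, 10476))) (.node (.leaf (239, 5565)) (.leaf (0, 0)))) (.node (.node (.leaf (964, 9390)) (.leaf (1425, 14930))) (.node (.leaf (809, 8112)) (.leaf (0, 0))))) (.node (.node (.node (.leaf (29, 1470)) (.leaf (1193, 12424))) (.node (.leaf (483, 7320)) (.leaf (0, 0)))) (.node (.node (.leaf (393, 4455)) (.leaf (1441, 15216))) (.node (.leaf (937, 9162)) (.leaf (0, 0)))))) (.node (.node (.node (.node (.leaf (105, 1002)) (.leaf (1129, 11738))) (.node (.leaf (416, 6693)) (.leaf (0, 0)))) (.node (.node (.leaf (778, 7866)) (.leaf (1337, 14408))) (.node (.leaf (873, 8652)) (.leaf (0, 0))))) (.node (.node (.node (.leaf (702, 7458)) (.leaf (498, 13116))) (.node (.leaf (745, 7680)) (.leaf (0, 0)))) (.node (.node (.leaf (1218, 12656)) (.leaf (0, 0))) (.node (.leaf (1001, 9794)) (.leaf (0, 0)))))))) (.node (.node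 (.node (.node (.node (.node (.leaf (133, 1108)) (.leaf (1049, 10342))) (.node (.leaf (1275, 13374)) (.leaf (0, 0)))) (.node (.node (.leaf (908, 8940)) (.leaf (1431, 15008))) (.node (.leaf (414, 7994)) (.leaf (0, 0))))) (.node (.node (.node (.leaf (153, 1294)) (.leaf (1177, 12296))) (.node (.leaf (597, 7219)) (.leaf (0, 0)))) (.node (.node (.leaf (1131, 11764)) (.leaf (1325, 15022))) (.node (.leaf (921, 9036)) (.leaf (0, 0)))))) (.node (.node (.node (.node (.leaf (89, 830)) (.leaf (554, 11516))) (.node (.leaf (1080, 10650)) (.leaf (0, 0)))) (.node (.node (.leaf (1045, 10320)) (.leaf (1403, 14664))) (.node (.leaf (251, 8482)) (.leaf (0, 0))))) (.node (.node (.node (.leaf (744, 7674)) (.leaf (1241, 12932))) (.node (.leaf (506, 7610)) (.leaf (0, 0)))) (.node (.node (.leaf (243, 6179)) (.leaf (0, 0))) (.node (.leaf (985, 9604)) (.leaf (0, 0))))))) (.node (.node (.node (.node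 (.node (.leaf (57, 546)) (.leaf (1081, 10656))) (.node (.leaf (1179, 12316)) (.leaf (0, 0)))) (.node (.node (.leaf (979, 9580)) (.leaf (1306, 13912))) (.node (.leaf (825, 8220)) (.leaf (0, 0))))) (.node (.node (.node (.leaf (196, 4337)) (.leaf (1209, 12568))) (.node (.leaf (697, 7426)) (.leaf (0, 0)))) (.node (.node (.leaf (444, 5379)) (.leaf (0, 0))) (.node (.leaf (466, 9280)) (.leaf (0, 0)))))) (.node (.node (.node (.node (.leaf (21, 1058)) (.leaf (555, 11968))) (.node (.leaf (473, 7044)) (.leaf (0, 0)))) (.node (.node (.leaf (349, 4018)) (.leaf (1458, 15349))) (.node (.leaf (889, 8804)) (.leaf (0, 0))))) (.node (.node (.node (.leaf (686, 7352)) (.leaf (1273, 13342))) (.node (.leaf (529, 8201)) (.leaf (0, 0)))) (.node (.node (.leaf (907, 8932)) (.leaf (0, 0))) (.node (.leaf (550, 9966)) (.leaf (0, 0)))))))))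

def edge36 : Arr (ℕ × ℕ) :=
  (.node (.node (.node (.node (.node (.node (.node (.leaf (9, 89)) (.leaf (742, 10156))) (.node (.leaf (504, 6504)) (.leaf (0, 0)))) (.node (.node (.leaf (362, 2944)) (.leaf (1220, 13580))) (.node (.leaf (849, 8405)) (.leaf (0, 0))))) (.node (.node (.node (.leaf (125, 1164)) (.leaf (1288, 13555))) (.node (.leaf (666, 7225)) (.leaf (0, 0)))) (.node (.node (.leaf (293, 3674)) (.leaf (1434, 15048))) (.node (.leaf (1002, 9805)) (.leaf (0, 0)))))) (.node (.node (.node (.node (.leaf (85, 791)) (.leaf (1087, 10850))) (.node (.leaf (421, 5948)) (.leaf (0, 0)))) (.node (.node (.leaf (210, 2518)) (.leaf (1395, 14549))) (.node (.leaf (732, 8350)) (.leaf (0, 0))))) (.node (.node (.node (.leaf (373, 3087)) (.leaf (1180, 12772))) (.node (.leaf (694, 7545)) (.leaf (0, 0)))) (.node (.node (.leaf (500, 6740)) (.leaf (0, 0))) (.node (.leaf (765, 9458)) (.leaf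 (0, 0))))))) (.node (.node (.node (.node (.node (.leaf (71, 670)) (.leaf (979, 10510))) (.node (.leaf (447, 5571)) (.leaf (0, 0)))) (.node (.node (.leaf (237, 3336)) (.leaf (1455, 15315))) (.node (.leaf (939, 9183)) (.leaf (0, 0))))) (.node (.node (.node (.leaf (115, 1480)) (.leaf (1157, 12430))) (.node (.leaf (973, 9509)) (.leaf (0, 0)))) (.node (.node (.leaf (603, 6377)) (.leaf (1418, 15230))) (.node (.leaf (1009, 9881)) (.leaf (0, 0)))))) (.node (.node (.node (.node (.leaf (135, 1145)) (.leaf (1043, 11742))) (.node (.leaf (450, 6722)) (.leaf (0, 0)))) (.node (.node (.leaf (400, 3857)) (.leaf (1303, 14402))) (.node (.leaf (792, 8656)) (.leaf (0, 0))))) (.node (.node (.node (.leaf (322, 3053)) (.leaf (1213, 13126))) (.node (.leaf (914, 8982)) (.leaf (0, 0)))) (.node (.node (.leaf (495, 5377)) (.leaf (0, 0))) (.node (.leaf (1099, 11289)) (.leaf (0, 0)))))))) (.node (.node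 (.node (.node (.node (.node (.leaf (25, 267)) (.leaf (1074, 10579))) (.node (.leaf (534, 5339)) (.leaf (0, 0)))) (.node (.node (.leaf (217, 3487)) (.leaf (1361, 14127))) (.node (.leaf (966, 9417)) (.leaf (0, 0))))) (.node (.node (.node (.leaf (123, 1298)) (.leaf (1198, 12465))) (.node (.leaf (648, 7213)) (.leaf (0, 0)))) (.node (.node (.leaf (246, 4080)) (.leaf (1444, 15160))) (.node (.leaf (722, 9050)) (.leaf (0, 0)))))) (.node (.node (.node (.node (.leaf (77, 834)) (.leaf (633, 11524))) (.node (.leaf (476, 6352)) (.leaf (0, 0)))) (.node (.node (.leaf (179, 2744)) (.leaf (1445, 15173))) (.node (.leaf (968, 9449)) (.leaf (0, 0))))) (.node (.node (.node (.leaf (281, 3486)) (.leaf (1196, 12943))) (.node (.leaf (1136, 11841)) (.leaf (0, 0)))) (.node (.node (.leaf (620, 6887)) (.leaf (0, 0))) (.node (.leaf (1104, 11373)) (.leaf (0, 0))))))) (.node (.node (.node (.node (.node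 (.leaf (45, 580)) (.leaf (1068, 10660))) (.node (.leaf (416, 6405)) (.leaf (0, 0)))) (.node (.node (.leaf (367, 2997)) (.leaf (1424, 14910))) (.node (.leaf (1042, 10300)) (.leaf (0, 0))))) (.node (.node (.node (.leaf (388, 3585)) (.leaf (1222, 12741))) (.node (.leaf (884, 8755)) (.leaf (0, 0)))) (.node (.node (.leaf (593, 6703)) (.leaf (0, 0))) (.node (.leaf (1108, 11431)) (.leaf (0, 0)))))) (.node (.node (.node (.node (.leaf (133, 1113)) (.leaf (892, 11980))) (.node (.leaf (1113, 11525)) (.leaf (0, 0)))) (.node (.node (.leaf (207, 4370)) (.leaf (1379, 14640))) (.node (.leaf (750, 8809)) (.leaf (0, 0))))) (.node (.node (.node (.leaf (387, 4221)) (.leaf (1235, 13346))) (.node (.leaf (1133, 11801)) (.leaf (0, 0)))) (.node (.node (.leaf (610, 6489)) (.leaf (0, 0))) (.node (.leaf (840, 9986)) (.leaf (0, 0)))))))))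

def edge37 : Arr (ℕ × ℕ) :=
  (.node (.node (.node (.node (.node (.node (.node (.leaf (8, 87)) (.leaf (870, 10932))) (.node (.leaf (610, 6499)) (.leaf (0, 0)))) (.node (.node (.leaf (41, 1941)) (.leaf (860, 13590))) (.node (.leaf (721, 11221)) (.leaf (0, 0))))) (.node (.node (.node (.leaf (458, 4649)) (.leaf (985, 12157))) (.node (.leaf (1346, 14010)) (.leaf (0, 0)))) (.node (.node (.leaf (197, 3943)) (.leaf (902, 14827))) (.node (.leaf (1017, 9992)) (.leaf (0, 0)))))) (.node (.node (.node (.node (.leaf (238, 1787)) (.leaf (854, 10862))) (.node (.leaf (586, 5954)) (.leaf (0, 0)))) (.node (.node (.leaf (52, 2513)) (.leaf (820, 14061))) (.node (.leaf (648, 11169)) (.leaf (0, 0))))) (.node (.node (.node (.leaf (202, 1616)) (.leaf (756, 12780))) (.node (.leaf (1444, 15157)) (.leaf (0, 0)))) (.node (.node (.leaf (518, 6742)) (.leaf (0, 0))) (.node (.leaf (925, 11163)) (.leaf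 (0, 0))))))) (.node (.node (.node (.node (.node (.leaf (265, 1940)) (.leaf (1278, 13422))) (.node (.leaf (155, 5568)) (.leaf (0, 0)))) (.node (.node (.leaf (357, 3338)) (.leaf (798, 13812))) (.node (.leaf (1316, 13782)) (.leaf (0, 0))))) (.node (.node (.node (.leaf (445, 4541)) (.leaf (1070, 12429))) (.node (.leaf (1418, 14828)) (.leaf (0, 0)))) (.node (.node (.leaf (621, 6958)) (.leaf (973, 15225))) (.node (.leaf (1255, 13110)) (.leaf (0, 0)))))) (.node (.node (.node (.node (.leaf (431, 4490)) (.leaf (727, 11745))) (.node (.leaf (573, 6727)) (.leaf (0, 0)))) (.node (.node (.leaf (208, 2943)) (.leaf (664, 14397))) (.node (.leaf (1349, 14043)) (.leaf (0, 0))))) (.node (.node (.node (.leaf (234, 1758)) (.leaf (1032, 13137))) (.node (.leaf (1115, 11559)) (.leaf (0, 0)))) (.node (.node (.leaf (490, 4894)) (.leaf (0, 0))) (.node (.leaf (1448, 15215)) (.leaf (0, 0)))))))) (.node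 (.node (.node (.node (.node (.node (.leaf (6, 264)) (.leaf (892, 10348))) (.node (.leaf (162, 5336)) (.leaf (0, 0)))) (.node (.node (.leaf (282, 2096)) (.leaf (1283, 13704))) (.node (.leaf (1391, 14483)) (.leaf (0, 0))))) (.node (.node (.node (.leaf (442, 4521)) (.leaf (922, 12303))) (.node (.leaf (732, 11173)) (.leaf (0, 0)))) (.node (.node (.leaf (409, 4079)) (.leaf (694, 15029))) (.node (.leaf (868, 11043)) (.leaf (0, 0)))))) (.node (.node (.node (.node (.leaf (275, 1981)) (.leaf (890, 11532))) (.node (.leaf (600, 6347)) (.leaf (0, 0)))) (.node (.node (.leaf (346, 2746)) (.leaf (936, 14213))) (.node (.leaf (1102, 11351)) (.leaf (0, 0))))) (.node (.node (.node (.leaf (342, 3488)) (.leaf (1345, 13995))) (.node (.leaf (1122, 11648)) (.leaf (0, 0)))) (.node (.node (.leaf (472, 4787)) (.leaf (0, 0))) (.node (.leaf (1161, 12156)) (.leaf (0, 0))))))) (.node (.node (.node (.node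 (.node (.leaf (83, 2003)) (.leaf (1175, 12284))) (.node (.leaf (612, 6539)) (.leaf (0, 0)))) (.node (.node (.leaf (263, 2354)) (.leaf (822, 13916))) (.node (.leaf (1085, 11399)) (.leaf (0, 0))))) (.node (.node (.node (.leaf (413, 4262)) (.leaf (785, 12575))) (.node (.leaf (1375, 14291)) (.leaf (0, 0)))) (.node (.node (.leaf (578, 5878)) (.leaf (0, 0))) (.node (.leaf (1117, 11584)) (.leaf (0, 0)))))) (.node (.node (.node (.node (.leaf (426, 4461)) (.leaf (1074, 11990))) (.node (.leaf (915, 10894)) (.leaf (0, 0)))) (.node (.node (.leaf (327, 4372)) (.leaf (1040, 14631))) (.node (.leaf (1435, 15050)) (.leaf (0, 0))))) (.node (.node (.node (.leaf (250, 1846)) (.leaf (673, 13357))) (.node (.leaf (1363, 14150)) (.leaf (0, 0)))) (.node (.node (.leaf (504, 4959)) (.leaf (0, 0))) (.node (.leaf (905, 9993)) (.leaf (0, 0)))))))))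

def edge38 : Arr (ℕ × ℕ) :=
  (.node (.node (.node (.node (.node (.node (.node (.leaf (10, 90)) (.leaf (812, 10160))) (.node (.leaf (458, 6500)) (.leaf (0, 0)))) (.node (.node (.leaf (266, 1946)) (.leaf (1233, 13584))) (.node (.leaf (973, 9511)) (.leaf (0, 0))))) (.node (.node (.node (.leaf (144, 1231)) (.leaf (1169, 12203))) (.node (.leaf (654, 7157)) (.leaf (0, 0)))) (.node (.node (.leaf (189, 3677)) (.leaf (1439, 15092))) (.node (.leaf (1009, 9883)) (.leaf (0, 0)))))) (.node (.node (.node (.node (.leaf (94, 893)) (.leaf (1072, 10854))) (.node (.leaf (615, 6660)) (.leaf (0, 0)))) (.node (.node (.leaf (330, 2520)) (.leaf (1354, 14064))) (.node (.leaf (1029, 10111)) (.leaf (0, 0))))) (.node (.node (.node (.leaf (309, 2300)) (.leaf (1171, 12774))) (.node (.leaf (976, 9549)) (.leaf (0, 0)))) (.node (.node (.leaf (519, 6744)) (.leaf (0, 0))) (.node (.leaf (851, 9462)) (.leaf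 (0, 0))))))) (.node (.node (.node (.node (.node (.leaf (102, 989)) (.leaf (1096, 10817))) (.node (.leaf (455, 6761)) (.leaf (0, 0)))) (.node (.node (.leaf (371, 3340)) (.leaf (1461, 15390))) (.node (.leaf (813, 8137)) (.leaf (0, 0))))) (.node (.node (.node (.leaf (106, 1487)) (.leaf (1200, 12481))) (.node (.leaf (686, 7355)) (.leaf (0, 0)))) (.node (.node (.leaf (515, 5356)) (.leaf (1405, 15226))) (.node (.leaf (999, 9779)) (.leaf (0, 0)))))) (.node (.node (.node (.node (.leaf (113, 1037)) (.leaf (1132, 11785))) (.node (.leaf (608, 6720)) (.leaf (0, 0)))) (.node (.node (.leaf (406, 4005)) (.leaf (1386, 14414))) (.node (.leaf (649, 8660)) (.leaf (0, 0))))) (.node (.node (.node (.leaf (405, 4413)) (.leaf (1186, 13130))) (.node (.leaf (734, 7684)) (.leaf (0, 0)))) (.node (.node (.leaf (592, 6081)) (.leaf (0, 0))) (.node (.leaf (933, 9798)) (.leaf (0, 0)))))))) (.node (.node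 (.node (.node (.node (.node (.leaf (23, 278)) (.leaf (1054, 10393))) (.node (.leaf (589, 5997)) (.leaf (0, 0)))) (.node (.node (.leaf (396, 3731)) (.leaf (1344, 13978))) (.node (.leaf (667, 8000)) (.leaf (0, 0))))) (.node (.node (.node (.leaf (149, 1300)) (.leaf (1181, 12337))) (.node (.leaf (955, 9301)) (.leaf (0, 0)))) (.node (.node (.leaf (287, 4076)) (.leaf (1434, 15038))) (.node (.leaf (924, 9071)) (.leaf (0, 0)))))) (.node (.node (.node (.node (.leaf (48, 838)) (.leaf (688, 11531))) (.node (.leaf (595, 6348)) (.leaf (0, 0)))) (.node (.node (.leaf (369, 3012)) (.leaf (1353, 14216))) (.node (.leaf (784, 8490)) (.leaf (0, 0))))) (.node (.node (.node (.leaf (343, 3490)) (.leaf (1287, 13541))) (.node (.leaf (1101, 11323)) (.leaf (0, 0)))) (.node (.node (.leaf (474, 4790)) (.leaf (0, 0))) (.node (.leaf (1146, 11999)) (.leaf (0, 0))))))) (.node (.node (.node (.node (.node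 (.leaf (65, 615)) (.leaf (1087, 10715))) (.node (.leaf (568, 6587)) (.leaf (0, 0)))) (.node (.node (.leaf (413, 4273)) (.leaf (1381, 14357))) (.node (.leaf (762, 8224)) (.leaf (0, 0))))) (.node (.node (.node (.leaf (289, 2373)) (.leaf (1275, 13379))) (.node (.leaf (658, 7430)) (.leaf (0, 0)))) (.node (.node (.leaf (536, 5422)) (.leaf (0, 0))) (.node (.leaf (876, 9290)) (.leaf (0, 0)))))) (.node (.node (.node (.node (.leaf (166, 1443)) (.leaf (1128, 11984))) (.node (.leaf (637, 7063)) (.leaf (0, 0)))) (.node (.node (.leaf (265, 4374)) (.leaf (1389, 14636))) (.node (.leaf (893, 8843)) (.leaf (0, 0))))) (.node (.node (.node (.leaf (303, 2246)) (.leaf (1196, 13350))) (.node (.leaf (819, 8167)) (.leaf (0, 0)))) (.node (.node (.leaf (447, 4960)) (.leaf (0, 0))) (.node (.leaf (919, 9990)) (.leaf (0, 0)))))))))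

def edge39 : Arr (ℕ × ℕ) :=
  (.node (.node (.node (.node (.node (.node (.node (.leaf (43, 490)) (.leaf (1034, 10164))) (.node (.leaf (922, 9046)) (.leaf (0, 0)))) (.node (.node (.leaf (315, 3352)) (.leaf (545, 13586))) (.node (.leaf (360, 7865)) (.leaf (0, 0))))) (.node (.node (.node (.leaf (138, 1170)) (.leaf (1162, 12158))) (.node (.leaf (650, 7128)) (.leaf (0, 0)))) (.node (.node (.leaf (706, 7484)) (.leaf (1310, 14820))) (.node (.leaf (906, 8926)) (.leaf (0, 0)))))) (.node (.node (.node (.node (.leaf (74, 688)) (.leaf (370, 10856))) (.node (.leaf (406, 5951)) (.leaf (0, 0)))) (.node (.node (.leaf (995, 9740)) (.leaf (1460, 15369))) (.node (.leaf (842, 8342)) (.leaf (0, 0))))) (.node (.node (.node (.leaf (638, 7066)) (.leaf (542, 12776))) (.node (.leaf (208, 7542)) (.leaf (0, 0)))) (.node (.node (.leaf (710, 7514)) (.leaf (0, 0))) (.node (.leaf (301, 9464)) (.leaf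 (0, 0))))))) (.node (.node (.node (.node (.node (.leaf (42, 484)) (.leaf (1066, 10516))) (.node (.leaf (674, 7282)) (.leaf (0, 0)))) (.node (.node (.leaf (634, 7050)) (.leaf (1340, 13960))) (.node (.leaf (810, 8114)) (.leaf (0, 0))))) (.node (.node (.node (.leaf (170, 1488)) (.leaf (1194, 12432))) (.node (.leaf (682, 7324)) (.leaf (0, 0)))) (.node (.node (.leaf (1171, 12234)) (.leaf (1394, 15236))) (.node (.leaf (517, 9168)) (.leaf (0, 0)))))) (.node (.node (.node (.node (.leaf (106, 1004)) (.leaf (1130, 11750))) (.node (.leaf (865, 8578)) (.leaf (0, 0)))) (.node (.node (.leaf (307, 3527)) (.leaf (1418, 14832))) (.node (.leaf (263, 8662)) (.leaf (0, 0))))) (.node (.node (.node (.leaf (788, 7944)) (.leaf (1258, 13138))) (.node (.leaf (746, 7686)) (.leaf (0, 0)))) (.node (.node (.leaf (592, 6071)) (.leaf (0, 0))) (.node (.leaf (1002, 9802)) (.leaf (0, 0)))))))) (.node (.node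 (.node (.node (.node (.node (.leaf (139, 1180)) (.leaf (460, 10344))) (.node (.leaf (1280, 13442)) (.leaf (0, 0)))) (.node (.node (.leaf (913, 8964)) (.leaf (1365, 14176))) (.node (.leaf (448, 8002)) (.leaf (0, 0))))) (.node (.node (.node (.leaf (154, 1304)) (.leaf (1178, 12306))) (.node (.leaf (185, 7210)) (.leaf (0, 0)))) (.node (.node (.leaf (1136, 11838)) (.leaf (1327, 15036))) (.node (.leaf (521, 9049)) (.leaf (0, 0)))))) (.node (.node (.node (.node (.leaf (90, 844)) (.leaf (570, 11528))) (.node (.leaf (892, 8830)) (.leaf (0, 0)))) (.node (.node (.leaf (1050, 10350)) (.leaf (1367, 14221))) (.node (.leaf (858, 8494)) (.leaf (0, 0))))) (.node (.node (.node (.leaf (749, 7708)) (.leaf (493, 12940))) (.node (.leaf (730, 7616)) (.leaf (0, 0)))) (.node (.node (.leaf (176, 6196)) (.leaf (0, 0))) (.node (.leaf (986, 9608)) (.leaf (0, 0))))))) (.node (.node (.node (.node (.node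 (.leaf (58, 548)) (.leaf (1082, 10664))) (.node (.leaf (1242, 12944)) (.leaf (0, 0)))) (.node (.node (.leaf (984, 9600)) (.leaf (1356, 14090))) (.node (.leaf (826, 8228)) (.leaf (0, 0))))) (.node (.node (.node (.leaf (661, 7198)) (.leaf (1210, 12576))) (.node (.leaf (375, 7432)) (.leaf (0, 0)))) (.node (.node (.leaf (1208, 12558)) (.leaf (0, 0))) (.node (.leaf (954, 9292)) (.leaf (0, 0)))))) (.node (.node (.node (.node (.leaf (122, 1068)) (.leaf (411, 11986))) (.node (.leaf (608, 7048)) (.leaf (0, 0)))) (.node (.node (.leaf (402, 4378)) (.leaf (1446, 15194))) (.node (.leaf (890, 8810)) (.leaf (0, 0))))) (.node (.node (.node (.leaf (564, 5670)) (.leaf (1274, 13360))) (.node (.leaf (762, 7754)) (.leaf (0, 0)))) (.node (.node (.leaf (403, 5457)) (.leaf (0, 0))) (.node (.leaf (1018, 9994)) (.leaf (0, 0)))))))))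

def edge40 : Arr (ℕ × ℕ) :=
  (.node (.node (.node (.node (.node (.node (.node (.leaf (10, 93)) (.leaf (763, 10168))) (.node (.leaf (427, 5166)) (.leaf (0, 0)))) (.node (.node (.leaf (272, 2504)) (.leaf (1156, 13594))) (.node (.leaf (695, 7868)) (.leaf (0, 0))))) (.node (.node (.node (.leaf (156, 1329)) (.leaf (1201, 12494))) (.node (.leaf (670, 7265)) (.leaf (0, 0)))) (.node (.node (.leaf (314, 3698)) (.leaf (1449, 15231))) (.node (.leaf (1028, 10104)) (.leaf (0, 0)))))) (.node (.node (.node (.node (.leaf (68, 690)) (.leaf (918, 10880))) (.node (.leaf (420, 5960)) (.leaf (0, 0)))) (.node (.node (.leaf (211, 2524)) (.leaf (1396, 14567))) (.node (.leaf (758, 8347)) (.leaf (0, 0))))) (.node (.node (.node (.leaf (374, 3093)) (.leaf (1197, 12786))) (.node (.leaf (1015, 9947)) (.leaf (0, 0)))) (.node (.node (.leaf (546, 5449)) (.leaf (0, 0))) (.node (.leaf (860, 9472)) (.leaf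 (0, 0))))))) (.node (.node (.node (.node (.node (.leaf (78, 718)) (.leaf (875, 10520))) (.node (.leaf (460, 5578)) (.leaf (0, 0)))) (.node (.node (.leaf (195, 3957)) (.leaf (1435, 15055))) (.node (.leaf (820, 8245)) (.leaf (0, 0))))) (.node (.node (.node (.leaf (158, 1492)) (.leaf (1244, 12972))) (.node (.leaf (977, 9559)) (.leaf (0, 0)))) (.node (.node (.leaf (581, 5909)) (.leaf (1451, 15261))) (.node (.leaf (744, 9174)) (.leaf (0, 0)))))) (.node (.node (.node (.node (.leaf (124, 1148)) (.leaf (1125, 11754))) (.node (.leaf (533, 6778)) (.leaf (0, 0)))) (.node (.node (.leaf (265, 2945)) (.leaf (1345, 14418))) (.node (.leaf (1050, 10355)) (.leaf (0, 0))))) (.node (.node (.node (.leaf (355, 2834)) (.leaf (1203, 13144))) (.node (.leaf (751, 8329)) (.leaf (0, 0)))) (.node (.node (.leaf (535, 5372)) (.leaf (0, 0))) (.node (.leaf (905, 9804)) (.leaf (0, 0)))))))) (.node (.node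 (.node (.node (.node (.node (.leaf (26, 423)) (.leaf (874, 10354))) (.node (.leaf (583, 5935)) (.leaf (0, 0)))) (.node (.node (.leaf (342, 2713)) (.leaf (1330, 13870))) (.node (.leaf (976, 9547)) (.leaf (0, 0))))) (.node (.node (.node (.leaf (136, 1308)) (.leaf (1249, 13027))) (.node (.leaf (649, 7224)) (.leaf (0, 0)))) (.node (.node (.leaf (307, 4090)) (.leaf (1417, 15049))) (.node (.leaf (1004, 9827)) (.leaf (0, 0)))))) (.node (.node (.node (.node (.leaf (72, 848)) (.leaf (964, 11538))) (.node (.leaf (472, 6906)) (.leaf (0, 0)))) (.node (.node (.leaf (178, 2748)) (.leaf (1363, 14228))) (.node (.leaf (852, 8496)) (.leaf (0, 0))))) (.node (.node (.node (.leaf (333, 2565)) (.leaf (1260, 13173))) (.node (.leaf (1016, 9961)) (.leaf (0, 0)))) (.node (.node (.leaf (596, 6252)) (.leaf (0, 0))) (.node (.leaf (663, 9615)) (.leaf (0, 0))))))) (.node (.node (.node (.node (.node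 (.leaf (100, 963)) (.leaf (1064, 10668))) (.node (.leaf (516, 5696)) (.leaf (0, 0)))) (.node (.node (.leaf (394, 3699)) (.leaf (1421, 14870))) (.node (.leaf (896, 8864)) (.leaf (0, 0))))) (.node (.node (.node (.leaf (364, 2975)) (.leaf (1228, 12803))) (.node (.leaf (651, 7440)) (.leaf (0, 0)))) (.node (.node (.leaf (540, 5365)) (.leaf (0, 0))) (.node (.leaf (1046, 10332)) (.leaf (0, 0)))))) (.node (.node (.node (.node (.leaf (152, 1289)) (.leaf (1055, 11996))) (.node (.leaf (791, 7981)) (.leaf (0, 0)))) (.node (.node (.leaf (208, 4024)) (.leaf (1430, 14991))) (.node (.leaf (915, 9006)) (.leaf (0, 0))))) (.node (.node (.node (.leaf (412, 4211)) (.leaf (1154, 13364))) (.node (.leaf (836, 8323)) (.leaf (0, 0)))) (.node (.node (.leaf (552, 6852)) (.leaf (0, 0))) (.node (.leaf (998, 9998)) (.leaf (0, 0)))))))))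

def edge41 : Arr (ℕ × ℕ) :=
  (.node (.node (.node (.node (.node (.node (.node (.leaf (11, 94)) (.leaf (670, 10184))) (.node (.leaf (118, 5163)) (.leaf (0, 0)))) (.node (.node (.leaf (267, 1950)) (.leaf (998, 13601))) (.node (.leaf (1399, 14611)) (.leaf (0, 0))))) (.node (.node (.node (.leaf (595, 6170)) (.leaf (945, 12178))) (.node (.leaf (763, 7763)) (.leaf (0, 0)))) (.node (.node (.leaf (80, 3690)) (.leaf (681, 14829))) (.node (.leaf (1291, 13610)) (.leaf (0, 0)))))) (.node (.node (.node (.node (.leaf (396, 3728)) (.leaf (743, 10889))) (.node (.leaf (585, 5955)) (.leaf (0, 0)))) (.node (.node (.leaf (331, 2526)) (.leaf (749, 14066))) (.node (.leaf (944, 11226)) (.leaf (0, 0))))) (.node (.node (.node (.leaf (201, 1617)) (.leaf (856, 12791))) (.node (.leaf (1179, 12320)) (.leaf (0, 0)))) (.node (.node (.leaf (137, 4648)) (.leaf (0, 0))) (.node (.leaf (1220, 12703)) (.leaf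 (0, 0))))))) (.node (.node (.node (.node (.node (.leaf (78, 723)) (.leaf (628, 11018))) (.node (.leaf (555, 5580)) (.leaf (0, 0)))) (.node (.node (.leaf (315, 2382)) (.leaf (750, 13817))) (.node (.leaf (1395, 14544)) (.leaf (0, 0))))) (.node (.node (.node (.leaf (422, 4441)) (.leaf (1047, 12462))) (.node (.leaf (1269, 13301)) (.leaf (0, 0)))) (.node (.node (.leaf (121, 4460)) (.leaf (1233, 15239))) (.node (.leaf (755, 11107)) (.leaf (0, 0)))))) (.node (.node (.node (.node (.leaf (106, 4565)) (.leaf (1075, 11762))) (.node (.leaf (161, 6772)) (.leaf (0, 0)))) (.node (.node (.leaf (71, 2922)) (.leaf (1196, 14416))) (.node (.leaf (872, 10968)) (.leaf (0, 0))))) (.node (.node (.node (.leaf (233, 1759)) (.leaf (1364, 14159))) (.node (.leaf (896, 10912)) (.leaf (0, 0)))) (.node (.node (.leaf (489, 4895)) (.leaf (0, 0))) (.node (.leaf (840, 9811)) (.leaf (0, 0)))))))) (.node (.node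 (.node (.node (.node (.node (.leaf (26, 425)) (.leaf (800, 10961))) (.node (.leaf (423, 5341)) (.leaf (0, 0)))) (.node (.node (.leaf (281, 2097)) (.leaf (861, 13712))) (.node (.leaf (1019, 10984)) (.leaf (0, 0))))) (.node (.node (.node (.leaf (511, 4999)) (.leaf (1106, 12311))) (.node (.leaf (1372, 14251)) (.leaf (0, 0)))) (.node (.node (.leaf (95, 4086)) (.leaf (999, 15040))) (.node (.leaf (1177, 12302)) (.leaf (0, 0)))))) (.node (.node (.node (.node (.leaf (53, 2043)) (.leaf (1165, 12217))) (.node (.leaf (620, 6908)) (.leaf (0, 0)))) (.node (.node (.leaf (345, 2747)) (.leaf (1133, 14225))) (.node (.leaf (1181, 12343)) (.leaf (0, 0))))) (.node (.node (.node (.leaf (240, 1796)) (.leaf (851, 12953))) (.node (.leaf (799, 9429)) (.leaf (0, 0)))) (.node (.node (.leaf (475, 4792)) (.leaf (0, 0))) (.node (.leaf (1407, 14696)) (.leaf (0, 0))))))) (.node (.node (.node (.node (.node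 (.leaf (299, 2201)) (.leaf (972, 10676))) (.node (.leaf (129, 5691)) (.leaf (0, 0)))) (.node (.node (.leaf (50, 2375)) (.leaf (1069, 13924))) (.node (.leaf (751, 10908)) (.leaf (0, 0))))) (.node (.node (.node (.leaf (49, 1576)) (.leaf (1300, 13676))) (.node (.leaf (1344, 13981)) (.leaf (0, 0)))) (.node (.node (.leaf (153, 4520)) (.leaf (0, 0))) (.node (.leaf (1264, 13233)) (.leaf (0, 0)))))) (.node (.node (.node (.node (.leaf (525, 5215)) (.leaf (934, 12003))) (.node (.leaf (850, 10990)) (.leaf (0, 0)))) (.node (.node (.leaf (400, 4026)) (.leaf (1077, 14648))) (.node (.leaf (1113, 11533)) (.leaf (0, 0))))) (.node (.node (.node (.leaf (249, 1847)) (.leaf (1073, 13373))) (.node (.leaf (1441, 15119)) (.leaf (0, 0)))) (.node (.node (.leaf (619, 6854)) (.leaf (0, 0))) (.node (.leaf (1156, 12098)) (.leaf (0, 0)))))))))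

def edge42 : Arr (ℕ × ℕ) :=
  (.node (.node (.node (.node (.node (.node (.node (.leaf (16, 132)) (.leaf (810, 10172))) (.node (.leaf (523, 5172)) (.leaf (0, 0)))) (.node (.node (.leaf (377, 4377)) (.leaf (1247, 13598))) (.node (.leaf (974, 9523)) (.leaf (0, 0))))) (.node (.node (.node (.leaf (141, 1205)) (.leaf (1166, 12175))) (.node (.leaf (652, 7147)) (.leaf (0, 0)))) (.node (.node (.leaf (195, 3963)) (.leaf (1419, 14836))) (.node (.leaf (1006, 9853)) (.leaf (0, 0)))))) (.node (.node (.node (.node (.leaf (91, 865)) (.leaf (727, 10891))) (.node (.leaf (559, 5962)) (.leaf (0, 0)))) (.node (.node (.leaf (285, 3773)) (.leaf (1369, 14219))) (.node (.leaf (1027, 10093)) (.leaf (0, 0))))) (.node (.node (.node (.leaf (203, 1618)) (.leaf (1172, 12788))) (.node (.leaf (722, 7575)) (.leaf (0, 0)))) (.node (.node (.leaf (550, 6133)) (.leaf (0, 0))) (.node (.leaf (694, 9479)) (.leaf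 (0, 0))))))) (.node (.node (.node (.node (.node (.leaf (99, 953)) (.leaf (1093, 10781))) (.node (.leaf (600, 6340)) (.leaf (0, 0)))) (.node (.node (.leaf (357, 3317)) (.leaf (1323, 13824))) (.node (.leaf (817, 8157)) (.leaf (0, 0))))) (.node (.node (.node (.leaf (103, 1496)) (.leaf (1198, 12459))) (.node (.leaf (684, 7343)) (.leaf (0, 0)))) (.node (.node (.leaf (423, 5097)) (.leaf (1403, 15240))) (.node (.leaf (1124, 11677)) (.leaf (0, 0)))))) (.node (.node (.node (.node (.leaf (110, 1023)) (.leaf (1135, 11831))) (.node (.leaf (480, 6797)) (.leaf (0, 0)))) (.node (.node (.leaf (272, 2927)) (.leaf (1399, 14608))) (.node (.leaf (664, 8686)) (.leaf (0, 0))))) (.node (.node (.node (.leaf (235, 1762)) (.leaf (1187, 13148))) (.node (.leaf (738, 7690)) (.leaf (0, 0)))) (.node (.node (.leaf (491, 4900)) (.leaf (0, 0))) (.node (.leaf (937, 9808)) (.leaf (0, 0)))))))) (.node (.node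 (.node (.node (.node (.node (.leaf (28, 426)) (.leaf (1091, 10753))) (.node (.leaf (539, 5344)) (.leaf (0, 0)))) (.node (.node (.leaf (283, 2098)) (.leaf (1302, 13717))) (.node (.leaf (970, 9475)) (.leaf (0, 0))))) (.node (.node (.node (.leaf (146, 1310)) (.leaf (1184, 12373))) (.node (.leaf (657, 7226)) (.leaf (0, 0)))) (.node (.node (.leaf (257, 4107)) (.leaf (1426, 15042))) (.node (.leaf (925, 9081)) (.leaf (0, 0)))))) (.node (.node (.node (.node (.leaf (45, 852)) (.leaf (689, 11542))) (.node (.leaf (530, 6910)) (.leaf (0, 0)))) (.node (.node (.leaf (347, 2750)) (.leaf (1371, 14234))) (.node (.leaf (782, 8500)) (.leaf (0, 0))))) (.node (.node (.node (.leaf (342, 2704)) (.leaf (1176, 12950))) (.node (.leaf (1098, 10883)) (.leaf (0, 0)))) (.node (.node (.leaf (528, 5265)) (.leaf (0, 0))) (.node (.leaf (1150, 12053)) (.leaf (0, 0))))))) (.node (.node (.node (.node (.node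 (.leaf (62, 575)) (.leaf (1085, 10701))) (.node (.leaf (548, 5692)) (.leaf (0, 0)))) (.node (.node (.leaf (298, 2381)) (.leaf (1457, 15331))) (.node (.leaf (760, 8232)) (.leaf (0, 0))))) (.node (.node (.node (.leaf (183, 2365)) (.leaf (1278, 13417))) (.node (.leaf (659, 7442)) (.leaf (0, 0)))) (.node (.node (.leaf (591, 6065)) (.leaf (0, 0))) (.node (.leaf (874, 9296)) (.leaf (0, 0)))))) (.node (.node (.node (.node (.leaf (163, 1407)) (.leaf (981, 12000))) (.node (.leaf (638, 7069)) (.leaf (0, 0)))) (.node (.node (.leaf (327, 4363)) (.leaf (1316, 14658))) (.node (.leaf (897, 8871)) (.leaf (0, 0))))) (.node (.node (.node (.leaf (251, 1850)) (.leaf (1193, 13368))) (.node (.leaf (822, 8183)) (.leaf (0, 0)))) (.node (.node (.leaf (456, 6856)) (.leaf (0, 0))) (.node (.leaf (922, 10002)) (.leaf (0, 0)))))))))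

def edge43 : Arr (ℕ × ℕ) :=
  (.node (.node (.node (.node (.node (.node (.node (.leaf (49, 506)) (.leaf (341, 10174))) (.node (.leaf (851, 8428)) (.leaf (0, 0)))) (.node (.node (.leaf (882, 8730)) (.leaf (1291, 13602))) (.node (.leaf (225, 7872)) (.leaf (0, 0))))) (.node (.node (.node (.leaf (24, 1178)) (.leaf (593, 12187))) (.node (.leaf (373, 7141)) (.leaf (0, 0)))) (.node (.node (.leaf (971, 9480)) (.leaf (1317, 14834))) (.node (.leaf (504, 8931)) (.leaf (0, 0)))))) (.node (.node (.node (.node (.leaf (75, 692)) (.leaf (1099, 11280))) (.node (.leaf (1281, 13454)) (.leaf (0, 0)))) (.node (.node (.leaf (1000, 9786)) (.leaf (1361, 14132))) (.node (.leaf (246, 8344)) (.leaf (0, 0))))) (.node (.node (.node (.leaf (190, 3395)) (.leaf (1227, 12792))) (.node (.leaf (715, 7548)) (.leaf (0, 0)))) (.node (.node (.leaf (283, 5500)) (.leaf (0, 0))) (.node (.leaf (581, 9476)) (.leaf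 (0, 0))))))) (.node (.node (.node (.node (.node (.leaf (8, 488)) (.leaf (481, 10523))) (.node (.leaf (389, 6202)) (.leaf (0, 0)))) (.node (.node (.leaf (770, 7802)) (.leaf (1417, 14822))) (.node (.leaf (811, 8116)) (.leaf (0, 0))))) (.node (.node (.node (.leaf (171, 1498)) (.leaf (1195, 12436))) (.node (.leaf (606, 7337)) (.leaf (0, 0)))) (.node (.node (.leaf (271, 5100)) (.leaf (1395, 15248))) (.node (.leaf (939, 9178)) (.leaf (0, 0)))))) (.node (.node (.node (.node (.leaf (107, 1006)) (.leaf (556, 11758))) (.node (.leaf (1032, 10142)) (.leaf (0, 0)))) (.node (.node (.leaf (296, 3351)) (.leaf (1402, 14654))) (.node (.leaf (875, 8666)) (.leaf (0, 0))))) (.node (.node (.node (.leaf (655, 7160)) (.leaf (543, 13150))) (.node (.leaf (747, 7692)) (.leaf (0, 0)))) (.node (.node (.leaf (512, 5375)) (.leaf (0, 0))) (.node (.leaf (1003, 9812)) (.leaf (0, 0)))))))) (.node (.node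 (.node (.node (.node (.node (.leaf (145, 1236)) (.leaf (1051, 10360))) (.node (.leaf (1211, 12716)) (.leaf (0, 0)))) (.node (.node (.leaf (918, 9028)) (.leaf (1449, 15234))) (.node (.leaf (795, 8008)) (.leaf (0, 0))))) (.node (.node (.node (.leaf (155, 1314)) (.leaf (568, 12315))) (.node (.leaf (667, 7230)) (.leaf (0, 0)))) (.node (.node (.leaf (372, 4093)) (.leaf (1297, 15044))) (.node (.leaf (282, 9042)) (.leaf (0, 0)))))) (.node (.node (.node (.node (.leaf (16, 854)) (.leaf (1115, 11544))) (.node (.leaf (214, 6914)) (.leaf (0, 0)))) (.node (.node (.leaf (509, 4986)) (.leaf (1313, 14233))) (.node (.leaf (258, 8502)) (.leaf (0, 0))))) (.node (.node (.node (.leaf (754, 7728)) (.leaf (1243, 12954))) (.node (.leaf (456, 7621)) (.leaf (0, 0)))) (.node (.node (.leaf (868, 8604)) (.leaf (0, 0))) (.node (.leaf (987, 9616)) (.leaf (0, 0))))))) (.node (.node (.node (.node (.node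 (.leaf (59, 550)) (.leaf (366, 10672))) (.node (.leaf (401, 5699)) (.leaf (0, 0)))) (.node (.node (.leaf (768, 7792)) (.leaf (1375, 14299))) (.node (.leaf (827, 8234)) (.leaf (0, 0))))) (.node (.node (.node (.leaf (505, 5455)) (.leaf (538, 12719))) (.node (.leaf (260, 7444)) (.leaf (0, 0)))) (.node (.node (.leaf (440, 4771)) (.leaf (0, 0))) (.node (.leaf (955, 9298)) (.leaf (0, 0)))))) (.node (.node (.node (.node (.leaf (123, 1072)) (.leaf (1147, 12004))) (.node (.leaf (635, 7052)) (.leaf (0, 0)))) (.node (.node (.leaf (772, 7818)) (.leaf (1326, 14650))) (.node (.leaf (891, 8814)) (.leaf (0, 0))))) (.node (.node (.node (.leaf (522, 5170)) (.leaf (534, 13370))) (.node (.leaf (763, 7756)) (.leaf (0, 0)))) (.node (.node (.leaf (212, 6860)) (.leaf (0, 0))) (.node (.leaf (1019, 10006)) (.leaf (0, 0)))))))))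

def edge44 : Arr (ℕ × ℕ) :=
  (.node (.node (.node (.node (.node (.node (.node (.leaf (11, 97)) (.leaf (903, 10216))) (.node (.leaf (428, 5176)) (.leaf (0, 0)))) (.node (.node (.leaf (309, 2503)) (.leaf (1266, 13604))) (.node (.leaf (785, 7925)) (.leaf (0, 0))))) (.node (.node (.node (.leaf (109, 1186)) (.leaf (1176, 12291))) (.node (.leaf (698, 7441)) (.leaf (0, 0)))) (.node (.node (.leaf (317, 3722)) (.leaf (1405, 14841))) (.node (.leaf (947, 9241)) (.leaf (0, 0)))))) (.node (.node (.node (.node (.leaf (69, 696)) (.leaf (1001, 11288))) (.node (.leaf (415, 5973)) (.leaf (0, 0)))) (.node (.node (.leaf (212, 2530)) (.leaf (1397, 14584))) (.node (.leaf (923, 9059)) (.leaf (0, 0))))) (.node (.node (.node (.leaf (273, 3127)) (.leaf (1164, 12799))) (.node (.leaf (1137, 11857)) (.leaf (0, 0)))) (.node (.node (.leaf (470, 4678)) (.leaf (0, 0))) (.node (.leaf (774, 9484)) (.leaf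 (0, 0))))))) (.node (.node (.node (.node (.node (.leaf (97, 927)) (.leaf (641, 10528))) (.node (.leaf (461, 5584)) (.leaf (0, 0)))) (.node (.node (.leaf (194, 2203)) (.leaf (1436, 15069))) (.node (.leaf (891, 8835)) (.leaf (0, 0))))) (.node (.node (.node (.leaf (159, 1502)) (.leaf (1263, 13213))) (.node (.leaf (994, 9733)) (.leaf (0, 0)))) (.node (.node (.leaf (522, 5167)) (.leaf (1450, 15260))) (.node (.leaf (809, 9182)) (.leaf (0, 0)))))) (.node (.node (.node (.node (.leaf (155, 1319)) (.leaf (739, 11768))) (.node (.leaf (608, 6840)) (.leaf (0, 0)))) (.node (.node (.leaf (401, 3893)) (.leaf (1349, 14430))) (.node (.leaf (1066, 10521)) (.leaf (0, 0))))) (.node (.node (.node (.leaf (315, 2837)) (.leaf (1218, 13156))) (.node (.leaf (1144, 11963)) (.leaf (0, 0)))) (.node (.node (.leaf (433, 5381)) (.leaf (0, 0))) (.node (.leaf (1038, 10255)) (.leaf (0, 0)))))))) (.node (.node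 (.node (.node (.node (.node (.leaf (27, 339)) (.leaf (980, 10368))) (.node (.leaf (584, 5941)) (.leaf (0, 0)))) (.node (.node (.leaf (239, 2103)) (.leaf (1336, 13910))) (.node (.leaf (974, 9521)) (.leaf (0, 0))))) (.node (.node (.node (.leaf (107, 1318)) (.leaf (1211, 12710))) (.node (.leaf (887, 8789)) (.leaf (0, 0)))) (.node (.node (.leaf (240, 4132)) (.leaf (1322, 15054))) (.node (.leaf (843, 9058)) (.leaf (0, 0)))))) (.node (.node (.node (.node (.leaf (55, 862)) (.leaf (880, 11548))) (.node (.leaf (425, 6376)) (.leaf (0, 0)))) (.node (.node (.leaf (261, 2752)) (.leaf (1364, 14238))) (.node (.leaf (781, 8510)) (.leaf (0, 0))))) (.node (.node (.node (.leaf (334, 2570)) (.leaf (1253, 13084))) (.node (.leaf (997, 9763)) (.leaf (0, 0)))) (.node (.node (.leaf (467, 6267)) (.leaf (0, 0))) (.node (.leaf (1096, 10815)) (.leaf (0, 0))))))) (.node (.node (.node (.node (.node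 (.leaf (95, 903)) (.leaf (644, 10682))) (.node (.leaf (456, 5718)) (.leaf (0, 0)))) (.node (.node (.leaf (235, 2836)) (.leaf (1295, 13932))) (.node (.leaf (817, 8243)) (.leaf (0, 0))))) (.node (.node (.node (.leaf (371, 3035)) (.leaf (1179, 12711))) (.node (.leaf (772, 7823)) (.leaf (0, 0)))) (.node (.node (.leaf (511, 5003)) (.leaf (0, 0))) (.node (.leaf (950, 9305)) (.leaf (0, 0)))))) (.node (.node (.node (.node (.leaf (153, 1299)) (.leaf (1071, 12008))) (.node (.leaf (801, 8068)) (.leaf (0, 0)))) (.node (.node (.leaf (382, 3280)) (.leaf (1448, 15218))) (.node (.leaf (811, 8834)) (.leaf (0, 0))))) (.node (.node (.node (.leaf (380, 3248)) (.leaf (1155, 13376))) (.node (.leaf (1034, 10169)) (.leaf (0, 0)))) (.node (.node (.leaf (549, 5551)) (.leaf (0, 0))) (.node (.leaf (1140, 11891)) (.leaf (0, 0)))))))))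

def edge45 : Arr (ℕ × ℕ) :=
  (.node (.node (.node (.node (.node (.node (.node (.leaf (10, 95)) (.leaf (1429, 14977))) (.node (.leaf (523, 5179)) (.leaf (0, 0)))) (.node (.node (.leaf (266, 1951)) (.leaf (906, 13611))) (.node (.leaf (1222, 12738)) (.leaf (0, 0))))) (.node (.node (.node (.leaf (524, 5191)) (.leaf (1092, 12191))) (.node (.leaf (1356, 14082)) (.leaf (0, 0)))) (.node (.node (.leaf (403, 3929)) (.leaf (928, 14838))) (.node (.leaf (1063, 10502)) (.leaf (0, 0)))))) (.node (.node (.node (.node (.leaf (398, 3784)) (.leaf (1403, 14660))) (.node (.leaf (151, 5970)) (.leaf (0, 0)))) (.node (.node (.leaf (330, 2527)) (.leaf (1044, 14076))) (.node (.leaf (686, 11214)) (.leaf (0, 0))))) (.node (.node (.node (.leaf (204, 1620)) (.leaf (1247, 13008))) (.node (.leaf (1359, 14109)) (.leaf (0, 0)))) (.node (.node (.leaf (108, 4651)) (.leaf (0, 0))) (.node (.leaf (885, 10493))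 (.leaf (0, 0))))))) (.node (.node (.node (.node (.node (.leaf (276, 2076)) (.leaf (752, 11261))) (.node (.leaf (554, 5581)) (.leaf (0, 0)))) (.node (.node (.leaf (58, 2200)) (.leaf (1324, 13826))) (.node (.leaf (1051, 10372)) (.leaf (0, 0))))) (.node (.node (.node (.leaf (454, 4639)) (.leaf (1420, 14860))) (.node (.leaf (625, 10935)) (.leaf (0, 0)))) (.node (.node (.leaf (160, 4729)) (.leaf (1151, 15252))) (.node (.leaf (1366, 14183)) (.leaf (0, 0)))))) (.node (.node (.node (.node (.leaf (447, 4620)) (.leaf (829, 11777))) (.node (.leaf (506, 6855)) (.leaf (0, 0)))) (.node (.node (.leaf (401, 3885)) (.leaf (792, 14422))) (.node (.leaf (1045, 11013)) (.leaf (0, 0))))) (.node (.node (.node (.leaf (195, 3959)) (.leaf (734, 13168))) (.node (.leaf (1200, 12482)) (.leaf (0, 0)))) (.node (.node (.leaf (492, 4902)) (.leaf (0, 0))) (.node (.leaf (821, 11004)) (.leaf (0, 0))))))))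 (.node (.node (.node (.node (.node (.node (.leaf (29, 340)) (.leaf (811, 10373))) (.node (.leaf (486, 5348)) (.leaf (0, 0)))) (.node (.node (.leaf (86, 2100)) (.leaf (632, 13721))) (.node (.leaf (1096, 10827)) (.leaf (0, 0))))) (.node (.node (.node (.leaf (553, 5569)) (.leaf (714, 12321))) (.node (.leaf (1119, 11608)) (.leaf (0, 0)))) (.node (.node (.leaf (333, 4129)) (.leaf (889, 15051))) (.node (.leaf (773, 11217)) (.leaf (0, 0)))))) (.node (.node (.node (.node (.leaf (287, 2115)) (.leaf (745, 11558))) (.node (.leaf (604, 6378)) (.leaf (0, 0)))) (.node (.node (.leaf (348, 2756)) (.leaf (1203, 14236))) (.node (.leaf (901, 11187)) (.leaf (0, 0))))) (.node (.node (.node (.leaf (64, 1680)) (.leaf (1088, 12961))) (.node (.leaf (675, 11087)) (.leaf (0, 0)))) (.node (.node (.leaf (474, 4793)) (.leaf (0, 0))) (.node (.leaf (974, 9659)) (.leaf (0, 0))))))) (.node (.node (.node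 (.node (.node (.leaf (307, 2273)) (.leaf (662, 11058))) (.node (.leaf (551, 5725)) (.leaf (0, 0)))) (.node (.node (.leaf (298, 2383)) (.leaf (769, 13927))) (.node (.leaf (913, 9977)) (.leaf (0, 0))))) (.node (.node (.node (.leaf (32, 1579)) (.leaf (1015, 12712))) (.node (.leaf (1109, 11460)) (.leaf (0, 0)))) (.node (.node (.leaf (136, 4573)) (.leaf (0, 0))) (.node (.leaf (855, 11180)) (.leaf (0, 0)))))) (.node (.node (.node (.node (.leaf (540, 5358)) (.leaf (671, 12017))) (.node (.leaf (1190, 12408)) (.leaf (0, 0)))) (.node (.node (.leaf (66, 3189)) (.leaf (1099, 14661))) (.node (.leaf (980, 9650)) (.leaf (0, 0))))) (.node (.node (.node (.leaf (252, 1852)) (.leaf (717, 13384))) (.node (.leaf (650, 7762)) (.leaf (0, 0)))) (.node (.node (.leaf (549, 5538)) (.leaf (0, 0))) (.node (.leaf (794, 10985)) (.leaf (0, 0)))))))))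

def edge46 : Arr (ℕ × ℕ) :=
  (.node (.node (.node (.node (.node (.node (.node (.leaf (12, 98)) (.leaf (806, 10227))) (.node (.leaf (524, 5184)) (.leaf (0, 0)))) (.node (.node (.leaf (268, 1954)) (.leaf (1250, 13608))) (.node (.leaf (781, 7898)) (.leaf (0, 0))))) (.node (.node (.node (.leaf (130, 1191)) (.leaf (1167, 12195))) (.node (.leaf (653, 7151)) (.leaf (0, 0)))) (.node (.node (.leaf (193, 3718)) (.leaf (1425, 14927))) (.node (.leaf (1007, 9863)) (.leaf (0, 0)))))) (.node (.node (.node (.node (.leaf (95, 905)) (.leaf (724, 11292))) (.node (.leaf (569, 6393)) (.leaf (0, 0)))) (.node (.node (.leaf (278, 2535)) (.leaf (1429, 14974))) (.node (.leaf (840, 8381)) (.leaf (0, 0))))) (.node (.node (.node (.leaf (308, 2289)) (.leaf (1175, 12796))) (.node (.leaf (719, 7563)) (.leaf (0, 0)))) (.node (.node (.leaf (460, 4652)) (.leaf (0, 0))) (.node (.leaf (695, 9488)) (.leaf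 (0, 0))))))) (.node (.node (.node (.node (.node (.leaf (52, 525)) (.leaf (1094, 10795))) (.node (.leaf (556, 5590)) (.leaf (0, 0)))) (.node (.node (.leaf (317, 2411)) (.leaf (1400, 14625))) (.node (.leaf (814, 8141)) (.leaf (0, 0))))) (.node (.node (.node (.leaf (107, 1506)) (.leaf (1201, 12491))) (.node (.leaf (685, 7347)) (.leaf (0, 0)))) (.node (.node (.leaf (428, 4470)) (.leaf (1448, 15254))) (.node (.leaf (1121, 11635)) (.leaf (0, 0)))))) (.node (.node (.node (.node (.leaf (114, 1041)) (.leaf (1144, 11965))) (.node (.leaf (449, 6838)) (.leaf (0, 0)))) (.node (.node (.leaf (209, 3886)) (.leaf (1324, 14426))) (.node (.leaf (661, 8668)) (.leaf (0, 0))))) (.node (.node (.node (.leaf (403, 3926)) (.leaf (1188, 13160))) (.node (.leaf (735, 7696)) (.leaf (0, 0)))) (.node (.node (.leaf (588, 5978)) (.leaf (0, 0))) (.node (.leaf (934, 9816)) (.leaf (0, 0)))))))) (.node (.node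 (.node (.node (.node (.node (.leaf (26, 429)) (.leaf (1088, 10727))) (.node (.leaf (621, 6963)) (.leaf (0, 0)))) (.node (.node (.leaf (333, 2560)) (.leaf (1308, 13728))) (.node (.leaf (971, 9487)) (.leaf (0, 0))))) (.node (.node (.node (.leaf (150, 1320)) (.leaf (1185, 12377))) (.node (.leaf (655, 7234)) (.leaf (0, 0)))) (.node (.node (.leaf (407, 4136)) (.leaf (1436, 15060))) (.node (.leaf (1017, 9989)) (.leaf (0, 0)))))) (.node (.node (.node (.node (.leaf (82, 869)) (.leaf (687, 11552))) (.node (.leaf (565, 6374)) (.leaf (0, 0)))) (.node (.node (.leaf (399, 3798)) (.leaf (1462, 15399))) (.node (.leaf (783, 8514)) (.leaf (0, 0))))) (.node (.node (.node (.leaf (242, 1825)) (.leaf (1179, 12958))) (.node (.leaf (1099, 11291)) (.leaf (0, 0)))) (.node (.node (.leaf (476, 4794)) (.leaf (0, 0))) (.node (.leaf (1147, 12011)) (.leaf (0, 0))))))) (.node (.node (.node (.node (.node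 (.leaf (66, 623)) (.leaf (1111, 11493))) (.node (.leaf (572, 5742)) (.leaf (0, 0)))) (.node (.node (.leaf (316, 2386)) (.leaf (1340, 13936))) (.node (.leaf (763, 8238)) (.leaf (0, 0))))) (.node (.node (.node (.leaf (188, 1582)) (.leaf (1279, 13433))) (.node (.leaf (703, 7465)) (.leaf (0, 0)))) (.node (.node (.leaf (444, 4534)) (.leaf (0, 0))) (.node (.leaf (877, 9302)) (.leaf (0, 0)))))) (.node (.node (.node (.node (.leaf (167, 1455)) (.leaf (979, 12012))) (.node (.leaf (636, 7059)) (.leaf (0, 0)))) (.node (.node (.leaf (228, 3219)) (.leaf (1404, 14666))) (.node (.leaf (894, 8849)) (.leaf (0, 0))))) (.node (.node (.node (.leaf (302, 2253)) (.leaf (1254, 13387))) (.node (.leaf (820, 8171)) (.leaf (0, 0)))) (.node (.node (.leaf (570, 5695)) (.leaf (0, 0))) (.node (.leaf (920, 10012)) (.leaf (0, 0)))))))))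

def edge47 : Arr (ℕ × ℕ) :=
  (.node (.node (.node (.node (.node (.node (.node (.leaf (55, 540)) (.leaf (1036, 10228))) (.node (.leaf (855, 8466)) (.leaf (0, 0)))) (.node (.node (.leaf (182, 2508)) (.leaf (1292, 13612))) (.node (.leaf (780, 7880)) (.leaf (0, 0))))) (.node (.node (.node (.leaf (140, 1192)) (.leaf (1164, 12164))) (.node (.leaf (181, 7134)) (.leaf (0, 0)))) (.node (.node (.leaf (1114, 11536)) (.leaf (1429, 14983))) (.node (.leaf (279, 8936)) (.leaf (0, 0)))))) (.node (.node (.node (.node (.leaf (76, 700)) (.leaf (1100, 11300))) (.node (.leaf (1182, 12344)) (.leaf (0, 0)))) (.node (.node (.leaf (1005, 9834)) (.leaf (1372, 14263))) (.node (.leaf (844, 8354)) (.leaf (0, 0))))) (.node (.node (.node (.leaf (705, 7474)) (.leaf (1228, 12800))) (.node (.leaf (454, 7599)) (.leaf (0, 0)))) (.node (.node (.leaf (1092, 10762)) (.leaf (0, 0))) (.node (.leaf (972, 9492))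 (.leaf (0, 0))))))) (.node (.node (.node (.node (.node (.leaf (44, 494)) (.leaf (1068, 10532))) (.node (.leaf (1145, 11976)) (.leaf (0, 0)))) (.node (.node (.leaf (652, 7144)) (.leaf (1414, 14780))) (.node (.leaf (480, 8131)) (.leaf (0, 0))))) (.node (.node (.node (.leaf (172, 1510)) (.leaf (1196, 12438))) (.node (.leaf (269, 7330)) (.leaf (0, 0)))) (.node (.node (.leaf (785, 7922)) (.leaf (1376, 15256))) (.node (.leaf (940, 9186)) (.leaf (0, 0)))))) (.node (.node (.node (.node (.leaf (108, 1008)) (.leaf (1132, 11780))) (.node (.leaf (265, 6843)) (.leaf (0, 0)))) (.node (.node (.leaf (237, 3896)) (.leaf (1445, 15178))) (.node (.leaf (596, 8699)) (.leaf (0, 0))))) (.node (.node (.node (.leaf (791, 7978)) (.leaf (590, 13162))) (.node (.leaf (531, 7698)) (.leaf (0, 0)))) (.node (.node (.leaf (1231, 12836)) (.leaf (0, 0))) (.node (.leaf (594, 9818)) (.leaf (0, 0)))))))) (.node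 (.node (.node (.node (.node (.node (.leaf (151, 1274)) (.leaf (477, 10367))) (.node (.leaf (1276, 13388)) (.leaf (0, 0)))) (.node (.node (.leaf (923, 9054)) (.leaf (1300, 13727))) (.node (.leaf (605, 8015)) (.leaf (0, 0))))) (.node (.node (.node (.leaf (156, 1324)) (.leaf (1180, 12324))) (.node (.leaf (204, 7236)) (.leaf (0, 0)))) (.node (.node (.leaf (1141, 11908)) (.leaf (1443, 15145))) (.node (.leaf (924, 9066)) (.leaf (0, 0)))))) (.node (.node (.node (.node (.leaf (92, 870)) (.leaf (390, 11554))) (.node (.leaf (1233, 12864)) (.leaf (0, 0)))) (.node (.node (.leaf (295, 3358)) (.leaf (1321, 14244))) (.node (.leaf (255, 8516)) (.leaf (0, 0))))) (.node (.node (.node (.leaf (759, 7746)) (.leaf (1244, 12962))) (.node (.leaf (732, 7626)) (.leaf (0, 0)))) (.node (.node (.leaf (1022, 10038)) (.leaf (0, 0))) (.node (.leaf (479, 9643)) (.leaf (0, 0))))))) (.node (.node (.node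 (.node (.node (.leaf (60, 552)) (.leaf (1084, 10688))) (.node (.leaf (756, 8098)) (.leaf (0, 0)))) (.node (.node (.leaf (879, 8704)) (.leaf (1303, 13935))) (.node (.leaf (472, 8240)) (.leaf (0, 0))))) (.node (.node (.node (.leaf (669, 7246)) (.leaf (1212, 12582))) (.node (.leaf (379, 7450)) (.leaf (0, 0)))) (.node (.node (.leaf (1202, 12500)) (.leaf (0, 0))) (.node (.leaf (956, 9308)) (.leaf (0, 0)))))) (.node (.node (.node (.node (.leaf (124, 1076)) (.leaf (1148, 12018))) (.node (.leaf (177, 7054)) (.leaf (0, 0)))) (.node (.node (.leaf (423, 4445)) (.leaf (1432, 15026))) (.node (.leaf (601, 8833)) (.leaf (0, 0))))) (.node (.node (.node (.leaf (854, 8456)) (.leaf (539, 13380))) (.node (.leaf (219, 7758)) (.leaf (0, 0)))) (.node (.node (.leaf (692, 7392)) (.leaf (0, 0))) (.node (.leaf (333, 10014)) (.leaf (0, 0)))))))))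

def edge48 : Arr (ℕ × ℕ) :=
  (.node (.node (.node (.node (.node (.node (.node (.leaf (12, 101)) (.leaf (944, 10232))) (.node (.leaf (429, 5192)) (.leaf (0, 0)))) (.node (.node (.leaf (200, 2498)) (.leaf (1239, 13614))) (.node (.leaf (783, 7919)) (.leaf (0, 0))))) (.node (.node (.node (.leaf (146, 1245)) (.leaf (1227, 12798))) (.node (.leaf (672, 7271)) (.leaf (0, 0)))) (.node (.node (.leaf (343, 3732)) (.leaf (1416, 14855))) (.node (.leaf (759, 8944)) (.leaf (0, 0)))))) (.node (.node (.node (.node (.leaf (40, 704)) (.leaf (721, 11302))) (.node (.leaf (434, 5984)) (.leaf (0, 0)))) (.node (.node (.leaf (215, 2548)) (.leaf (1344, 14086))) (.node (.leaf (1006, 9851)) (.leaf (0, 0))))) (.node (.node (.node (.leaf (375, 3123)) (.leaf (1210, 12802))) (.node (.leaf (900, 8895)) (.leaf (0, 0)))) (.node (.node (.leaf (554, 5579)) (.leaf (0, 0))) (.node (.leaf (990, 9677)) (.leaf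 (0, 0))))))) (.node (.node (.node (.node (.node (.leaf (56, 565)) (.leaf (1081, 10661))) (.node (.leaf (462, 5592)) (.leaf (0, 0)))) (.node (.node (.leaf (227, 2210)) (.leaf (1431, 15006))) (.node (.leaf (748, 8125)) (.leaf (0, 0))))) (.node (.node (.node (.leaf (130, 1514)) (.leaf (1241, 12942))) (.node (.leaf (861, 8539)) (.leaf (0, 0)))) (.node (.node (.leaf (523, 5177)) (.leaf (1318, 15272))) (.node (.leaf (1143, 11939)) (.leaf (0, 0)))))) (.node (.node (.node (.node (.leaf (126, 1090)) (.leaf (834, 11782))) (.node (.leaf (473, 6886)) (.leaf (0, 0)))) (.node (.node (.leaf (186, 2974)) (.leaf (1351, 14447))) (.node (.leaf (1080, 10655)) (.leaf (0, 0))))) (.node (.node (.node (.leaf (357, 3311)) (.leaf (1242, 13172))) (.node (.leaf (812, 8124)) (.leaf (0, 0)))) (.node (.node (.leaf (432, 5382)) (.leaf (0, 0))) (.node (.leaf (922, 9826)) (.leaf (0, 0)))))))) (.node (.node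 (.node (.node (.node (.node (.leaf (28, 335)) (.leaf (868, 10376))) (.node (.leaf (442, 5364)) (.leaf (0, 0)))) (.node (.node (.leaf (247, 4166)) (.leaf (1383, 14385))) (.node (.leaf (963, 9383)) (.leaf (0, 0))))) (.node (.node (.node (.leaf (138, 1328)) (.leaf (1225, 12773))) (.node (.leaf (638, 7240)) (.leaf (0, 0)))) (.node (.node (.leaf (250, 4210)) (.leaf (1323, 15068))) (.node (.leaf (829, 9073)) (.leaf (0, 0)))))) (.node (.node (.node (.node (.leaf (98, 939)) (.leaf (734, 11564))) (.node (.leaf (621, 6967)) (.leaf (0, 0)))) (.node (.node (.leaf (260, 2758)) (.leaf (1346, 14254))) (.node (.leaf (970, 9473)) (.leaf (0, 0))))) (.node (.node (.node (.leaf (231, 1746)) (.leaf (1194, 12973))) (.node (.leaf (841, 8351)) (.leaf (0, 0)))) (.node (.node (.leaf (601, 6353)) (.leaf (0, 0))) (.node (.leaf (627, 9633)) (.leaf (0, 0))))))) (.node (.node (.node (.node (.node (.leaf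 (102, 987)) (.leaf (662, 10695))) (.node (.leaf (520, 5748)) (.leaf (0, 0)))) (.node (.node (.leaf (403, 3935)) (.leaf (1296, 13938))) (.node (.leaf (1005, 9839)) (.leaf (0, 0))))) (.node (.node (.node (.leaf (320, 3067)) (.leaf (1251, 13063))) (.node (.leaf (712, 7535)) (.leaf (0, 0)))) (.node (.node (.leaf (513, 5027)) (.leaf (0, 0))) (.node (.leaf (1073, 10571)) (.leaf (0, 0)))))) (.node (.node (.node (.node (.leaf (106, 1149)) (.leaf (630, 12020))) (.node (.leaf (696, 7421)) (.leaf (0, 0)))) (.node (.node (.leaf (251, 3249)) (.leaf (1447, 15204))) (.node (.leaf (1145, 11981)) (.leaf (0, 0))))) (.node (.node (.node (.leaf (228, 3251)) (.leaf (1281, 13459))) (.node (.leaf (851, 8433)) (.leaf (0, 0)))) (.node (.node (.leaf (548, 5519)) (.leaf (0, 0))) (.node (.leaf (833, 10024)) (.leaf (0, 0)))))))))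

def edge49 : Arr (ℕ × ℕ) :=
  (.node (.node (.node (.node (.node (.node (.node (.leaf (12, 117)) (.leaf (758, 11222))) (.node (.leaf (139, 5190)) (.leaf (0, 0)))) (.node (.node (.leaf (269, 1956)) (.leaf (726, 13621))) (.node (.leaf (869, 11199)) (.leaf (0, 0))))) (.node (.node (.node (.leaf (446, 4607)) (.leaf (1221, 12730))) (.node (.leaf (1358, 14102)) (.leaf (0, 0)))) (.node (.node (.leaf (74, 3729)) (.leaf (1195, 14861))) (.node (.leaf (1174, 12264)) (.leaf (0, 0)))))) (.node (.node (.node (.node (.leaf (391, 3633)) (.leaf (849, 11311))) (.node (.leaf (589, 5994)) (.leaf (0, 0)))) (.node (.node (.leaf (332, 2547)) (.leaf (651, 14083))) (.node (.leaf (1079, 11054)) (.leaf (0, 0))))) (.node (.node (.node (.leaf (203, 1621)) (.leaf (1314, 13766))) (.node (.leaf (1426, 14939)) (.leaf (0, 0)))) (.node (.node (.leaf (461, 4654)) (.leaf (0, 0))) (.node (.leaf (1082, 10677))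 (.leaf (0, 0))))))) (.node (.node (.node (.node (.node (.leaf (288, 2116)) (.leaf (1170, 12233))) (.node (.leaf (480, 6793)) (.leaf (0, 0)))) (.node (.node (.leaf (47, 2207)) (.leaf (1323, 13827))) (.node (.leaf (677, 8837)) (.leaf (0, 0))))) (.node (.node (.node (.leaf (172, 4721)) (.leaf (1386, 14417))) (.node (.leaf (1330, 13869)) (.leaf (0, 0)))) (.node (.node (.leaf (428, 4697)) (.leaf (1350, 15264))) (.node (.leaf (839, 11117)) (.leaf (0, 0)))))) (.node (.node (.node (.node (.leaf (459, 4650)) (.leaf (802, 11795))) (.node (.leaf (602, 6909)) (.leaf (0, 0)))) (.node (.node (.leaf (61, 2969)) (.leaf (1217, 14452))) (.node (.leaf (1279, 13441)) (.leaf (0, 0))))) (.node (.node (.node (.leaf (237, 1768)) (.leaf (764, 13181))) (.node (.leaf (975, 9540)) (.leaf (0, 0)))) (.node (.node (.leaf (491, 4903)) (.leaf (0, 0))) (.node (.leaf (1198, 12460)) (.leaf (0, 0))))))))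 (.node (.node (.node (.node (.node (.node (.leaf (5, 329)) (.leaf (722, 11053))) (.node (.leaf (123, 5359)) (.leaf (0, 0)))) (.node (.node (.leaf (408, 4168)) (.leaf (1023, 13730))) (.node (.leaf (1458, 15343)) (.leaf (0, 0))))) (.node (.node (.node (.leaf (598, 6291)) (.leaf (1138, 12331))) (.node (.leaf (1294, 13649)) (.leaf (0, 0)))) (.node (.node (.leaf (387, 4223)) (.leaf (1431, 15062))) (.node (.leaf (739, 11050)) (.leaf (0, 0)))))) (.node (.node (.node (.node (.leaf (402, 3903)) (.leaf (1218, 12669))) (.node (.leaf (603, 6379)) (.leaf (0, 0)))) (.node (.node (.leaf (347, 2757)) (.leaf (666, 14250))) (.node (.leaf (1289, 13591)) (.leaf (0, 0))))) (.node (.node (.node (.leaf (36, 1715)) (.leaf (1057, 12969))) (.node (.leaf (665, 11172)) (.leaf (0, 0)))) (.node (.node (.leaf (477, 4796)) (.leaf (0, 0))) (.node (.leaf (1286, 13532)) (.leaf (0, 0))))))) (.node (.node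 (.node (.node (.node (.leaf (359, 2880)) (.leaf (644, 11064))) (.node (.leaf (144, 5744)) (.leaf (0, 0)))) (.node (.node (.leaf (317, 2390)) (.leaf (1341, 13940))) (.node (.leaf (1271, 13326)) (.leaf (0, 0))))) (.node (.node (.node (.leaf (189, 1584)) (.leaf (1425, 14922))) (.node (.leaf (957, 11700)) (.leaf (0, 0)))) (.node (.node (.leaf (444, 4547)) (.leaf (0, 0))) (.node (.leaf (1154, 12115)) (.leaf (0, 0)))))) (.node (.node (.node (.node (.leaf (124, 4599)) (.leaf (1265, 13246))) (.node (.leaf (835, 11150)) (.leaf (0, 0)))) (.node (.node (.leaf (228, 3217)) (.leaf (832, 14668))) (.node (.leaf (1049, 10349)) (.leaf (0, 0))))) (.node (.node (.node (.leaf (251, 1853)) (.leaf (961, 13399))) (.node (.leaf (1260, 13180)) (.leaf (0, 0)))) (.node (.node (.leaf (517, 5134)) (.leaf (0, 0))) (.node (.leaf (1103, 11367)) (.leaf (0, 0)))))))))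

def edge50 : Arr (ℕ × ℕ) :=
  (.node (.node (.node (.node (.node (.node (.node (.leaf (13, 118)) (.leaf (803, 10236))) (.node (.leaf (522, 5186)) (.leaf (0, 0)))) (.node (.node (.leaf (373, 3080)) (.leaf (1248, 13618))) (.node (.leaf (779, 7882)) (.leaf (0, 0))))) (.node (.node (.node (.leaf (127, 1198)) (.leaf (1170, 12227))) (.node (.leaf (871, 8635)) (.leaf (0, 0)))) (.node (.node (.leaf (280, 3737)) (.leaf (1459, 15357))) (.node (.leaf (916, 9015)) (.leaf (0, 0)))))) (.node (.node (.node (.node (.leaf (92, 875)) (.leaf (728, 11306))) (.node (.leaf (490, 5982)) (.leaf (0, 0)))) (.node (.node (.leaf (276, 2544)) (.leaf (1357, 14092))) (.node (.leaf (838, 8356)) (.leaf (0, 0))))) (.node (.node (.node (.leaf (205, 1622)) (.leaf (1173, 12804))) (.node (.leaf (720, 7567)) (.leaf (0, 0)))) (.node (.node (.leaf (477, 4800)) (.leaf (0, 0))) (.node (.leaf (693, 9498)) (.leaf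 (0, 0))))))) (.node (.node (.node (.node (.node (.leaf (49, 511)) (.leaf (1097, 10853))) (.node (.leaf (599, 6319)) (.leaf (0, 0)))) (.node (.node (.leaf (301, 2212)) (.leaf (1325, 13828))) (.node (.leaf (815, 8145)) (.leaf (0, 0))))) (.node (.node (.node (.leaf (104, 1518)) (.leaf (1199, 12471))) (.node (.leaf (850, 8421)) (.leaf (0, 0)))) (.node (.node (.leaf (429, 4709)) (.leaf (1368, 15266))) (.node (.leaf (1125, 11689)) (.leaf (0, 0)))))) (.node (.node (.node (.node (.leaf (111, 1027)) (.leaf (1141, 11915))) (.node (.leaf (596, 6894)) (.leaf (0, 0)))) (.node (.node (.leaf (365, 2978)) (.leaf (1318, 14449))) (.node (.leaf (662, 8674)) (.leaf (0, 0))))) (.node (.node (.node (.leaf (394, 3688)) (.leaf (1163, 13176))) (.node (.leaf (736, 7704)) (.leaf (0, 0)))) (.node (.node (.leaf (493, 4904)) (.leaf (0, 0))) (.node (.leaf (935, 9830)) (.leaf (0, 0)))))))) (.node (.node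 (.node (.node (.node (.node (.leaf (27, 337)) (.leaf (1089, 10737))) (.node (.leaf (439, 5415)) (.leaf (0, 0)))) (.node (.node (.leaf (409, 4170)) (.leaf (1413, 14765))) (.node (.leaf (972, 9497)) (.leaf (0, 0))))) (.node (.node (.node (.leaf (147, 1330)) (.leaf (1182, 12353))) (.node (.leaf (656, 7242)) (.leaf (0, 0)))) (.node (.node (.leaf (380, 4204)) (.leaf (1446, 15189))) (.node (.leaf (1015, 9949)) (.leaf (0, 0)))))) (.node (.node (.node (.node (.leaf (79, 876)) (.leaf (910, 11568))) (.node (.leaf (583, 6380)) (.leaf (0, 0)))) (.node (.node (.leaf (349, 2760)) (.leaf (1326, 14252))) (.node (.leaf (713, 8531)) (.leaf (0, 0))))) (.node (.node (.node (.leaf (221, 1718)) (.leaf (1177, 12966))) (.node (.leaf (1102, 11341)) (.leaf (0, 0)))) (.node (.node (.leaf (598, 6302)) (.leaf (0, 0))) (.node (.leaf (1148, 12023)) (.leaf (0, 0))))))) (.node (.node (.node (.node (.node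 (.leaf (63, 595)) (.leaf (1108, 11433))) (.node (.leaf (552, 6123)) (.leaf (0, 0)))) (.node (.node (.leaf (355, 2780)) (.leaf (1437, 15072))) (.node (.leaf (716, 8252)) (.leaf (0, 0))))) (.node (.node (.node (.leaf (237, 1772)) (.leaf (1276, 13393))) (.node (.leaf (704, 7471)) (.leaf (0, 0)))) (.node (.node (.leaf (445, 4548)) (.leaf (0, 0))) (.node (.leaf (875, 9314)) (.leaf (0, 0)))))) (.node (.node (.node (.node (.leaf (164, 1419)) (.leaf (982, 12024))) (.node (.leaf (865, 8583)) (.leaf (0, 0)))) (.node (.node (.leaf (381, 3226)) (.leaf (1450, 15243))) (.node (.leaf (895, 8857)) (.leaf (0, 0))))) (.node (.node (.node (.leaf (253, 1854)) (.leaf (1255, 13394))) (.node (.leaf (766, 7784)) (.leaf (0, 0)))) (.node (.node (.leaf (549, 5546)) (.leaf (0, 0))) (.node (.leaf (941, 10027)) (.leaf (0, 0)))))))))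

def edge51 : Arr (ℕ × ℕ) :=
  (.node (.node (.node (.node (.node (.node (.node (.leaf (61, 556)) (.leaf (1037, 10238))) (.node (.leaf (968, 9444)) (.leaf (0, 0)))) (.node (.node (.leaf (317, 3367)) (.leaf (1293, 13622))) (.node (.leaf (306, 7897)) (.leaf (0, 0))))) (.node (.node (.node (.leaf (141, 1202)) (.leaf (1165, 12166))) (.node (.leaf (653, 7148)) (.leaf (0, 0)))) (.node (.node (.leaf (1116, 11560)) (.leaf (1378, 14852))) (.node (.leaf (909, 8950)) (.leaf (0, 0)))))) (.node (.node (.node (.node (.leaf (77, 708)) (.leaf (1101, 11316))) (.node (.leaf (490, 5987)) (.leaf (0, 0)))) (.node (.node (.leaf (1010, 9890)) (.leaf (1420, 14856))) (.node (.leaf (845, 8358)) (.leaf (0, 0))))) (.node (.node (.node (.leaf (668, 7238)) (.leaf (487, 12806))) (.node (.leaf (717, 7554)) (.leaf (0, 0)))) (.node (.node (.leaf (344, 6205)) (.leaf (0, 0))) (.node (.leaf (305, 9500)) (.leaf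 (0, 0))))))) (.node (.node (.node (.node (.node (.leaf (45, 496)) (.leaf (1069, 10538))) (.node (.leaf (407, 6188)) (.leaf (0, 0)))) (.node (.node (.leaf (523, 5175)) (.leaf (1452, 15271))) (.node (.leaf (240, 8122)) (.leaf (0, 0))))) (.node (.node (.node (.leaf (173, 1522)) (.leaf (435, 12440))) (.node (.leaf (685, 7344)) (.leaf (0, 0)))) (.node (.node (.leaf (857, 8484)) (.leaf (1410, 15268))) (.node (.leaf (941, 9192)) (.leaf (0, 0)))))) (.node (.node (.node (.node (.leaf (19, 1010)) (.leaf (599, 11791))) (.node (.leaf (289, 6933)) (.leaf (0, 0)))) (.node (.node (.leaf (548, 5524)) (.leaf (1342, 14444))) (.node (.leaf (877, 8676)) (.leaf (0, 0))))) (.node (.node (.node (.leaf (794, 8004)) (.leaf (1261, 13184))) (.node (.leaf (216, 7706)) (.leaf (0, 0)))) (.node (.node (.leaf (1232, 12852)) (.leaf (0, 0))) (.node (.leaf (330, 9832)) (.leaf (0, 0)))))))) (.node (.node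 (.node (.node (.node (.node (.leaf (157, 1334)) (.leaf (1053, 10382))) (.node (.leaf (591, 6055)) (.leaf (0, 0)))) (.node (.node (.leaf (928, 9098)) (.leaf (1438, 15091))) (.node (.leaf (311, 8024)) (.leaf (0, 0))))) (.node (.node (.node (.leaf (27, 1332)) (.leaf (431, 12328))) (.node (.leaf (186, 7244)) (.leaf (0, 0)))) (.node (.node (.leaf (524, 5189)) (.leaf (1442, 15133))) (.node (.leaf (925, 9076)) (.leaf (0, 0)))))) (.node (.node (.node (.node (.leaf (93, 880)) (.leaf (1117, 11572))) (.node (.leaf (1192, 12416)) (.leaf (0, 0)))) (.node (.node (.leaf (610, 6492)) (.leaf (1411, 14752))) (.node (.leaf (561, 8524)) (.leaf (0, 0))))) (.node (.node (.node (.leaf (221, 2341)) (.leaf (1245, 12976))) (.node (.leaf (733, 7630)) (.leaf (0, 0)))) (.node (.node (.leaf (942, 9200)) (.leaf (0, 0))) (.node (.leaf (313, 9630)) (.leaf (0, 0))))))) (.node (.node (.node (.node (.node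 (.leaf (11, 554)) (.leaf (1085, 10696))) (.node (.leaf (1039, 10264)) (.leaf (0, 0)))) (.node (.node (.leaf (883, 8740)) (.leaf (1451, 15259))) (.node (.leaf (829, 8254)) (.leaf (0, 0))))) (.node (.node (.node (.leaf (672, 7268)) (.leaf (441, 12584))) (.node (.leaf (701, 7454)) (.leaf (0, 0)))) (.node (.node (.leaf (1205, 12530)) (.leaf (0, 0))) (.node (.leaf (957, 9318)) (.leaf (0, 0)))))) (.node (.node (.node (.node (.leaf (125, 1080)) (.leaf (1149, 12026))) (.node (.leaf (637, 7060)) (.leaf (0, 0)))) (.node (.node (.leaf (853, 8450)) (.leaf (1387, 14673))) (.node (.leaf (276, 8822)) (.leaf (0, 0))))) (.node (.node (.node (.leaf (189, 3402)) (.leaf (1277, 13400))) (.node (.leaf (765, 7766)) (.leaf (0, 0)))) (.node (.node (.leaf (197, 4974)) (.leaf (0, 0))) (.node (.leaf (1021, 10028)) (.leaf (0, 0)))))))))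

def edge52 : Arr (ℕ × ℕ) :=
  (.node (.node (.node (.node (.node (.node (.node (.leaf (13, 111)) (.leaf (1027, 10242))) (.node (.leaf (430, 5210)) (.leaf (0, 0)))) (.node (.node (.leaf (199, 2497)) (.leaf (1255, 13626))) (.node (.leaf (859, 8511)) (.leaf (0, 0))))) (.node (.node (.node (.leaf (147, 1251)) (.leaf (1223, 12754))) (.node (.leaf (659, 7197)) (.leaf (0, 0)))) (.node (.node (.leaf (243, 3762)) (.leaf (1338, 14871))) (.node (.leaf (1031, 10133)) (.leaf (0, 0)))))) (.node (.node (.node (.node (.leaf (89, 835)) (.leaf (946, 11320))) (.node (.leaf (435, 6000)) (.leaf (0, 0)))) (.node (.node (.leaf (218, 2564)) (.leaf (1304, 14098))) (.node (.leaf (726, 8383)) (.leaf (0, 0))))) (.node (.node (.node (.leaf (359, 2883)) (.leaf (1202, 12812))) (.node (.leaf (757, 7745)) (.leaf (0, 0)))) (.node (.node (.leaf (555, 5585)) (.leaf (0, 0))) (.node (.leaf (681, 9508)) (.leaf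 (0, 0))))))) (.node (.node (.node (.node (.node (.leaf (57, 581)) (.leaf (1054, 10540))) (.node (.leaf (464, 5600)) (.leaf (0, 0)))) (.node (.node (.leaf (306, 4249)) (.leaf (1348, 14037))) (.node (.leaf (1121, 11633)) (.leaf (0, 0))))) (.node (.node (.node (.leaf (119, 1526)) (.leaf (1226, 12787))) (.node (.leaf (769, 7800)) (.leaf (0, 0)))) (.node (.node (.leaf (524, 5193)) (.leaf (1442, 15279))) (.node (.leaf (752, 9194)) (.leaf (0, 0)))))) (.node (.node (.node (.node (.leaf (139, 1187)) (.leaf (761, 11800))) (.node (.leaf (604, 6966)) (.leaf (0, 0)))) (.node (.node (.leaf (183, 2982)) (.leaf (1352, 14465))) (.node (.leaf (642, 8690)) (.leaf (0, 0))))) (.node (.node (.node (.leaf (297, 3337)) (.leaf (1238, 13188))) (.node (.leaf (1141, 11913)) (.leaf (0, 0)))) (.node (.node (.leaf (494, 5385)) (.leaf (0, 0))) (.node (.leaf (828, 9838)) (.leaf (0, 0)))))))) (.node (.node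 (.node (.node (.node (.node (.leaf (29, 345)) (.leaf (1063, 10465))) (.node (.leaf (616, 6689)) (.leaf (0, 0)))) (.node (.node (.leaf (244, 3766)) (.leaf (1460, 15376))) (.node (.leaf (879, 8709)) (.leaf (0, 0))))) (.node (.node (.node (.leaf (127, 1338)) (.leaf (1270, 13305))) (.node (.leaf (886, 8779)) (.leaf (0, 0)))) (.node (.node (.leaf (389, 4268)) (.leaf (1409, 15078))) (.node (.leaf (935, 9151)) (.leaf (0, 0)))))) (.node (.node (.node (.node (.leaf (99, 951)) (.leaf (824, 11576))) (.node (.leaf (622, 6997)) (.leaf (0, 0)))) (.node (.node (.leaf (184, 2762)) (.leaf (1367, 14275))) (.node (.leaf (684, 8538)) (.leaf (0, 0))))) (.node (.node (.node (.leaf (335, 2577)) (.leaf (1268, 13275))) (.node (.leaf (718, 7637)) (.leaf (0, 0)))) (.node (.node (.leaf (600, 6345)) (.leaf (0, 0))) (.node (.leaf (678, 9664)) (.leaf (0, 0))))))) (.node (.node (.node (.node (.node (.leaf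 (49, 560)) (.leaf (1105, 11389))) (.node (.leaf (451, 6736)) (.leaf (0, 0)))) (.node (.node (.leaf (395, 3723)) (.leaf (1297, 13942))) (.node (.leaf (924, 9072)) (.leaf (0, 0))))) (.node (.node (.node (.leaf (372, 3047)) (.leaf (1257, 13127))) (.node (.leaf (959, 9339)) (.leaf (0, 0)))) (.node (.node (.leaf (510, 4993)) (.leaf (0, 0))) (.node (.leaf (1150, 12051)) (.leaf (0, 0)))))) (.node (.node (.node (.node (.leaf (137, 1165)) (.leaf (1048, 12030))) (.node (.leaf (688, 7369)) (.leaf (0, 0)))) (.node (.node (.leaf (302, 3246)) (.leaf (1419, 14840))) (.node (.leaf (1040, 10279)) (.leaf (0, 0))))) (.node (.node (.node (.leaf (386, 3559)) (.leaf (1234, 13402))) (.node (.leaf (969, 9459)) (.leaf (0, 0)))) (.node (.node (.leaf (499, 4985)) (.leaf (0, 0))) (.node (.leaf (740, 10032)) (.leaf (0, 0)))))))))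

def edge53 : Arr (ℕ × ℕ) :=
  (.node (.node (.node (.node (.node (.node (.node (.leaf (2, 108)) (.leaf (1438, 15085))) (.node (.leaf (122, 5214)) (.leaf (0, 0)))) (.node (.node (.leaf (268, 1957)) (.leaf (1009, 13633))) (.node (.leaf (1139, 11886)) (.leaf (0, 0))))) (.node (.node (.node (.leaf (481, 4815)) (.leaf (1114, 12216))) (.node (.leaf (962, 9376)) (.leaf (0, 0)))) (.node (.node (.leaf (285, 3769)) (.leaf (1054, 14866))) (.node (.leaf (719, 10199)) (.leaf (0, 0)))))) (.node (.node (.node (.node (.leaf (392, 3647)) (.leaf (661, 11329))) (.node (.leaf (588, 5995)) (.leaf (0, 0)))) (.node (.node (.leaf (411, 4128)) (.leaf (703, 14094))) (.node (.leaf (1239, 12920)) (.leaf (0, 0))))) (.node (.node (.node (.leaf (102, 1624)) (.leaf (674, 12815))) (.node (.leaf (1275, 13385)) (.leaf (0, 0)))) (.node (.node (.leaf (460, 4655)) (.leaf (0, 0))) (.node (.leaf (1449, 15224))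 (.leaf (0, 0))))))) (.node (.node (.node (.node (.node (.leaf (35, 2033)) (.leaf (1338, 13925))) (.node (.leaf (479, 5621)) (.leaf (0, 0)))) (.node (.node (.leaf (302, 2214)) (.leaf (1186, 13830))) (.node (.leaf (1326, 13841)) (.leaf (0, 0))))) (.node (.node (.node (.leaf (466, 4667)) (.leaf (786, 12447))) (.node (.leaf (1295, 13650)) (.leaf (0, 0)))) (.node (.node (.leaf (109, 4715)) (.leaf (1457, 15328))) (.node (.leaf (641, 11265)) (.leaf (0, 0)))))) (.node (.node (.node (.node (.leaf (429, 4714)) (.leaf (1370, 14224))) (.node (.leaf (425, 6959)) (.leaf (0, 0)))) (.node (.node (.leaf (366, 2988)) (.leaf (669, 14462))) (.node (.leaf (1282, 13470)) (.leaf (0, 0))))) (.node (.node (.node (.leaf (236, 1769)) (.leaf (814, 13195))) (.node (.leaf (1354, 14067)) (.leaf (0, 0)))) (.node (.node (.leaf (494, 4906)) (.leaf (0, 0))) (.node (.leaf (1166, 12176)) (.leaf (0, 0))))))))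 (.node (.node (.node (.node (.node (.node (.leaf (27, 341)) (.leaf (947, 10504))) (.node (.leaf (439, 5413)) (.leaf (0, 0)))) (.node (.node (.leaf (397, 3768)) (.leaf (942, 13735))) (.node (.leaf (1398, 14593)) (.leaf (0, 0))))) (.node (.node (.node (.leaf (164, 4587)) (.leaf (858, 12342))) (.node (.leaf (1389, 14463)) (.leaf (0, 0)))) (.node (.node (.leaf (185, 4263)) (.leaf (1128, 15074))) (.node (.leaf (969, 11162)) (.leaf (0, 0)))))) (.node (.node (.node (.node (.leaf (99, 2062)) (.leaf (953, 11585))) (.node (.leaf (605, 6417)) (.leaf (0, 0)))) (.node (.node (.leaf (350, 2764)) (.leaf (910, 14270))) (.node (.leaf (1306, 13713)) (.leaf (0, 0))))) (.node (.node (.node (.leaf (222, 1720)) (.leaf (771, 12987))) (.node (.leaf (1182, 12354)) (.leaf (0, 0)))) (.node (.node (.leaf (476, 4797)) (.leaf (0, 0))) (.node (.leaf (1060, 10962)) (.leaf (0, 0))))))) (.node (.node (.node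 (.node (.node (.leaf (364, 2968)) (.leaf (825, 11398))) (.node (.leaf (617, 6726)) (.leaf (0, 0)))) (.node (.node (.leaf (316, 2391)) (.leaf (1340, 13941))) (.node (.leaf (1131, 11776)) (.leaf (0, 0))))) (.node (.node (.node (.leaf (188, 1585)) (.leaf (1022, 12599))) (.node (.leaf (904, 11224)) (.leaf (0, 0)))) (.node (.node (.leaf (169, 4540)) (.leaf (0, 0))) (.node (.leaf (700, 11701)) (.leaf (0, 0)))))) (.node (.node (.node (.node (.leaf (546, 5440)) (.leaf (754, 12041))) (.node (.leaf (1008, 11093)) (.leaf (0, 0)))) (.node (.node (.leaf (306, 4251)) (.leaf (803, 14678))) (.node (.leaf (1379, 14341)) (.leaf (0, 0))))) (.node (.node (.node (.leaf (254, 1856)) (.leaf (967, 13409))) (.node (.leaf (935, 11166)) (.leaf (0, 0)))) (.node (.node (.leaf (150, 4980)) (.leaf (0, 0))) (.node (.leaf (1135, 11837)) (.leaf (0, 0)))))))))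

def edge54 : Arr (ℕ × ℕ) :=
  (.node (.node (.node (.node (.node (.node (.node (.leaf (11, 122)) (.leaf (807, 10246))) (.node (.leaf (525, 5213)) (.leaf (0, 0)))) (.node (.node (.leaf (270, 1958)) (.leaf (1251, 13630))) (.node (.leaf (780, 7888)) (.leaf (0, 0))))) (.node (.node (.node (.leaf (131, 1206)) (.leaf (1168, 12199))) (.node (.leaf (872, 8647)) (.leaf (0, 0)))) (.node (.node (.leaf (334, 3758)) (.leaf (1311, 14877))) (.node (.leaf (913, 8971)) (.leaf (0, 0)))))) (.node (.node (.node (.node (.leaf (96, 915)) (.leaf (725, 11324))) (.node (.leaf (496, 6031)) (.leaf (0, 0)))) (.node (.node (.leaf (282, 2562)) (.leaf (1361, 14123))) (.node (.leaf (841, 8378)) (.leaf (0, 0))))) (.node (.node (.node (.leaf (326, 2454)) (.leaf (1231, 12843))) (.node (.leaf (723, 7583)) (.leaf (0, 0)))) (.node (.node (.leaf (462, 4656)) (.leaf (0, 0))) (.node (.leaf (773, 9512)) (.leaf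 (0, 0))))))) (.node (.node (.node (.node (.node (.leaf (53, 531)) (.leaf (1095, 10805))) (.node (.leaf (618, 6770)) (.leaf (0, 0)))) (.node (.node (.leaf (256, 2619)) (.leaf (1387, 14420))) (.node (.leaf (1032, 10149)) (.leaf (0, 0))))) (.node (.node (.node (.leaf (108, 1530)) (.leaf (1272, 13335))) (.node (.leaf (848, 8395)) (.leaf (0, 0)))) (.node (.node (.leaf (427, 4706)) (.leaf (1440, 15283))) (.node (.leaf (1122, 11645)) (.leaf (0, 0)))))) (.node (.node (.node (.node (.leaf (172, 1517)) (.leaf (1142, 11929))) (.node (.leaf (538, 6960)) (.leaf (0, 0)))) (.node (.node (.leaf (390, 3620)) (.leaf (1394, 14530))) (.node (.leaf (665, 8685)) (.leaf (0, 0))))) (.node (.node (.node (.leaf (187, 1770)) (.leaf (1161, 13192))) (.node (.leaf (1043, 10307)) (.leaf (0, 0)))) (.node (.node (.leaf (545, 5430)) (.leaf (0, 0))) (.node (.leaf (900, 9842)) (.leaf (0, 0)))))))) (.node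 (.node (.node (.node (.node (.node (.leaf (21, 381)) (.leaf (1092, 10767))) (.node (.leaf (542, 5398)) (.leaf (0, 0)))) (.node (.node (.leaf (329, 3770)) (.leaf (1310, 13742))) (.node (.leaf (671, 8032)) (.leaf (0, 0))))) (.node (.node (.node (.leaf (154, 1345)) (.leaf (1244, 12965))) (.node (.leaf (674, 7287)) (.leaf (0, 0)))) (.node (.node (.leaf (312, 4264)) (.leaf (1339, 15076))) (.node (.leaf (1018, 10001)) (.leaf (0, 0)))))) (.node (.node (.node (.node (.leaf (83, 884)) (.leaf (908, 11580))) (.node (.leaf (581, 6414)) (.leaf (0, 0)))) (.node (.node (.leaf (391, 3634)) (.leaf (1321, 14273))) (.node (.leaf (711, 8540)) (.leaf (0, 0))))) (.node (.node (.node (.leaf (254, 1860)) (.leaf (1180, 12982))) (.node (.leaf (1100, 11305)) (.leaf (0, 0)))) (.node (.node (.leaf (459, 4798)) (.leaf (0, 0))) (.node (.leaf (960, 9668)) (.leaf (0, 0))))))) (.node (.node (.node (.node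 (.node (.leaf (70, 657)) (.leaf (1112, 11513))) (.node (.leaf (453, 6732)) (.leaf (0, 0)))) (.node (.node (.leaf (318, 2392)) (.leaf (1342, 13944))) (.node (.leaf (714, 8258)) (.leaf (0, 0))))) (.node (.node (.node (.leaf (190, 1586)) (.leaf (1204, 12592))) (.node (.leaf (702, 7461)) (.leaf (0, 0)))) (.node (.node (.leaf (443, 4550)) (.leaf (0, 0))) (.node (.leaf (878, 9322)) (.leaf (0, 0)))))) (.node (.node (.node (.node (.leaf (168, 1467)) (.leaf (980, 12034))) (.node (.leaf (863, 8559)) (.leaf (0, 0)))) (.node (.node (.leaf (412, 4207)) (.leaf (1443, 15148))) (.node (.leaf (1012, 9915)) (.leaf (0, 0))))) (.node (.node (.node (.leaf (382, 3278)) (.leaf (1252, 13406))) (.node (.leaf (764, 7768)) (.leaf (0, 0)))) (.node (.node (.leaf (457, 6747)) (.leaf (0, 0))) (.node (.leaf (938, 10034)) (.leaf (0, 0)))))))))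

def edge55 : Arr (ℕ × ℕ) :=
  (.node (.node (.node (.node (.node (.node (.node (.leaf (67, 628)) (.leaf (1038, 10250))) (.node (.leaf (779, 7876)) (.leaf (0, 0)))) (.node (.node (.leaf (303, 2954)) (.leaf (1294, 13634))) (.node (.leaf (226, 7890)) (.leaf (0, 0))))) (.node (.node (.node (.leaf (142, 1208)) (.leaf (419, 12168))) (.node (.leaf (500, 7153)) (.leaf (0, 0)))) (.node (.node (.leaf (1121, 11628)) (.leaf (1396, 14872))) (.node (.leaf (575, 8995)) (.leaf (0, 0)))))) (.node (.node (.node (.node (.leaf (78, 712)) (.leaf (520, 11326))) (.node (.leaf (559, 6555)) (.leaf (0, 0)))) (.node (.node (.leaf (1015, 9940)) (.leaf (1379, 14347))) (.node (.leaf (846, 8360)) (.leaf (0, 0))))) (.node (.node (.node (.leaf (183, 1628)) (.leaf (1230, 12818))) (.node (.leaf (718, 7556)) (.leaf (0, 0)))) (.node (.node (.leaf (917, 9020)) (.leaf (0, 0))) (.node (.leaf (974, 9516)) (.leaf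 (0, 0))))))) (.node (.node (.node (.node (.node (.leaf (46, 498)) (.leaf (353, 10542))) (.node (.leaf (241, 6185)) (.leaf (0, 0)))) (.node (.node (.leaf (967, 9430)) (.leaf (1421, 14865))) (.node (.leaf (814, 8138)) (.leaf (0, 0))))) (.node (.node (.node (.leaf (174, 1534)) (.leaf (1198, 12454))) (.node (.leaf (248, 7351)) (.leaf (0, 0)))) (.node (.node (.leaf (782, 7902)) (.leaf (1339, 15276))) (.node (.leaf (476, 9199)) (.leaf (0, 0)))))) (.node (.node (.node (.node (.leaf (110, 1020)) (.leaf (1134, 11808))) (.node (.leaf (1252, 13066)) (.leaf (0, 0)))) (.node (.node (.leaf (194, 3365)) (.leaf (1335, 14468))) (.node (.leaf (878, 8678)) (.leaf (0, 0))))) (.node (.node (.node (.leaf (797, 8026)) (.leaf (1262, 13198))) (.node (.leaf (750, 7710)) (.leaf (0, 0)))) (.node (.node (.leaf (565, 6550)) (.leaf (0, 0))) (.node (.leaf (1006, 9846)) (.leaf (0, 0)))))))) (.node (.node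 (.node (.node (.node (.node (.leaf (163, 1400)) (.leaf (1054, 10390))) (.node (.leaf (515, 6089)) (.leaf (0, 0)))) (.node (.node (.leaf (933, 9132)) (.leaf (1315, 13781))) (.node (.leaf (798, 8034)) (.leaf (0, 0))))) (.node (.node (.node (.leaf (158, 1346)) (.leaf (587, 12338))) (.node (.leaf (670, 7250)) (.leaf (0, 0)))) (.node (.node (.leaf (1146, 11992)) (.leaf (1312, 15081))) (.node (.leaf (926, 9082)) (.leaf (0, 0)))))) (.node (.node (.node (.node (.leaf (94, 888)) (.leaf (1118, 11590))) (.node (.leaf (796, 8018)) (.leaf (0, 0)))) (.node (.node (.leaf (188, 3362)) (.leaf (1453, 15280))) (.node (.leaf (862, 8542)) (.leaf (0, 0))))) (.node (.node (.node (.leaf (430, 5102)) (.leaf (1246, 12988))) (.node (.leaf (213, 7634)) (.leaf (0, 0)))) (.node (.node (.leaf (1052, 10374)) (.leaf (0, 0))) (.node (.leaf (990, 9672)) (.leaf (0, 0))))))) (.node (.node (.node (.node (.node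 (.leaf (62, 568)) (.leaf (1086, 10702))) (.node (.leaf (723, 7592)) (.leaf (0, 0)))) (.node (.node (.leaf (872, 8642)) (.leaf (1366, 14734))) (.node (.leaf (830, 8260)) (.leaf (0, 0))))) (.node (.node (.node (.leaf (675, 7290)) (.leaf (1214, 12604))) (.node (.leaf (198, 7456)) (.leaf (0, 0)))) (.node (.node (.leaf (1213, 12586)) (.leaf (0, 0))) (.node (.leaf (620, 9324)) (.leaf (0, 0)))))) (.node (.node (.node (.node (.leaf (126, 1084)) (.leaf (1150, 12046))) (.node (.leaf (201, 7065)) (.leaf (0, 0)))) (.node (.node (.leaf (300, 3245)) (.leaf (1360, 14682))) (.node (.leaf (894, 8846)) (.leaf (0, 0))))) (.node (.node (.node (.leaf (680, 7316)) (.leaf (1278, 13412))) (.node (.leaf (254, 7783)) (.leaf (0, 0)))) (.node (.node (.leaf (294, 4982)) (.leaf (0, 0))) (.node (.leaf (475, 10036)) (.leaf (0, 0)))))))))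

def edge56 : Arr (ℕ × ℕ) :=
  (.node (.node (.node (.node (.node (.node (.node (.leaf (14, 163)) (.leaf (1003, 10254))) (.node (.leaf (466, 5222)) (.leaf (0, 0)))) (.node (.node (.leaf (271, 2494)) (.leaf (1246, 13636))) (.node (.leaf (855, 8469)) (.leaf (0, 0))))) (.node (.node (.node (.leaf (166, 1441)) (.leaf (1271, 13319))) (.node (.leaf (657, 7172)) (.leaf (0, 0)))) (.node (.node (.leaf (258, 3790)) (.leaf (1432, 15025))) (.node (.leaf (741, 8986)) (.leaf (0, 0)))))) (.node (.node (.node (.node (.leaf (42, 719)) (.leaf (1029, 11338))) (.node (.leaf (437, 6020)) (.leaf (0, 0)))) (.node (.node (.leaf (219, 2571)) (.leaf (1376, 14310))) (.node (.leaf (936, 9159)) (.leaf (0, 0))))) (.node (.node (.node (.leaf (376, 4011)) (.leaf (1214, 12822))) (.node (.leaf (733, 7636)) (.leaf (0, 0)))) (.node (.node (.leaf (556, 5593)) (.leaf (0, 0))) (.node (.leaf (795, 9520)) (.leaf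 (0, 0))))))) (.node (.node (.node (.node (.node (.leaf (94, 891)) (.leaf (948, 10548))) (.node (.leaf (468, 6216)) (.leaf (0, 0)))) (.node (.node (.leaf (381, 3247)) (.leaf (1347, 14026))) (.node (.leaf (894, 8850)) (.leaf (0, 0))))) (.node (.node (.node (.leaf (132, 1538)) (.leaf (1177, 12464))) (.node (.leaf (773, 7833)) (.leaf (0, 0)))) (.node (.node (.leaf (525, 5211)) (.leaf (1391, 15293))) (.node (.leaf (917, 9204)) (.leaf (0, 0)))))) (.node (.node (.node (.node (.leaf (164, 1417)) (.leaf (1013, 11814))) (.node (.leaf (605, 6996)) (.leaf (0, 0)))) (.node (.node (.leaf (312, 2992)) (.leaf (1328, 14474))) (.node (.leaf (983, 9594)) (.leaf (0, 0))))) (.node (.node (.node (.leaf (296, 2186)) (.leaf (1267, 13263))) (.node (.leaf (889, 8808)) (.leaf (0, 0)))) (.node (.node (.leaf (493, 5384)) (.leaf (0, 0))) (.node (.leaf (844, 9850)) (.leaf (0, 0)))))))) (.node (.node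 (.node (.node (.node (.node (.leaf (30, 361)) (.leaf (1069, 10541))) (.node (.leaf (577, 5843)) (.leaf (0, 0)))) (.node (.node (.leaf (242, 4182)) (.leaf (1456, 15324))) (.node (.leaf (965, 9403)) (.leaf (0, 0))))) (.node (.node (.node (.leaf (170, 1493)) (.leaf (1171, 12350))) (.node (.leaf (650, 7264)) (.leaf (0, 0)))) (.node (.node (.leaf (390, 4300)) (.leaf (1459, 15359))) (.node (.leaf (727, 9096)) (.leaf (0, 0)))))) (.node (.node (.node (.node (.leaf (46, 890)) (.leaf (1123, 11657))) (.node (.leaf (482, 6431)) (.leaf (0, 0)))) (.node (.node (.leaf (289, 2766)) (.leaf (1429, 14985))) (.node (.leaf (789, 8551)) (.leaf (0, 0))))) (.node (.node (.node (.leaf (336, 2583)) (.leaf (1294, 13637))) (.node (.leaf (1116, 11565)) (.leaf (0, 0)))) (.node (.node (.leaf (469, 6282)) (.leaf (0, 0))) (.node (.leaf (972, 9676)) (.leaf (0, 0))))))) (.node (.node (.node (.node (.node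 (.leaf (32, 572)) (.leaf (626, 10711))) (.node (.leaf (454, 5765)) (.leaf (0, 0)))) (.node (.node (.leaf (193, 2412)) (.leaf (1298, 13948))) (.node (.leaf (805, 8267)) (.leaf (0, 0))))) (.node (.node (.node (.leaf (292, 2418)) (.leaf (1230, 12823))) (.node (.leaf (961, 9359)) (.leaf (0, 0)))) (.node (.node (.leaf (512, 5015)) (.leaf (0, 0))) (.node (.leaf (693, 9330)) (.leaf (0, 0)))))) (.node (.node (.node (.node (.leaf (108, 1091)) (.leaf (957, 12050))) (.node (.leaf (668, 7241)) (.leaf (0, 0)))) (.node (.node (.leaf (379, 3281)) (.leaf (1382, 14692))) (.node (.leaf (814, 8851)) (.leaf (0, 0))))) (.node (.node (.node (.leaf (385, 3547)) (.leaf (1173, 13414))) (.node (.leaf (854, 8461)) (.leaf (0, 0)))) (.node (.node (.leaf (445, 4992)) (.leaf (0, 0))) (.node (.leaf (1032, 10147)) (.leaf (0, 0)))))))))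

def edge57 : Arr (ℕ × ℕ) :=
  (.node (.node (.node (.node (.node (.node (.node (.leaf (14, 185)) (.leaf (916, 11003))) (.node (.leaf (119, 5221)) (.leaf (0, 0)))) (.node (.node (.leaf (271, 1960)) (.leaf (668, 13648))) (.node (.leaf (950, 11170)) (.leaf (0, 0))))) (.node (.node (.node (.leaf (566, 5681)) (.leaf (1005, 12177))) (.node (.leaf (823, 11446)) (.leaf (0, 0)))) (.node (.node (.leaf (75, 3785)) (.leaf (1059, 14882))) (.node (.leaf (1373, 14271)) (.leaf (0, 0)))))) (.node (.node (.node (.node (.leaf (42, 722)) (.leaf (857, 11350))) (.node (.leaf (496, 6027)) (.leaf (0, 0)))) (.node (.node (.leaf (82, 2568)) (.leaf (652, 14103))) (.node (.leaf (1445, 15166)) (.leaf (0, 0))))) (.node (.node (.node (.leaf (324, 2466)) (.leaf (1142, 12831))) (.node (.leaf (1171, 12238)) (.leaf (0, 0)))) (.node (.node (.leaf (463, 4658)) (.leaf (0, 0))) (.node (.leaf (987, 9658)) (.leaf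 (0, 0))))))) (.node (.node (.node (.node (.node (.leaf (290, 2158)) (.leaf (1193, 12428))) (.node (.leaf (468, 6218)) (.leaf (0, 0)))) (.node (.node (.leaf (301, 2215)) (.leaf (813, 13840))) (.node (.leaf (1261, 13194)) (.leaf (0, 0))))) (.node (.node (.node (.leaf (438, 4509)) (.leaf (1004, 12461))) (.node (.leaf (843, 11215)) (.leaf (0, 0)))) (.node (.node (.leaf (152, 4748)) (.leaf (966, 15302))) (.node (.leaf (1309, 13734)) (.leaf (0, 0)))))) (.node (.node (.node (.node (.leaf (127, 4579)) (.leaf (789, 11821))) (.node (.leaf (622, 6995)) (.leaf (0, 0)))) (.node (.node (.leaf (365, 2989)) (.leaf (1014, 14471))) (.node (.leaf (1382, 14365)) (.leaf (0, 0))))) (.node (.node (.node (.leaf (73, 1786)) (.leaf (853, 13209))) (.node (.leaf (1322, 13816)) (.leaf (0, 0)))) (.node (.node (.leaf (493, 4907)) (.leaf (0, 0))) (.node (.leaf (640, 11061)) (.leaf (0, 0)))))))) (.node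 (.node (.node (.node (.node (.node (.leaf (30, 369)) (.leaf (1421, 14867))) (.node (.leaf (543, 5400)) (.leaf (0, 0)))) (.node (.node (.leaf (407, 4184)) (.leaf (848, 13744))) (.node (.leaf (1321, 13813)) (.leaf (0, 0))))) (.node (.node (.node (.leaf (615, 6663)) (.leaf (733, 12355))) (.node (.leaf (1034, 10185)) (.leaf (0, 0)))) (.node (.node (.leaf (414, 4299)) (.leaf (1037, 15084))) (.node (.leaf (1043, 10910)) (.leaf (0, 0)))))) (.node (.node (.node (.node (.leaf (404, 3971)) (.leaf (693, 11599))) (.node (.leaf (148, 6426)) (.leaf (0, 0)))) (.node (.node (.leaf (349, 2765)) (.leaf (903, 14277))) (.node (.leaf (1013, 10926)) (.leaf (0, 0))))) (.node (.node (.node (.leaf (221, 1721)) (.leaf (638, 12998))) (.node (.leaf (1259, 13169)) (.leaf (0, 0)))) (.node (.node (.leaf (575, 5788)) (.leaf (0, 0))) (.node (.leaf (1064, 10481)) (.leaf (0, 0))))))) (.node (.node (.node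 (.node (.node (.leaf (371, 3030)) (.leaf (864, 10944))) (.node (.leaf (159, 5758)) (.leaf (0, 0)))) (.node (.node (.leaf (319, 2394)) (.leaf (736, 13946))) (.node (.leaf (1072, 11165)) (.leaf (0, 0))))) (.node (.node (.node (.leaf (191, 1588)) (.leaf (819, 12615))) (.node (.leaf (1281, 13462)) (.leaf (0, 0)))) (.node (.node (.leaf (140, 4606)) (.leaf (0, 0))) (.node (.leaf (1123, 11664)) (.leaf (0, 0)))))) (.node (.node (.node (.node (.leaf (470, 4677)) (.leaf (712, 12062))) (.node (.leaf (1246, 12999)) (.leaf (0, 0)))) (.node (.node (.leaf (84, 3276)) (.leaf (983, 14686))) (.node (.leaf (1238, 12914)) (.leaf (0, 0))))) (.node (.node (.node (.leaf (253, 1857)) (.leaf (1065, 13423))) (.node (.leaf (1087, 10721)) (.leaf (0, 0)))) (.node (.node (.leaf (115, 4989)) (.leaf (0, 0))) (.node (.leaf (1213, 12598)) (.leaf (0, 0)))))))))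

def edge58 : Arr (ℕ × ℕ) :=
  (.node (.node (.node (.node (.node (.node (.node (.leaf (17, 186)) (.leaf (804, 10258))) (.node (.leaf (527, 5224)) (.leaf (0, 0)))) (.node (.node (.leaf (328, 2486)) (.leaf (1249, 13640))) (.node (.leaf (787, 7941)) (.leaf (0, 0))))) (.node (.node (.node (.leaf (128, 1212)) (.leaf (1263, 13215))) (.node (.leaf (873, 8659)) (.leaf (0, 0)))) (.node (.node (.leaf (255, 3794)) (.leaf (1411, 14887))) (.node (.leaf (914, 8981)) (.leaf (0, 0)))))) (.node (.node (.node (.node (.leaf (93, 883)) (.leaf (726, 11342))) (.node (.leaf (576, 6016)) (.leaf (0, 0)))) (.node (.node (.leaf (286, 4189)) (.leaf (1359, 14106))) (.node (.leaf (839, 8362)) (.leaf (0, 0))))) (.node (.node (.node (.leaf (401, 3872)) (.leaf (1229, 12824))) (.node (.leaf (721, 7571)) (.leaf (0, 0)))) (.node (.node (.leaf (575, 5784)) (.leaf (0, 0))) (.node (.leaf (774, 9524)) (.leaf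 (0, 0))))))) (.node (.node (.node (.node (.node (.leaf (50, 517)) (.leaf (1067, 10550))) (.node (.leaf (481, 6220)) (.leaf (0, 0)))) (.node (.node (.leaf (250, 2249)) (.leaf (1320, 13845))) (.node (.leaf (1030, 10123)) (.leaf (0, 0))))) (.node (.node (.node (.leaf (105, 1542)) (.leaf (1270, 13307))) (.node (.leaf (849, 8407)) (.leaf (0, 0)))) (.node (.node (.leaf (430, 4754)) (.leaf (1327, 15299))) (.node (.leaf (1123, 11659)) (.leaf (0, 0)))))) (.node (.node (.node (.node (.leaf (169, 1483)) (.leaf (1145, 11983))) (.node (.leaf (426, 6992)) (.leaf (0, 0)))) (.node (.node (.leaf (367, 2994)) (.leaf (1391, 14480))) (.node (.leaf (663, 8680)) (.leaf (0, 0))))) (.node (.node (.node (.leaf (197, 3945)) (.leaf (1164, 13204))) (.node (.leaf (1040, 10281)) (.leaf (0, 0)))) (.node (.node (.leaf (431, 4908)) (.leaf (0, 0))) (.node (.leaf (898, 9854)) (.leaf (0, 0)))))))) (.node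 (.node (.node (.node (.node (.node (.leaf (19, 370)) (.leaf (1090, 10747))) (.node (.leaf (613, 6617)) (.leaf (0, 0)))) (.node (.node (.leaf (397, 4186)) (.leaf (1414, 14778))) (.node (.leaf (669, 8038)) (.leaf (0, 0))))) (.node (.node (.node (.leaf (151, 1352)) (.leaf (1245, 12981))) (.node (.leaf (672, 7273)) (.leaf (0, 0)))) (.node (.node (.leaf (186, 4296)) (.leaf (1415, 15086))) (.node (.leaf (1016, 9963)) (.leaf (0, 0)))))) (.node (.node (.node (.node (.leaf (80, 894)) (.leaf (911, 11596))) (.node (.leaf (563, 6432)) (.leaf (0, 0)))) (.node (.node (.leaf (351, 2768)) (.leaf (1375, 14288))) (.node (.leaf (712, 8546)) (.leaf (0, 0))))) (.node (.node (.node (.leaf (223, 1722)) (.leaf (1178, 12992))) (.node (.leaf (741, 7663)) (.leaf (0, 0)))) (.node (.node (.leaf (468, 5807)) (.leaf (0, 0))) (.node (.leaf (958, 9680)) (.leaf (0, 0))))))) (.node (.node (.node (.node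 (.node (.leaf (67, 635)) (.leaf (1109, 11455))) (.node (.leaf (451, 5776)) (.leaf (0, 0)))) (.node (.node (.leaf (299, 2399)) (.leaf (1382, 14362))) (.node (.leaf (717, 8264)) (.leaf (0, 0))))) (.node (.node (.node (.leaf (393, 3673)) (.leaf (1202, 12608))) (.node (.leaf (790, 7971)) (.leaf (0, 0)))) (.node (.node (.leaf (446, 4609)) (.leaf (0, 0))) (.node (.leaf (963, 9385)) (.leaf (0, 0)))))) (.node (.node (.node (.node (.leaf (165, 1431)) (.leaf (983, 12054))) (.node (.leaf (864, 8571)) (.leaf (0, 0)))) (.node (.node (.leaf (252, 3287)) (.leaf (1297, 14688))) (.node (.leaf (1010, 9895)) (.leaf (0, 0))))) (.node (.node (.node (.leaf (220, 1858)) (.leaf (1256, 13418))) (.node (.leaf (765, 7774)) (.leaf (0, 0)))) (.node (.node (.leaf (511, 4996)) (.leaf (0, 0))) (.node (.leaf (939, 10042)) (.leaf (0, 0)))))))))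

def edge59 : Arr (ℕ × ℕ) :=
  (.node (.node (.node (.node (.node (.node (.node (.leaf (73, 682)) (.leaf (572, 10260))) (.node (.leaf (413, 6199)) (.leaf (0, 0)))) (.node (.node (.leaf (192, 3408)) (.leaf (589, 13642))) (.node (.leaf (783, 7904)) (.leaf (0, 0))))) (.node (.node (.node (.leaf (143, 1216)) (.leaf (1167, 12192))) (.node (.leaf (267, 7158)) (.leaf (0, 0)))) (.node (.node (.leaf (787, 7938)) (.leaf (1316, 14892))) (.node (.leaf (911, 8958)) (.leaf (0, 0)))))) (.node (.node (.node (.node (.leaf (14, 716)) (.leaf (383, 11344))) (.node (.leaf (535, 6037)) (.leaf (0, 0)))) (.node (.node (.leaf (1020, 10020)) (.leaf (1382, 14372))) (.node (.leaf (847, 8364)) (.leaf (0, 0))))) (.node (.node (.node (.leaf (365, 2984)) (.leaf (491, 12829))) (.node (.leaf (210, 7558)) (.leaf (0, 0)))) (.node (.node (.leaf (396, 6187)) (.leaf (0, 0))) (.node (.leaf (567, 9526)) (.leaf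 (0, 0))))))) (.node (.node (.node (.node (.node (.leaf (47, 500)) (.leaf (1071, 10554))) (.node (.leaf (354, 6222)) (.leaf (0, 0)))) (.node (.node (.leaf (412, 4234)) (.leaf (1407, 14706))) (.node (.leaf (815, 8142)) (.leaf (0, 0))))) (.node (.node (.node (.leaf (30, 1544)) (.leaf (1199, 12468))) (.node (.leaf (563, 7356)) (.leaf (0, 0)))) (.node (.node (.leaf (764, 7764)) (.leaf (1346, 15290))) (.node (.leaf (286, 9206)) (.leaf (0, 0)))))) (.node (.node (.node (.node (.leaf (111, 1024)) (.leaf (1135, 11824))) (.node (.leaf (704, 7468)) (.leaf (0, 0)))) (.node (.node (.leaf (1078, 10630)) (.leaf (1331, 14477))) (.node (.leaf (264, 8682)) (.leaf (0, 0))))) (.node (.node (.node (.leaf (800, 8054)) (.leaf (1263, 13210))) (.node (.leaf (751, 7712)) (.leaf (0, 0)))) (.node (.node (.leaf (569, 6549)) (.leaf (0, 0))) (.node (.leaf (1007, 9856)) (.leaf (0, 0)))))))) (.node (.node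 (.node (.node (.node (.node (.leaf (169, 1474)) (.leaf (345, 10396))) (.node (.leaf (1226, 12782)) (.leaf (0, 0)))) (.node (.node (.leaf (938, 9170)) (.leaf (1428, 14971))) (.node (.leaf (391, 8040)) (.leaf (0, 0))))) (.node (.node (.node (.leaf (159, 1356)) (.leaf (1183, 12358))) (.node (.leaf (209, 7263)) (.leaf (0, 0)))) (.node (.node (.leaf (793, 7996)) (.leaf (1358, 15088))) (.node (.leaf (927, 9088)) (.leaf (0, 0)))))) (.node (.node (.node (.node (.leaf (95, 898)) (.leaf (1119, 11602))) (.node (.leaf (683, 7334)) (.leaf (0, 0)))) (.node (.node (.leaf (1055, 10398)) (.leaf (1309, 14285))) (.node (.leaf (257, 8548)) (.leaf (0, 0))))) (.node (.node (.node (.leaf (767, 7786)) (.leaf (494, 12994))) (.node (.leaf (735, 7640)) (.leaf (0, 0)))) (.node (.node (.leaf (1107, 11414)) (.leaf (0, 0))) (.node (.leaf (336, 9682)) (.leaf (0, 0))))))) (.node (.node (.node (.node (.node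 (.leaf (63, 588)) (.leaf (470, 10709))) (.node (.leaf (840, 8372)) (.leaf (0, 0)))) (.node (.node (.leaf (649, 7126)) (.leaf (1307, 13951))) (.node (.leaf (831, 8268)) (.leaf (0, 0))))) (.node (.node (.node (.leaf (678, 7306)) (.leaf (579, 12610))) (.node (.leaf (703, 7462)) (.leaf (0, 0)))) (.node (.node (.leaf (1216, 12642)) (.leaf (0, 0))) (.node (.leaf (959, 9334)) (.leaf (0, 0)))))) (.node (.node (.node (.node (.leaf (22, 1088)) (.leaf (526, 12056))) (.node (.leaf (178, 7070)) (.leaf (0, 0)))) (.node (.node (.leaf (424, 4451)) (.leaf (1304, 14690))) (.node (.leaf (895, 8852)) (.leaf (0, 0))))) (.node (.node (.node (.leaf (766, 7780)) (.leaf (1279, 13426))) (.node (.leaf (220, 7776)) (.leaf (0, 0)))) (.node (.node (.leaf (1187, 12390)) (.leaf (0, 0))) (.node (.leaf (1023, 10046)) (.leaf (0, 0)))))))))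

def edge60 : Arr (ℕ × ℕ) :=
  (.node (.node (.node (.node (.node (.node (.node (.leaf (15, 207)) (.leaf (723, 10266))) (.node (.leaf (532, 6943)) (.leaf (0, 0)))) (.node (.node (.leaf (270, 2495)) (.leaf (1339, 13933))) (.node (.leaf (780, 7918)) (.leaf (0, 0))))) (.node (.node (.node (.leaf (113, 1225)) (.leaf (1183, 12364))) (.node (.leaf (708, 7503)) (.leaf (0, 0)))) (.node (.node (.leaf (177, 3802)) (.leaf (1440, 15107))) (.node (.leaf (1023, 10049)) (.leaf (0, 0)))))) (.node (.node (.node (.node (.leaf (31, 728)) (.leaf (623, 11360))) (.node (.leaf (439, 6059)) (.leaf (0, 0)))) (.node (.node (.leaf (221, 2576)) (.leaf (1312, 14113))) (.node (.leaf (807, 8369)) (.leaf (0, 0))))) (.node (.node (.node (.leaf (377, 4371)) (.leaf (1207, 12840))) (.node (.leaf (943, 9213)) (.leaf (0, 0)))) (.node (.node (.leaf (480, 6791)) (.leaf (0, 0))) (.node (.leaf (677, 9532)) (.leaf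 (0, 0))))))) (.node (.node (.node (.node (.node (.leaf (101, 975)) (.leaf (1147, 12009))) (.node (.leaf (514, 5638)) (.leaf (0, 0)))) (.node (.node (.leaf (304, 2239)) (.leaf (1360, 14495))) (.node (.leaf (736, 8147)) (.leaf (0, 0))))) (.node (.node (.node (.leaf (370, 3026)) (.leaf (1287, 13539))) (.node (.leaf (883, 8745)) (.leaf (0, 0)))) (.node (.node (.leaf (545, 5432)) (.leaf (1321, 15314))) (.node (.leaf (719, 9212)) (.leaf (0, 0)))))) (.node (.node (.node (.node (.leaf (165, 1429)) (.leaf (1024, 11828))) (.node (.leaf (1103, 11361)) (.leaf (0, 0)))) (.node (.node (.leaf (313, 2996)) (.leaf (1454, 15292))) (.node (.leaf (797, 8708)) (.leaf (0, 0))))) (.node (.node (.node (.leaf (283, 2102)) (.leaf (1195, 13212))) (.node (.leaf (746, 8328)) (.leaf (0, 0)))) (.node (.node (.leaf (489, 5376)) (.leaf (0, 0))) (.node (.leaf (930, 9860)) (.leaf (0, 0)))))))) (.node (.node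 (.node (.node (.node (.node (.leaf (79, 729)) (.leaf (1146, 11997))) (.node (.leaf (497, 5835)) (.leaf (0, 0)))) (.node (.node (.leaf (340, 2669)) (.leaf (1457, 15333))) (.node (.leaf (871, 8633)) (.leaf (0, 0))))) (.node (.node (.node (.leaf (171, 1503)) (.leaf (1167, 12365))) (.node (.leaf (882, 8733)) (.leaf (0, 0)))) (.node (.node (.leaf (587, 5972)) (.leaf (1426, 15100))) (.node (.leaf (932, 9125)) (.leaf (0, 0)))))) (.node (.node (.node (.node (.leaf (59, 902)) (.leaf (816, 11611))) (.node (.leaf (498, 6445)) (.leaf (0, 0)))) (.node (.node (.leaf (264, 2772)) (.leaf (1393, 14522))) (.node (.leaf (690, 8556)) (.leaf (0, 0))))) (.node (.node (.node (.leaf (337, 2589)) (.leaf (1221, 13004))) (.node (.leaf (1127, 11729)) (.leaf (0, 0)))) (.node (.node (.leaf (465, 5618)) (.leaf (0, 0))) (.node (.leaf (790, 9690)) (.leaf (0, 0))))))) (.node (.node (.node (.node (.node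 (.leaf (33, 592)) (.leaf (1097, 10851))) (.node (.leaf (599, 6323)) (.leaf (0, 0)))) (.node (.node (.leaf (192, 2415)) (.leaf (1299, 13977))) (.node (.leaf (931, 9131)) (.leaf (0, 0))))) (.node (.node (.node (.leaf (291, 2417)) (.leaf (1191, 12620))) (.node (.leaf (993, 9719)) (.leaf (0, 0)))) (.node (.node (.leaf (553, 5570)) (.leaf (0, 0))) (.node (.leaf (701, 9338)) (.leaf (0, 0)))))) (.node (.node (.node (.node (.leaf (157, 1339)) (.leaf (1233, 12869))) (.node (.leaf (1060, 10435)) (.leaf (0, 0)))) (.node (.node (.leaf (279, 3436)) (.leaf (1381, 14702))) (.node (.leaf (1128, 11737)) (.leaf (0, 0))))) (.node (.node (.node (.leaf (230, 2864)) (.leaf (1185, 13430))) (.node (.leaf (680, 7788)) (.leaf (0, 0)))) (.node (.node (.leaf (443, 5002)) (.leaf (0, 0))) (.node (.leaf (911, 10048)) (.leaf (0, 0)))))))))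

def edge61 : Arr (ℕ × ℕ) :=
  (.node (.node (.node (.node (.node (.node (.node (.leaf (16, 208)) (.leaf (1272, 13338))) (.node (.leaf (528, 5226)) (.leaf (0, 0)))) (.node (.node (.leaf (270, 1961)) (.leaf (685, 13651))) (.node (.leaf (982, 11190)) (.leaf (0, 0))))) (.node (.node (.node (.leaf (579, 5859)) (.leaf (1158, 12466))) (.node (.leaf (1000, 10206)) (.leaf (0, 0)))) (.node (.node (.leaf (354, 3805)) (.leaf (978, 14898))) (.node (.leaf (1383, 14381)) (.leaf (0, 0)))))) (.node (.node (.node (.node (.leaf (370, 3025)) (.leaf (1020, 11366))) (.node (.leaf (616, 6680)) (.leaf (0, 0)))) (.node (.node (.leaf (336, 2578)) (.leaf (715, 14108))) (.node (.leaf (991, 9703)) (.leaf (0, 0))))) (.node (.node (.node (.leaf (310, 2318)) (.leaf (1400, 14620))) (.node (.leaf (909, 10198)) (.leaf (0, 0)))) (.node (.node (.leaf (462, 4659)) (.leaf (0, 0))) (.node (.leaf (748, 9541))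 (.leaf (0, 0))))))) (.node (.node (.node (.node (.node (.leaf (300, 2206)) (.leaf (882, 10829))) (.node (.leaf (128, 5637)) (.leaf (0, 0)))) (.node (.node (.leaf (304, 2224)) (.leaf (737, 13851))) (.node (.leaf (1298, 13661)) (.leaf (0, 0))))) (.node (.node (.node (.leaf (31, 1547)) (.leaf (960, 12477))) (.node (.leaf (1191, 12634)) (.leaf (0, 0)))) (.node (.node (.leaf (105, 4491)) (.leaf (965, 15306))) (.node (.leaf (1031, 10201)) (.leaf (0, 0)))))) (.node (.node (.node (.node (.leaf (471, 4776)) (.leaf (1021, 11836))) (.node (.leaf (833, 11027)) (.leaf (0, 0)))) (.node (.node (.leaf (352, 3605)) (.leaf (793, 14482))) (.node (.leaf (1302, 13689)) (.leaf (0, 0))))) (.node (.node (.node (.leaf (38, 1789)) (.leaf (1416, 14801))) (.node (.leaf (826, 10909)) (.leaf (0, 0)))) (.node (.node (.leaf (535, 5302)) (.leaf (0, 0))) (.node (.leaf (1285, 13520)) (.leaf (0, 0))))))))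 (.node (.node (.node (.node (.node (.node (.leaf (175, 1546)) (.leaf (804, 11044))) (.node (.leaf (542, 5401)) (.leaf (0, 0)))) (.node (.node (.leaf (91, 2114)) (.leaf (1442, 15135))) (.node (.leaf (730, 9428)) (.leaf (0, 0))))) (.node (.node (.node (.leaf (574, 5759)) (.leaf (1254, 13092))) (.node (.leaf (1147, 12016)) (.leaf (0, 0)))) (.node (.node (.leaf (103, 4425)) (.leaf (900, 15094))) (.node (.leaf (933, 11082)) (.leaf (0, 0)))))) (.node (.node (.node (.node (.leaf (410, 4087)) (.leaf (667, 11609))) (.node (.leaf (149, 6440)) (.leaf (0, 0)))) (.node (.node (.leaf (70, 2770)) (.leaf (697, 14290))) (.node (.leaf (888, 10915)) (.leaf (0, 0))))) (.node (.node (.node (.leaf (224, 1724)) (.leaf (1227, 13009))) (.node (.leaf (1111, 11496)) (.leaf (0, 0)))) (.node (.node (.leaf (557, 5620)) (.leaf (0, 0))) (.node (.leaf (847, 9702)) (.leaf (0, 0))))))) (.node (.node (.node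 (.node (.node (.leaf (328, 2485)) (.leaf (766, 10720))) (.node (.leaf (478, 5789)) (.leaf (0, 0)))) (.node (.node (.leaf (318, 2395)) (.leaf (776, 13968))) (.node (.leaf (897, 10195)) (.leaf (0, 0))))) (.node (.node (.node (.leaf (190, 1589)) (.leaf (883, 12632))) (.node (.leaf (1357, 14095)) (.leaf (0, 0)))) (.node (.node (.leaf (107, 4621)) (.leaf (0, 0))) (.node (.leaf (720, 11233)) (.leaf (0, 0)))))) (.node (.node (.node (.node (.leaf (110, 4578)) (.leaf (1451, 15253))) (.node (.leaf (678, 10954)) (.leaf (0, 0)))) (.node (.node (.leaf (245, 3463)) (.leaf (986, 14697))) (.node (.leaf (1409, 14725)) (.leaf (0, 0))))) (.node (.node (.node (.leaf (358, 2866)) (.leaf (876, 13440))) (.node (.leaf (1427, 14947)) (.leaf (0, 0)))) (.node (.node (.leaf (154, 4998)) (.leaf (0, 0))) (.node (.leaf (1308, 13731)) (.leaf (0, 0)))))))))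

def edge62 : Arr (ℕ × ℕ) :=
  (.node (.node (.node (.node (.node (.node (.node (.leaf (14, 210)) (.leaf (805, 10270))) (.node (.leaf (479, 5625)) (.leaf (0, 0)))) (.node (.node (.leaf (198, 1962)) (.leaf (1296, 13654))) (.node (.leaf (785, 7927)) (.leaf (0, 0))))) (.node (.node (.node (.leaf (132, 1220)) (.leaf (1260, 13175))) (.node (.leaf (793, 7999)) (.leaf (0, 0)))) (.node (.node (.leaf (346, 3800)) (.leaf (1408, 14905))) (.node (.leaf (917, 9023)) (.leaf (0, 0)))))) (.node (.node (.node (.node (.leaf (76, 733)) (.leaf (1058, 11365))) (.node (.leaf (580, 6650)) (.leaf (0, 0)))) (.node (.node (.leaf (385, 3542)) (.leaf (1392, 14506))) (.node (.leaf (842, 8377)) (.leaf (0, 0))))) (.node (.node (.node (.leaf (362, 2940)) (.leaf (1230, 12844))) (.node (.leaf (831, 8273)) (.leaf (0, 0)))) (.node (.node (.leaf (464, 4660)) (.leaf (0, 0))) (.node (.leaf (775, 9536)) (.leaf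 (0, 0))))))) (.node (.node (.node (.node (.node (.leaf (54, 535)) (.leaf (1065, 10558))) (.node (.leaf (560, 5640)) (.leaf (0, 0)))) (.node (.node (.leaf (248, 2233)) (.leaf (1328, 13852))) (.node (.leaf (1033, 10159)) (.leaf (0, 0))))) (.node (.node (.node (.leaf (176, 1550)) (.leaf (1273, 13349))) (.node (.leaf (692, 7397)) (.leaf (0, 0)))) (.node (.node (.leaf (432, 4494)) (.leaf (1380, 15308))) (.node (.leaf (931, 9215)) (.leaf (0, 0)))))) (.node (.node (.node (.node (.leaf (173, 1529)) (.leaf (1143, 11941))) (.node (.leaf (631, 7039)) (.leaf (0, 0)))) (.node (.node (.leaf (389, 3594)) (.leaf (1360, 14489))) (.node (.leaf (882, 8735)) (.leaf (0, 0))))) (.node (.node (.node (.leaf (218, 1795)) (.leaf (1162, 13216))) (.node (.leaf (1044, 10313)) (.leaf (0, 0)))) (.node (.node (.leaf (440, 5321)) (.leaf (0, 0))) (.node (.leaf (901, 9864)) (.leaf (0, 0)))))))) (.node (.node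 (.node (.node (.node (.node (.leaf (40, 477)) (.leaf (1062, 10457))) (.node (.leaf (437, 5402)) (.leaf (0, 0)))) (.node (.node (.leaf (284, 4173)) (.leaf (1410, 14879))) (.node (.leaf (670, 8048)) (.leaf (0, 0))))) (.node (.node (.node (.leaf (155, 1360)) (.leaf (1242, 12949))) (.node (.leaf (673, 7279)) (.leaf (0, 0)))) (.node (.node (.leaf (416, 4426)) (.leaf (1444, 15162))) (.node (.leaf (1019, 10011)) (.leaf (0, 0)))))) (.node (.node (.node (.node (.leaf (84, 906)) (.leaf (909, 11606))) (.node (.leaf (593, 6709)) (.leaf (0, 0)))) (.node (.node (.leaf (388, 3578)) (.leaf (1397, 14582))) (.node (.leaf (633, 8560)) (.leaf (0, 0))))) (.node (.node (.node (.leaf (358, 2850)) (.leaf (1282, 13469))) (.node (.leaf (739, 7653)) (.leaf (0, 0)))) (.node (.node (.leaf (526, 5622)) (.leaf (0, 0))) (.node (.leaf (959, 9694)) (.leaf (0, 0))))))) (.node (.node (.node (.node (.node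 (.leaf (71, 665)) (.leaf (1110, 11473))) (.node (.leaf (461, 5786)) (.leaf (0, 0)))) (.node (.node (.leaf (290, 2396)) (.leaf (1337, 13973))) (.node (.leaf (715, 8274)) (.leaf (0, 0))))) (.node (.node (.node (.leaf (192, 1590)) (.leaf (1203, 12624))) (.node (.leaf (788, 7951)) (.leaf (0, 0)))) (.node (.node (.leaf (448, 4624)) (.leaf (0, 0))) (.node (.leaf (961, 9361)) (.leaf (0, 0)))))) (.node (.node (.node (.node (.leaf (136, 1159)) (.leaf (1159, 12133))) (.node (.leaf (647, 7101)) (.leaf (0, 0)))) (.node (.node (.leaf (212, 3442)) (.leaf (1299, 14700))) (.node (.leaf (1013, 9925)) (.leaf (0, 0))))) (.node (.node (.node (.leaf (229, 2868)) (.leaf (1253, 13434))) (.node (.leaf (771, 7813)) (.leaf (0, 0)))) (.node (.node (.leaf (513, 5020)) (.leaf (0, 0))) (.node (.leaf (942, 10050)) (.leaf (0, 0)))))))))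

def edge63 : Arr (ℕ × ℕ) :=
  (.node (.node (.node (.node (.node (.node (.node (.leaf (79, 724)) (.leaf (342, 10272))) (.node (.leaf (981, 9644)) (.leaf (0, 0)))) (.node (.node (.leaf (233, 3390)) (.leaf (1344, 13986))) (.node (.leaf (385, 7917)) (.leaf (0, 0))))) (.node (.node (.node (.leaf (144, 1226)) (.leaf (1168, 12196))) (.node (.leaf (656, 7164)) (.leaf (0, 0)))) (.node (.node (.leaf (966, 9412)) (.leaf (1302, 14900))) (.node (.leaf (912, 8960)) (.leaf (0, 0)))))) (.node (.node (.node (.node (.leaf (80, 734)) (.leaf (1104, 11368))) (.node (.leaf (445, 6061)) (.leaf (0, 0)))) (.node (.node (.leaf (428, 5111)) (.leaf (1377, 14327))) (.node (.leaf (452, 8366)) (.leaf (0, 0))))) (.node (.node (.node (.leaf (347, 2754)) (.leaf (588, 12846))) (.node (.leaf (720, 7564)) (.leaf (0, 0)))) (.node (.node (.leaf (753, 7724)) (.leaf (0, 0))) (.node (.leaf (361, 9538)) (.leaf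 (0, 0))))))) (.node (.node (.node (.node (.node (.leaf (48, 502)) (.leaf (1072, 10562))) (.node (.leaf (1290, 13592)) (.leaf (0, 0)))) (.node (.node (.leaf (191, 3415)) (.leaf (1406, 14694))) (.node (.leaf (816, 8148)) (.leaf (0, 0))))) (.node (.node (.node (.leaf (623, 7004)) (.leaf (583, 12473))) (.node (.leaf (688, 7362)) (.leaf (0, 0)))) (.node (.node (.leaf (1176, 12286)) (.leaf (1381, 15310))) (.node (.leaf (944, 9216)) (.leaf (0, 0)))))) (.node (.node (.node (.node (.leaf (112, 1028)) (.leaf (408, 11832))) (.node (.leaf (624, 7006)) (.leaf (0, 0)))) (.node (.node (.leaf (1083, 10678)) (.leaf (1436, 15067))) (.node (.leaf (880, 8712)) (.leaf (0, 0))))) (.node (.node (.node (.leaf (803, 8080)) (.leaf (1264, 13218))) (.node (.leaf (752, 7714)) (.leaf (0, 0)))) (.node (.node (.leaf (439, 5833)) (.leaf (0, 0))) (.node (.leaf (1008, 9866)) (.leaf (0, 0)))))))) (.node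 (.node (.node (.node (.node (.node (.leaf (32, 448)) (.leaf (1056, 10404))) (.node (.leaf (1259, 13152)) (.leaf (0, 0)))) (.node (.node (.leaf (943, 9210)) (.leaf (1330, 13875))) (.node (.leaf (455, 8050)) (.leaf (0, 0))))) (.node (.node (.node (.leaf (160, 1364)) (.leaf (1184, 12368))) (.node (.leaf (348, 7256)) (.leaf (0, 0)))) (.node (.node (.leaf (1151, 12066)) (.leaf (1363, 15096))) (.node (.leaf (458, 9092)) (.leaf (0, 0)))))) (.node (.node (.node (.node (.leaf (96, 910)) (.leaf (1120, 11612))) (.node (.leaf (514, 6556)) (.leaf (0, 0)))) (.node (.node (.leaf (1060, 10430)) (.leaf (1362, 14292))) (.node (.leaf (864, 8564)) (.leaf (0, 0))))) (.node (.node (.node (.leaf (422, 5083)) (.leaf (1248, 13014))) (.node (.leaf (736, 7642)) (.leaf (0, 0)))) (.node (.node (.leaf (988, 9640)) (.leaf (0, 0))) (.node (.leaf (418, 9696)) (.leaf (0, 0))))))) (.node (.node (.node (.node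 (.node (.leaf (64, 602)) (.leaf (367, 10716))) (.node (.leaf (910, 8992)) (.leaf (0, 0)))) (.node (.node (.leaf (989, 9660)) (.leaf (1354, 14073))) (.node (.leaf (832, 8278)) (.leaf (0, 0))))) (.node (.node (.node (.leaf (681, 7322)) (.leaf (540, 12626))) (.node (.leaf (622, 7467)) (.leaf (0, 0)))) (.node (.node (.leaf (657, 7176)) (.leaf (0, 0))) (.node (.leaf (325, 9343)) (.leaf (0, 0)))))) (.node (.node (.node (.node (.leaf (128, 1096)) (.leaf (1152, 12068))) (.node (.leaf (640, 7074)) (.leaf (0, 0)))) (.node (.node (.leaf (1098, 10874)) (.leaf (1419, 14845))) (.node (.leaf (896, 8858)) (.leaf (0, 0))))) (.node (.node (.node (.leaf (335, 2870)) (.leaf (536, 13436))) (.node (.leaf (421, 7790)) (.leaf (0, 0)))) (.node (.node (.leaf (1189, 12396)) (.leaf (0, 0))) (.node (.leaf (1024, 10054)) (.leaf (0, 0)))))))))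

def edge : Arr (ℕ × ℕ) :=
  (.node (.node (.node (.node (.node (.node edge0 edge32) (.node edge16 edge48)) (.node (.node edge8 edge40) (.node edge24 edge56))) (.node (.node (.node edge4 edge36) (.node edge20 edge52)) (.node (.node edge12 edge44) (.node edge28 edge60)))) (.node (.node (.node (.node edge2 edge34) (.node edge18 edge50)) (.node (.node edge10 edge42) (.node edge26 edge58))) (.node (.node (.node edge6 edge38) (.node edge22 edge54)) (.node (.node edge14 edge46) (.node edge30 edge62))))) (.node (.node (.node (.node (.node edge1 edge33) (.node edge17 edge49)) (.node (.node edge9 edge41) (.node edge25 edge57))) (.node (.node (.node edge5 edge37) (.node edge21 edge53)) (.node (.node edge13 edge45) (.node edge29 edge61)))) (.node (.node (.node (.node edge3 edge35) (.node edge19 edge51)) (.node (.node edge11 edge43) (.node edge27 edge59))) (.node (.node (.node edge7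 edge39) (.node edge23 edge55)) (.node (.node edge15 edge47) (.node edge31 edge63))))))

end Cfsg.Agent.Lead.JankoOne.Coset
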