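import Cfsg.Agent.Lib.Lead.JankoOne.Coset.Engine

/-!
Generated log of a coset enumeration (case C).
-/

set_option autoImplicit false
set_option maxRecDepth 100000
set_option maxHeartbeats 0

namespace Cfsg.Agent.Lead.JankoOne.Coset

def factC0 : Arr (CFact) :=
  (.node (.node (.node (.node (.node (.node (.node (.leaf ⟨0, 0, 0, 1, []⟩) (.leaf ⟨176, 1, 174, 13, [1023, 1008]⟩)) (.node (.leaf ⟨88, 2, 42, 45, [511, 267, 173, 301]⟩) (.leaf ⟨0, 12, 0, 0, []⟩))) (.node (.node (.leaf ⟨8, 4, 33, 0, []⟩) (.leaf ⟨163, 3, 214, 68, [953, 936, 952, 1279]⟩)) (.node (.leaf ⟨103, 1, 138, 25, [767, 739]⟩) (.leaf ⟨0, 12, 0, 0, []⟩)))) (.node (.node (.node (.leaf ⟨5, 6, 26, 0, []⟩) (.leaf ⟨194, 1, 88, 21, [1149, 1145, 1141, 1137, 632]⟩)) (.node (.leaf ⟨116, 0, 72, 7, [639, 292, 428]⟩) (.leaf ⟨0, 12, 0, 0, []⟩)))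 (.node (.node (.leaf ⟨63, 6, 63, 2, [381, 119, 380]⟩) (.leaf ⟨0, 12, 2, 62, [1407, 16]⟩)) (.node (.leaf ⟨17, 12, 53, 32, [895, 343]⟩) (.leaf ⟨0, 12, 0, 0, []⟩))))) (.node (.node (.node (.node (.leaf ⟨11, 3, 10, 10, [61, 54]⟩) (.leaf ⟨96, 12, 86, 30, [1086, 505]⟩)) (.node (.leaf ⟨37, 9, 103, 0, []⟩) (.leaf ⟨0, 12, 0, 0, []⟩))) (.node (.node (.leaf ⟨47, 3, 46, 10, [315, 312]⟩) (.leaf ⟨3, 1, 3, 25, [1339, 219, 1338]⟩)) (.node (.leaf ⟨150, 2, 151, 0, []⟩) (.leaf ⟨0, 12, 0, 0, []⟩)))) (.node (.node (.node (.leaf ⟨19, 1, 5, 25, [182, 140]⟩) (.leaf ⟨123, 12, 137, 23, [1213, 1215, 1166, 1171, 1145, 1141, 1137, 634, 988, 993]⟩)) (.node (.leaf ⟨128, 1, 47, 6, [703, 699, 697, 305, 314]⟩) (.leaf ⟨0, 12, 0, 0, []⟩))) (.node (.node (.leaf ⟨77, 4, 58, 14, [447, 411, 408, 361]⟩) (.leaf ⟨0, 12, 0, 0, []⟩)) (.node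 (.leaf ⟨166, 1, 167, 0, []⟩) (.leaf ⟨0, 12, 0, 0, []⟩)))))) (.node (.node (.node (.node (.node (.leaf ⟨6, 0, 6, 7, [31, 15, 30]⟩) (.leaf ⟨119, 12, 36, 29, [1055, 400]⟩)) (.node (.leaf ⟨95, 2, 51, 48, [543, 271, 173, 335]⟩) (.leaf ⟨0, 12, 0, 0, []⟩))) (.node (.node (.leaf ⟨39, 0, 35, 3, [283, 79, 208, 249, 266]⟩) (.leaf ⟨152, 1, 63, 25, [1308, 989]⟩)) (.node (.leaf ⟨99, 2, 44, 30, [796, 710]⟩) (.leaf ⟨0, 12, 0, 0, []⟩)))) (.node (.node (.node (.leaf ⟨26, 10, 6, 5, [149, 50]⟩) (.leaf ⟨201, 3, 199, 20, [1183, 1181, 683, 1161, 1175]⟩)) (.node (.leaf ⟨112, 7, 120, 47, [614, 495, 496, 370, 669]⟩) (.leaf ⟨0, 12, 0, 0, []⟩))) (.node (.node (.leaf ⟨65, 1, 68, 0, []⟩) (.leaf ⟨0, 12, 0, 0, []⟩)) (.node (.leaf ⟨105, 11, 158, 33, [908, 863]⟩) (.leaf ⟨0, 12, 0, 0, []⟩))))) (.node (.node (.node (.node (.leaf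 ⟨3, 10, 19, 0, []⟩) (.leaf ⟨187, 3, 148, 10, [1119, 829]⟩)) (.node (.leaf ⟨111, 3, 110, 10, [605, 596]⟩) (.leaf ⟨0, 12, 0, 0, []⟩))) (.node (.node (.leaf ⟨17, 2, 57, 0, []⟩) (.leaf ⟨1, 2, 1, 30, [1363, 237, 1367]⟩)) (.node (.leaf ⟨158, 1, 95, 6, [861, 857, 855, 339, 545]⟩) (.leaf ⟨0, 12, 0, 0, []⟩)))) (.node (.node (.node (.leaf ⟨18, 11, 13, 37, [219, 207]⟩) (.leaf ⟨209, 6, 194, 18, [1245, 1247, 694, 690, 1153]⟩)) (.node (.leaf ⟨45, 6, 138, 0, []⟩) (.leaf ⟨0, 12, 0, 0, []⟩))) (.node (.node (.leaf ⟨33, 4, 83, 0, []⟩) (.leaf ⟨0, 12, 0, 0, []⟩)) (.node (.leaf ⟨137, 3, 170, 63, [735, 763, 991]⟩) (.leaf ⟨0, 12, 0, 0, []⟩))))))) (.node (.node (.node (.node (.node (.node (.leaf ⟨0, 5, 2, 0, []⟩) (.leaf ⟨68, 2, 180, 0, []⟩)) (.node (.leaf ⟨92, 1, 36, 21, [527, 525, 523, 521, 295]⟩) (.leaf ⟨0, 12, 0,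 0, []⟩))) (.node (.node (.leaf ⟨12, 4, 37, 0, []⟩) (.leaf ⟨144, 5, 194, 52, [810, 838, 1293, 1148]⟩)) (.node (.leaf ⟨132, 12, 146, 36, [727, 728, 730, 720, 709, 305, 314, 705, 783, 781]⟩) (.leaf ⟨0, 12, 0, 0, []⟩)))) (.node (.node (.node (.leaf ⟨30, 10, 13, 5, [143, 70]⟩) (.leaf ⟨198, 3, 194, 20, [1167, 1165, 675, 513, 1153]⟩)) (.node (.leaf ⟨105, 11, 118, 37, [583, 655]⟩) (.leaf ⟨0, 12, 0, 0, []⟩))) (.node (.node (.leaf ⟨65, 0, 36, 50, [397, 214, 290, 295]⟩) (.leaf ⟨0, 12, 0, 0, []⟩)) (.node (.leaf ⟨159, 12, 161, 33, [911, 876]⟩) (.leaf ⟨0, 12, 0, 0, []⟩))))) (.node (.node (.node (.node (.leaf ⟨12, 0, 12, 4, [70, 79, 71]⟩) (.leaf ⟨75, 10, 186, 0, []⟩)) (.node (.leaf ⟨108, 1, 38, 21, [591, 589, 585, 583, 368]⟩) (.leaf ⟨0, 12, 0, 0, []⟩))) (.node (.node (.leaf ⟨51, 7, 38, 47, [333, 281, 279, 81,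 278]⟩) (.leaf ⟨6, 12, 5, 27, [1359, 28]⟩)) (.node (.leaf ⟨94, 9, 94, 60, [541, 472, 300, 245, 256, 480, 843, 847, 842, 481, 257, 244, 301, 473, 540]⟩) (.leaf ⟨0, 12, 0, 0, []⟩)))) (.node (.node (.node (.leaf ⟨13, 6, 4, 34, [202, 105]⟩) (.leaf ⟨123, 4, 208, 0, []⟩)) (.node (.leaf ⟨133, 1, 129, 13, [719, 708]⟩) (.leaf ⟨0, 12, 0, 0, []⟩))) (.node (.node (.leaf ⟨33, 2, 81, 0, []⟩) (.leaf ⟨0, 12, 0, 0, []⟩)) (.node (.leaf ⟨107, 6, 61, 18, [938, 971, 965, 967, 946]⟩) (.leaf ⟨0, 12, 0, 0, []⟩)))))) (.node (.node (.node (.node (.node (.leaf ⟨1, 10, 9, 0, []⟩) (.leaf ⟨179, 12, 96, 31, [1071, 546]⟩)) (.node (.leaf ⟨37, 3, 101, 0, []⟩) (.leaf ⟨0, 12, 0, 0, []⟩))) (.node (.node (.leaf ⟨16, 1, 43, 0, []⟩) (.leaf ⟨43, 1, 63, 25, [1322, 1312]⟩)) (.node (.leaf ⟨103, 6, 99, 18, [768, 809, 807, 805, 799]⟩) (.leaf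 ⟨0, 12, 0, 0, []⟩)))) (.node (.node (.node (.leaf ⟨5, 0, 5, 29, [175, 85, 174]⟩) (.leaf ⟨123, 0, 202, 0, []⟩)) (.node (.leaf ⟨124, 4, 86, 14, [687, 473, 540, 538]⟩) (.leaf ⟨0, 12, 0, 0, []⟩))) (.node (.node (.leaf ⟨73, 4, 32, 15, [431, 123, 185, 254]⟩) (.leaf ⟨0, 12, 0, 0, []⟩)) (.node (.leaf ⟨54, 6, 162, 0, []⟩) (.leaf ⟨0, 12, 0, 0, []⟩))))) (.node (.node (.node (.node (.leaf ⟨19, 10, 20, 5, [111, 109]⟩) (.leaf ⟨115, 1, 191, 0, []⟩)) (.node (.leaf ⟨114, 7, 114, 35, [623, 287, 622]⟩) (.leaf ⟨0, 12, 0, 0, []⟩))) (.node (.node (.leaf ⟨60, 6, 38, 49, [367, 93, 21, 92, 281]⟩) (.leaf ⟨7, 12, 1, 65, [1374, 1390]⟩)) (.node (.leaf ⟨155, 6, 161, 18, [852, 841, 338, 872, 879]⟩) (.leaf ⟨0, 12, 0, 0, []⟩)))) (.node (.node (.node (.leaf ⟨8, 9, 5, 27, [230, 189]⟩) (.leaf ⟨184, 3, 213, 68, [1101, 442, 1128,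 1263]⟩)) (.node (.leaf ⟨50, 3, 138, 23, [330, 321, 705, 703, 699, 751, 743, 741, 739]⟩) (.leaf ⟨0, 12, 0, 0, []⟩))) (.node (.node (.leaf ⟨85, 4, 51, 15, [493, 263, 236, 335]⟩) (.leaf ⟨0, 12, 0, 0, []⟩)) (.node (.leaf ⟨65, 2, 174, 0, []⟩) (.leaf ⟨0, 12, 0, 0, []⟩))))))))

def factC1 : Arr (CFact) :=
  (.node (.node (.node (.node (.node (.node (.node (.leaf ⟨0, 2, 0, 1, []⟩) (.leaf ⟨68, 6, 177, 0, []⟩)) (.node (.leaf ⟨88, 0, 47, 3, [511, 289, 287, 284, 319]⟩) (.leaf ⟨0, 12, 0, 0, []⟩))) (.node (.node (.leaf ⟨33, 7, 31, 11, [257, 233, 238, 250]⟩) (.leaf ⟨133, 5, 215, 0, []⟩)) (.node (.leaf ⟨103, 2, 104, 30, [767, 754]⟩) (.leaf ⟨0, 12, 0, 0, []⟩)))) (.node (.node (.node (.leaf ⟨26, 1, 27, 0, []⟩) (.leaf ⟨124, 10, 194, 5, [690, 1153]⟩)) (.node (.leaf ⟨116, 4, 114, 14, [639, 291, 282, 622]⟩) (.leaf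 ⟨0, 12, 0, 0, []⟩))) (.node (.node (.leaf ⟨63, 0, 37, 3, [381, 119, 226, 211, 272]⟩) (.leaf ⟨0, 4, 0, 62, [1408, 17]⟩)) (.node (.leaf ⟨60, 1, 110, 25, [889, 618]⟩) (.leaf ⟨0, 12, 0, 0, []⟩))))) (.node (.node (.node (.node (.leaf ⟨6, 4, 11, 16, [57, 65, 62, 60]⟩) (.leaf ⟨179, 12, 86, 65, [1072, 1088]⟩)) (.node (.leaf ⟨37, 10, 104, 0, []⟩) (.leaf ⟨0, 12, 0, 0, []⟩))) (.node (.node (.leaf ⟨16, 4, 48, 0, []⟩) (.leaf ⟨3, 12, 1, 25, [1345, 19]⟩)) (.node (.leaf ⟨151, 1, 48, 21, [833, 831, 829, 827, 470]⟩) (.leaf ⟨0, 12, 0, 0, []⟩)))) (.node (.node (.node (.leaf ⟨19, 2, 12, 30, [182, 143]⟩) (.leaf ⟨123, 0, 45, 29, [1216, 735]⟩)) (.node (.leaf ⟨46, 10, 128, 5, [321, 705]⟩) (.leaf ⟨0, 12, 0, 0, []⟩))) (.node (.node (.leaf ⟨77, 2, 48, 17, [447, 325]⟩) (.leaf ⟨0, 12, 0, 0, []⟩)) (.node (.leaf ⟨167, 2, 168,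 0, []⟩) (.leaf ⟨0, 12, 0, 0, []⟩)))))) (.node (.node (.node (.node (.node (.leaf ⟨1, 3, 7, 0, []⟩) (.leaf ⟨65, 11, 23, 33, [1052, 437]⟩)) (.node (.leaf ⟨36, 9, 96, 0, []⟩) (.leaf ⟨0, 12, 0, 0, []⟩))) (.node (.node (.leaf ⟨13, 5, 40, 0, []⟩) (.leaf ⟨184, 12, 144, 72, [1101, 1275, 701, 1250, 1294, 1304, 707, 435, 432, 255, 241, 262, 502, 689, 1154, 1297]⟩)) (.node (.leaf ⟨99, 3, 43, 26, [796, 709]⟩) (.leaf ⟨0, 12, 0, 0, []⟩)))) (.node (.node (.node (.leaf ⟨27, 9, 15, 24, [131, 149, 102, 98]⟩) (.leaf ⟨135, 0, 201, 7, [730, 1176, 1185]⟩)) (.node (.leaf ⟨42, 1, 121, 0, []⟩) (.leaf ⟨0, 12, 0, 0, []⟩))) (.node (.node (.leaf ⟨68, 3, 69, 0, []⟩) (.leaf ⟨0, 12, 0, 0, []⟩)) (.node (.leaf ⟨158, 12, 118, 32, [929, 656]⟩) (.leaf ⟨0, 12, 0, 0, []⟩))))) (.node (.node (.node (.node (.leaf ⟨19, 1, 15, 13, [97,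 82]⟩) (.leaf ⟨79, 6, 188, 18, [461, 468, 826, 1121, 1112]⟩)) (.node (.leaf ⟨58, 7, 111, 35, [360, 603, 609]⟩) (.leaf ⟨0, 12, 0, 0, []⟩))) (.node (.node (.leaf ⟨57, 4, 46, 14, [353, 93, 88, 312]⟩) (.leaf ⟨1, 12, 6, 26, [1377, 30]⟩)) (.node (.leaf ⟨52, 8, 159, 0, []⟩) (.leaf ⟨0, 12, 0, 0, []⟩)))) (.node (.node (.node (.leaf ⟨18, 6, 28, 18, [219, 207, 71, 147, 137]⟩) (.leaf ⟨127, 5, 211, 0, []⟩)) (.node (.leaf ⟨138, 1, 139, 0, []⟩) (.leaf ⟨0, 12, 0, 0, []⟩))) (.node (.node (.leaf ⟨83, 2, 35, 45, [481, 257, 234, 266]⟩) (.leaf ⟨0, 12, 0, 0, []⟩)) (.node (.leaf ⟨170, 3, 171, 0, []⟩) (.leaf ⟨0, 12, 0, 0, []⟩))))))) (.node (.node (.node (.node (.node (.node (.leaf ⟨1, 1, 3, 0, []⟩) (.leaf ⟨180, 2, 69, 17, [1041, 418]⟩)) (.node (.leaf ⟨86, 10, 92, 5, [504, 529]⟩) (.leaf ⟨0, 12, 0, 0, []⟩))) (.node (.node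 (.leaf ⟨37, 7, 16, 11, [273, 81, 69, 88]⟩) (.leaf ⟨212, 12, 147, 2, [1257, 1151, 1297, 812]⟩)) (.node (.leaf ⟨132, 1, 147, 25, [784, 780]⟩) (.leaf ⟨0, 12, 0, 0, []⟩)))) (.node (.node (.node (.leaf ⟨29, 3, 12, 10, [138, 143]⟩) (.leaf ⟨193, 3, 198, 10, [1148, 1169]⟩)) (.node (.leaf ⟨40, 10, 119, 0, []⟩) (.leaf ⟨0, 12, 0, 0, []⟩))) (.node (.node (.leaf ⟨40, 7, 65, 47, [295, 401, 397, 101, 396]⟩) (.leaf ⟨0, 12, 0, 0, []⟩)) (.node (.leaf ⟨17, 1, 54, 25, [896, 344]⟩) (.leaf ⟨0, 12, 0, 0, []⟩))))) (.node (.node (.node (.node (.leaf ⟨3, 2, 15, 0, []⟩) (.leaf ⟨186, 1, 182, 13, [1105, 1094]⟩)) (.node (.leaf ⟨38, 8, 109, 0, []⟩) (.leaf ⟨0, 12, 0, 0, []⟩))) (.node (.node (.leaf ⟨51, 1, 52, 0, []⟩) (.leaf ⟨28, 12, 1, 65, [1342, 1356]⟩)) (.node (.leaf ⟨51, 10, 155, 0, []⟩) (.leaf ⟨0, 12, 0, 0, []⟩)))) (.node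 (.node (.node (.leaf ⟨12, 7, 28, 35, [204, 103, 173]⟩) (.leaf ⟨208, 7, 152, 11, [1233, 1227, 823, 836]⟩)) (.node (.leaf ⟨50, 6, 133, 18, [330, 313, 304, 708, 721]⟩) (.leaf ⟨0, 12, 0, 0, []⟩))) (.node (.node (.leaf ⟨81, 7, 81, 35, [465, 261, 464]⟩) (.leaf ⟨0, 12, 0, 0, []⟩)) (.node (.leaf ⟨58, 12, 109, 24, [869, 949, 977, 938, 594]⟩) (.leaf ⟨0, 12, 0, 0, []⟩)))))) (.node (.node (.node (.node (.node (.leaf ⟨9, 1, 6, 13, [49, 30]⟩) (.leaf ⟨23, 1, 70, 25, [1060, 422]⟩)) (.node (.leaf ⟨101, 6, 47, 12, [561, 274, 314]⟩) (.leaf ⟨0, 12, 0, 0, []⟩))) (.node (.node (.leaf ⟨43, 3, 44, 0, []⟩) (.leaf ⟨63, 12, 16, 25, [1329, 305]⟩)) (.node (.leaf ⟨49, 12, 138, 39, [327, 304, 803, 817, 768]⟩) (.leaf ⟨0, 12, 0, 0, []⟩)))) (.node (.node (.node (.leaf ⟨5, 12, 25, 29, [177, 126]⟩) (.leaf ⟨123, 6, 203, 0, []⟩))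 (.node (.leaf ⟨124, 2, 88, 17, [687, 513]⟩) (.leaf ⟨0, 12, 0, 0, []⟩))) (.node (.node (.leaf ⟨73, 5, 46, 9, [431, 359, 360, 354]⟩) (.leaf ⟨0, 12, 0, 0, []⟩)) (.node (.leaf ⟨162, 1, 61, 61, [945, 936, 934, 374]⟩) (.leaf ⟨0, 12, 0, 0, []⟩))))) (.node (.node (.node (.node (.leaf ⟨21, 0, 21, 7, [110, 100, 111]⟩) (.leaf ⟨191, 0, 145, 4, [1137, 636, 776]⟩)) (.node (.leaf ⟨114, 0, 87, 7, [623, 288, 506]⟩) (.leaf ⟨0, 12, 0, 0, []⟩))) (.node (.node (.leaf ⟨51, 0, 60, 50, [334, 211, 278, 369]⟩) (.leaf ⟨1, 5, 10, 69, [1385, 57]⟩)) (.node (.leaf ⟨161, 3, 155, 22, [881, 852, 846, 853]⟩) (.leaf ⟨0, 12, 0, 0, []⟩)))) (.node (.node (.node (.leaf ⟨8, 10, 6, 32, [230, 160]⟩) (.leaf ⟨131, 3, 184, 10, [1260, 1265]⟩)) (.node (.leaf ⟨139, 2, 104, 55, [739, 753, 330, 571, 581]⟩) (.leaf ⟨0, 12, 0, 0, []⟩))) (.node (.node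 (.leaf ⟨85, 3, 84, 10, [493, 484]⟩) (.leaf ⟨0, 12, 0, 0, []⟩)) (.node (.leaf ⟨174, 4, 173, 14, [1009, 397, 388, 1002]⟩) (.leaf ⟨0, 12, 0, 0, []⟩))))))))

def factC2 : Arr (CFact) :=
  (.node (.node (.node (.node (.node (.node (.node (.leaf ⟨0, 6, 0, 1, []⟩) (.leaf ⟨177, 1, 178, 0, []⟩)) (.node (.leaf ⟨84, 5, 88, 53, [490, 456, 515]⟩) (.leaf ⟨0, 12, 0, 0, []⟩))) (.node (.node (.leaf ⟨33, 6, 33, 2, [257, 233, 256]⟩) (.leaf ⟨215, 0, 153, 50, [1283, 824, 1250, 1255]⟩)) (.node (.leaf ⟨45, 7, 143, 0, []⟩) (.leaf ⟨0, 12, 0, 0, []⟩)))) (.node (.node (.node (.leaf ⟨27, 3, 28, 0, []⟩) (.leaf ⟨98, 5, 195, 0, []⟩)) (.node (.leaf ⟨116, 6, 72, 43, [642, 624, 643, 640]⟩) (.leaf ⟨0, 12, 0, 0, []⟩))) (.node (.node (.leaf ⟨19, 4, 64, 0, []⟩) (.leaf ⟨0, 12, 0, 0, []⟩)) (.node (.leaf ⟨110, 12, 105, 25, [899, 582]⟩)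 (.leaf ⟨0, 12, 0, 0, []⟩))))) (.node (.node (.node (.node (.leaf ⟨3, 6, 12, 0, []⟩) (.leaf ⟨86, 11, 174, 33, [1091, 1037]⟩)) (.node (.leaf ⟨104, 1, 100, 13, [579, 556]⟩) (.leaf ⟨0, 12, 0, 0, []⟩))) (.node (.node (.leaf ⟨48, 2, 31, 45, [323, 89, 187, 250]⟩) (.leaf ⟨18, 12, 1, 65, [1338, 1346]⟩)) (.node (.leaf ⟨49, 4, 152, 0, []⟩) (.leaf ⟨0, 12, 0, 0, []⟩)))) (.node (.node (.node (.leaf ⟨12, 12, 21, 26, [195, 111]⟩) (.leaf ⟨45, 12, 202, 29, [1219, 1200]⟩)) (.node (.leaf ⟨43, 2, 129, 0, []⟩) (.leaf ⟨0, 12, 0, 0, []⟩))) (.node (.node (.leaf ⟨32, 2, 78, 0, []⟩) (.leaf ⟨0, 12, 0, 0, []⟩)) (.node (.leaf ⟨168, 1, 56, 21, [963, 961, 959, 957, 955]⟩) (.leaf ⟨0, 12, 0, 0, []⟩)))))) (.node (.node (.node (.node (.node (.leaf ⟨7, 0, 7, 8, [35, 15, 34]⟩) (.leaf ⟨23, 12, 69, 32, [1059, 421]⟩)) (.node (.leaf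 ⟨37, 1, 97, 0, []⟩) (.leaf ⟨0, 12, 0, 0, []⟩))) (.node (.node (.leaf ⟨40, 0, 23, 42, [291, 208, 122]⟩) (.leaf ⟨144, 2, 131, 30, [1315, 1267]⟩)) (.node (.leaf ⟨133, 3, 143, 10, [731, 795]⟩) (.leaf ⟨0, 12, 0, 0, []⟩)))) (.node (.node (.node (.leaf ⟨26, 12, 27, 6, [149, 50, 45, 51, 148, 130]⟩) (.leaf ⟨200, 0, 134, 4, [1182, 1187, 729]⟩)) (.node (.leaf ⟨121, 0, 43, 4, [675, 299, 304]⟩) (.leaf ⟨0, 12, 0, 0, []⟩))) (.node (.node (.leaf ⟨69, 10, 65, 5, [419, 417]⟩) (.leaf ⟨0, 12, 0, 0, []⟩)) (.node (.leaf ⟨159, 3, 155, 26, [912, 882]⟩) (.leaf ⟨0, 12, 0, 0, []⟩))))) (.node (.node (.node (.node (.leaf ⟨19, 0, 19, 4, [98, 84, 99]⟩) (.leaf ⟨182, 12, 80, 24, [1107, 1115, 1123, 461, 462]⟩)) (.node (.leaf ⟨38, 5, 112, 0, []⟩) (.leaf ⟨0, 12, 0, 0, []⟩))) (.node (.node (.leaf ⟨17, 3, 58, 0, []⟩) (.leaf ⟨5, 12,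 1, 65, [1361, 1379]⟩)) (.node (.leaf ⟨159, 1, 58, 57, [867, 339, 333, 356]⟩) (.leaf ⟨0, 12, 0, 0, []⟩)))) (.node (.node (.node (.leaf ⟨6, 9, 18, 24, [51, 173, 227, 219]⟩) (.leaf ⟨211, 0, 195, 42, [1251, 765, 1156]⟩)) (.node (.leaf ⟨139, 3, 140, 0, []⟩) (.leaf ⟨0, 12, 0, 0, []⟩))) (.node (.node (.leaf ⟨34, 2, 84, 0, []⟩) (.leaf ⟨0, 12, 0, 0, []⟩)) (.node (.leaf ⟨171, 3, 137, 10, [995, 993]⟩) (.leaf ⟨0, 12, 0, 0, []⟩))))))) (.node (.node (.node (.node (.node (.node (.leaf ⟨3, 0, 3, 4, [19, 15, 18]⟩) (.leaf ⟨68, 10, 181, 0, []⟩)) (.node (.leaf ⟨36, 8, 93, 0, []⟩) (.leaf ⟨0, 12, 0, 0, []⟩))) (.node (.node (.leaf ⟨37, 6, 37, 2, [273, 81, 272]⟩) (.leaf ⟨147, 0, 208, 29, [1299, 1258]⟩)) (.node (.leaf ⟨132, 2, 145, 30, [784, 779]⟩) (.leaf ⟨0, 12, 0, 0, []⟩)))) (.node (.node (.node (.leaf ⟨9, 3, 26, 23,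 [50, 41, 75, 73, 71, 147, 137, 133, 131]⟩) (.leaf ⟨121, 10, 199, 0, []⟩)) (.node (.leaf ⟨119, 1, 116, 13, [659, 638]⟩) (.leaf ⟨0, 12, 0, 0, []⟩))) (.node (.node (.leaf ⟨22, 2, 66, 0, []⟩) (.leaf ⟨0, 12, 0, 0, []⟩)) (.node (.leaf ⟨54, 12, 55, 25, [915, 349]⟩) (.leaf ⟨0, 12, 0, 0, []⟩))))) (.node (.node (.node (.node (.leaf ⟨15, 0, 15, 7, [83, 21, 82]⟩) (.leaf ⟨76, 6, 187, 0, []⟩)) (.node (.leaf ⟨38, 2, 110, 0, []⟩) (.leaf ⟨0, 12, 0, 0, []⟩))) (.node (.node (.leaf ⟨52, 3, 53, 0, []⟩) (.leaf ⟨1, 9, 1, 27, [1349, 223, 1362]⟩)) (.node (.leaf ⟨155, 1, 154, 13, [851, 840]⟩) (.leaf ⟨0, 12, 0, 0, []⟩)))) (.node (.node (.node (.leaf ⟨14, 6, 29, 18, [74, 40, 51, 173, 136]⟩) (.leaf ⟨123, 7, 209, 0, []⟩)) (.node (.leaf ⟨44, 6, 134, 0, []⟩) (.leaf ⟨0, 12, 0, 0, []⟩))) (.node (.node (.leaf ⟨33, 3, 82, 0, []⟩)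 (.leaf ⟨0, 12, 0, 0, []⟩)) (.node (.leaf ⟨58, 9, 38, 27, [978, 595]⟩) (.leaf ⟨0, 12, 0, 0, []⟩)))))) (.node (.node (.node (.node (.node (.leaf ⟨9, 0, 9, 4, [50, 32, 51]⟩) (.leaf ⟨70, 12, 71, 25, [1075, 427]⟩)) (.node (.leaf ⟨101, 5, 64, 9, [561, 273, 204, 388]⟩) (.leaf ⟨0, 12, 0, 0, []⟩))) (.node (.node (.leaf ⟨44, 1, 44, 6, [307, 305, 91, 304, 306]⟩) (.leaf ⟨97, 1, 42, 25, [1326, 675]⟩)) (.node (.leaf ⟨49, 3, 144, 26, [818, 809]⟩) (.leaf ⟨0, 12, 0, 0, []⟩)))) (.node (.node (.node (.leaf ⟨5, 1, 19, 25, [175, 99]⟩) (.leaf ⟨203, 1, 204, 0, []⟩)) (.node (.leaf ⟨42, 10, 125, 0, []⟩) (.leaf ⟨0, 12, 0, 0, []⟩))) (.node (.node (.leaf ⟨23, 10, 74, 0, []⟩) (.leaf ⟨0, 12, 0, 0, []⟩)) (.node (.leaf ⟨61, 3, 159, 20, [947, 945, 934, 356, 869]⟩) (.leaf ⟨0, 12, 0, 0, []⟩))))) (.node (.node (.node (.node (.leaf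 ⟨20, 0, 20, 4, [108, 115, 109]⟩) (.leaf ⟨191, 3, 192, 0, []⟩)) (.node (.leaf ⟨66, 6, 114, 43, [414, 500, 519, 627]⟩) (.leaf ⟨0, 12, 0, 0, []⟩))) (.node (.node (.leaf ⟨18, 5, 60, 51, [95, 92, 281, 369]⟩) (.leaf ⟨10, 12, 0, 62, [1395, 11]⟩)) (.node (.leaf ⟨51, 12, 62, 28, [840, 853, 883, 878, 874, 344, 346, 348, 352, 379]⟩) (.leaf ⟨0, 12, 0, 0, []⟩)))) (.node (.node (.node (.leaf ⟨8, 11, 28, 33, [230, 135]⟩) (.leaf ⟨75, 12, 136, 16, [1100, 1267, 715, 306, 732]⟩)) (.node (.leaf ⟨104, 2, 140, 17, [755, 740]⟩) (.leaf ⟨0, 12, 0, 0, []⟩))) (.node (.node (.leaf ⟨59, 7, 85, 35, [459, 491, 499]⟩) (.leaf ⟨0, 12, 0, 0, []⟩)) (.node (.leaf ⟨174, 5, 102, 52, [1009, 973, 982, 987]⟩) (.leaf ⟨0, 12, 0, 0, []⟩))))))))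

def factC3 : Arr (CFact) :=
  (.node (.node (.node (.node (.node (.node (.node (.leaf ⟨0, 7, 0, 1, []⟩) (.leaf ⟨178, 8, 70, 38, [1029, 1027, 418, 422]⟩)) (.node (.leaf ⟨87, 4, 85, 14, [507, 510, 517, 499]⟩) (.leaf ⟨0, 12, 0, 0, []⟩))) (.node (.node (.leaf ⟨8, 5, 34, 0, []⟩) (.leaf ⟨215, 2, 214, 48, [1283, 1276, 1281, 1279]⟩)) (.node (.leaf ⟨46, 8, 144, 0, []⟩) (.leaf ⟨0, 12, 0, 0, []⟩)))) (.node (.node (.node (.leaf ⟨28, 10, 26, 5, [133, 131]⟩) (.leaf ⟨99, 0, 196, 0, []⟩)) (.node (.leaf ⟨40, 3, 117, 0, []⟩) (.leaf ⟨0, 12, 0, 0, []⟩))) (.node (.node (.leaf ⟨64, 7, 35, 11, [389, 101, 103, 266]⟩) (.leaf ⟨0, 12, 0, 0, []⟩)) (.node (.leaf ⟨60, 11, 38, 33, [889, 617]⟩) (.leaf ⟨0, 12, 0, 0, []⟩))))) (.node (.node (.node (.node (.leaf ⟨12, 1, 13, 0, []⟩) (.leaf ⟨75, 2, 182, 0, []⟩)) (.node (.leaf ⟨60,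 1, 105, 0, []⟩) (.leaf ⟨0, 12, 0, 0, []⟩))) (.node (.node (.leaf ⟨16, 9, 49, 0, []⟩) (.leaf ⟨1, 3, 13, 26, [1349, 207]⟩)) (.node (.leaf ⟨50, 5, 153, 0, []⟩) (.leaf ⟨0, 12, 0, 0, []⟩)))) (.node (.node (.node (.leaf ⟨19, 3, 29, 26, [182, 139]⟩) (.leaf ⟨123, 2, 171, 30, [1216, 997]⟩)) (.node (.leaf ⟨129, 2, 44, 17, [709, 306]⟩) (.leaf ⟨0, 12, 0, 0, []⟩))) (.node (.node (.leaf ⟨78, 4, 77, 14, [453, 255, 250, 446]⟩) (.leaf ⟨0, 12, 0, 0, []⟩)) (.node (.leaf ⟨162, 3, 168, 22, [945, 934, 350, 965]⟩) (.leaf ⟨0, 12, 0, 0, []⟩)))))) (.node (.node (.node (.node (.node (.leaf ⟨7, 5, 1, 9, [35, 11, 3, 10]⟩) (.leaf ⟨36, 1, 116, 25, [1057, 660]⟩)) (.node (.leaf ⟨97, 3, 98, 0, []⟩) (.leaf ⟨0, 12, 0, 0, []⟩))) (.node (.node (.leaf ⟨36, 6, 40, 43, [271, 248, 122, 293]⟩) (.leaf ⟨131, 12, 49, 26, [1317, 821]⟩)) (.node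 (.leaf ⟨143, 1, 144, 58, [805, 723, 330, 774]⟩) (.leaf ⟨0, 12, 0, 0, []⟩)))) (.node (.node (.node (.leaf ⟨26, 1, 26, 25, [164, 131]⟩) (.leaf ⟨191, 2, 200, 67, [1138, 790, 1189]⟩)) (.node (.leaf ⟨121, 3, 122, 0, []⟩) (.leaf ⟨0, 12, 0, 0, []⟩))) (.node (.node (.leaf ⟨69, 1, 70, 0, []⟩) (.leaf ⟨0, 12, 0, 0, []⟩)) (.node (.leaf ⟨54, 1, 17, 25, [916, 348]⟩) (.leaf ⟨0, 12, 0, 0, []⟩))))) (.node (.node (.node (.node (.leaf ⟨9, 6, 19, 18, [50, 31, 18, 82, 99]⟩) (.leaf ⟨80, 2, 76, 30, [1125, 1096]⟩)) (.node (.leaf ⟨112, 6, 59, 43, [613, 337, 497, 494]⟩) (.leaf ⟨0, 12, 0, 0, []⟩))) (.node (.node (.leaf ⟨58, 4, 23, 15, [357, 93, 22, 122]⟩) (.leaf ⟨9, 12, 4, 65, [1371, 1374]⟩)) (.node (.leaf ⟨57, 10, 159, 5, [361, 869]⟩) (.leaf ⟨0, 12, 0, 0, []⟩)))) (.node (.node (.node (.leaf ⟨8, 12, 26, 39, [47, 18, 187,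 128, 167]⟩) (.leaf ⟨153, 6, 211, 43, [839, 761, 1156, 1253]⟩)) (.node (.leaf ⟨140, 1, 141, 0, []⟩) (.leaf ⟨0, 12, 0, 0, []⟩))) (.node (.node (.leaf ⟨84, 0, 78, 7, [485, 264, 452]⟩) (.leaf ⟨0, 12, 0, 0, []⟩)) (.node (.leaf ⟨171, 1, 171, 6, [995, 989, 385, 988, 994]⟩) (.leaf ⟨0, 12, 0, 0, []⟩))))))) (.node (.node (.node (.node (.node (.node (.leaf ⟨3, 3, 4, 0, []⟩) (.leaf ⟨181, 1, 180, 13, [1045, 1040]⟩)) (.node (.leaf ⟨36, 2, 94, 0, []⟩) (.leaf ⟨0, 12, 0, 0, []⟩))) (.node (.node (.leaf ⟨12, 5, 38, 0, []⟩) (.leaf ⟨208, 12, 193, 29, [1301, 1147]⟩)) (.node (.leaf ⟨145, 2, 134, 17, [789, 727]⟩) (.leaf ⟨0, 12, 0, 0, []⟩)))) (.node (.node (.node (.leaf ⟨12, 10, 28, 5, [147, 137]⟩) (.leaf ⟨199, 1, 196, 13, [1173, 1163]⟩)) (.node (.leaf ⟨74, 0, 119, 4, [438, 641, 661]⟩) (.leaf ⟨0, 12, 0, 0, []⟩))) (.node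 (.node (.leaf ⟨22, 3, 67, 0, []⟩) (.leaf ⟨0, 12, 0, 0, []⟩)) (.node (.leaf ⟨105, 2, 111, 30, [901, 609]⟩) (.leaf ⟨0, 12, 0, 0, []⟩))))) (.node (.node (.node (.node (.leaf ⟨15, 2, 4, 17, [83, 22]⟩) (.leaf ⟨187, 2, 185, 19, [1109, 443, 1102]⟩)) (.node (.leaf ⟨110, 0, 57, 7, [597, 280, 352]⟩) (.leaf ⟨0, 12, 0, 0, []⟩))) (.node (.node (.leaf ⟨53, 10, 51, 5, [341, 339]⟩) (.leaf ⟨1, 12, 8, 31, [1365, 46]⟩)) (.node (.leaf ⟨52, 6, 156, 0, []⟩) (.leaf ⟨0, 12, 0, 0, []⟩)))) (.node (.node (.node (.leaf ⟨19, 7, 13, 35, [198, 213, 73]⟩) (.leaf ⟨209, 3, 201, 40, [1237, 1224, 1193]⟩)) (.node (.leaf ⟨134, 2, 132, 19, [725, 307, 716]⟩) (.leaf ⟨0, 12, 0, 0, []⟩))) (.node (.node (.leaf ⟨82, 6, 48, 12, [469, 258, 325]⟩) (.leaf ⟨0, 12, 0, 0, []⟩)) (.node (.leaf ⟨56, 5, 169, 0, []⟩) (.leaf ⟨0, 12, 0, 0, []⟩))))))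 (.node (.node (.node (.node (.node (.leaf ⟨2, 2, 10, 0, []⟩) (.leaf ⟨92, 4, 114, 62, [1065, 642]⟩)) (.node (.leaf ⟨101, 3, 100, 10, [561, 556]⟩) (.leaf ⟨0, 12, 0, 0, []⟩))) (.node (.node (.leaf ⟨16, 8, 45, 0, []⟩) (.leaf ⟨42, 12, 37, 25, [1333, 549]⟩)) (.node (.leaf ⟨49, 6, 45, 34, [818, 737]⟩) (.leaf ⟨0, 12, 0, 0, []⟩)))) (.node (.node (.node (.leaf ⟨19, 12, 30, 25, [181, 141]⟩) (.leaf ⟨204, 3, 205, 0, []⟩)) (.node (.leaf ⟨125, 1, 124, 13, [693, 686]⟩) (.leaf ⟨0, 12, 0, 0, []⟩))) (.node (.node (.leaf ⟨74, 1, 72, 13, [437, 428]⟩) (.leaf ⟨0, 12, 0, 0, []⟩)) (.node (.leaf ⟨155, 3, 61, 10, [933, 949]⟩) (.leaf ⟨0, 12, 0, 0, []⟩))))) (.node (.node (.node (.node (.leaf ⟨18, 0, 18, 7, [107, 117, 106]⟩) (.leaf ⟨192, 0, 132, 8, [1141, 1138, 789]⟩)) (.node (.leaf ⟨39, 4, 115, 0, []⟩) (.leaf ⟨0, 12, 0,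 0, []⟩))) (.node (.node (.leaf ⟨17, 9, 61, 0, []⟩) (.leaf ⟨1, 4, 0, 62, [1393, 58, 1396]⟩)) (.node (.leaf ⟨51, 0, 113, 29, [884, 620]⟩) (.leaf ⟨0, 12, 0, 0, []⟩)))) (.node (.node (.node (.leaf ⟨24, 12, 9, 40, [125, 185, 239, 234]⟩) (.leaf ⟨75, 4, 44, 62, [1268, 733]⟩)) (.node (.leaf ⟨45, 2, 98, 56, [747, 745, 743, 757, 580, 557, 548, 550, 553]⟩) (.leaf ⟨0, 12, 0, 0, []⟩))) (.node (.node (.leaf ⟨34, 5, 86, 0, []⟩) (.leaf ⟨0, 12, 0, 0, []⟩)) (.node (.leaf ⟨174, 8, 174, 59, [1012, 573, 273, 150, 301, 473, 540, 849, 541, 472, 300, 151, 272, 572, 1013]⟩) (.leaf ⟨0, 12, 0, 0, []⟩))))))))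

def factC4 : Arr (CFact) :=
  (.node (.node (.node (.node (.node (.node (.node (.leaf ⟨0, 8, 0, 1, []⟩) (.leaf ⟨178, 3, 179, 0, []⟩)) (.node (.leaf ⟨40, 1, 89, 0, []⟩) (.leaf ⟨0, 12, 0, 0, []⟩))) (.node (.node (.leaf ⟨34, 0, 32, 42, [263, 238, 254]⟩) (.leaf ⟨163, 2, 215, 17, [1280, 1287]⟩)) (.node (.leaf ⟨101, 1, 145, 0, []⟩) (.leaf ⟨0, 12, 0, 0, []⟩)))) (.node (.node (.node (.leaf ⟨28, 1, 29, 0, []⟩) (.leaf ⟨196, 2, 122, 67, [1159, 800, 681]⟩)) (.node (.leaf ⟨117, 4, 41, 15, [647, 291, 72, 296]⟩) (.leaf ⟨0, 12, 0, 0, []⟩))) (.node (.node (.leaf ⟨64, 6, 64, 2, [389, 101, 388]⟩) (.leaf ⟨0, 12, 0, 0, []⟩)) (.node (.leaf ⟨38, 12, 106, 32, [903, 587]⟩) (.leaf ⟨0, 12, 0, 0, []⟩))))) (.node (.node (.node (.node (.leaf ⟨13, 3, 14, 0, []⟩) (.leaf ⟨182, 2, 76, 17, [1095, 442]⟩)) (.node (.leaf ⟨105, 3,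 106, 0, []⟩) (.leaf ⟨0, 12, 0, 0, []⟩))) (.node (.node (.leaf ⟨16, 10, 50, 0, []⟩) (.leaf ⟨13, 12, 7, 30, [1351, 34]⟩)) (.node (.leaf ⟨51, 2, 154, 0, []⟩) (.leaf ⟨0, 12, 0, 0, []⟩)))) (.node (.node (.node (.leaf ⟨19, 10, 13, 32, [182, 144]⟩) (.leaf ⟨123, 3, 170, 26, [1216, 992]⟩)) (.node (.leaf ⟨43, 4, 130, 0, []⟩) (.leaf ⟨0, 12, 0, 0, []⟩))) (.node (.node (.leaf ⟨78, 5, 47, 52, [453, 433, 434, 321]⟩) (.leaf ⟨0, 12, 0, 0, []⟩)) (.node (.leaf ⟨56, 12, 111, 23, [965, 967, 946, 951, 852, 844, 943, 654, 582, 918]⟩) (.leaf ⟨0, 12, 0, 0, []⟩)))))) (.node (.node (.node (.node (.node (.leaf ⟨7, 3, 6, 10, [35, 30]⟩) (.leaf ⟨116, 12, 92, 25, [1063, 529]⟩)) (.node (.leaf ⟨98, 1, 98, 6, [551, 549, 277, 548, 550]⟩) (.leaf ⟨0, 12, 0, 0, []⟩))) (.node (.node (.leaf ⟨14, 5, 41, 0, []⟩) (.leaf ⟨49, 4, 43, 62,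 [1319, 715]⟩)) (.node (.leaf ⟨144, 2, 138, 56, [807, 794, 729, 791, 777, 566, 581, 771, 768]⟩) (.leaf ⟨0, 12, 0, 0, []⟩)))) (.node (.node (.node (.leaf ⟨26, 3, 28, 26, [164, 132]⟩) (.leaf ⟨201, 6, 170, 18, [1183, 1191, 1137, 634, 988]⟩)) (.node (.leaf ⟨122, 0, 44, 8, [679, 676, 306]⟩) (.leaf ⟨0, 12, 0, 0, []⟩))) (.node (.node (.leaf ⟨70, 2, 71, 0, []⟩) (.leaf ⟨0, 12, 0, 0, []⟩)) (.node (.leaf ⟨54, 3, 54, 26, [916, 347]⟩) (.leaf ⟨0, 12, 0, 0, []⟩))))) (.node (.node (.node (.node (.leaf ⟨4, 6, 20, 0, []⟩) (.leaf ⟨76, 5, 189, 0, []⟩)) (.node (.leaf ⟨38, 10, 113, 0, []⟩) (.leaf ⟨0, 12, 0, 0, []⟩))) (.node (.node (.leaf ⟨58, 3, 57, 10, [357, 352]⟩) (.leaf ⟨6, 12, 1, 65, [1360, 1380]⟩)) (.node (.leaf ⟨52, 2, 160, 0, []⟩) (.leaf ⟨0, 12, 0, 0, []⟩)))) (.node (.node (.node (.leaf ⟨8, 0, 8, 29, [230, 159,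 231]⟩) (.leaf ⟨128, 4, 212, 0, []⟩)) (.node (.leaf ⟨141, 2, 142, 0, []⟩) (.leaf ⟨0, 12, 0, 0, []⟩))) (.node (.node (.leaf ⟨84, 4, 81, 14, [485, 263, 256, 464]⟩) (.leaf ⟨0, 12, 0, 0, []⟩)) (.node (.leaf ⟨63, 8, 172, 0, []⟩) (.leaf ⟨0, 12, 0, 0, []⟩))))))) (.node (.node (.node (.node (.node (.node (.leaf ⟨4, 10, 1, 5, [23, 19]⟩) (.leaf ⟨176, 6, 181, 18, [1024, 1009, 416, 1040, 1047]⟩)) (.node (.leaf ⟨94, 4, 87, 14, [535, 271, 266, 506]⟩) (.leaf ⟨0, 12, 0, 0, []⟩))) (.node (.node (.leaf ⟨38, 0, 17, 42, [279, 69, 92]⟩) (.leaf ⟨147, 5, 128, 69, [1299, 1257]⟩)) (.node (.leaf ⟨135, 6, 97, 18, [729, 791, 777, 561, 548]⟩) (.leaf ⟨0, 12, 0, 0, []⟩)))) (.node (.node (.node (.leaf ⟨29, 0, 29, 7, [146, 80, 147]⟩) (.leaf ⟨133, 0, 199, 4, [799, 1158, 1175]⟩)) (.node (.leaf ⟨71, 9, 119, 24, [426, 428, 645, 661]⟩)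 (.leaf ⟨0, 12, 0, 0, []⟩))) (.node (.node (.leaf ⟨67, 4, 57, 15, [407, 319, 320, 355]⟩) (.leaf ⟨0, 12, 0, 0, []⟩)) (.node (.leaf ⟨38, 1, 107, 25, [904, 588]⟩) (.leaf ⟨0, 12, 0, 0, []⟩))))) (.node (.node (.node (.node (.leaf ⟨3, 4, 16, 0, []⟩) (.leaf ⟨187, 1, 188, 0, []⟩)) (.node (.leaf ⟨110, 4, 100, 14, [597, 279, 272, 556]⟩) (.leaf ⟨0, 12, 0, 0, []⟩))) (.node (.node (.leaf ⟨53, 1, 54, 0, []⟩) (.leaf ⟨1, 10, 7, 32, [1349, 221]⟩)) (.node (.leaf ⟨156, 1, 157, 0, []⟩) (.leaf ⟨0, 12, 0, 0, []⟩)))) (.node (.node (.node (.leaf ⟨18, 2, 14, 17, [207, 72]⟩) (.leaf ⟨199, 3, 209, 10, [1185, 1239]⟩)) (.node (.leaf ⟨134, 1, 135, 0, []⟩) (.leaf ⟨0, 12, 0, 0, []⟩))) (.node (.node (.leaf ⟨82, 5, 42, 9, [469, 257, 236, 301]⟩) (.leaf ⟨0, 12, 0, 0, []⟩)) (.node (.leaf ⟨169, 0, 81, 50, [983, 974, 449, 479]⟩) (.leaf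 ⟨0, 12, 0, 0, []⟩)))))) (.node (.node (.node (.node (.node (.leaf ⟨10, 4, 6, 14, [55, 17, 10, 30]⟩) (.leaf ⟨93, 12, 70, 65, [1069, 1077]⟩)) (.node (.leaf ⟨47, 7, 101, 11, [318, 395, 392, 565]⟩) (.leaf ⟨0, 12, 0, 0, []⟩))) (.node (.node (.leaf ⟨16, 2, 46, 0, []⟩) (.leaf ⟨16, 5, 18, 69, [1331, 381]⟩)) (.node (.leaf ⟨133, 7, 127, 35, [804, 815, 703]⟩) (.leaf ⟨0, 12, 0, 0, []⟩)))) (.node (.node (.node (.leaf ⟨5, 2, 4, 30, [175, 86]⟩) (.leaf ⟨205, 1, 206, 0, []⟩)) (.node (.leaf ⟨43, 6, 126, 0, []⟩) (.leaf ⟨0, 12, 0, 0, []⟩))) (.node (.node (.leaf ⟨31, 1, 75, 0, []⟩) (.leaf ⟨0, 12, 0, 0, []⟩)) (.node (.leaf ⟨54, 5, 163, 0, []⟩) (.leaf ⟨0, 12, 0, 0, []⟩))))) (.node (.node (.node (.node (.leaf ⟨4, 4, 22, 0, []⟩) (.leaf ⟨192, 1, 193, 0, []⟩)) (.node (.leaf ⟨115, 6, 88, 2, [631, 288, 510]⟩) (.leaf ⟨0,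 12, 0, 0, []⟩))) (.node (.node (.leaf ⟨17, 10, 62, 0, []⟩) (.leaf ⟨0, 12, 7, 69, [1399, 39]⟩)) (.node (.leaf ⟨113, 12, 60, 29, [887, 370]⟩) (.leaf ⟨0, 12, 0, 0, []⟩)))) (.node (.node (.node (.leaf ⟨9, 7, 4, 41, [247, 125]⟩) (.leaf ⟨44, 12, 183, 69, [1271, 1098]⟩)) (.node (.leaf ⟨98, 7, 50, 35, [759, 736, 753]⟩) (.leaf ⟨0, 12, 0, 0, []⟩))) (.node (.node (.leaf ⟨86, 2, 36, 48, [503, 263, 234, 270]⟩) (.leaf ⟨0, 12, 0, 0, []⟩)) (.node (.leaf ⟨65, 3, 175, 0, []⟩) (.leaf ⟨0, 12, 0, 0, []⟩))))))))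

def factC5 : Arr (CFact) :=
  (.node (.node (.node (.node (.node (.node (.node (.leaf ⟨0, 4, 1, 0, []⟩) (.leaf ⟨179, 1, 175, 6, [1033, 1029, 1027, 417, 1016]⟩)) (.node (.leaf ⟨89, 3, 90, 0, []⟩) (.leaf ⟨0, 12, 0, 0, []⟩))) (.node (.node (.leaf ⟨9, 4, 35, 0, []⟩) (.leaf ⟨215, 5, 135, 52, [1289, 1279, 1277, 731]⟩)) (.node (.leaf ⟨145, 3, 146, 0, []⟩) (.leaf ⟨0, 12, 0, 0, []⟩)))) (.node (.node (.node (.leaf ⟨29, 2, 30, 0, []⟩) (.leaf ⟨196, 3, 121, 63, [1159, 802, 677]⟩)) (.node (.leaf ⟨117, 3, 116, 10, [647, 638]⟩) (.leaf ⟨0, 12, 0, 0, []⟩))) (.node (.node (.leaf ⟨64, 0, 22, 3, [389, 101, 103, 248, 120]⟩) (.leaf ⟨0, 12, 0, 0, []⟩)) (.node (.leaf ⟨52, 6, 105, 34, [893, 603, 900]⟩) (.leaf ⟨0, 12, 0, 0, []⟩))))) (.node (.node (.node (.node (.leaf ⟨14, 1, 7, 6, [73, 71, 69, 19, 34]⟩) (.leaf ⟨75, 4,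 183, 0, []⟩)) (.node (.leaf ⟨106, 10, 60, 5, [585, 583]⟩) (.leaf ⟨0, 12, 0, 0, []⟩))) (.node (.node (.leaf ⟨50, 1, 46, 13, [329, 312]⟩) (.leaf ⟨1, 6, 12, 34, [1349, 226, 1342]⟩)) (.node (.leaf ⟨154, 5, 83, 52, [841, 497, 519, 508]⟩) (.leaf ⟨0, 12, 0, 0, []⟩)))) (.node (.node (.node (.leaf ⟨13, 12, 20, 33, [201, 112]⟩) (.leaf ⟨45, 0, 123, 29, [1220, 1201]⟩)) (.node (.leaf ⟨43, 5, 131, 0, []⟩) (.leaf ⟨0, 12, 0, 0, []⟩))) (.node (.node (.leaf ⟨78, 2, 59, 17, [453, 365]⟩) (.leaf ⟨0, 12, 0, 0, []⟩)) (.node (.leaf ⟨56, 2, 38, 30, [968, 605]⟩) (.leaf ⟨0, 12, 0, 0, []⟩)))))) (.node (.node (.node (.node (.node (.leaf ⟨7, 7, 7, 11, [38, 14, 12, 39]⟩) (.leaf ⟨36, 8, 71, 31, [1057, 665]⟩)) (.node (.leaf ⟨37, 8, 99, 0, []⟩) (.leaf ⟨0, 12, 0, 0, []⟩))) (.node (.node (.leaf ⟨16, 0, 42, 0, []⟩) (.leaf ⟨43, 12,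 152, 69, [1321, 836]⟩)) (.node (.leaf ⟨144, 3, 50, 23, [807, 805, 799, 800, 309, 307, 305, 312, 331]⟩) (.leaf ⟨0, 12, 0, 0, []⟩)))) (.node (.node (.node (.leaf ⟨26, 9, 15, 27, [164, 162]⟩) (.leaf ⟨172, 12, 196, 57, [1001, 988, 1193, 1184, 1174]⟩)) (.node (.leaf ⟨122, 1, 122, 6, [679, 675, 303, 674, 678]⟩) (.leaf ⟨0, 12, 0, 0, []⟩))) (.node (.node (.leaf ⟨71, 1, 23, 21, [425, 423, 419, 417, 398]⟩) (.leaf ⟨0, 12, 0, 0, []⟩)) (.node (.leaf ⟨107, 1, 38, 25, [922, 592]⟩) (.leaf ⟨0, 12, 0, 0, []⟩))))) (.node (.node (.node (.node (.leaf ⟨20, 2, 18, 19, [105, 23, 94]⟩) (.leaf ⟨80, 5, 190, 0, []⟩)) (.node (.leaf ⟨113, 1, 110, 13, [617, 596]⟩) (.leaf ⟨0, 12, 0, 0, []⟩))) (.node (.node (.leaf ⟨17, 5, 59, 0, []⟩) (.leaf ⟨1, 10, 1, 32, [1363, 245, 1367]⟩)) (.node (.leaf ⟨160, 2, 53, 17, [873, 340]⟩) (.leaf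 ⟨0, 12, 0, 0, []⟩)))) (.node (.node (.node (.leaf ⟨8, 2, 9, 30, [230, 149]⟩) (.leaf ⟨212, 0, 208, 3, [1257, 1151, 1249, 1237, 1232]⟩)) (.node (.leaf ⟨142, 1, 45, 21, [745, 743, 741, 739, 737]⟩) (.leaf ⟨0, 12, 0, 0, []⟩))) (.node (.node (.leaf ⟨84, 6, 78, 43, [488, 466, 489, 486]⟩) (.leaf ⟨0, 12, 0, 0, []⟩)) (.node (.leaf ⟨64, 2, 173, 0, []⟩) (.leaf ⟨0, 12, 0, 0, []⟩))))))) (.node (.node (.node (.node (.node (.node (.leaf ⟨4, 1, 4, 6, [23, 19, 13, 18, 22]⟩) (.leaf ⟨181, 3, 176, 22, [1049, 1024, 1014, 1025]⟩)) (.node (.leaf ⟨94, 2, 86, 17, [535, 505]⟩) (.leaf ⟨0, 12, 0, 0, []⟩))) (.node (.node (.leaf ⟨13, 4, 39, 0, []⟩) (.leaf ⟨193, 7, 152, 41, [1303, 1234]⟩)) (.node (.leaf ⟨143, 3, 135, 40, [773, 763, 793]⟩) (.leaf ⟨0, 12, 0, 0, []⟩)))) (.node (.node (.node (.leaf ⟨28, 0, 28, 4, [136, 153, 137]⟩)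 (.leaf ⟨125, 6, 199, 18, [694, 687, 674, 1163, 1175]⟩)) (.node (.leaf ⟨41, 3, 120, 0, []⟩) (.leaf ⟨0, 12, 0, 0, []⟩))) (.node (.node (.leaf ⟨67, 5, 31, 9, [407, 121, 185, 250]⟩) (.leaf ⟨0, 12, 0, 0, []⟩)) (.node (.leaf ⟨107, 12, 108, 25, [921, 593]⟩) (.leaf ⟨0, 12, 0, 0, []⟩))))) (.node (.node (.node (.node (.leaf ⟨16, 6, 16, 2, [89, 21, 88]⟩) (.leaf ⟨188, 3, 186, 20, [1113, 1109, 445, 1097, 1107]⟩)) (.node (.leaf ⟨110, 6, 57, 43, [600, 558, 601, 598]⟩) (.leaf ⟨0, 12, 0, 0, []⟩))) (.node (.node (.leaf ⟨54, 2, 55, 0, []⟩) (.leaf ⟨7, 12, 9, 33, [1369, 48]⟩)) (.node (.leaf ⟨157, 8, 54, 38, [857, 855, 340, 344]⟩) (.leaf ⟨0, 12, 0, 0, []⟩)))) (.node (.node (.node (.leaf ⟨18, 1, 18, 36, [207, 71, 204, 192, 186, 19, 34, 75, 217]⟩) (.leaf ⟨124, 8, 210, 0, []⟩)) (.node (.leaf ⟨135, 3, 133, 20, [729, 725,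 309, 711, 721]⟩) (.leaf ⟨0, 12, 0, 0, []⟩))) (.node (.node (.leaf ⟨82, 3, 81, 10, [469, 464]⟩) (.leaf ⟨0, 12, 0, 0, []⟩)) (.node (.leaf ⟨102, 3, 169, 63, [574, 474, 985]⟩) (.leaf ⟨0, 12, 0, 0, []⟩)))))) (.node (.node (.node (.node (.node (.leaf ⟨7, 4, 10, 15, [35, 39, 40, 57]⟩) (.leaf ⟨70, 9, 36, 27, [1081, 533]⟩)) (.node (.leaf ⟨100, 6, 46, 12, [567, 569, 320]⟩) (.leaf ⟨0, 12, 0, 0, []⟩))) (.node (.node (.leaf ⟨16, 3, 47, 0, []⟩) (.leaf ⟨18, 12, 3, 62, [1337, 89]⟩)) (.node (.leaf ⟨82, 1, 148, 0, []⟩) (.leaf ⟨0, 12, 0, 0, []⟩)))) (.node (.node (.node (.leaf ⟨5, 3, 3, 26, [175, 83]⟩) (.leaf ⟨206, 2, 207, 0, []⟩)) (.node (.leaf ⟨126, 1, 127, 0, []⟩) (.leaf ⟨0, 12, 0, 0, []⟩))) (.node (.node (.leaf ⟨75, 3, 76, 0, []⟩) (.leaf ⟨0, 12, 0, 0, []⟩)) (.node (.leaf ⟨56, 6, 164, 0, []⟩) (.leaf ⟨0, 12, 0,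 0, []⟩))))) (.node (.node (.node (.node (.leaf ⟨4, 5, 23, 0, []⟩) (.leaf ⟨193, 0, 147, 4, [1145, 1142, 786]⟩)) (.node (.leaf ⟨115, 2, 63, 45, [631, 283, 206, 380]⟩) (.leaf ⟨0, 12, 0, 0, []⟩))) (.node (.node (.leaf ⟨62, 1, 57, 13, [377, 352]⟩) (.leaf ⟨1, 12, 0, 65, [1393, 1401]⟩)) (.node (.leaf ⟨51, 1, 57, 25, [884, 378]⟩) (.leaf ⟨0, 12, 0, 0, []⟩)))) (.node (.node (.node (.leaf ⟨5, 4, 31, 0, []⟩) (.leaf ⟨44, 5, 75, 69, [1272, 1099]⟩)) (.node (.leaf ⟨97, 2, 45, 17, [550, 759]⟩) (.leaf ⟨0, 12, 0, 0, []⟩))) (.node (.node (.leaf ⟨35, 2, 87, 0, []⟩) (.leaf ⟨0, 12, 0, 0, []⟩)) (.node (.leaf ⟨175, 6, 117, 12, [1017, 403, 646]⟩) (.leaf ⟨0, 12, 0, 0, []⟩))))))))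

def factC6 : Arr (CFact) :=
  (.node (.node (.node (.node (.node (.node (.node (.leaf ⟨1, 6, 1, 2, [11, 1, 10]⟩) (.leaf ⟨174, 10, 179, 5, [1021, 1035]⟩)) (.node (.leaf ⟨90, 1, 91, 0, []⟩) (.leaf ⟨0, 12, 0, 0, []⟩))) (.node (.node (.leaf ⟨35, 6, 35, 2, [267, 53, 266]⟩) (.leaf ⟨193, 4, 153, 71, [1230, 1193, 1187, 1291, 1284]⟩)) (.node (.leaf ⟨146, 1, 147, 0, []⟩) (.leaf ⟨0, 12, 0, 0, []⟩)))) (.node (.node (.node (.leaf ⟨30, 1, 5, 21, [139, 137, 133, 131, 129]⟩) (.leaf ⟨121, 6, 197, 0, []⟩)) (.node (.leaf ⟨40, 5, 118, 0, []⟩) (.leaf ⟨0, 12, 0, 0, []⟩))) (.node (.node (.leaf ⟨19, 5, 65, 0, []⟩) (.leaf ⟨0, 12, 0, 0, []⟩)) (.node (.leaf ⟨105, 12, 156, 34, [907, 854]⟩) (.leaf ⟨0, 12, 0, 0, []⟩))))) (.node (.node (.node (.node (.leaf ⟨14, 0, 14, 4, [74, 36, 75]⟩) (.leaf ⟨75, 5, 184, 0, []⟩)) (.node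 (.leaf ⟨106, 1, 107, 0, []⟩) (.leaf ⟨0, 12, 0, 0, []⟩))) (.node (.node (.leaf ⟨17, 6, 51, 0, []⟩) (.leaf ⟨12, 12, 1, 34, [1355, 13]⟩)) (.node (.leaf ⟨154, 2, 95, 17, [841, 545]⟩) (.leaf ⟨0, 12, 0, 0, []⟩)))) (.node (.node (.node (.leaf ⟨12, 3, 19, 26, [196, 110]⟩) (.leaf ⟨171, 6, 198, 18, [998, 1223, 1213, 1215, 1166]⟩)) (.node (.leaf ⟨43, 7, 132, 0, []⟩) (.leaf ⟨0, 12, 0, 0, []⟩))) (.node (.node (.leaf ⟨33, 1, 79, 0, []⟩) (.leaf ⟨0, 12, 0, 0, []⟩)) (.node (.leaf ⟨56, 4, 65, 62, [968, 606]⟩) (.leaf ⟨0, 12, 0, 0, []⟩)))))) (.node (.node (.node (.node (.node (.leaf ⟨6, 6, 6, 12, [41, 43, 40]⟩) (.leaf ⟨71, 12, 93, 27, [1067, 532]⟩)) (.node (.leaf ⟨37, 2, 100, 0, []⟩) (.leaf ⟨0, 12, 0, 0, []⟩))) (.node (.node (.leaf ⟨42, 5, 28, 44, [299, 89, 94, 226, 155]⟩) (.leaf ⟨43, 0, 97, 29, [1322, 1310]⟩))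 (.node (.leaf ⟨144, 6, 147, 18, [807, 794, 729, 726, 786]⟩) (.leaf ⟨0, 12, 0, 0, []⟩)))) (.node (.node (.node (.leaf ⟨28, 3, 9, 10, [169, 149]⟩) (.leaf ⟨172, 1, 199, 25, [1194, 1175]⟩)) (.node (.leaf ⟨42, 8, 123, 0, []⟩) (.leaf ⟨0, 12, 0, 0, []⟩))) (.node (.node (.leaf ⟨23, 2, 72, 0, []⟩) (.leaf ⟨0, 12, 0, 0, []⟩)) (.node (.leaf ⟨60, 8, 54, 31, [927, 858]⟩) (.leaf ⟨0, 12, 0, 0, []⟩))))) (.node (.node (.node (.node (.leaf ⟨20, 1, 21, 0, []⟩) (.leaf ⟨190, 5, 130, 66, [1131, 463, 257, 262, 502, 1092, 1010, 1007, 613, 981, 449, 455, 456, 316, 712]⟩)) (.node (.leaf ⟨62, 0, 113, 4, [378, 599, 619]⟩) (.leaf ⟨0, 12, 0, 0, []⟩))) (.node (.node (.leaf ⟨59, 2, 32, 48, [363, 93, 187, 254]⟩) (.leaf ⟨1, 12, 9, 33, [1387, 48]⟩)) (.node (.leaf ⟨52, 10, 161, 0, []⟩) (.leaf ⟨0, 12, 0, 0, []⟩)))) (.node (.node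 (.node (.leaf ⟨8, 3, 28, 26, [230, 168]⟩) (.leaf ⟨131, 2, 213, 0, []⟩)) (.node (.leaf ⟨126, 3, 142, 22, [697, 305, 310, 747]⟩) (.leaf ⟨0, 12, 0, 0, []⟩))) (.node (.node (.leaf ⟨34, 3, 85, 0, []⟩) (.leaf ⟨0, 12, 0, 0, []⟩)) (.node (.leaf ⟨173, 0, 66, 7, [1003, 394, 404]⟩) (.leaf ⟨0, 12, 0, 0, []⟩))))))) (.node (.node (.node (.node (.node (.node (.leaf ⟨1, 8, 5, 0, []⟩) (.leaf ⟨65, 12, 74, 28, [1008, 1025, 1051, 1046, 1042, 422, 424, 426, 428, 439]⟩)) (.node (.leaf ⟨82, 4, 94, 54, [472, 300, 335, 497, 519, 537]⟩) (.leaf ⟨0, 12, 0, 0, []⟩))) (.node (.node (.leaf ⟨39, 7, 22, 11, [283, 79, 208, 120]⟩) (.leaf ⟨152, 12, 170, 41, [1307, 1230]⟩)) (.node (.leaf ⟨99, 12, 129, 57, [555, 548, 793, 730, 720]⟩) (.leaf ⟨0, 12, 0, 0, []⟩)))) (.node (.node (.node (.leaf ⟨27, 0, 27, 7, [132, 155, 133]⟩) (.leaf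 ⟨122, 6, 200, 0, []⟩)) (.node (.leaf ⟨120, 4, 60, 15, [667, 297, 217, 372]⟩) (.leaf ⟨0, 12, 0, 0, []⟩))) (.node (.node (.leaf ⟨67, 3, 66, 10, [407, 404]⟩) (.leaf ⟨0, 12, 0, 0, []⟩)) (.node (.leaf ⟨105, 1, 157, 25, [908, 856]⟩) (.leaf ⟨0, 12, 0, 0, []⟩))))) (.node (.node (.node (.node (.leaf ⟨3, 5, 17, 0, []⟩) (.leaf ⟨149, 12, 185, 23, [830, 832, 834, 324, 440, 1094, 1107, 1115, 1113, 1110]⟩)) (.node (.leaf ⟨38, 3, 111, 0, []⟩) (.leaf ⟨0, 12, 0, 0, []⟩))) (.node (.node (.leaf ⟨55, 1, 17, 21, [347, 345, 341, 339, 333]⟩) (.leaf ⟨1, 11, 7, 33, [1349, 224, 1352]⟩)) (.node (.leaf ⟨157, 3, 158, 0, []⟩) (.leaf ⟨0, 12, 0, 0, []⟩)))) (.node (.node (.node (.leaf ⟨7, 11, 18, 37, [75, 217]⟩) (.leaf ⟨210, 1, 209, 57, [1243, 695, 1178, 1240]⟩)) (.node (.leaf ⟨44, 5, 136, 0, []⟩) (.leaf ⟨0, 12, 0, 0, []⟩)))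 (.node (.node (.leaf ⟨48, 7, 82, 11, [323, 298, 302, 473]⟩) (.leaf ⟨0, 12, 0, 0, []⟩)) (.node (.leaf ⟨63, 1, 170, 0, []⟩) (.leaf ⟨0, 12, 0, 0, []⟩)))))) (.node (.node (.node (.node (.node (.leaf ⟨2, 3, 11, 0, []⟩) (.leaf ⟨36, 12, 178, 31, [1083, 1031]⟩)) (.node (.leaf ⟨37, 4, 102, 0, []⟩) (.leaf ⟨0, 12, 0, 0, []⟩))) (.node (.node (.leaf ⟨47, 10, 43, 5, [315, 304]⟩) (.leaf ⟨37, 5, 28, 69, [1335, 300]⟩)) (.node (.leaf ⟨148, 3, 149, 0, []⟩) (.leaf ⟨0, 12, 0, 0, []⟩)))) (.node (.node (.node (.leaf ⟨5, 8, 26, 31, [175, 171]⟩) (.leaf ⟨207, 1, 123, 21, [1211, 1209, 1207, 1205, 1203]⟩)) (.node (.leaf ⟨127, 8, 44, 38, [699, 697, 306, 309]⟩) (.leaf ⟨0, 12, 0, 0, []⟩))) (.node (.node (.leaf ⟨76, 1, 76, 6, [443, 441, 253, 440, 442]⟩) (.leaf ⟨0, 12, 0, 0, []⟩)) (.node (.leaf ⟨164, 1, 165, 0, []⟩) (.leaf ⟨0,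 12, 0, 0, []⟩))))) (.node (.node (.node (.node (.leaf ⟨4, 7, 24, 0, []⟩) (.leaf ⟨193, 2, 194, 0, []⟩)) (.node (.leaf ⟨115, 0, 101, 3, [631, 288, 269, 391, 565]⟩) (.leaf ⟨0, 12, 0, 0, []⟩))) (.node (.node (.leaf ⟨18, 4, 63, 0, []⟩) (.leaf ⟨7, 12, 0, 65, [1392, 1402]⟩)) (.node (.leaf ⟨57, 12, 52, 25, [891, 338]⟩) (.leaf ⟨0, 12, 0, 0, []⟩)))) (.node (.node (.node (.leaf ⟨31, 6, 31, 2, [251, 191, 250]⟩) (.leaf ⟨133, 4, 214, 0, []⟩)) (.node (.leaf ⟨98, 6, 127, 18, [552, 759, 747, 749, 698]⟩) (.leaf ⟨0, 12, 0, 0, []⟩))) (.node (.node (.leaf ⟨87, 2, 83, 17, [507, 483]⟩) (.leaf ⟨0, 12, 0, 0, []⟩)) (.node (.leaf ⟨175, 3, 174, 10, [1017, 1008]⟩) (.leaf ⟨0, 12, 0, 0, []⟩))))))))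

def factC7 : Arr (CFact) :=
  (.node (.node (.node (.node (.node (.node (.node (.leaf ⟨1, 0, 1, 3, [11, 1, 5, 7, 10]⟩) (.leaf ⟨119, 9, 179, 24, [660, 651, 1019, 1035]⟩)) (.node (.leaf ⟨91, 2, 92, 0, []⟩) (.leaf ⟨0, 12, 0, 0, []⟩))) (.node (.node (.leaf ⟨9, 5, 36, 0, []⟩) (.leaf ⟨211, 5, 147, 53, [1255, 1293, 1146]⟩)) (.node (.leaf ⟨147, 2, 128, 55, [781, 779, 777, 562, 705]⟩) (.leaf ⟨0, 12, 0, 0, []⟩)))) (.node (.node (.node (.leaf ⟨12, 3, 30, 22, [69, 19, 28, 141]⟩) (.leaf ⟨197, 1, 198, 0, []⟩)) (.node (.leaf ⟨118, 2, 60, 48, [653, 291, 206, 372]⟩) (.leaf ⟨0, 12, 0, 0, []⟩))) (.node (.node (.leaf ⟨65, 6, 23, 43, [397, 214, 290, 292]⟩) (.leaf ⟨0, 12, 0, 0, []⟩)) (.node (.leaf ⟨52, 10, 159, 32, [893, 870]⟩) (.leaf ⟨0, 12, 0, 0, []⟩))))) (.node (.node (.node (.node (.leaf ⟨13, 0, 13, 7, [72, 77,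 73]⟩) (.leaf ⟨75, 7, 185, 0, []⟩)) (.node (.leaf ⟨107, 2, 108, 0, []⟩) (.leaf ⟨0, 12, 0, 0, []⟩))) (.node (.node (.leaf ⟨51, 4, 28, 46, [333, 281, 279, 210]⟩) (.leaf ⟨1, 8, 6, 31, [1349, 229]⟩)) (.node (.leaf ⟨154, 8, 154, 59, [842, 481, 257, 242, 66, 62, 17, 8, 16, 63, 67, 243, 256, 480, 843]⟩) (.leaf ⟨0, 12, 0, 0, []⟩)))) (.node (.node (.node (.leaf ⟨13, 2, 18, 30, [202, 106]⟩) (.leaf ⟨193, 7, 170, 35, [1170, 1229, 995]⟩)) (.node (.leaf ⟨43, 10, 133, 0, []⟩) (.leaf ⟨0, 12, 0, 0, []⟩))) (.node (.node (.leaf ⟨33, 8, 80, 0, []⟩) (.leaf ⟨0, 12, 0, 0, []⟩)) (.node (.leaf ⟨56, 7, 58, 41, [968, 611]⟩) (.leaf ⟨0, 12, 0, 0, []⟩)))))) (.node (.node (.node (.node (.node (.leaf ⟨1, 9, 8, 0, []⟩) (.leaf ⟨36, 9, 179, 27, [1057, 1038]⟩)) (.node (.leaf ⟨100, 7, 100, 35, [557, 277, 556]⟩) (.leaf ⟨0, 12, 0,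 0, []⟩))) (.node (.node (.leaf ⟨42, 6, 42, 2, [300, 154, 301]⟩) (.leaf ⟨97, 12, 121, 29, [1325, 677]⟩)) (.node (.leaf ⟨128, 6, 143, 18, [704, 320, 331, 811, 807]⟩) (.leaf ⟨0, 12, 0, 0, []⟩)))) (.node (.node (.node (.leaf ⟨15, 12, 5, 28, [86, 26, 23, 19, 30, 51, 173, 136, 138, 140]⟩) (.leaf ⟨172, 2, 122, 30, [1194, 1160]⟩)) (.node (.leaf ⟨42, 2, 124, 0, []⟩) (.leaf ⟨0, 12, 0, 0, []⟩))) (.node (.node (.leaf ⟨23, 3, 73, 0, []⟩) (.leaf ⟨0, 12, 0, 0, []⟩)) (.node (.leaf ⟨118, 1, 95, 25, [931, 864]⟩) (.leaf ⟨0, 12, 0, 0, []⟩))))) (.node (.node (.node (.node (.leaf ⟨21, 3, 19, 20, [109, 105, 27, 87, 99]⟩) (.leaf ⟨130, 2, 189, 48, [1133, 1131, 1126, 1128]⟩)) (.node (.leaf ⟨39, 2, 114, 0, []⟩) (.leaf ⟨0, 12, 0, 0, []⟩))) (.node (.node (.leaf ⟨17, 7, 60, 0, []⟩) (.leaf ⟨4, 12, 1, 65, [1383, 1389]⟩)) (.node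 (.leaf ⟨161, 1, 160, 13, [877, 872]⟩) (.leaf ⟨0, 12, 0, 0, []⟩)))) (.node (.node (.node (.leaf ⟨8, 6, 5, 34, [230, 129]⟩) (.leaf ⟨213, 4, 189, 14, [1261, 715, 712, 1134]⟩)) (.node (.leaf ⟨141, 3, 126, 10, [744, 749]⟩) (.leaf ⟨0, 12, 0, 0, []⟩))) (.node (.node (.leaf ⟨85, 0, 59, 8, [493, 264, 365]⟩) (.leaf ⟨0, 12, 0, 0, []⟩)) (.node (.leaf ⟨112, 5, 173, 64, [672, 670, 629, 1005]⟩) (.leaf ⟨0, 12, 0, 0, []⟩))))))) (.node (.node (.node (.node (.node (.node (.leaf ⟨1, 2, 6, 0, []⟩) (.leaf ⟨65, 0, 119, 29, [1052, 662]⟩)) (.node (.leaf ⟨36, 5, 95, 0, []⟩) (.leaf ⟨0, 12, 0, 0, []⟩))) (.node (.node (.leaf ⟨39, 6, 39, 2, [283, 79, 282]⟩) (.leaf ⟨152, 0, 97, 29, [1308, 990]⟩)) (.node (.leaf ⟨99, 1, 133, 25, [796, 721]⟩) (.leaf ⟨0, 12, 0, 0, []⟩)))) (.node (.node (.node (.leaf ⟨26, 0, 26, 4, [130, 157, 131]⟩)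 (.leaf ⟨200, 1, 201, 0, []⟩)) (.node (.leaf ⟨120, 5, 114, 9, [667, 649, 650, 642]⟩) (.leaf ⟨0, 12, 0, 0, []⟩))) (.node (.node (.leaf ⟨66, 4, 59, 15, [413, 408, 353, 362]⟩) (.leaf ⟨0, 12, 0, 0, []⟩)) (.node (.leaf ⟨157, 12, 60, 25, [925, 583]⟩) (.leaf ⟨0, 12, 0, 0, []⟩))))) (.node (.node (.node (.node (.leaf ⟨3, 7, 18, 0, []⟩) (.leaf ⟨149, 3, 187, 26, [1116, 1111]⟩)) (.node (.leaf ⟨111, 4, 65, 15, [605, 279, 204, 396]⟩) (.leaf ⟨0, 12, 0, 0, []⟩))) (.node (.node (.leaf ⟨17, 8, 56, 0, []⟩) (.leaf ⟨7, 12, 4, 32, [1373, 25]⟩)) (.node (.leaf ⟨158, 10, 156, 5, [861, 857]⟩) (.leaf ⟨0, 12, 0, 0, []⟩)))) (.node (.node (.node (.leaf ⟨28, 8, 18, 38, [136, 213, 217, 219]⟩) (.leaf ⟨125, 2, 210, 56, [694, 687, 674, 678, 682, 1199, 1196, 1240, 1245]⟩)) (.node (.leaf ⟨45, 0, 137, 0, []⟩) (.leaf ⟨0, 12, 0, 0,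 []⟩))) (.node (.node (.leaf ⟨81, 6, 77, 12, [475, 477, 451]⟩) (.leaf ⟨0, 12, 0, 0, []⟩)) (.node (.leaf ⟨170, 0, 97, 4, [989, 386, 548]⟩) (.leaf ⟨0, 12, 0, 0, []⟩)))))) (.node (.node (.node (.node (.node (.leaf ⟨11, 4, 2, 15, [61, 17, 3, 16]⟩) (.leaf ⟨96, 2, 36, 30, [1073, 1033, 1085]⟩)) (.node (.leaf ⟨102, 0, 82, 3, [573, 387, 385, 382, 473]⟩) (.leaf ⟨0, 12, 0, 0, []⟩))) (.node (.node (.leaf ⟨47, 5, 22, 9, [315, 89, 22, 120]⟩) (.leaf ⟨28, 12, 12, 62, [1341, 273]⟩)) (.node (.leaf ⟨149, 1, 150, 0, []⟩) (.leaf ⟨0, 12, 0, 0, []⟩)))) (.node (.node (.node (.leaf ⟨5, 0, 5, 29, [178, 127]⟩) (.leaf ⟨197, 3, 207, 22, [1165, 675, 684, 1213]⟩)) (.node (.leaf ⟨127, 3, 128, 0, []⟩) (.leaf ⟨0, 12, 0, 0, []⟩))) (.node (.node (.leaf ⟨31, 2, 77, 0, []⟩) (.leaf ⟨0, 12, 0, 0, []⟩)) (.node (.leaf ⟨165, 3, 166, 0,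 []⟩) (.leaf ⟨0, 12, 0, 0, []⟩))))) (.node (.node (.node (.node (.leaf ⟨5, 0, 25, 0, []⟩) (.leaf ⟨194, 0, 128, 7, [1149, 1146, 782]⟩)) (.node (.leaf ⟨40, 2, 116, 0, []⟩) (.leaf ⟨0, 12, 0, 0, []⟩))) (.node (.node (.leaf ⟨63, 7, 42, 11, [381, 119, 226, 301]⟩) (.leaf ⟨0, 5, 0, 69, [1405, 38, 1402]⟩)) (.node (.leaf ⟨51, 11, 17, 33, [884, 377]⟩) (.leaf ⟨0, 12, 0, 0, []⟩)))) (.node (.node (.node (.leaf ⟨5, 5, 32, 0, []⟩) (.leaf ⟨214, 4, 163, 70, [1277, 719, 712, 1133, 1131, 463, 257, 262, 502, 530, 1078, 671, 668, 940, 952]⟩)) (.node (.leaf ⟨139, 12, 103, 38, [739, 737, 763, 549, 576]⟩) (.leaf ⟨0, 12, 0, 0, []⟩))) (.node (.node (.leaf ⟨35, 4, 88, 0, []⟩) (.leaf ⟨0, 12, 0, 0, []⟩)) (.node (.leaf ⟨65, 10, 176, 0, []⟩) (.leaf ⟨0, 12, 0, 0, []⟩))))))))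

def factC : Arr (CFact) :=
  (.node (.node (.node factC0 factC4) (.node factC2 factC6)) (.node (.node factC1 factC5) (.node factC3 factC7)))

def parC0 : Arr (ℕ × ℕ) :=
  (.node (.node (.node (.node (.node (.node (.node (.leaf (0, 0)) (.leaf (127, 3))) (.node (.leaf (19, 4)) (.leaf (191, 3)))) (.node (.node (.leaf (5, 5)) (.leaf (52, 2))) (.node (.leaf (36, 9)) (.leaf (0, 0))))) (.node (.node (.node (.leaf (3, 4)) (.leaf (46, 8))) (.node (.leaf (33, 8)) (.leaf (123, 4)))) (.node (.node (.leaf (16, 4)) (.leaf (65, 10))) (.node (.leaf (38, 5)) (.leaf (0, 0)))))) (.node (.node (.node (.node (.leaf (1, 9)) (.leaf (44, 5))) (.node (.leaf (23, 2)) (.leaf (122, 6)))) (.node (.node (.leaf (13, 5)) (.leaf (167, 2))) (.node (.leaf (37, 10)) (.leaf (0, 0))))) (.node (.node (.node (.leaf (4, 7)) (.leaf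 (49, 4))) (.node (.leaf (35, 4)) (.leaf (0, 0)))) (.node (.node (.leaf (17, 8)) (.leaf (75, 5))) (.node (.leaf (41, 3)) (.leaf (0, 0))))))) (.node (.node (.node (.node (.node (.leaf (3, 3)) (.leaf (43, 7))) (.node (.leaf (65, 1)) (.leaf (99, 0)))) (.node (.node (.leaf (9, 5)) (.leaf (56, 6))) (.node (.leaf (37, 2)) (.leaf (0, 0))))) (.node (.node (.node (.leaf (4, 6)) (.leaf (82, 1))) (.node (.leaf (34, 2)) (.leaf (128, 4)))) (.node (.node (.leaf (51, 1)) (.leaf (68, 2))) (.node (.leaf (40, 2)) (.leaf (0, 0)))))) (.node (.node (.node (.node (.leaf (3, 6)) (.leaf (139, 3))) (.node (.leaf (75, 3)) (.leaf (203, 1)))) (.node (.node (.leaf (43, 3)) (.leaf (63, 8))) (.node (.leaf (107, 2)) (.leaf (0, 0))))) (.node (.node (.node (.leaf (27, 3)) (.leaf (52, 6))) (.node (.leaf (91, 2)) (.leaf (0, 0))))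 (.node (.node (.leaf (17, 7)) (.leaf (187, 1))) (.node (.leaf (42, 2)) (.leaf (0, 0)))))))) (.node (.node (.node (.node (.node (.node (.leaf (0, 5)) (.leaf (43, 4))) (.node (.leaf (22, 2)) (.leaf (193, 2)))) (.node (.node (.leaf (8, 5)) (.leaf (54, 6))) (.node (.leaf (97, 3)) (.leaf (0, 0))))) (.node (.node (.node (.leaf (3, 7)) (.leaf (145, 3))) (.node (.leaf (33, 3)) (.leaf (124, 8)))) (.node (.node (.leaf (16, 10)) (.leaf (177, 1))) (.node (.leaf (39, 2)) (.leaf (0, 0)))))) (.node (.node (.node (.node (.leaf (2, 2)) (.leaf (45, 6))) (.node (.leaf (23, 10)) (.leaf (123, 0)))) (.node (.node (.leaf (16, 0)) (.leaf (63, 1))) (.node (.leaf (105, 3)) (.leaf (0, 0))))) (.node (.node (.node (.leaf (5, 6)) (.leaf (51, 2))) (.node (.leaf (89, 3)) (.leaf (0, 0)))) (.node (.node (.leaf (17, 3)) (.leaf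 (75, 10))) (.node (.leaf (121, 3)) (.leaf (0, 0))))))) (.node (.node (.node (.node (.node (.leaf (1, 2)) (.leaf (44, 6))) (.node (.leaf (69, 1)) (.leaf (197, 1)))) (.node (.node (.leaf (12, 5)) (.leaf (165, 3))) (.node (.leaf (37, 4)) (.leaf (0, 0))))) (.node (.node (.node (.leaf (4, 4)) (.leaf (149, 1))) (.node (.leaf (34, 5)) (.leaf (133, 4)))) (.node (.node (.leaf (53, 1)) (.leaf (75, 2))) (.node (.leaf (40, 5)) (.leaf (0, 0)))))) (.node (.node (.node (.node (.leaf (13, 3)) (.leaf (141, 2))) (.node (.leaf (32, 2)) (.leaf (205, 1)))) (.node (.node (.leaf (16, 2)) (.leaf (65, 2))) (.node (.leaf (38, 2)) (.leaf (0, 0))))) (.node (.node (.node (.leaf (29, 2)) (.leaf (157, 3))) (.node (.leaf (36, 2)) (.leaf (0, 0)))) (.node (.node (.leaf (17, 10)) (.leaf (80, 5))) (.node (.leaf (43, 6)) (.leaf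 (0, 0)))))))))

def parC1 : Arr (ℕ × ℕ) :=
  (.node (.node (.node (.node (.node (.node (.node (.leaf (0, 4)) (.leaf (43, 2))) (.node (.leaf (19, 5)) (.leaf (192, 1)))) (.node (.node (.leaf (8, 4)) (.leaf (52, 10))) (.node (.leaf (37, 1)) (.leaf (0, 0))))) (.node (.node (.node (.leaf (3, 5)) (.leaf (101, 1))) (.node (.leaf (33, 2)) (.leaf (123, 7)))) (.node (.node (.leaf (16, 9)) (.leaf (68, 6))) (.node (.leaf (38, 10)) (.leaf (0, 0)))))) (.node (.node (.node (.node (.leaf (1, 10)) (.leaf (45, 0))) (.node (.leaf (23, 3)) (.leaf (200, 1)))) (.node (.node (.leaf (14, 5)) (.leaf (56, 5))) (.node (.leaf (60, 1)) (.leaf (0, 0))))) (.node (.node (.node (.leaf (5, 0)) (.leaf (50, 5))) (.node (.leaf (40, 1)) (.leaf (0, 0)))) (.node (.node (.leaf (17, 2)) (.leaf (75, 7))) (.node (.leaf (42, 1)) (.leaf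 (0, 0))))))) (.node (.node (.node (.node (.node (.leaf (1, 8)) (.leaf (43, 10))) (.node (.leaf (68, 3)) (.leaf (121, 6)))) (.node (.node (.leaf (12, 4)) (.leaf (164, 1))) (.node (.leaf (37, 3)) (.leaf (0, 0))))) (.node (.node (.node (.leaf (20, 1)) (.leaf (148, 3))) (.node (.leaf (34, 3)) (.leaf (131, 2)))) (.node (.node (.leaf (52, 3)) (.leaf (68, 10))) (.node (.leaf (40, 3)) (.leaf (0, 0)))))) (.node (.node (.node (.node (.leaf (12, 1)) (.leaf (140, 1))) (.node (.leaf (31, 2)) (.leaf (204, 3)))) (.node (.node (.leaf (16, 8)) (.leaf (64, 2))) (.node (.leaf (38, 8)) (.leaf (0, 0))))) (.node (.node (.node (.leaf (28, 1)) (.leaf (156, 1))) (.node (.leaf (36, 8)) (.leaf (0, 0)))) (.node (.node (.leaf (17, 9)) (.leaf (76, 5))) (.node (.leaf (42, 10)) (.leaf (0, 0)))))))) (.node (.node (.node (.node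 (.node (.node (.leaf (1, 1)) (.leaf (43, 5))) (.node (.leaf (22, 3)) (.leaf (98, 5)))) (.node (.node (.leaf (9, 4)) (.leaf (54, 5))) (.node (.leaf (37, 8)) (.leaf (0, 0))))) (.node (.node (.node (.leaf (3, 10)) (.leaf (146, 1))) (.node (.leaf (33, 4)) (.leaf (127, 5)))) (.node (.node (.leaf (17, 6)) (.leaf (178, 3))) (.node (.leaf (39, 4)) (.leaf (0, 0)))))) (.node (.node (.node (.node (.leaf (2, 3)) (.leaf (138, 1))) (.node (.leaf (31, 1)) (.leaf (123, 6)))) (.node (.node (.leaf (16, 1)) (.leaf (170, 3))) (.node (.leaf (106, 1)) (.leaf (0, 0))))) (.node (.node (.node (.leaf (26, 1)) (.leaf (51, 10))) (.node (.leaf (90, 1)) (.leaf (0, 0)))) (.node (.node (.leaf (17, 5)) (.leaf (76, 6))) (.node (.leaf (42, 8)) (.leaf (0, 0))))))) (.node (.node (.node (.node (.node (.leaf (1, 3)) (.leaf (134, 1)))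 (.node (.leaf (70, 2)) (.leaf (121, 10)))) (.node (.node (.leaf (13, 4)) (.leaf (166, 1))) (.node (.leaf (37, 9)) (.leaf (0, 0))))) (.node (.node (.node (.leaf (4, 5)) (.leaf (150, 2))) (.node (.leaf (35, 2)) (.leaf (133, 5)))) (.node (.node (.leaf (54, 2)) (.leaf (75, 4))) (.node (.leaf (40, 10)) (.leaf (0, 0)))))) (.node (.node (.node (.node (.leaf (3, 2)) (.leaf (45, 7))) (.node (.leaf (33, 1)) (.leaf (206, 2)))) (.node (.node (.leaf (16, 3)) (.leaf (65, 3))) (.node (.leaf (38, 3)) (.leaf (0, 0))))) (.node (.node (.node (.leaf (5, 4)) (.leaf (52, 8))) (.node (.leaf (36, 5)) (.leaf (0, 0)))) (.node (.node (.leaf (18, 4)) (.leaf (115, 1))) (.node (.leaf (126, 1)) (.leaf (0, 0)))))))))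

def parC : Arr (ℕ × ℕ) :=
  (.node parC0 parC1)

def wordsC0 : Arr (ℕ × ℕ × Bool) :=
  (.node (.node (.node (.node (.node (.node (.node (.leaf (17, 2, false)) (.leaf (19, 7, false))) (.node (.leaf (6, 0, false)) (.leaf (0, 0, false)))) (.node (.node (.leaf (8, 1, false)) (.leaf (0, 0, false))) (.node (.leaf (18, 0, false)) (.leaf (0, 0, false))))) (.node (.node (.node (.leaf (2, 0, false)) (.leaf (0, 0, false))) (.node (.leaf (17, 0, false)) (.leaf (0, 0, false)))) (.node (.node (.leaf (23, 1, false)) (.leaf (0, 0, false))) (.node (.leaf (10, 2, false)) (.leaf (0, 0, false)))))) (.node (.node (.node (.node (.leaf (8, 4, false)) (.leaf (19, 6, true))) (.node (.leaf (10, 0, true)) (.leaf (0, 0, false)))) (.node (.node (.leaf (10, 3, false)) (.leaf (0, 0, false))) (.node (.leaf (14, 0, true)) (.leaf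 (0, 0, false))))) (.node (.node (.node (.leaf (15, 1, true)) (.leaf (0, 0, false))) (.node (.leaf (18, 3, false)) (.leaf (0, 0, false)))) (.node (.node (.leaf (23, 0, false)) (.leaf (0, 0, false))) (.node (.leaf (25, 0, false)) (.leaf (0, 0, false))))))) (.node (.node (.node (.node (.node (.leaf (4, 1, false)) (.leaf (15, 1, false))) (.node (.leaf (3, 0, true)) (.leaf (0, 0, false)))) (.node (.node (.leaf (8, 5, false)) (.leaf (0, 0, false))) (.node (.leaf (15, 2, false)) (.leaf (0, 0, false))))) (.node (.node (.node (.leaf (9, 3, false)) (.leaf (0, 0, false))) (.node (.leaf (16, 1, false)) (.leaf (0, 0, false)))) (.node (.node (.leaf (3, 1, false)) (.leaf (0, 0, false))) (.node (.leaf (19, 1, false)) (.leaf (0, 0, false)))))) (.node (.node (.node (.node (.leaf (5, 1, false)) (.leaf (19, 6, false)))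 (.node (.leaf (9, 0, false)) (.leaf (0, 0, false)))) (.node (.node (.leaf (10, 1, false)) (.leaf (0, 0, false))) (.node (.leaf (3, 1, true)) (.leaf (0, 0, false))))) (.node (.node (.node (.leaf (15, 4, false)) (.leaf (0, 0, false))) (.node (.leaf (15, 0, true)) (.leaf (0, 0, false)))) (.node (.node (.leaf (13, 0, false)) (.leaf (0, 0, false))) (.node (.leaf (18, 1, false)) (.leaf (0, 0, false)))))))) (.node (.node (.node (.node (.node (.node (.leaf (16, 1, true)) (.leaf (5, 0, false))) (.node (.leaf (9, 1, false)) (.leaf (0, 0, false)))) (.node (.node (.leaf (9, 2, false)) (.leaf (0, 0, false))) (.node (.leaf (18, 2, true)) (.leaf (0, 0, false))))) (.node (.node (.node (.leaf (18, 1, true)) (.leaf (0, 0, false))) (.node (.leaf (18, 3, true)) (.leaf (0, 0, false)))) (.node (.node (.leaf (12, 1,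 false)) (.leaf (0, 0, false))) (.node (.leaf (19, 0, true)) (.leaf (0, 0, false)))))) (.node (.node (.node (.node (.leaf (5, 3, false)) (.leaf (16, 3, false))) (.node (.leaf (10, 0, false)) (.leaf (0, 0, false)))) (.node (.node (.leaf (3, 0, false)) (.leaf (0, 0, false))) (.node (.leaf (8, 3, false)) (.leaf (0, 0, false))))) (.node (.node (.node (.leaf (15, 0, false)) (.leaf (0, 0, false))) (.node (.leaf (16, 4, false)) (.leaf (0, 0, false)))) (.node (.node (.leaf (12, 0, false)) (.leaf (0, 0, false))) (.node (.leaf (5, 2, false)) (.leaf (0, 0, false))))))) (.node (.node (.node (.node (.node (.leaf (11, 0, true)) (.leaf (25, 1, false))) (.node (.leaf (11, 1, false)) (.leaf (0, 0, false)))) (.node (.node (.leaf (8, 2, false)) (.leaf (0, 0, false))) (.node (.leaf (17, 1, false)) (.leaf (0, 0, false)))))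 (.node (.node (.node (.leaf (11, 1, true)) (.leaf (0, 0, false))) (.node (.leaf (15, 3, false)) (.leaf (0, 0, false)))) (.node (.node (.leaf (0, 0, false)) (.leaf (0, 0, false))) (.node (.leaf (10, 4, true)) (.leaf (0, 0, false)))))) (.node (.node (.node (.node (.leaf (15, 3, true)) (.leaf (0, 0, false))) (.node (.leaf (7, 0, false)) (.leaf (0, 0, false)))) (.node (.node (.leaf (1, 0, false)) (.leaf (0, 0, false))) (.node (.leaf (10, 1, true)) (.leaf (0, 0, false))))) (.node (.node (.node (.leaf (2, 0, true)) (.leaf (0, 0, false))) (.node (.leaf (16, 4, true)) (.leaf (0, 0, false)))) (.node (.node (.leaf (13, 1, false)) (.leaf (0, 0, false))) (.node (.leaf (20, 0, false)) (.leaf (0, 0, false)))))))))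

def wordsC : Arr (ℕ × ℕ × Bool) :=
  wordsC0

def relsC : List (List ℕ) :=
  [[0, 0],
   [1, 1],
   [2, 2, 2],
   [1, 2, 1, 2, 1, 2, 1, 2, 1, 2],
   [0, 1, 0, 1],
   [0, 2, 0, 3],
   [6, 6],
   [7, 7],
   [6, 1, 3, 1, 2, 1],
   [7, 3, 6, 2],
   [8, 1, 2, 6, 1],
   [10, 1, 3],
   [8, 9],
   [10, 11],
   [4, 4, 4, 4, 4, 4, 4],
   [2, 4, 3, 5, 5],
   [4, 0, 5, 7, 6, 0],
   [4, 6, 5, 0],
   [4, 7, 5, 6, 0],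
   [8, 5, 5, 5, 10, 4, 4, 4, 9, 5, 5, 5, 11, 4, 4, 4],
   [],
   [0, 0],
   [1, 1],
   [2, 3],
   [3, 2],
   [4, 5],
   [5, 4],
   [6, 6],
   [7, 7],
   [8, 9],
   [9, 8],
   [10, 11],
   [11, 10]]

def logC : Log :=
  ⟨relsC, [0, 1, 2, 6, 7, 8, 10], wordsC, 706, factC, parC⟩

def goalC : ℕ := 1410

end Cfsg.Agent.Lead.JankoOne.Coset
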