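import Cfsg.Agent.Lib.Lead.JankoOne.Coset.Engine

/-!
Generated log of a coset enumeration (case D).
-/

set_option autoImplicit false
set_option maxRecDepth 100000
set_option maxHeartbeats 0

namespace Cfsg.Agent.Lead.JankoOne.Coset

def factD0 : Arr (CFact) :=
  (.node (.node (.node (.node (.node (.node (.node (.leaf ⟨0, 0, 0, 1, []⟩) (.leaf ⟨72, 2, 103, 18, [1023, 519]⟩)) (.node (.leaf ⟨101, 0, 68, 5, [511, 246, 396]⟩) (.leaf ⟨252, 1, 253, 0, []⟩))) (.node (.node (.leaf ⟨6, 5, 35, 0, []⟩) (.leaf ⟨138, 12, 159, 24, [1245, 633, 1208, 1279, 737]⟩)) (.node (.leaf ⟨168, 2, 136, 14, [767, 765, 761, 759, 755, 749, 728, 730, 642]⟩) (.leaf ⟨0, 5, 0, 50, [1791, 37, 1788]⟩)))) (.node (.node (.node (.leaf ⟨7, 4, 23, 8, [37, 46, 127, 125]⟩) (.leaf ⟨209, 0, 167, 10, [1151, 1148, 764]⟩)) (.node (.leaf ⟨134, 2, 135, 0, []⟩) (.leaf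 ⟨93, 4, 92, 56, [1659, 1507]⟩))) (.node (.node (.leaf ⟨61, 6, 58, 12, [366, 383, 339, 352, 356]⟩) (.leaf ⟨214, 2, 178, 11, [1407, 827]⟩)) (.node (.leaf ⟨39, 5, 194, 0, []⟩) (.leaf ⟨0, 12, 0, 0, []⟩))))) (.node (.node (.node (.node (.leaf ⟨11, 6, 6, 12, [61, 57, 53, 50, 31]⟩) (.leaf ⟨150, 6, 198, 9, [698, 902, 1087]⟩)) (.node (.leaf ⟨31, 5, 114, 0, []⟩) (.leaf ⟨242, 2, 225, 39, [1599, 1469, 380, 1428]⟩))) (.node (.node (.leaf ⟨16, 5, 49, 0, []⟩) (.leaf ⟨222, 1, 224, 0, []⟩)) (.node (.leaf ⟨180, 0, 62, 5, [831, 828, 366]⟩) (.leaf ⟨0, 12, 0, 0, []⟩)))) (.node (.node (.node (.leaf ⟨7, 11, 4, 19, [191, 90, 24]⟩) (.leaf ⟨162, 12, 132, 17, [1215, 632]⟩)) (.node (.leaf ⟨151, 6, 152, 0, []⟩) (.leaf ⟨56, 5, 32, 50, [1715, 603]⟩))) (.node (.node (.leaf ⟨87, 3, 88, 0, []⟩) (.leaf ⟨67, 5, 235, 0, []⟩)) (.node (.leaf ⟨74, 6, 187,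 27, [945, 882]⟩) (.leaf ⟨0, 12, 0, 0, []⟩)))))) (.node (.node (.node (.node (.node (.leaf ⟨7, 2, 1, 6, [31, 29, 27, 25, 21]⟩) (.leaf ⟨108, 2, 185, 11, [547, 1051]⟩)) (.node (.leaf ⟨107, 0, 74, 5, [543, 532, 416]⟩) (.leaf ⟨257, 7, 246, 36, [1567, 805, 1460, 1462, 1509]⟩))) (.node (.node (.leaf ⟨42, 7, 36, 4, [287, 69, 94, 258]⟩) (.leaf ⟨217, 2, 123, 11, [1309, 607]⟩)) (.node (.leaf ⟨55, 0, 174, 5, [346, 723, 799]⟩) (.leaf ⟨0, 12, 0, 0, []⟩)))) (.node (.node (.node (.leaf ⟨5, 2, 26, 11, [28, 157]⟩) (.leaf ⟨130, 2, 167, 18, [1175, 764]⟩)) (.node (.leaf ⟨143, 7, 98, 4, [671, 328, 241, 500]⟩) (.leaf ⟨249, 4, 181, 56, [1691, 1626]⟩))) (.node (.node (.leaf ⟨73, 1, 74, 0, []⟩) (.leaf ⟨228, 3, 59, 59, [1437, 1434, 471, 464, 451, 1363, 1367, 1368, 361]⟩)) (.node (.leaf ⟨105, 8, 31, 29, [926, 581]⟩) (.leaf ⟨0, 12, 0, 0, []⟩)))))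 (.node (.node (.node (.node (.leaf ⟨8, 8, 10, 15, [52, 95, 67, 61]⟩) (.leaf ⟨161, 0, 204, 5, [740, 1095, 1119]⟩)) (.node (.leaf ⟨33, 1, 124, 0, []⟩) (.leaf ⟨245, 4, 183, 56, [1625, 1591]⟩))) (.node (.node (.leaf ⟨27, 2, 57, 0, []⟩) (.leaf ⟨65, 1, 94, 17, [1375, 483]⟩)) (.node (.leaf ⟨185, 1, 186, 0, []⟩) (.leaf ⟨0, 12, 0, 0, []⟩)))) (.node (.node (.node (.leaf ⟨16, 2, 9, 18, [223, 212]⟩) (.leaf ⟨125, 10, 170, 57, [1223, 1136]⟩)) (.node (.leaf ⟨159, 1, 160, 0, []⟩) (.leaf ⟨4, 11, 7, 55, [1727, 98]⟩))) (.node (.node (.leaf ⟨94, 7, 87, 13, [479, 476, 449]⟩) (.leaf ⟨92, 4, 245, 0, []⟩)) (.node (.leaf ⟨39, 12, 77, 17, [991, 427]⟩) (.leaf ⟨0, 12, 0, 0, []⟩))))))) (.node (.node (.node (.node (.node (.node (.leaf ⟨1, 7, 1, 4, [11, 1, 5, 10]⟩) (.leaf ⟨72, 0, 71, 48, [1021, 1016]⟩)) (.node (.leaf ⟨104, 0, 71, 5, [520, 525,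 405]⟩) (.leaf ⟨171, 4, 254, 0, []⟩))) (.node (.node (.leaf ⟨10, 5, 39, 0, []⟩) (.leaf ⟨214, 1, 215, 0, []⟩)) (.node (.leaf ⟨84, 9, 169, 20, [441, 275, 783]⟩) (.leaf ⟨0, 12, 0, 0, []⟩)))) (.node (.node (.node (.leaf ⟨14, 6, 17, 12, [88, 77, 73, 132, 141]⟩) (.leaf ⟨165, 12, 129, 54, [775, 668, 671, 327, 235, 298, 1164, 1166, 979, 1167, 1165, 299, 234, 326, 670, 669]⟩)) (.node (.leaf ⟨34, 1, 139, 0, []⟩) (.leaf ⟨250, 4, 248, 8, [1523, 1454, 1498, 1679]⟩))) (.node (.node (.leaf ⟨69, 1, 70, 0, []⟩) (.leaf ⟨57, 9, 222, 31, [356, 358, 1347, 1345]⟩)) (.node (.leaf ⟨40, 4, 196, 0, []⟩) (.leaf ⟨0, 12, 0, 0, []⟩))))) (.node (.node (.node (.node (.leaf ⟨14, 1, 15, 0, []⟩) (.leaf ⟨162, 7, 199, 4, [851, 808, 468, 1097]⟩)) (.node (.leaf ⟨120, 1, 121, 0, []⟩) (.leaf ⟨241, 12, 220, 28, [1615, 1405]⟩))) (.node (.node (.leaf ⟨51, 6,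 31, 35, [333, 131, 208, 247]⟩) (.leaf ⟨86, 12, 223, 17, [1359, 1338]⟩)) (.node (.leaf ⟨163, 5, 182, 21, [750, 718, 715, 847]⟩) (.leaf ⟨0, 12, 0, 0, []⟩)))) (.node (.node (.node (.leaf ⟨3, 5, 28, 0, []⟩) (.leaf ⟨204, 1, 210, 17, [1212, 1154]⟩)) (.node (.leaf ⟨36, 4, 157, 0, []⟩) (.leaf ⟨4, 8, 3, 29, [1727, 158, 1734]⟩))) (.node (.node (.leaf ⟨90, 2, 89, 11, [463, 453]⟩) (.leaf ⟨240, 6, 237, 35, [1487, 1079, 1476, 1481]⟩)) (.node (.leaf ⟨189, 12, 28, 18, [975, 411]⟩) (.leaf ⟨0, 12, 0, 0, []⟩)))))) (.node (.node (.node (.node (.node (.leaf ⟨8, 0, 8, 10, [47, 13, 46]⟩) (.leaf ⟨116, 0, 84, 7, [1061, 545, 1067]⟩)) (.node (.leaf ⟨110, 1, 111, 0, []⟩) (.leaf ⟨183, 4, 261, 0, []⟩))) (.node (.node (.leaf ⟨14, 4, 46, 0, []⟩) (.leaf ⟨50, 10, 221, 0, []⟩)) (.node (.leaf ⟨176, 2, 177, 0, []⟩) (.leaf ⟨0, 12, 0, 0, []⟩)))) (.node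 (.node (.node (.leaf ⟨25, 12, 4, 17, [175, 27]⟩) (.leaf ⟨133, 12, 37, 27, [1199, 295]⟩)) (.node (.leaf ⟨149, 2, 35, 6, [687, 685, 683, 681, 679]⟩) (.leaf ⟨96, 8, 123, 29, [1699, 1412]⟩))) (.node (.node (.leaf ⟨80, 2, 68, 14, [431, 429, 427, 425, 421, 419, 417, 411, 396]⟩) (.leaf ⟨99, 6, 62, 27, [1452, 1443]⟩)) (.node (.leaf ⟨191, 12, 74, 18, [943, 419]⟩) (.leaf ⟨0, 12, 0, 0, []⟩))))) (.node (.node (.node (.node (.leaf ⟨20, 3, 21, 0, []⟩) (.leaf ⟨205, 10, 170, 30, [1135, 749, 786]⟩)) (.node (.leaf ⟨129, 4, 122, 22, [623, 253, 248, 598]⟩) (.leaf ⟨235, 2, 233, 11, [1647, 1602]⟩))) (.node (.node (.leaf ⟨62, 2, 63, 0, []⟩) (.leaf ⟨54, 9, 89, 33, [1390, 508]⟩)) (.node (.leaf ⟨190, 1, 191, 0, []⟩) (.leaf ⟨0, 12, 0, 0, []⟩)))) (.node (.node (.node (.leaf ⟨30, 6, 30, 3, [239, 45, 238]⟩) (.leaf ⟨207, 2, 127, 44, [1171, 626,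 1261]⟩)) (.node (.leaf ⟨163, 2, 162, 11, [749, 743]⟩) (.leaf ⟨8, 12, 1, 49, [1754, 1771, 1774]⟩))) (.node (.node (.leaf ⟨85, 2, 95, 11, [495, 485]⟩) (.leaf ⟨249, 0, 231, 34, [1519, 1386, 1464]⟩)) (.node (.leaf ⟨105, 12, 71, 27, [1007, 422]⟩) (.leaf ⟨0, 12, 0, 0, []⟩))))))))

def factD1 : Arr (CFact) :=
  (.node (.node (.node (.node (.node (.node (.node (.leaf ⟨0, 2, 0, 1, []⟩) (.leaf ⟨103, 12, 28, 26, [1025, 406]⟩)) (.node (.leaf ⟨101, 6, 102, 0, []⟩) (.leaf ⟨253, 0, 222, 5, [1537, 1532, 1345]⟩))) (.node (.node (.leaf ⟨9, 4, 36, 0, []⟩) (.leaf ⟨138, 3, 204, 26, [1280, 1276]⟩)) (.node (.leaf ⟨124, 2, 168, 11, [645, 769]⟩) (.leaf ⟨0, 12, 2, 56, [1793, 18]⟩)))) (.node (.node (.node (.leaf ⟨3, 7, 24, 0, []⟩) (.leaf ⟨209, 1, 210, 0, []⟩)) (.node (.leaf ⟨135, 1, 136, 0, []⟩) (.leaf ⟨92, 12, 247, 50, [1665, 1510]⟩))) (.node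 (.node (.leaf ⟨57, 8, 59, 15, [356, 385, 365, 361]⟩) (.leaf ⟨215, 6, 181, 12, [1297, 1407, 830, 836, 843]⟩)) (.node (.leaf ⟨194, 0, 81, 34, [897, 274, 434]⟩) (.leaf ⟨0, 12, 0, 0, []⟩))))) (.node (.node (.node (.node (.leaf ⟨11, 2, 12, 0, []⟩) (.leaf ⟨198, 5, 89, 51, [1089, 701, 604]⟩)) (.node (.leaf ⟨114, 2, 41, 40, [577, 245, 182, 282]⟩) (.leaf ⟨251, 3, 233, 63, [1525, 1067, 1494, 1599]⟩))) (.node (.node (.leaf ⟨49, 0, 45, 34, [321, 228, 302]⟩) (.leaf ⟨224, 6, 59, 12, [1345, 1343, 1338, 1336, 361]⟩)) (.node (.leaf ⟨171, 2, 180, 44, [790, 382, 833]⟩) (.leaf ⟨0, 12, 0, 0, []⟩)))) (.node (.node (.node (.leaf ⟨11, 8, 4, 15, [61, 173, 179, 27]⟩) (.leaf ⟨131, 2, 160, 18, [1193, 739]⟩)) (.node (.leaf ⟨152, 1, 153, 0, []⟩) (.leaf ⟨32, 12, 46, 56, [1729, 351]⟩))) (.node (.node (.leaf ⟨88, 1, 89, 0, []⟩) (.leaf ⟨235, 0, 234,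 34, [1473, 1341, 1470]⟩)) (.node (.leaf ⟨187, 12, 75, 27, [961, 947]⟩) (.leaf ⟨0, 12, 0, 0, []⟩)))))) (.node (.node (.node (.node (.node (.leaf ⟨7, 0, 7, 7, [32, 12, 33]⟩) (.leaf ⟨107, 7, 78, 13, [1051, 997, 994]⟩)) (.node (.leaf ⟨107, 2, 108, 0, []⟩) (.leaf ⟨257, 0, 255, 34, [1567, 793, 1558]⟩))) (.node (.node (.leaf ⟨12, 5, 43, 0, []⟩) (.leaf ⟨217, 1, 218, 0, []⟩)) (.node (.leaf ⟨173, 0, 54, 10, [796, 801, 345]⟩) (.leaf ⟨0, 12, 0, 0, []⟩)))) (.node (.node (.node (.leaf ⟨26, 12, 24, 16, [156, 30, 38, 31, 157, 153]⟩) (.leaf ⟨167, 12, 131, 26, [1185, 630]⟩)) (.node (.leaf ⟨34, 2, 144, 0, []⟩) (.leaf ⟨181, 12, 96, 50, [1697, 1519]⟩))) (.node (.node (.leaf ⟨74, 2, 75, 0, []⟩) (.leaf ⟨62, 6, 227, 12, [367, 365, 361, 1441, 1437]⟩)) (.node (.leaf ⟨76, 12, 193, 47, [553, 925, 512, 890]⟩) (.leaf ⟨0, 12, 0, 0, []⟩))))) (.node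 (.node (.node (.node (.leaf ⟨10, 11, 7, 19, [97, 50, 39]⟩) (.leaf ⟨203, 0, 160, 10, [1116, 1121, 739]⟩)) (.node (.leaf ⟨124, 6, 125, 0, []⟩) (.leaf ⟨229, 0, 248, 48, [1631, 1515]⟩))) (.node (.node (.leaf ⟨57, 2, 56, 11, [353, 349]⟩) (.leaf ⟨65, 2, 96, 18, [1375, 484]⟩)) (.node (.leaf ⟨186, 3, 187, 0, []⟩) (.leaf ⟨0, 12, 0, 0, []⟩)))) (.node (.node (.node (.leaf ⟨16, 3, 10, 26, [223, 211]⟩) (.leaf ⟨134, 1, 37, 17, [1226, 729]⟩)) (.node (.leaf ⟨160, 3, 161, 0, []⟩) (.leaf ⟨7, 12, 9, 57, [1761, 198]⟩))) (.node (.node (.leaf ⟨94, 1, 95, 0, []⟩) (.leaf ⟨92, 5, 246, 0, []⟩)) (.node (.leaf ⟨78, 2, 78, 18, [973, 861]⟩) (.leaf ⟨0, 12, 0, 0, []⟩))))))) (.node (.node (.node (.node (.node (.node (.leaf ⟨0, 5, 2, 0, []⟩) (.leaf ⟨28, 8, 111, 29, [1027, 989]⟩)) (.node (.leaf ⟨31, 2, 106, 0, []⟩) (.leaf ⟨254, 0, 245, 2, [1553, 790,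 340, 1385, 1504]⟩))) (.node (.node (.leaf ⟨39, 6, 28, 35, [273, 187, 244, 246]⟩) (.leaf ⟨215, 3, 216, 0, []⟩)) (.node (.leaf ⟨37, 8, 170, 0, []⟩) (.leaf ⟨0, 12, 0, 0, []⟩)))) (.node (.node (.node (.leaf ⟨25, 8, 12, 15, [141, 145, 77, 73]⟩) (.leaf ⟨129, 0, 207, 48, [1169, 1145]⟩)) (.node (.leaf ⟨139, 6, 140, 0, []⟩) (.leaf ⟨234, 5, 222, 51, [1517, 1681, 1674]⟩))) (.node (.node (.leaf ⟨70, 3, 71, 0, []⟩) (.leaf ⟨93, 10, 57, 30, [476, 1352, 1425]⟩)) (.node (.leaf ⟨196, 2, 42, 39, [913, 279, 66, 286]⟩) (.leaf ⟨0, 12, 0, 0, []⟩))))) (.node (.node (.node (.node (.leaf ⟨15, 2, 3, 14, [81, 77, 73, 67, 61, 57, 53, 47, 20]⟩) (.leaf ⟨42, 2, 200, 0, []⟩)) (.node (.leaf ⟨121, 2, 32, 6, [593, 591, 589, 587, 585]⟩) (.leaf ⟨220, 5, 84, 50, [1617, 1491]⟩))) (.node (.node (.leaf ⟨27, 1, 52, 0, []⟩) (.leaf ⟨67, 3, 88, 26, [1354, 448]⟩))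 (.node (.leaf ⟨175, 4, 162, 22, [807, 844, 849, 752]⟩) (.leaf ⟨0, 12, 0, 0, []⟩)))) (.node (.node (.node (.leaf ⟨10, 2, 29, 0, []⟩) (.leaf ⟨210, 12, 199, 17, [1233, 1118]⟩)) (.node (.leaf ⟨157, 0, 56, 2, [721, 260, 251, 311, 350]⟩) (.leaf ⟨3, 12, 12, 33, [1745, 188]⟩))) (.node (.node (.leaf ⟨90, 7, 90, 13, [463, 241, 462]⟩) (.leaf ⟨84, 4, 241, 0, []⟩)) (.node (.leaf ⟨73, 9, 73, 33, [959, 895]⟩) (.leaf ⟨0, 12, 0, 0, []⟩)))))) (.node (.node (.node (.node (.node (.leaf ⟨8, 2, 7, 11, [47, 33]⟩) (.leaf ⟨82, 6, 116, 12, [1046, 1038, 551, 1069, 1064]⟩)) (.node (.leaf ⟨111, 0, 78, 5, [561, 558, 426]⟩) (.leaf ⟨261, 0, 243, 2, [1585, 1416, 1341, 1451, 1498]⟩))) (.node (.node (.leaf ⟨46, 0, 42, 2, [305, 79, 181, 71, 286]⟩) (.leaf ⟨221, 9, 123, 20, [1329, 331, 607]⟩)) (.node (.leaf ⟨177, 0, 59, 10, [817, 814, 358]⟩) (.leaf ⟨0,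 12, 0, 0, []⟩)))) (.node (.node (.node (.leaf ⟨5, 2, 24, 18, [170, 148]⟩) (.leaf ⟨131, 0, 209, 48, [1187, 1153]⟩)) (.node (.leaf ⟨114, 0, 149, 7, [578, 284, 689]⟩) (.leaf ⟨123, 12, 56, 33, [1713, 1389]⟩))) (.node (.node (.leaf ⟨28, 5, 81, 0, []⟩) (.leaf ⟨53, 4, 229, 0, []⟩)) (.node (.leaf ⟨75, 6, 74, 27, [935, 892]⟩) (.leaf ⟨0, 12, 0, 0, []⟩))))) (.node (.node (.node (.node (.leaf ⟨21, 1, 22, 0, []⟩) (.leaf ⟨205, 1, 206, 0, []⟩)) (.node (.leaf ⟨129, 2, 128, 11, [623, 619]⟩) (.leaf ⟨62, 12, 257, 65, [368, 1468, 1649, 1640, 1566]⟩))) (.node (.node (.leaf ⟨63, 1, 64, 0, []⟩) (.leaf ⟨54, 11, 30, 55, [1390, 507]⟩)) (.node (.leaf ⟨191, 6, 187, 12, [881, 879, 875, 872, 869]⟩) (.leaf ⟨0, 12, 0, 0, []⟩)))) (.node (.node (.node (.leaf ⟨30, 7, 27, 4, [239, 45, 25, 204]⟩) (.leaf ⟨159, 2, 208, 14, [736, 1219, 632, 1230, 609,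 619, 617, 1265, 1146]⟩)) (.node (.leaf ⟨163, 1, 164, 0, []⟩) (.leaf ⟨7, 12, 1, 49, [1764, 1774]⟩))) (.node (.node (.leaf ⟨94, 6, 91, 12, [482, 497, 443, 462, 470]⟩) (.leaf ⟨99, 4, 250, 0, []⟩)) (.node (.leaf ⟨76, 8, 84, 29, [983, 785]⟩) (.leaf ⟨0, 12, 0, 0, []⟩))))))))

def factD2 : Arr (CFact) :=
  (.node (.node (.node (.node (.node (.node (.node (.leaf ⟨0, 6, 0, 1, []⟩) (.leaf ⟨109, 8, 116, 29, [1005, 653]⟩)) (.node (.leaf ⟨102, 1, 103, 0, []⟩) (.leaf ⟨253, 2, 216, 6, [1537, 1534, 798, 724, 1301]⟩))) (.node (.node (.leaf ⟨36, 0, 32, 2, [259, 55, 95, 70, 248]⟩) (.leaf ⟨138, 6, 134, 27, [1280, 1253]⟩)) (.node (.leaf ⟨167, 6, 130, 12, [766, 771, 609, 622, 628]⟩) (.leaf ⟨0, 4, 0, 56, [1794, 19]⟩)))) (.node (.node (.node (.leaf ⟨12, 2, 25, 0, []⟩) (.leaf ⟨210, 0, 168, 5, [1155, 1152, 766]⟩)) (.node (.leaf ⟨136, 2, 124,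 14, [643, 641, 639, 637, 633, 631, 629, 623, 608]⟩) (.leaf ⟨171, 7, 250, 28, [1662, 1574]⟩))) (.node (.node (.leaf ⟨27, 8, 65, 0, []⟩) (.leaf ⟨181, 8, 123, 15, [842, 1411, 1298, 1300]⟩)) (.node (.leaf ⟨194, 6, 149, 35, [897, 277, 576, 690]⟩) (.leaf ⟨0, 12, 0, 0, []⟩))))) (.node (.node (.node (.node (.leaf ⟨12, 0, 12, 10, [67, 63, 66]⟩) (.leaf ⟨41, 5, 199, 0, []⟩)) (.node (.leaf ⟨31, 9, 115, 0, []⟩) (.leaf ⟨259, 2, 240, 25, [1578, 1603, 1526]⟩))) (.node (.node (.leaf ⟨49, 6, 41, 35, [321, 230, 256, 285]⟩) (.leaf ⟨224, 2, 55, 14, [1345, 1343, 1338, 1335, 366, 383, 339, 349, 347]⟩)) (.node (.leaf ⟨180, 2, 181, 0, []⟩) (.leaf ⟨0, 12, 0, 0, []⟩)))) (.node (.node (.node (.leaf ⟨10, 10, 14, 30, [173, 179, 84]⟩) (.leaf ⟨124, 6, 205, 27, [1197, 1134]⟩)) (.node (.leaf ⟨153, 3, 154, 0, []⟩) (.leaf ⟨27, 5, 24, 50, [1719, 327]⟩)))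 (.node (.node (.leaf ⟨89, 2, 30, 6, [451, 449, 447, 445, 443]⟩) (.leaf ⟨74, 5, 236, 0, []⟩)) (.node (.leaf ⟨110, 1, 112, 17, [951, 569]⟩) (.leaf ⟨0, 12, 0, 0, []⟩)))))) (.node (.node (.node (.node (.node (.leaf ⟨1, 4, 7, 8, [11, 2, 10, 33]⟩) (.leaf ⟨74, 3, 116, 41, [417, 539, 542, 1051, 1055]⟩)) (.node (.leaf ⟨108, 0, 75, 10, [547, 544, 418]⟩) (.leaf ⟨180, 4, 258, 0, []⟩))) (.node (.node (.leaf ⟨43, 0, 37, 34, [291, 94, 264]⟩) (.leaf ⟨218, 0, 91, 5, [1315, 1310, 470]⟩)) (.node (.leaf ⟨53, 0, 172, 5, [342, 803, 795]⟩) (.leaf ⟨0, 12, 0, 0, []⟩)))) (.node (.node (.node (.leaf ⟨24, 1, 24, 17, [163, 153]⟩) (.leaf ⟨130, 6, 161, 27, [1175, 762]⟩)) (.node (.leaf ⟨144, 2, 143, 11, [675, 667]⟩) (.leaf ⟨54, 0, 67, 48, [1695, 1416]⟩))) (.node (.node (.leaf ⟨75, 1, 76, 0, []⟩) (.leaf ⟨228, 12, 66, 15, [1437, 1443, 383, 339, 390]⟩))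 (.node (.leaf ⟨76, 1, 192, 17, [930, 887]⟩) (.leaf ⟨0, 12, 0, 0, []⟩))))) (.node (.node (.node (.node (.leaf ⟨1, 9, 16, 0, []⟩) (.leaf ⟨159, 0, 202, 5, [736, 1123, 1115]⟩)) (.node (.leaf ⟨125, 1, 126, 0, []⟩) (.leaf ⟨229, 6, 235, 27, [1631, 1502]⟩))) (.node (.node (.leaf ⟨57, 1, 58, 0, []⟩) (.leaf ⟨65, 3, 85, 26, [1375, 497]⟩)) (.node (.leaf ⟨187, 1, 169, 16, [867, 865, 863, 857, 783]⟩) (.leaf ⟨0, 12, 0, 0, []⟩)))) (.node (.node (.node (.leaf ⟨16, 6, 13, 27, [223, 221]⟩) (.leaf ⟨134, 6, 159, 27, [1226, 734]⟩)) (.node (.leaf ⟨161, 1, 162, 0, []⟩) (.leaf ⟨7, 12, 3, 49, [1762, 1748]⟩))) (.node (.node (.leaf ⟨95, 2, 96, 0, []⟩) (.leaf ⟨246, 6, 226, 35, [1507, 1384, 1460, 1462]⟩)) (.node (.leaf ⟨78, 6, 185, 27, [973, 862]⟩) (.leaf ⟨0, 12, 0, 0, []⟩))))))) (.node (.node (.node (.node (.node (.node (.leaf ⟨1, 1, 3, 0, []⟩)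 (.leaf ⟨111, 12, 82, 33, [1043, 436]⟩)) (.node (.leaf ⟨106, 0, 73, 10, [531, 246, 410]⟩) (.leaf ⟨254, 7, 229, 4, [1553, 790, 340, 1458]⟩))) (.node (.node (.leaf ⟨31, 7, 39, 36, [245, 44, 244, 246, 275]⟩) (.leaf ⟨216, 1, 123, 16, [1299, 1297, 1295, 1293, 607]⟩)) (.node (.leaf ⟨38, 1, 171, 0, []⟩) (.leaf ⟨0, 12, 0, 0, []⟩)))) (.node (.node (.node (.leaf ⟨17, 2, 24, 25, [145, 90, 130]⟩) (.leaf ⟨129, 1, 166, 17, [1169, 760]⟩)) (.node (.leaf ⟨140, 1, 141, 0, []⟩) (.leaf ⟨222, 5, 220, 52, [1683, 1471, 1468, 1598, 1495, 1619]⟩))) (.node (.node (.leaf ⟨71, 1, 72, 0, []⟩) (.leaf ⟨52, 4, 225, 0, []⟩)) (.node (.leaf ⟨106, 5, 196, 21, [534, 464, 455, 915]⟩) (.leaf ⟨0, 12, 0, 0, []⟩))))) (.node (.node (.node (.node (.leaf ⟨5, 8, 14, 15, [27, 25, 83, 81]⟩) (.leaf ⟨200, 4, 114, 22, [1107, 454, 1091, 1086]⟩)) (.node (.leaf ⟨34,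 4, 121, 8, [255, 29, 248, 595]⟩) (.leaf ⟨260, 12, 254, 64, [1611, 1606, 1577, 840, 1552]⟩))) (.node (.node (.leaf ⟨52, 6, 53, 0, []⟩) (.leaf ⟨67, 7, 94, 28, [1354, 481]⟩)) (.node (.leaf ⟨38, 10, 183, 0, []⟩) (.leaf ⟨0, 12, 0, 0, []⟩)))) (.node (.node (.node (.leaf ⟨29, 2, 9, 11, [211, 57]⟩) (.leaf ⟨204, 3, 208, 26, [1212, 1151]⟩)) (.node (.leaf ⟨157, 6, 123, 3, [721, 260, 602]⟩) (.leaf ⟨9, 12, 3, 49, [1739, 1747]⟩))) (.node (.node (.leaf ⟨57, 6, 90, 9, [354, 461, 465]⟩) (.leaf ⟨241, 7, 239, 4, [1491, 1073, 1075, 1484]⟩)) (.node (.leaf ⟨75, 1, 169, 17, [963, 868]⟩) (.leaf ⟨0, 12, 0, 0, []⟩)))))) (.node (.node (.node (.node (.node (.leaf ⟨8, 1, 9, 0, []⟩) (.leaf ⟨84, 8, 51, 15, [1064, 1075, 1049, 1046]⟩)) (.node (.leaf ⟨111, 2, 112, 0, []⟩) (.leaf ⟨261, 7, 233, 4, [1585, 1416, 1341, 1468]⟩))) (.node (.node (.leaf ⟨46,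 6, 46, 3, [305, 79, 304]⟩) (.leaf ⟨52, 7, 222, 0, []⟩)) (.node (.leaf ⟨177, 1, 178, 0, []⟩) (.leaf ⟨0, 12, 0, 0, []⟩)))) (.node (.node (.node (.leaf ⟨5, 6, 14, 27, [170, 145]⟩) (.leaf ⟨131, 1, 168, 17, [1187, 766]⟩)) (.node (.leaf ⟨51, 5, 149, 21, [333, 166, 256, 689]⟩) (.leaf ⟨67, 11, 50, 55, [1702, 1402]⟩))) (.node (.node (.leaf ⟨28, 8, 82, 0, []⟩) (.leaf ⟨53, 5, 230, 0, []⟩)) (.node (.leaf ⟨77, 0, 113, 48, [939, 571]⟩) (.leaf ⟨0, 12, 0, 0, []⟩))))) (.node (.node (.node (.node (.leaf ⟨22, 2, 2, 6, [115, 113, 111, 109, 107]⟩) (.leaf ⟨206, 0, 164, 5, [1139, 1128, 754]⟩)) (.node (.leaf ⟨129, 1, 130, 0, []⟩) (.leaf ⟨62, 0, 255, 48, [1650, 1570]⟩))) (.node (.node (.leaf ⟨64, 2, 52, 14, [371, 369, 367, 365, 361, 359, 357, 353, 338]⟩) (.leaf ⟨172, 2, 220, 44, [805, 1383, 1325]⟩)) (.node (.leaf ⟨191, 2, 192, 0, []⟩) (.leaf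 ⟨0, 12, 0, 0, []⟩)))) (.node (.node (.node (.leaf ⟨4, 5, 31, 0, []⟩) (.leaf ⟨130, 3, 202, 47, [1182, 1267, 1124]⟩)) (.node (.leaf ⟨164, 6, 133, 12, [755, 749, 728, 733, 639]⟩) (.leaf ⟨1, 5, 23, 50, [1777, 123]⟩))) (.node (.node (.leaf ⟨30, 4, 98, 0, []⟩) (.leaf ⟨107, 5, 251, 0, []⟩)) (.node (.leaf ⟨39, 0, 110, 48, [992, 559]⟩) (.leaf ⟨0, 12, 0, 0, []⟩))))))))

def factD3 : Arr (CFact) :=
  (.node (.node (.node (.node (.node (.node (.node (.leaf ⟨0, 7, 0, 1, []⟩) (.leaf ⟨71, 3, 106, 26, [1009, 537]⟩)) (.node (.leaf ⟨103, 3, 104, 0, []⟩) (.leaf ⟨253, 3, 183, 59, [1537, 1534, 798, 726, 788, 834, 831, 1406, 1419]⟩))) (.node (.node (.leaf ⟨36, 6, 36, 3, [259, 55, 258]⟩) (.leaf ⟨170, 12, 199, 24, [787, 1251, 1285, 1282, 1118]⟩)) (.node (.leaf ⟨129, 8, 165, 15, [628, 773, 765, 761]⟩) (.leaf ⟨0, 12, 0, 0, []⟩)))) (.node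 (.node (.node (.leaf ⟨25, 0, 25, 10, [133, 69, 132]⟩) (.leaf ⟨44, 2, 211, 0, []⟩)) (.node (.leaf ⟨33, 5, 137, 0, []⟩) (.leaf ⟨250, 12, 253, 28, [1669, 1544]⟩))) (.node (.node (.leaf ⟨27, 9, 66, 0, []⟩) (.leaf ⟨183, 12, 215, 24, [854, 799, 825, 1409, 1296]⟩)) (.node (.leaf ⟨149, 7, 114, 38, [901, 898, 435, 247, 576]⟩) (.leaf ⟨0, 12, 0, 0, []⟩))))) (.node (.node (.node (.node (.leaf ⟨12, 7, 5, 13, [67, 64, 29]⟩) (.leaf ⟨199, 0, 162, 34, [1093, 325, 746]⟩)) (.node (.leaf ⟨31, 10, 116, 0, []⟩) (.leaf ⟨240, 5, 259, 21, [1487, 1048, 1486, 1605]⟩))) (.node (.node (.leaf ⟨24, 4, 50, 0, []⟩) (.leaf ⟨54, 2, 224, 11, [344, 1349]⟩)) (.node (.leaf ⟨181, 0, 63, 10, [837, 832, 368]⟩) (.leaf ⟨0, 12, 0, 0, []⟩)))) (.node (.node (.node (.leaf ⟨4, 11, 9, 19, [195, 66, 94]⟩) (.leaf ⟨205, 12, 125, 27, [1221, 610]⟩)) (.node (.leaf ⟨154,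 1, 155, 0, []⟩) (.leaf ⟨24, 12, 3, 56, [1733, 205]⟩))) (.node (.node (.leaf ⟨42, 4, 89, 8, [287, 185, 238, 453]⟩) (.leaf ⟨75, 5, 237, 0, []⟩)) (.node (.leaf ⟨112, 12, 111, 17, [965, 560]⟩) (.leaf ⟨0, 12, 0, 0, []⟩)))))) (.node (.node (.node (.node (.node (.leaf ⟨7, 6, 7, 9, [32, 16, 33]⟩) (.leaf ⟨185, 12, 84, 31, [1055, 1061, 947, 420, 1010]⟩)) (.node (.leaf ⟨108, 1, 109, 0, []⟩) (.leaf ⟨258, 7, 250, 4, [1573, 832, 1457, 1522]⟩))) (.node (.node (.leaf ⟨37, 6, 33, 37, [293, 291, 70, 252]⟩) (.leaf ⟨218, 2, 219, 0, []⟩)) (.node (.leaf ⟨38, 2, 175, 0, []⟩) (.leaf ⟨0, 12, 0, 0, []⟩)))) (.node (.node (.node (.leaf ⟨24, 2, 6, 18, [163, 156]⟩) (.leaf ⟨161, 12, 167, 27, [1189, 773]⟩)) (.node (.leaf ⟨35, 1, 145, 0, []⟩) (.leaf ⟨67, 12, 173, 48, [1701, 803]⟩))) (.node (.node (.leaf ⟨76, 6, 71, 12, [421, 419, 417, 414, 405]⟩)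 (.leaf ⟨66, 1, 227, 17, [1445, 1437]⟩)) (.node (.leaf ⟨192, 12, 75, 17, [933, 421]⟩) (.leaf ⟨0, 12, 0, 0, []⟩))))) (.node (.node (.node (.node (.leaf ⟨1, 10, 17, 0, []⟩) (.leaf ⟨43, 2, 205, 0, []⟩)) (.node (.leaf ⟨126, 3, 127, 0, []⟩) (.leaf ⟨235, 12, 256, 27, [1637, 1563]⟩))) (.node (.node (.leaf ⟨58, 2, 59, 0, []⟩) (.leaf ⟨93, 3, 53, 42, [478, 1373]⟩)) (.node (.leaf ⟨39, 2, 188, 0, []⟩) (.leaf ⟨0, 12, 0, 0, []⟩)))) (.node (.node (.node (.leaf ⟨16, 7, 6, 28, [223, 214]⟩) (.leaf ⟨199, 0, 132, 48, [1235, 1229]⟩)) (.node (.leaf ⟨162, 2, 37, 6, [741, 739, 737, 735, 729]⟩) (.leaf ⟨14, 12, 3, 49, [1758, 1764]⟩))) (.node (.node (.leaf ⟨96, 1, 97, 0, []⟩) (.leaf ⟨93, 4, 247, 0, []⟩)) (.node (.leaf ⟨28, 9, 104, 33, [977, 876]⟩) (.leaf ⟨0, 12, 0, 0, []⟩))))))) (.node (.node (.node (.node (.node (.node (.leaf ⟨3, 0, 3, 5,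 [21, 13, 20]⟩) (.leaf ⟨82, 1, 51, 17, [1045, 1037]⟩)) (.node (.leaf ⟨106, 4, 90, 22, [531, 245, 238, 462]⟩) (.leaf ⟨171, 5, 255, 0, []⟩))) (.node (.node (.leaf ⟨11, 4, 40, 0, []⟩) (.leaf ⟨88, 0, 216, 5, [450, 605, 1301]⟩)) (.node (.leaf ⟨171, 0, 52, 5, [789, 268, 338]⟩) (.leaf ⟨0, 12, 0, 0, []⟩)))) (.node (.node (.node (.leaf ⟨24, 0, 24, 10, [149, 143, 148]⟩) (.leaf ⟨166, 12, 130, 17, [1173, 628]⟩)) (.node (.leaf ⟨141, 3, 142, 0, []⟩) (.leaf ⟨245, 12, 231, 67, [1505, 1672, 1426, 1263, 1259, 303, 233, 320, 1239, 1240, 1550, 1685, 1683, 1471, 375, 1464]⟩))) (.node (.node (.leaf ⟨72, 2, 28, 6, [405, 403, 401, 399, 397]⟩) (.leaf ⟨52, 5, 226, 0, []⟩)) (.node (.leaf ⟨195, 4, 105, 22, [905, 912, 917, 536]⟩) (.leaf ⟨0, 12, 0, 0, []⟩))))) (.node (.node (.node (.node (.leaf ⟨15, 12, 14, 16, [82, 21, 14, 20, 83, 81]⟩) (.leaf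 ⟨43, 1, 201, 0, []⟩)) (.node (.leaf ⟨32, 2, 122, 0, []⟩) (.leaf ⟨254, 0, 262, 48, [1621, 1593]⟩))) (.node (.node (.leaf ⟨53, 1, 54, 0, []⟩) (.leaf ⟨86, 1, 67, 17, [1360, 1339]⟩)) (.node (.leaf ⟨183, 9, 157, 20, [853, 271, 727]⟩) (.leaf ⟨0, 12, 0, 0, []⟩)))) (.node (.node (.node (.leaf ⟨29, 7, 6, 13, [211, 173, 166]⟩) (.leaf ⟨132, 4, 49, 56, [1217, 747]⟩)) (.node (.leaf ⟨157, 2, 38, 39, [721, 259, 56, 266]⟩) (.leaf ⟨4, 9, 8, 33, [1727, 97]⟩))) (.node (.node (.leaf ⟨90, 1, 91, 0, []⟩) (.leaf ⟨84, 5, 242, 0, []⟩)) (.node (.leaf ⟨169, 12, 76, 17, [981, 420]⟩) (.leaf ⟨0, 12, 0, 0, []⟩)))))) (.node (.node (.node (.node (.node (.leaf ⟨9, 0, 9, 5, [53, 49, 52]⟩) (.leaf ⟨74, 7, 82, 13, [1060, 1075, 1048]⟩)) (.node (.leaf ⟨112, 0, 79, 10, [565, 562, 428]⟩) (.leaf ⟨183, 5, 262, 0, []⟩))) (.node (.node (.leaf ⟨46, 7, 32, 4,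 [305, 79, 181, 248]⟩) (.leaf ⟨61, 2, 223, 0, []⟩)) (.node (.leaf ⟨178, 0, 60, 5, [821, 818, 360]⟩) (.leaf ⟨0, 12, 0, 0, []⟩)))) (.node (.node (.node (.leaf ⟨4, 2, 11, 18, [177, 136]⟩) (.leaf ⟨168, 12, 132, 17, [1205, 632]⟩)) (.node (.leaf ⟨122, 4, 149, 8, [625, 626, 621, 689]⟩) (.leaf ⟨50, 12, 27, 57, [1717, 393]⟩))) (.node (.node (.leaf ⟨28, 9, 83, 0, []⟩) (.leaf ⟨230, 0, 226, 34, [1461, 341, 1430]⟩)) (.node (.leaf ⟨113, 12, 110, 48, [949, 559]⟩) (.leaf ⟨0, 12, 0, 0, []⟩))))) (.node (.node (.node (.node (.leaf ⟨2, 5, 22, 21, [19, 2, 18, 117]⟩) (.leaf ⟨206, 2, 207, 0, []⟩)) (.node (.leaf ⟨130, 2, 131, 0, []⟩) (.leaf ⟨255, 12, 180, 48, [1653, 833]⟩))) (.node (.node (.leaf ⟨54, 8, 63, 15, [343, 341, 373, 371]⟩) (.leaf ⟨62, 7, 93, 13, [383, 340, 1383]⟩)) (.node (.leaf ⟨192, 1, 193, 0, []⟩) (.leaf ⟨0, 12, 0, 0, []⟩))))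 (.node (.node (.node (.leaf ⟨31, 0, 28, 34, [245, 25, 208]⟩) (.leaf ⟨203, 12, 159, 11, [1116, 1236, 1267]⟩)) (.node (.leaf ⟨164, 2, 165, 0, []⟩) (.leaf ⟨23, 12, 0, 56, [1781, 11]⟩))) (.node (.node (.leaf ⟨98, 2, 40, 39, [501, 239, 182, 278]⟩) (.leaf ⟨251, 7, 240, 36, [1525, 544, 1476, 1481, 1489]⟩)) (.node (.leaf ⟨110, 12, 51, 48, [1013, 335]⟩) (.leaf ⟨0, 12, 0, 0, []⟩))))))))

def factD4 : Arr (CFact) :=
  (.node (.node (.node (.node (.node (.node (.node (.leaf ⟨0, 8, 0, 1, []⟩) (.leaf ⟨71, 5, 195, 50, [1009, 919]⟩)) (.node (.leaf ⟨104, 1, 105, 0, []⟩) (.leaf ⟨171, 7, 253, 13, [841, 1421, 1543]⟩))) (.node (.node (.leaf ⟨9, 5, 37, 0, []⟩) (.leaf ⟨170, 4, 41, 56, [1286, 1093]⟩)) (.node (.leaf ⟨37, 5, 169, 0, []⟩) (.leaf ⟨0, 12, 0, 0, []⟩)))) (.node (.node (.node (.leaf ⟨25, 2, 11, 11, [133, 67]⟩) (.leaf ⟨211, 0, 144,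 10, [1159, 300, 674]⟩)) (.node (.leaf ⟨137, 6, 72, 35, [647, 296, 526, 525]⟩) (.leaf ⟨92, 5, 93, 50, [1666, 1511]⟩))) (.node (.node (.leaf ⟨27, 10, 67, 0, []⟩) (.leaf ⟨183, 0, 67, 48, [1414, 1357]⟩)) (.node (.leaf ⟨40, 2, 195, 0, []⟩) (.leaf ⟨0, 12, 0, 0, []⟩))))) (.node (.node (.node (.node (.leaf ⟨12, 1, 13, 0, []⟩) (.leaf ⟨199, 5, 90, 52, [1093, 283, 278, 912, 917, 534]⟩)) (.node (.leaf ⟨32, 1, 117, 0, []⟩) (.leaf ⟨259, 3, 260, 63, [1607, 1605, 1577, 1580]⟩))) (.node (.node (.leaf ⟨50, 0, 30, 2, [327, 151, 172, 187, 238]⟩) (.leaf ⟨88, 3, 222, 41, [450, 457, 347, 1349, 1345]⟩)) (.node (.leaf ⟨181, 2, 171, 11, [837, 835]⟩) (.leaf ⟨0, 12, 0, 0, []⟩)))) (.node (.node (.node (.leaf ⟨8, 9, 24, 31, [52, 56, 173, 165]⟩) (.leaf ⟨37, 1, 134, 17, [1201, 638]⟩)) (.node (.leaf ⟨155, 2, 36, 6, [711, 709, 707, 705, 703]⟩) (.leaf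 ⟨36, 5, 12, 50, [1722, 287]⟩))) (.node (.node (.leaf ⟨56, 6, 89, 9, [348, 243, 453]⟩) (.leaf ⟨237, 0, 236, 34, [1479, 946, 1476]⟩)) (.node (.leaf ⟨78, 2, 184, 18, [955, 859]⟩) (.leaf ⟨0, 12, 0, 0, []⟩)))))) (.node (.node (.node (.node (.node (.leaf ⟨6, 0, 6, 5, [30, 35, 31]⟩) (.leaf ⟨84, 1, 116, 17, [1063, 1055]⟩)) (.node (.leaf ⟨109, 0, 76, 5, [551, 548, 420]⟩) (.leaf ⟨181, 4, 259, 0, []⟩))) (.node (.node (.leaf ⟨33, 7, 43, 38, [295, 293, 291, 69, 290]⟩) (.leaf ⟨219, 0, 92, 10, [1319, 1316, 472]⟩)) (.node (.leaf ⟨175, 0, 57, 10, [807, 268, 352]⟩) (.leaf ⟨0, 12, 0, 0, []⟩)))) (.node (.node (.node (.leaf ⟨24, 3, 5, 26, [163, 161]⟩) (.leaf ⟨161, 12, 131, 49, [1190, 1186]⟩)) (.node (.leaf ⟨145, 6, 146, 0, []⟩) (.leaf ⟨54, 9, 157, 33, [1695, 854]⟩))) (.node (.node (.leaf ⟨76, 2, 77, 0, []⟩) (.leaf ⟨66, 6, 65, 27, [1445,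 1438]⟩)) (.node (.leaf ⟨76, 2, 80, 18, [930, 888]⟩) (.leaf ⟨0, 12, 0, 0, []⟩))))) (.node (.node (.node (.node (.leaf ⟨17, 9, 7, 20, [103, 15, 33]⟩) (.leaf ⟨205, 0, 163, 10, [1127, 292, 748]⟩)) (.node (.leaf ⟨127, 1, 128, 0, []⟩) (.leaf ⟨235, 5, 172, 50, [1638, 1561]⟩))) (.node (.node (.leaf ⟨59, 1, 60, 0, []⟩) (.leaf ⟨92, 7, 53, 13, [473, 499, 1373]⟩)) (.node (.leaf ⟨188, 2, 169, 11, [871, 783]⟩) (.leaf ⟨0, 12, 0, 0, []⟩)))) (.node (.node (.node (.leaf ⟨16, 9, 13, 33, [223, 218]⟩) (.leaf ⟨127, 7, 128, 38, [635, 1255, 1093, 284, 620]⟩)) (.node (.leaf ⟨138, 9, 162, 20, [655, 295, 743]⟩) (.leaf ⟨32, 5, 3, 50, [1730, 305, 1766]⟩))) (.node (.node (.leaf ⟨97, 2, 85, 14, [487, 485, 483, 479, 475, 473, 471, 463, 442]⟩) (.leaf ⟨94, 5, 248, 0, []⟩)) (.node (.leaf ⟨104, 12, 83, 29, [999, 438]⟩) (.leaf ⟨0, 12, 0, 0, []⟩)))))))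 (.node (.node (.node (.node (.node (.node (.leaf ⟨3, 6, 4, 0, []⟩) (.leaf ⟨82, 2, 82, 18, [1045, 987, 1044]⟩)) (.node (.leaf ⟨106, 2, 105, 11, [531, 523]⟩) (.leaf ⟨172, 4, 256, 0, []⟩))) (.node (.node (.leaf ⟨40, 6, 40, 3, [279, 63, 278]⟩) (.leaf ⟨215, 0, 87, 10, [1298, 1303, 449]⟩)) (.node (.leaf ⟨171, 6, 172, 0, []⟩) (.leaf ⟨0, 12, 0, 0, []⟩)))) (.node (.node (.node (.leaf ⟨24, 1, 26, 0, []⟩) (.leaf ⟨129, 3, 164, 26, [1169, 759]⟩)) (.node (.leaf ⟨142, 1, 143, 0, []⟩) (.leaf ⟨231, 0, 254, 48, [1687, 1555]⟩))) (.node (.node (.leaf ⟨47, 5, 72, 21, [313, 90, 208, 407]⟩) (.leaf ⟨92, 2, 227, 0, []⟩)) (.node (.leaf ⟨106, 8, 106, 45, [916, 913, 279, 202, 127, 119, 19, 8, 18, 118, 126, 203, 278, 912, 917]⟩) (.leaf ⟨0, 12, 0, 0, []⟩))))) (.node (.node (.node (.node (.leaf ⟨14, 1, 14, 17, [87, 81]⟩) (.leaf ⟨201, 6, 202, 0,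 []⟩)) (.node (.leaf ⟨122, 2, 121, 11, [599, 595]⟩) (.leaf ⟨262, 12, 245, 48, [1623, 1554]⟩))) (.node (.node (.leaf ⟨54, 3, 55, 0, []⟩) (.leaf ⟨86, 2, 60, 18, [1360, 1336]⟩)) (.node (.leaf ⟨39, 1, 184, 0, []⟩) (.leaf ⟨0, 12, 0, 0, []⟩)))) (.node (.node (.node (.leaf ⟨29, 1, 29, 32, [211, 60, 183, 26, 28, 30, 51, 52, 213]⟩) (.leaf ⟨132, 5, 175, 50, [1217, 851]⟩)) (.node (.leaf ⟨37, 1, 158, 0, []⟩) (.leaf ⟨8, 12, 11, 29, [1751, 195]⟩))) (.node (.node (.leaf ⟨91, 2, 92, 0, []⟩) (.leaf ⟨242, 0, 238, 34, [1495, 1070, 1482]⟩)) (.node (.leaf ⟨75, 2, 186, 18, [963, 867]⟩) (.leaf ⟨0, 12, 0, 0, []⟩)))))) (.node (.node (.node (.node (.node (.leaf ⟨9, 2, 10, 0, []⟩) (.leaf ⟨40, 9, 197, 0, []⟩)) (.node (.leaf ⟨112, 1, 113, 0, []⟩) (.leaf ⟨262, 0, 260, 34, [1591, 1420, 1580]⟩))) (.node (.node (.leaf ⟨14, 5, 47, 0, []⟩) (.leaf ⟨223,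 2, 60, 11, [1335, 365]⟩)) (.node (.leaf ⟨178, 6, 174, 12, [821, 817, 813, 810, 799]⟩) (.leaf ⟨0, 12, 0, 0, []⟩)))) (.node (.node (.node (.leaf ⟨4, 3, 12, 26, [177, 133]⟩) (.leaf ⟨131, 6, 130, 27, [1187, 772]⟩)) (.node (.leaf ⟨35, 2, 150, 0, []⟩) (.leaf ⟨89, 5, 36, 50, [1707, 721]⟩))) (.node (.node (.leaf ⟨28, 10, 84, 0, []⟩) (.leaf ⟨54, 5, 231, 0, []⟩)) (.node (.leaf ⟨77, 1, 79, 17, [939, 431]⟩) (.leaf ⟨0, 12, 0, 0, []⟩))))) (.node (.node (.node (.node (.leaf ⟨2, 2, 23, 0, []⟩) (.leaf ⟨207, 0, 165, 10, [1143, 1140, 758]⟩)) (.node (.leaf ⟨131, 1, 132, 0, []⟩) (.leaf ⟨62, 7, 246, 28, [1650, 1568]⟩))) (.node (.node (.leaf ⟨64, 12, 63, 16, [372, 339, 206, 338, 373, 371]⟩) (.leaf ⟨221, 12, 173, 24, [1330, 1301, 1327, 1397, 794]⟩)) (.node (.leaf ⟨193, 2, 80, 14, [887, 885, 881, 879, 875, 871, 856, 858, 430]⟩) (.leaf ⟨0,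 12, 0, 0, []⟩)))) (.node (.node (.node (.leaf ⟨5, 4, 32, 0, []⟩) (.leaf ⟨159, 0, 160, 48, [1271, 1122]⟩)) (.node (.leaf ⟨165, 1, 166, 0, []⟩) (.leaf ⟨1, 4, 0, 56, [1779, 128, 1782]⟩))) (.node (.node (.leaf ⟨30, 9, 99, 0, []⟩) (.leaf ⟨251, 6, 242, 35, [1525, 1058, 1482, 1497]⟩)) (.node (.leaf ⟨83, 0, 71, 48, [1001, 528]⟩) (.leaf ⟨0, 12, 0, 0, []⟩))))))))

def factD5 : Arr (CFact) :=
  (.node (.node (.node (.node (.node (.node (.node (.leaf ⟨0, 4, 1, 0, []⟩) (.leaf ⟨71, 8, 31, 29, [1009, 928]⟩)) (.node (.leaf ⟨105, 2, 31, 6, [521, 519, 517, 515, 511]⟩) (.leaf ⟨177, 6, 252, 12, [820, 1409, 1419, 1543, 1537]⟩))) (.node (.node (.leaf ⟨10, 4, 38, 0, []⟩) (.leaf ⟨170, 10, 129, 57, [1286, 1181]⟩)) (.node (.leaf ⟨169, 0, 137, 43, [777, 293, 526, 541, 649]⟩) (.leaf ⟨0, 12, 0, 0, []⟩)))) (.node (.node (.node (.leaf ⟨25, 7,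 10, 13, [133, 94, 56]⟩) (.leaf ⟨72, 5, 211, 53, [1040, 1032, 908, 911, 1161]⟩)) (.node (.leaf ⟨137, 2, 51, 40, [647, 253, 178, 332]⟩) (.leaf ⟨250, 0, 222, 48, [1670, 1538]⟩))) (.node (.node (.leaf ⟨67, 9, 56, 20, [393, 207, 349]⟩) (.leaf ⟨183, 1, 214, 17, [1414, 1297]⟩)) (.node (.leaf ⟨195, 2, 98, 11, [905, 503]⟩) (.leaf ⟨0, 12, 0, 0, []⟩))))) (.node (.node (.node (.node (.leaf ⟨13, 0, 13, 5, [73, 69, 72]⟩) (.leaf ⟨199, 2, 43, 40, [1093, 283, 66, 290]⟩)) (.node (.leaf ⟨117, 6, 118, 0, []⟩) (.leaf ⟨240, 2, 260, 11, [1605, 1608]⟩))) (.node (.node (.leaf ⟨50, 6, 50, 3, [327, 151, 326]⟩) (.leaf ⟨67, 12, 87, 42, [1342, 1353, 449]⟩)) (.node (.leaf ⟨181, 1, 181, 32, [837, 831, 827, 821, 817, 813, 807, 788, 841]⟩) (.leaf ⟨0, 12, 0, 0, []⟩)))) (.node (.node (.node (.leaf ⟨11, 10, 8, 30, [64, 167, 201]⟩) (.leaf ⟨134, 12, 158,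 17, [1225, 728]⟩)) (.node (.leaf ⟨48, 4, 155, 8, [319, 224, 258, 713]⟩) (.leaf ⟨12, 12, 9, 56, [1737, 259]⟩))) (.node (.node (.leaf ⟨89, 10, 59, 30, [457, 355, 386]⟩) (.leaf ⟨78, 5, 238, 0, []⟩)) (.node (.leaf ⟨184, 12, 79, 26, [969, 428]⟩) (.leaf ⟨0, 12, 0, 0, []⟩)))))) (.node (.node (.node (.node (.node (.leaf ⟨5, 0, 5, 10, [28, 41, 29]⟩) (.leaf ⟨84, 2, 107, 18, [1063, 1050]⟩)) (.node (.leaf ⟨109, 6, 104, 12, [551, 547, 543, 536, 521]⟩) (.leaf ⟨259, 6, 233, 3, [1577, 838, 1468]⟩))) (.node (.node (.leaf ⟨13, 4, 44, 0, []⟩) (.leaf ⟨219, 1, 220, 0, []⟩)) (.node (.leaf ⟨175, 2, 157, 11, [807, 727]⟩) (.leaf ⟨0, 12, 0, 0, []⟩)))) (.node (.node (.node (.leaf ⟨5, 12, 17, 18, [169, 149]⟩) (.leaf ⟨33, 1, 163, 17, [1179, 755]⟩)) (.node (.leaf ⟨146, 1, 147, 0, []⟩) (.leaf ⟨157, 12, 89, 29, [1705, 1392]⟩))) (.node (.node (.leaf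 ⟨77, 1, 78, 0, []⟩) (.leaf ⟨91, 7, 63, 13, [1435, 1443, 368]⟩)) (.node (.leaf ⟨80, 12, 77, 26, [937, 424]⟩) (.leaf ⟨0, 12, 0, 0, []⟩))))) (.node (.node (.node (.node (.leaf ⟨2, 1, 18, 0, []⟩) (.leaf ⟨205, 4, 200, 22, [1127, 291, 286, 1106]⟩)) (.node (.leaf ⟨128, 2, 33, 6, [617, 615, 613, 611, 609]⟩) (.leaf ⟨235, 6, 229, 27, [1638, 1562]⟩))) (.node (.node (.leaf ⟨60, 6, 55, 12, [361, 359, 357, 354, 347]⟩) (.leaf ⟨96, 6, 54, 12, [492, 1379, 1376, 1373, 342]⟩)) (.node (.leaf ⟨188, 1, 189, 0, []⟩) (.leaf ⟨0, 12, 0, 0, []⟩)))) (.node (.node (.node (.leaf ⟨13, 10, 24, 30, [229, 226, 158]⟩) (.leaf ⟨45, 5, 127, 58, [323, 1239, 1255, 1101, 1257]⟩)) (.node (.leaf ⟨49, 5, 162, 21, [321, 224, 264, 743]⟩) (.leaf ⟨3, 12, 5, 56, [1769, 249]⟩))) (.node (.node (.leaf ⟨97, 12, 96, 16, [488, 443, 240, 442, 489, 487]⟩) (.leaf ⟨248,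 0, 244, 34, [1513, 498, 1500]⟩)) (.node (.leaf ⟨76, 0, 137, 48, [983, 778]⟩) (.leaf ⟨0, 12, 0, 0, []⟩))))))) (.node (.node (.node (.node (.node (.node (.leaf ⟨4, 1, 5, 0, []⟩) (.leaf ⟨185, 2, 107, 14, [864, 985, 420, 940, 397, 407, 405, 1030, 542]⟩)) (.node (.leaf ⟨106, 6, 73, 35, [534, 466, 535, 532]⟩) (.leaf ⟨256, 6, 229, 3, [1561, 805, 1458]⟩))) (.node (.node (.leaf ⟨11, 5, 41, 0, []⟩) (.leaf ⟨86, 0, 214, 5, [446, 1305, 1297]⟩)) (.node (.leaf ⟨172, 1, 173, 0, []⟩) (.leaf ⟨0, 12, 0, 0, []⟩)))) (.node (.node (.node (.leaf ⟨26, 6, 10, 12, [153, 149, 140, 136, 61]⟩) (.leaf ⟨164, 12, 33, 18, [1177, 623]⟩)) (.node (.leaf ⟨143, 2, 34, 6, [665, 663, 661, 659, 657]⟩) (.leaf ⟨254, 12, 249, 48, [1689, 1521]⟩))) (.node (.node (.leaf ⟨28, 2, 73, 0, []⟩) (.leaf ⟨227, 2, 91, 11, [1433, 473]⟩)) (.node (.leaf ⟨108, 6, 107, 46,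 [547, 543, 921, 542]⟩) (.leaf ⟨0, 12, 0, 0, []⟩))))) (.node (.node (.node (.node (.leaf ⟨14, 2, 3, 18, [87, 82]⟩) (.leaf ⟨202, 1, 203, 0, []⟩)) (.node (.leaf ⟨32, 4, 123, 0, []⟩) (.leaf ⟨254, 4, 181, 56, [1621, 1581]⟩))) (.node (.node (.leaf ⟨55, 1, 56, 0, []⟩) (.leaf ⟨86, 3, 61, 26, [1360, 1335]⟩)) (.node (.leaf ⟨184, 3, 79, 41, [857, 274, 396, 433, 431]⟩) (.leaf ⟨0, 12, 0, 0, []⟩)))) (.node (.node (.node (.leaf ⟨29, 9, 13, 31, [217, 212, 95, 72]⟩) (.leaf ⟨132, 7, 199, 28, [1217, 1104]⟩)) (.node (.leaf ⟨158, 3, 135, 41, [729, 294, 608, 645, 643]⟩) (.leaf ⟨8, 12, 5, 49, [1752, 1742]⟩))) (.node (.node (.leaf ⟨92, 1, 93, 0, []⟩) (.leaf ⟨91, 4, 243, 0, []⟩)) (.node (.leaf ⟨111, 3, 111, 26, [967, 565]⟩) (.leaf ⟨0, 12, 0, 0, []⟩)))))) (.node (.node (.node (.node (.node (.leaf ⟨10, 0, 10, 10, [57, 55, 56]⟩) (.leaf ⟨41,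 2, 198, 0, []⟩)) (.node (.leaf ⟨113, 0, 80, 5, [569, 566, 430]⟩) (.leaf ⟨197, 5, 263, 0, []⟩))) (.node (.node (.leaf ⟨47, 6, 43, 35, [313, 236, 264, 293]⟩) (.leaf ⟨67, 1, 223, 24, [394, 347, 363, 1337]⟩)) (.node (.leaf ⟨178, 2, 179, 0, []⟩) (.leaf ⟨0, 12, 0, 0, []⟩)))) (.node (.node (.node (.leaf ⟨4, 7, 10, 28, [177, 138]⟩) (.leaf ⟨131, 0, 204, 48, [1193, 1120]⟩)) (.node (.leaf ⟨150, 2, 149, 11, [697, 689]⟩) (.leaf ⟨36, 12, 42, 56, [1721, 455]⟩))) (.node (.node (.leaf ⟨30, 1, 85, 0, []⟩) (.leaf ⟨59, 4, 232, 0, []⟩)) (.node (.leaf ⟨79, 12, 78, 17, [953, 426]⟩) (.leaf ⟨0, 12, 0, 0, []⟩))))) (.node (.node (.node (.node (.leaf ⟨23, 4, 8, 22, [121, 19, 10, 46]⟩) (.leaf ⟨207, 1, 208, 0, []⟩)) (.node (.leaf ⟨132, 6, 127, 12, [633, 631, 629, 626, 617]⟩) (.leaf ⟨246, 12, 93, 28, [1657, 1398]⟩))) (.node (.node (.leaf ⟨63,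 1, 63, 17, [377, 371]⟩) (.leaf ⟨173, 11, 50, 55, [1401, 1329]⟩)) (.node (.leaf ⟨68, 2, 193, 11, [433, 889]⟩) (.leaf ⟨0, 12, 0, 0, []⟩)))) (.node (.node (.node (.leaf ⟨32, 6, 32, 3, [249, 43, 248]⟩) (.leaf ⟨160, 12, 202, 48, [1273, 1124]⟩)) (.node (.leaf ⟨166, 6, 161, 12, [761, 759, 755, 752, 741]⟩) (.leaf ⟨0, 12, 7, 50, [1785, 36]⟩))) (.node (.node (.leaf ⟨30, 10, 100, 0, []⟩) (.leaf ⟨173, 2, 252, 0, []⟩)) (.node (.leaf ⟨83, 1, 71, 17, [1001, 520, 1008]⟩) (.leaf ⟨0, 12, 0, 0, []⟩))))))))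

def factD6 : Arr (CFact) :=
  (.node (.node (.node (.node (.node (.node (.node (.leaf ⟨1, 0, 1, 2, [11, 1, 5, 7, 10]⟩) (.leaf ⟨51, 1, 111, 17, [1015, 560]⟩)) (.node (.leaf ⟨72, 0, 105, 7, [406, 247, 523]⟩) (.leaf ⟨253, 8, 175, 15, [1537, 1547, 817, 813]⟩))) (.node (.node (.leaf ⟨38, 0, 27, 2, [267, 59, 173, 131, 204]⟩) (.leaf ⟨50, 1, 213, 0, []⟩)) (.node (.leaf ⟨169, 6, 105, 35, [777, 316, 408, 524]⟩) (.leaf ⟨0, 12, 0, 0, []⟩)))) (.node (.node (.node (.leaf ⟨17, 1, 25, 24, [104, 31, 65, 137]⟩) (.leaf ⟨44, 4, 212, 0, []⟩)) (.node (.leaf ⟨116, 9, 137, 20, [583, 337, 651]⟩) (.leaf ⟨261, 3, 229, 66, [1588, 1649, 1642]⟩))) (.node (.node (.leaf ⟨28, 1, 68, 0, []⟩) (.leaf ⟨183, 6, 181, 27, [1414, 1410]⟩)) (.node (.leaf ⟨195, 7, 195, 13, [905, 281, 904]⟩) (.leaf ⟨0, 12, 0, 0, []⟩))))) (.node (.node (.node (.node (.leaf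 ⟨13, 2, 14, 0, []⟩) (.leaf ⟨128, 6, 199, 9, [618, 296, 1099]⟩)) (.node (.leaf ⟨118, 1, 119, 0, []⟩) (.leaf ⟨180, 12, 239, 23, [836, 1580, 1611, 1487, 1484]⟩))) (.node (.node (.leaf ⟨24, 5, 51, 0, []⟩) (.leaf ⟨67, 0, 215, 48, [1354, 1305]⟩)) (.node (.leaf ⟨38, 4, 182, 0, []⟩) (.leaf ⟨0, 12, 0, 0, []⟩)))) (.node (.node (.node (.leaf ⟨3, 4, 27, 0, []⟩) (.leaf ⟨132, 0, 210, 48, [1207, 1157]⟩)) (.node (.leaf ⟨36, 2, 156, 0, []⟩) (.leaf ⟨4, 1, 11, 17, [1727, 60]⟩))) (.node (.node (.leaf ⟨89, 7, 56, 4, [455, 307, 309, 350]⟩) (.leaf ⟨82, 4, 239, 0, []⟩)) (.node (.leaf ⟨184, 12, 78, 49, [970, 954]⟩) (.leaf ⟨0, 12, 0, 0, []⟩)))))) (.node (.node (.node (.node (.node (.leaf ⟨4, 0, 4, 5, [26, 43, 27]⟩) (.leaf ⟨84, 3, 108, 26, [1063, 1057]⟩)) (.node (.leaf ⟨109, 2, 110, 0, []⟩) (.leaf ⟨181, 5, 260, 0, []⟩))) (.node (.node (.leaf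 ⟨44, 0, 34, 2, [299, 75, 229, 230, 254]⟩) (.leaf ⟨220, 0, 93, 5, [1323, 1320, 474]⟩)) (.node (.leaf ⟨175, 1, 176, 0, []⟩) (.leaf ⟨0, 12, 0, 0, []⟩)))) (.node (.node (.node (.leaf ⟨24, 6, 10, 27, [163, 154]⟩) (.leaf ⟨163, 12, 124, 17, [1195, 608]⟩)) (.node (.leaf ⟨147, 3, 148, 0, []⟩) (.leaf ⟨54, 11, 38, 55, [1695, 853]⟩))) (.node (.node (.leaf ⟨78, 2, 79, 0, []⟩) (.leaf ⟨99, 12, 227, 60, [505, 442, 1381, 1449, 1446]⟩)) (.node (.leaf ⟨76, 3, 68, 26, [930, 891]⟩) (.leaf ⟨0, 12, 0, 0, []⟩))))) (.node (.node (.node (.node (.leaf ⟨18, 6, 19, 0, []⟩) (.leaf ⟨205, 2, 199, 11, [1127, 1099]⟩)) (.node (.leaf ⟨35, 5, 128, 21, [257, 29, 252, 619]⟩) (.leaf ⟨235, 7, 225, 28, [1638, 1564]⟩))) (.node (.node (.leaf ⟨60, 2, 61, 0, []⟩) (.leaf ⟨56, 9, 96, 31, [347, 345, 1387, 493]⟩)) (.node (.leaf ⟨189, 9, 104, 31, [875, 872, 780,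 521]⟩) (.leaf ⟨0, 12, 0, 0, []⟩)))) (.node (.node (.node (.leaf ⟨14, 7, 9, 13, [77, 229, 224]⟩) (.leaf ⟨127, 0, 128, 43, [1259, 323, 1239, 1242, 1101]⟩)) (.node (.leaf ⟨37, 2, 163, 0, []⟩) (.leaf ⟨3, 1, 3, 17, [1735, 165, 1734]⟩))) (.node (.node (.leaf ⟨96, 1, 96, 17, [491, 487]⟩) (.leaf ⟨248, 6, 234, 35, [1513, 1365, 1472, 1474]⟩)) (.node (.leaf ⟨137, 12, 109, 48, [1003, 553]⟩) (.leaf ⟨0, 12, 0, 0, []⟩))))))) (.node (.node (.node (.node (.node (.node (.leaf ⟨5, 3, 6, 0, []⟩) (.leaf ⟨116, 12, 186, 24, [1029, 551, 922, 1051, 864]⟩)) (.node (.leaf ⟨72, 7, 105, 13, [415, 539, 536]⟩) (.leaf ⟨256, 7, 225, 4, [1561, 805, 341, 1428]⟩))) (.node (.node (.leaf ⟨41, 0, 35, 34, [283, 64, 256]⟩) (.leaf ⟨50, 2, 217, 0, []⟩)) (.node (.leaf ⟨173, 3, 174, 0, []⟩) (.leaf ⟨0, 12, 0, 0, []⟩)))) (.node (.node (.node (.leaf ⟨26, 2, 6,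 14, [153, 149, 140, 133, 72, 93, 21, 33, 31]⟩) (.leaf ⟨129, 11, 199, 55, [1169, 1103]⟩)) (.node (.leaf ⟨129, 5, 143, 21, [624, 600, 597, 667]⟩) (.leaf ⟨231, 4, 183, 56, [1687, 1632]⟩))) (.node (.node (.leaf ⟨73, 4, 57, 22, [411, 209, 204, 352]⟩) (.leaf ⟨227, 1, 228, 0, []⟩)) (.node (.leaf ⟨101, 2, 109, 6, [511, 530, 542, 923, 550]⟩) (.leaf ⟨0, 12, 0, 0, []⟩))))) (.node (.node (.node (.node (.leaf ⟨3, 2, 13, 11, [91, 77]⟩) (.leaf ⟨203, 3, 204, 0, []⟩)) (.node (.leaf ⟨123, 0, 89, 2, [603, 261, 263, 289, 454]⟩) (.leaf ⟨254, 7, 244, 28, [1621, 1582]⟩))) (.node (.node (.leaf ⟨56, 2, 27, 6, [347, 345, 343, 341, 339]⟩) (.leaf ⟨53, 3, 94, 59, [342, 1350, 1345, 1353, 450, 452, 442, 496, 483]⟩)) (.node (.leaf ⟨78, 3, 184, 42, [428, 859]⟩) (.leaf ⟨0, 12, 0, 0, []⟩)))) (.node (.node (.node (.leaf ⟨13, 6, 29, 12, [73, 67, 61,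 210, 217]⟩) (.leaf ⟨132, 8, 138, 29, [1217, 745]⟩)) (.node (.leaf ⟨134, 3, 158, 42, [640, 731]⟩) (.leaf ⟨4, 10, 14, 57, [1727, 196]⟩))) (.node (.node (.leaf ⟨93, 6, 88, 12, [475, 473, 471, 464, 451]⟩) (.leaf ⟨91, 5, 244, 0, []⟩)) (.node (.leaf ⟨111, 9, 103, 33, [967, 575]⟩) (.leaf ⟨0, 12, 0, 0, []⟩)))))) (.node (.node (.node (.node (.node (.leaf ⟨10, 1, 11, 0, []⟩) (.leaf ⟨198, 4, 195, 22, [1083, 283, 278, 904]⟩)) (.node (.leaf ⟨113, 2, 101, 14, [569, 565, 561, 557, 551, 547, 543, 531, 510]⟩) (.leaf ⟨263, 5, 232, 61, [1595, 1081, 279, 282, 1289, 1249, 1246, 1108, 577, 1035, 1032, 1085, 1090, 458, 1466]⟩))) (.node (.node (.leaf ⟨37, 7, 47, 36, [265, 54, 264, 293, 315]⟩) (.leaf ⟨63, 6, 67, 12, [378, 369, 367, 1334, 1339]⟩)) (.node (.leaf ⟨179, 0, 61, 10, [827, 822, 364]⟩) (.leaf ⟨0, 12, 0, 0, []⟩)))) (.node (.node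 (.node (.leaf ⟨4, 8, 12, 29, [177, 146]⟩) (.leaf ⟨204, 12, 209, 48, [1211, 1202]⟩)) (.node (.leaf ⟨123, 4, 150, 8, [603, 598, 694, 699]⟩) (.leaf ⟨30, 5, 10, 50, [1711, 267]⟩))) (.node (.node (.leaf ⟨85, 6, 86, 0, []⟩) (.leaf ⟨63, 4, 233, 0, []⟩)) (.node (.leaf ⟨74, 1, 190, 17, [945, 881]⟩) (.leaf ⟨0, 12, 0, 0, []⟩))))) (.node (.node (.node (.node (.leaf ⟨23, 2, 22, 11, [121, 117]⟩) (.leaf ⟨208, 0, 166, 5, [1147, 1144, 760]⟩)) (.node (.leaf ⟨132, 2, 133, 0, []⟩) (.leaf ⟨180, 4, 171, 56, [1655, 1559]⟩))) (.node (.node (.leaf ⟨63, 2, 52, 18, [377, 372]⟩) (.leaf ⟨220, 7, 180, 13, [1397, 793, 834]⟩)) (.node (.leaf ⟨192, 6, 74, 12, [886, 891, 397, 410, 416]⟩) (.leaf ⟨0, 12, 0, 0, []⟩)))) (.node (.node (.node (.leaf ⟨5, 5, 33, 0, []⟩) (.leaf ⟨159, 3, 204, 26, [1271, 1116]⟩)) (.node (.leaf ⟨166, 2, 167, 0, []⟩) (.leaf ⟨1,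 12, 0, 49, [1779, 1787]⟩))) (.node (.node (.leaf ⟨100, 9, 89, 20, [507, 241, 453]⟩) (.leaf ⟨252, 0, 224, 10, [1531, 802, 1350]⟩)) (.node (.leaf ⟨83, 12, 72, 17, [1018, 404]⟩) (.leaf ⟨0, 12, 0, 0, []⟩))))))))

def factD7 : Arr (CFact) :=
  (.node (.node (.node (.node (.node (.node (.node (.leaf ⟨1, 6, 1, 3, [11, 1, 10]⟩) (.leaf ⟨51, 3, 109, 26, [1015, 557]⟩)) (.node (.leaf ⟨43, 5, 105, 21, [291, 185, 244, 523]⟩) (.leaf ⟨175, 11, 220, 19, [1549, 1540, 1327]⟩))) (.node (.node (.leaf ⟨38, 6, 38, 3, [267, 59, 266]⟩) (.leaf ⟨213, 6, 214, 0, []⟩)) (.node (.leaf ⟨169, 2, 39, 40, [777, 265, 56, 272]⟩) (.leaf ⟨0, 12, 0, 0, []⟩)))) (.node (.node (.node (.leaf ⟨17, 0, 17, 5, [140, 134, 141]⟩) (.leaf ⟨212, 4, 73, 8, [1165, 1158, 1163, 415]⟩)) (.node (.leaf ⟨33, 10, 138, 0, []⟩) (.leaf ⟨248, 2, 243, 44, [1635, 1677, 1586]⟩)))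 (.node (.node (.leaf ⟨68, 6, 69, 0, []⟩) (.leaf ⟨59, 10, 63, 30, [1347, 1351, 374]⟩)) (.node (.leaf ⟨144, 6, 195, 9, [676, 672, 907]⟩) (.leaf ⟨0, 12, 0, 0, []⟩))))) (.node (.node (.node (.node (.leaf ⟨14, 0, 14, 10, [77, 75, 76]⟩) (.leaf ⟨199, 10, 165, 30, [1101, 627, 774]⟩)) (.node (.leaf ⟨119, 3, 120, 0, []⟩) (.leaf ⟨180, 7, 241, 28, [1612, 1493]⟩))) (.node (.node (.leaf ⟨51, 0, 39, 34, [333, 172, 272]⟩) (.leaf ⟨67, 1, 86, 17, [1354, 447]⟩)) (.node (.leaf ⟨182, 2, 48, 39, [845, 267, 227, 318]⟩) (.leaf ⟨0, 12, 0, 0, []⟩)))) (.node (.node (.node (.leaf ⟨27, 6, 27, 3, [205, 23, 204]⟩) (.leaf ⟨132, 3, 124, 26, [1207, 771]⟩)) (.node (.leaf ⟨156, 2, 155, 11, [717, 713]⟩) (.leaf ⟨11, 12, 5, 17, [1741, 26]⟩))) (.node (.node (.leaf ⟨30, 2, 90, 0, []⟩) (.leaf ⟨82, 5, 240, 0, []⟩)) (.node (.leaf ⟨73, 3, 189, 26, [959, 879]⟩)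 (.leaf ⟨0, 12, 0, 0, []⟩)))))) (.node (.node (.node (.node (.node (.leaf ⟨1, 2, 8, 0, []⟩) (.leaf ⟨84, 6, 78, 27, [1063, 997]⟩)) (.node (.leaf ⟨110, 0, 77, 10, [557, 552, 424]⟩) (.leaf ⟨260, 7, 244, 36, [1581, 838, 1470, 1475, 1503]⟩))) (.node (.node (.leaf ⟨13, 5, 45, 0, []⟩) (.leaf ⟨220, 6, 216, 12, [1323, 1319, 1315, 1312, 1301]⟩)) (.node (.leaf ⟨176, 0, 58, 5, [813, 808, 356]⟩) (.leaf ⟨0, 12, 0, 0, []⟩)))) (.node (.node (.node (.leaf ⟨5, 1, 25, 17, [170, 140]⟩) (.leaf ⟨33, 6, 133, 27, [1179, 756]⟩)) (.node (.leaf ⟨148, 1, 149, 0, []⟩) (.leaf ⟨38, 12, 30, 57, [1709, 1394]⟩))) (.node (.node (.leaf ⟨79, 1, 80, 0, []⟩) (.leaf ⟨99, 2, 91, 18, [1452, 1434]⟩)) (.node (.leaf ⟨75, 3, 191, 26, [935, 885]⟩) (.leaf ⟨0, 12, 0, 0, []⟩))))) (.node (.node (.node (.node (.leaf ⟨19, 1, 20, 0, []⟩) (.leaf ⟨163, 6, 205, 9, [752,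 1104, 1133]⟩)) (.node (.leaf ⟨33, 2, 129, 0, []⟩) (.leaf ⟨251, 2, 235, 25, [1528, 1600, 1645]⟩))) (.node (.node (.leaf ⟨61, 1, 62, 0, []⟩) (.leaf ⟨54, 12, 100, 31, [343, 1383, 476, 450, 509]⟩)) (.node (.leaf ⟨189, 2, 190, 0, []⟩) (.leaf ⟨0, 12, 0, 0, []⟩)))) (.node (.node (.node (.leaf ⟨4, 4, 30, 0, []⟩) (.leaf ⟨127, 5, 57, 52, [1259, 303, 298, 1164, 1166, 412]⟩)) (.node (.leaf ⟨163, 4, 156, 22, [749, 265, 258, 716]⟩) (.leaf ⟨3, 12, 1, 17, [1773, 21]⟩))) (.node (.node (.leaf ⟨96, 2, 85, 18, [491, 488]⟩) (.leaf ⟨96, 5, 249, 0, []⟩)) (.node (.leaf ⟨76, 6, 105, 27, [983, 780]⟩) (.leaf ⟨0, 12, 0, 0, []⟩))))))) (.node (.node (.node (.node (.node (.node (.leaf ⟨6, 1, 7, 0, []⟩) (.leaf ⟨116, 1, 185, 17, [1052, 865]⟩)) (.node (.leaf ⟨106, 1, 107, 0, []⟩) (.leaf ⟨172, 5, 257, 0, []⟩))) (.node (.node (.leaf ⟨12, 4, 42, 0,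 []⟩) (.leaf ⟨217, 0, 90, 10, [1309, 328, 462]⟩)) (.node (.leaf ⟨174, 1, 157, 16, [797, 795, 793, 789, 727]⟩) (.leaf ⟨0, 12, 0, 0, []⟩)))) (.node (.node (.node (.leaf ⟨10, 8, 24, 15, [60, 64, 157, 153]⟩) (.leaf ⟨130, 0, 208, 48, [1175, 1149]⟩)) (.node (.leaf ⟨50, 4, 143, 8, [327, 166, 254, 667]⟩) (.leaf ⟨183, 12, 54, 50, [1693, 1465]⟩))) (.node (.node (.leaf ⟨73, 2, 72, 11, [411, 407]⟩) (.leaf ⟨228, 6, 65, 12, [1437, 1433, 474, 478, 1377]⟩)) (.node (.leaf ⟨105, 12, 115, 15, [521, 555, 925, 511, 580]⟩) (.leaf ⟨0, 12, 0, 0, []⟩))))) (.node (.node (.node (.node (.leaf ⟨12, 6, 9, 12, [72, 93, 21, 46, 52]⟩) (.leaf ⟨204, 1, 199, 16, [1117, 1115, 1113, 1111, 1099]⟩)) (.node (.leaf ⟨123, 2, 50, 39, [603, 249, 178, 326]⟩) (.leaf ⟨244, 12, 229, 28, [1629, 1556]⟩))) (.node (.node (.leaf ⟨46, 4, 56, 8, [305, 90, 204, 349]⟩) (.leaf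 ⟨95, 12, 65, 31, [483, 1373, 341, 339, 388]⟩)) (.node (.leaf ⟨184, 6, 185, 0, []⟩) (.leaf ⟨0, 12, 0, 0, []⟩)))) (.node (.node (.node (.leaf ⟨29, 12, 16, 15, [216, 221, 93, 21, 100]⟩) (.leaf ⟨125, 4, 200, 56, [1223, 1130]⟩)) (.node (.leaf ⟨158, 6, 159, 0, []⟩) (.leaf ⟨14, 12, 7, 55, [1757, 193]⟩))) (.node (.node (.leaf ⟨93, 2, 94, 0, []⟩) (.leaf ⟨244, 6, 235, 35, [1501, 1450, 1470, 1475]⟩)) (.node (.leaf ⟨78, 1, 39, 17, [973, 857]⟩) (.leaf ⟨0, 12, 0, 0, []⟩)))))) (.node (.node (.node (.node (.node (.leaf ⟨11, 0, 11, 5, [61, 59, 60]⟩) (.leaf ⟨198, 2, 114, 11, [1083, 579]⟩)) (.node (.leaf ⟨103, 8, 112, 15, [517, 515, 573, 569]⟩) (.leaf ⟨233, 4, 242, 62, [1469, 1423, 1466, 1597, 1595, 1081, 279, 282, 1289, 1290, 624, 694, 693, 1077, 1494]⟩))) (.node (.node (.leaf ⟨16, 4, 48, 0, []⟩) (.leaf ⟨67, 2, 222, 25, [1341, 380,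 1332]⟩)) (.node (.leaf ⟨179, 1, 180, 0, []⟩) (.leaf ⟨0, 12, 0, 0, []⟩)))) (.node (.node (.node (.leaf ⟨14, 8, 7, 15, [88, 181, 28, 30]⟩) (.leaf ⟨131, 1, 162, 17, [1193, 740]⟩)) (.node (.leaf ⟨36, 1, 151, 0, []⟩) (.leaf ⟨10, 12, 4, 56, [1725, 239]⟩))) (.node (.node (.leaf ⟨86, 1, 87, 0, []⟩) (.leaf ⟨63, 5, 234, 0, []⟩)) (.node (.leaf ⟨190, 12, 73, 17, [957, 417]⟩) (.leaf ⟨0, 12, 0, 0, []⟩))))) (.node (.node (.node (.node (.leaf ⟨22, 5, 8, 23, [116, 118, 125, 122]⟩) (.leaf ⟨208, 2, 209, 0, []⟩)) (.node (.leaf ⟨133, 1, 134, 0, []⟩) (.leaf ⟨171, 12, 258, 50, [1661, 1572]⟩))) (.node (.node (.leaf ⟨52, 2, 62, 11, [381, 369]⟩) (.leaf ⟨179, 2, 214, 44, [828, 1371, 1306]⟩)) (.node (.leaf ⟨73, 8, 190, 15, [416, 893, 885, 881]⟩) (.leaf ⟨0, 12, 0, 0, []⟩)))) (.node (.node (.node (.leaf ⟨6, 4, 34, 0, []⟩) (.leaf ⟨160, 2, 130,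 18, [1274, 1269]⟩)) (.node (.leaf ⟨167, 1, 168, 0, []⟩) (.leaf ⟨7, 12, 0, 49, [1778, 1788]⟩))) (.node (.node (.leaf ⟨31, 1, 101, 0, []⟩) (.leaf ⟨252, 2, 174, 11, [1531, 796]⟩)) (.node (.leaf ⟨104, 12, 72, 49, [1000, 1020]⟩) (.leaf ⟨0, 12, 0, 0, []⟩))))))))

def factD : Arr (CFact) :=
  (.node (.node (.node factD0 factD4) (.node factD2 factD6)) (.node (.node factD1 factD5) (.node factD3 factD7)))

def parD0 : Arr (ℕ × ℕ) :=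
  (.node (.node (.node (.node (.node (.node (.node (.leaf (0, 0)) (.leaf (172, 4))) (.node (.leaf (127, 1)) (.leaf (0, 0)))) (.node (.node (.leaf (63, 1)) (.leaf (0, 0))) (.node (.leaf (191, 2)) (.leaf (0, 0))))) (.node (.node (.node (.leaf (5, 4)) (.leaf (0, 0))) (.node (.leaf (159, 1)) (.leaf (0, 0)))) (.node (.node (.leaf (95, 2)) (.leaf (0, 0))) (.node (.leaf (222, 1)) (.leaf (0, 0)))))) (.node (.node (.node (.node (.leaf (1, 9)) (.leaf (0, 0))) (.node (.leaf (34, 2)) (.leaf (0, 0)))) (.node (.node (.leaf (79, 1)) (.leaf (0, 0))) (.node (.leaf (207, 1)) (.leaf (0, 0))))) (.node (.node (.node (.leaf (16, 4)) (.leaf (0, 0))) (.node (.leaf (175, 1)) (.leaf (0, 0)))) (.node (.node (.leaf (111, 2)) (.leaf (0, 0))) (.node (.leaf (82, 5)) (.leaf (0, 0))))))) (.node (.node (.node (.node (.node (.leaf (1, 2)) (.leaf (0,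 0))) (.node (.leaf (135, 1)) (.leaf (0, 0)))) (.node (.node (.leaf (71, 1)) (.leaf (0, 0))) (.node (.leaf (42, 2)) (.leaf (0, 0))))) (.node (.node (.node (.leaf (11, 4)) (.leaf (0, 0))) (.node (.leaf (167, 1)) (.leaf (0, 0)))) (.node (.node (.leaf (103, 3)) (.leaf (0, 0))) (.node (.leaf (59, 4)) (.leaf (0, 0)))))) (.node (.node (.node (.node (.leaf (3, 7)) (.leaf (0, 0))) (.node (.leaf (151, 6)) (.leaf (0, 0)))) (.node (.node (.leaf (87, 3)) (.leaf (0, 0))) (.node (.leaf (215, 3)) (.leaf (0, 0))))) (.node (.node (.node (.leaf (55, 1)) (.leaf (0, 0))) (.node (.leaf (39, 1)) (.leaf (0, 0)))) (.node (.node (.leaf (119, 3)) (.leaf (0, 0))) (.node (.leaf (94, 5)) (.leaf (0, 0)))))))) (.node (.node (.node (.node (.node (.node (.leaf (3, 6)) (.leaf (181, 5))) (.node (.leaf (131, 1)) (.leaf (0, 0)))) (.node (.node (.leaf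 (28, 1)) (.leaf (0, 0))) (.node (.leaf (40, 4)) (.leaf (0, 0))))) (.node (.node (.node (.leaf (9, 4)) (.leaf (0, 0))) (.node (.leaf (163, 1)) (.leaf (0, 0)))) (.node (.node (.leaf (30, 10)) (.leaf (0, 0))) (.node (.leaf (227, 1)) (.leaf (0, 0)))))) (.node (.node (.node (.node (.leaf (19, 1)) (.leaf (0, 0))) (.node (.leaf (147, 3)) (.leaf (0, 0)))) (.node (.node (.leaf (28, 10)) (.leaf (0, 0))) (.node (.leaf (44, 4)) (.leaf (0, 0))))) (.node (.node (.node (.leaf (27, 1)) (.leaf (0, 0))) (.node (.leaf (179, 1)) (.leaf (0, 0)))) (.node (.node (.leaf (31, 10)) (.leaf (0, 0))) (.node (.leaf (91, 5)) (.leaf (0, 0))))))) (.node (.node (.node (.node (.node (.leaf (11, 2)) (.leaf (0, 0))) (.node (.leaf (139, 6)) (.leaf (0, 0)))) (.node (.node (.leaf (75, 1)) (.leaf (0, 0))) (.node (.leaf (203, 3)) (.leaf (0, 0))))) (.node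 (.node (.node (.leaf (13, 4)) (.leaf (0, 0))) (.node (.leaf (171, 6)) (.leaf (0, 0)))) (.node (.node (.leaf (107, 2)) (.leaf (0, 0))) (.node (.leaf (74, 5)) (.leaf (0, 0)))))) (.node (.node (.node (.node (.leaf (3, 5)) (.leaf (0, 0))) (.node (.leaf (36, 2)) (.leaf (0, 0)))) (.node (.node (.leaf (91, 2)) (.leaf (0, 0))) (.node (.leaf (219, 1)) (.leaf (0, 0))))) (.node (.node (.node (.leaf (59, 1)) (.leaf (0, 0))) (.node (.leaf (39, 2)) (.leaf (0, 0)))) (.node (.node (.leaf (33, 1)) (.leaf (0, 0))) (.node (.leaf (173, 2)) (.leaf (0, 0)))))))))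

def parD1 : Arr (ℕ × ℕ) :=
  (.node (.node (.node (.node (.node (.node (.node (.leaf (0, 4)) (.leaf (172, 5))) (.node (.leaf (33, 2)) (.leaf (0, 0)))) (.node (.node (.leaf (27, 8)) (.leaf (0, 0))) (.node (.leaf (192, 1)) (.leaf (0, 0))))) (.node (.node (.node (.leaf (5, 5)) (.leaf (0, 0))) (.node (.leaf (160, 3)) (.leaf (0, 0)))) (.node (.node (.leaf (96, 1)) (.leaf (0, 0))) (.node (.leaf (52, 4)) (.leaf (0, 0)))))) (.node (.node (.node (.node (.leaf (1, 10)) (.leaf (0, 0))) (.node (.leaf (35, 1)) (.leaf (0, 0)))) (.node (.node (.leaf (28, 5)) (.leaf (0, 0))) (.node (.leaf (208, 2)) (.leaf (0, 0))))) (.node (.node (.node (.leaf (16, 5)) (.leaf (0, 0))) (.node (.leaf (176, 2)) (.leaf (0, 0)))) (.node (.node (.leaf (112, 1)) (.leaf (0, 0))) (.node (.leaf (84, 4)) (.leaf (0, 0))))))) (.node (.node (.node (.node (.node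 (.leaf (8, 1)) (.leaf (0, 0))) (.node (.leaf (33, 5)) (.leaf (0, 0)))) (.node (.node (.leaf (28, 2)) (.leaf (0, 0))) (.node (.leaf (43, 1)) (.leaf (0, 0))))) (.node (.node (.node (.leaf (11, 5)) (.leaf (0, 0))) (.node (.leaf (37, 5)) (.leaf (0, 0)))) (.node (.node (.leaf (104, 1)) (.leaf (0, 0))) (.node (.leaf (63, 4)) (.leaf (0, 0)))))) (.node (.node (.node (.node (.leaf (12, 2)) (.leaf (0, 0))) (.node (.leaf (152, 1)) (.leaf (0, 0)))) (.node (.node (.leaf (88, 1)) (.leaf (0, 0))) (.node (.leaf (50, 2)) (.leaf (0, 0))))) (.node (.node (.node (.leaf (27, 2)) (.leaf (0, 0))) (.node (.leaf (184, 6)) (.leaf (0, 0)))) (.node (.node (.leaf (120, 1)) (.leaf (0, 0))) (.node (.leaf (96, 5)) (.leaf (0, 0)))))))) (.node (.node (.node (.node (.node (.node (.leaf (4, 1)) (.leaf (183, 4))) (.node (.leaf (132, 2)) (.leaf (0, 0))))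 (.node (.node (.leaf (68, 6)) (.leaf (0, 0))) (.node (.leaf (40, 9)) (.leaf (0, 0))))) (.node (.node (.node (.leaf (9, 5)) (.leaf (0, 0))) (.node (.leaf (164, 2)) (.leaf (0, 0)))) (.node (.node (.leaf (31, 1)) (.leaf (0, 0))) (.node (.leaf (53, 4)) (.leaf (0, 0)))))) (.node (.node (.node (.node (.leaf (20, 3)) (.leaf (0, 0))) (.node (.leaf (148, 1)) (.leaf (0, 0)))) (.node (.node (.leaf (30, 1)) (.leaf (0, 0))) (.node (.leaf (50, 1)) (.leaf (0, 0))))) (.node (.node (.node (.leaf (52, 6)) (.leaf (0, 0))) (.node (.leaf (180, 2)) (.leaf (0, 0)))) (.node (.node (.leaf (32, 1)) (.leaf (0, 0))) (.node (.leaf (92, 4)) (.leaf (0, 0))))))) (.node (.node (.node (.node (.node (.leaf (12, 1)) (.leaf (0, 0))) (.node (.leaf (140, 1)) (.leaf (0, 0)))) (.node (.node (.leaf (76, 2)) (.leaf (0, 0))) (.node (.leaf (43, 2)) (.leaf (0,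 0))))) (.node (.node (.node (.leaf (13, 5)) (.leaf (0, 0))) (.node (.leaf (172, 1)) (.leaf (0, 0)))) (.node (.node (.leaf (108, 1)) (.leaf (0, 0))) (.node (.leaf (75, 5)) (.leaf (0, 0)))))) (.node (.node (.node (.node (.leaf (10, 2)) (.leaf (0, 0))) (.node (.leaf (36, 4)) (.leaf (0, 0)))) (.node (.node (.leaf (92, 1)) (.leaf (0, 0))) (.node (.leaf (50, 10)) (.leaf (0, 0))))) (.node (.node (.node (.leaf (60, 2)) (.leaf (0, 0))) (.node (.leaf (188, 1)) (.leaf (0, 0)))) (.node (.node (.leaf (124, 6)) (.leaf (0, 0))) (.node (.leaf (252, 1)) (.leaf (0, 0)))))))))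

def parD2 : Arr (ℕ × ℕ) :=
  (.node (.node (.node (.node (.node (.node (.node (.leaf (0, 5)) (.leaf (180, 4))) (.node (.leaf (129, 1)) (.leaf (0, 0)))) (.node (.node (.leaf (27, 9)) (.leaf (0, 0))) (.node (.leaf (39, 5)) (.leaf (0, 0))))) (.node (.node (.node (.leaf (6, 4)) (.leaf (0, 0))) (.node (.leaf (161, 1)) (.leaf (0, 0)))) (.node (.node (.leaf (30, 4)) (.leaf (0, 0))) (.node (.leaf (52, 5)) (.leaf (0, 0)))))) (.node (.node (.node (.node (.leaf (2, 1)) (.leaf (0, 0))) (.node (.leaf (145, 6)) (.leaf (0, 0)))) (.node (.node (.leaf (28, 8)) (.leaf (0, 0))) (.node (.leaf (209, 1)) (.leaf (0, 0))))) (.node (.node (.node (.leaf (24, 4)) (.leaf (0, 0))) (.node (.leaf (177, 1)) (.leaf (0, 0)))) (.node (.node (.leaf (31, 5)) (.leaf (0, 0))) (.node (.leaf (84, 5)) (.leaf (0, 0))))))) (.node (.node (.node (.node (.node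 (.leaf (9, 2)) (.leaf (0, 0))) (.node (.leaf (33, 10)) (.leaf (0, 0)))) (.node (.node (.leaf (73, 1)) (.leaf (0, 0))) (.node (.leaf (201, 6)) (.leaf (0, 0))))) (.node (.node (.node (.leaf (12, 4)) (.leaf (0, 0))) (.node (.leaf (37, 8)) (.leaf (0, 0)))) (.node (.node (.leaf (31, 2)) (.leaf (0, 0))) (.node (.leaf (63, 5)) (.leaf (0, 0)))))) (.node (.node (.node (.node (.leaf (24, 1)) (.leaf (0, 0))) (.node (.leaf (153, 3)) (.leaf (0, 0)))) (.node (.node (.leaf (30, 2)) (.leaf (0, 0))) (.node (.leaf (217, 1)) (.leaf (0, 0))))) (.node (.node (.node (.leaf (57, 1)) (.leaf (0, 0))) (.node (.leaf (185, 1)) (.leaf (0, 0)))) (.node (.node (.leaf (32, 2)) (.leaf (0, 0))) (.node (.leaf (99, 4)) (.leaf (0, 0)))))))) (.node (.node (.node (.node (.node (.node (.leaf (5, 3)) (.leaf (183, 5))) (.node (.leaf (133, 1)) (.leaf (0,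 0)))) (.node (.node (.leaf (69, 1)) (.leaf (0, 0))) (.node (.leaf (41, 2)) (.leaf (0, 0))))) (.node (.node (.node (.leaf (10, 4)) (.leaf (0, 0))) (.node (.leaf (165, 1)) (.leaf (0, 0)))) (.node (.node (.leaf (101, 6)) (.leaf (0, 0))) (.node (.leaf (53, 5)) (.leaf (0, 0)))))) (.node (.node (.node (.node (.leaf (21, 1)) (.leaf (0, 0))) (.node (.leaf (35, 2)) (.leaf (0, 0)))) (.node (.node (.leaf (85, 6)) (.leaf (0, 0))) (.node (.leaf (213, 6)) (.leaf (0, 0))))) (.node (.node (.node (.leaf (53, 1)) (.leaf (0, 0))) (.node (.leaf (38, 4)) (.leaf (0, 0)))) (.node (.node (.leaf (117, 6)) (.leaf (0, 0))) (.node (.leaf (92, 5)) (.leaf (0, 0))))))) (.node (.node (.node (.node (.node (.leaf (13, 2)) (.leaf (0, 0))) (.node (.leaf (141, 3)) (.leaf (0, 0)))) (.node (.node (.leaf (77, 1)) (.leaf (0, 0))) (.node (.leaf (205, 1))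 (.leaf (0, 0))))) (.node (.node (.node (.leaf (14, 4)) (.leaf (0, 0))) (.node (.leaf (173, 3)) (.leaf (0, 0)))) (.node (.node (.leaf (109, 2)) (.leaf (0, 0))) (.node (.leaf (78, 5)) (.leaf (0, 0)))))) (.node (.node (.node (.node (.leaf (4, 4)) (.leaf (0, 0))) (.node (.leaf (37, 1)) (.leaf (0, 0)))) (.node (.node (.leaf (93, 2)) (.leaf (0, 0))) (.node (.leaf (52, 7)) (.leaf (0, 0))))) (.node (.node (.node (.leaf (61, 1)) (.leaf (0, 0))) (.node (.leaf (189, 2)) (.leaf (0, 0)))) (.node (.node (.leaf (125, 1)) (.leaf (0, 0))) (.node (.leaf (171, 4)) (.leaf (0, 0)))))))))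

def parD3 : Arr (ℕ × ℕ) :=
  (.node (.node (.node (.node (.node (.node (.node (.leaf (1, 1)) (.leaf (181, 4))) (.node (.leaf (130, 2)) (.leaf (0, 0)))) (.node (.node (.leaf (27, 10)) (.leaf (0, 0))) (.node (.leaf (40, 2)) (.leaf (0, 0))))) (.node (.node (.node (.leaf (6, 5)) (.leaf (0, 0))) (.node (.leaf (37, 2)) (.leaf (0, 0)))) (.node (.node (.leaf (30, 9)) (.leaf (0, 0))) (.node (.leaf (92, 2)) (.leaf (0, 0)))))) (.node (.node (.node (.node (.leaf (18, 6)) (.leaf (0, 0))) (.node (.leaf (146, 1)) (.leaf (0, 0)))) (.node (.node (.leaf (28, 9)) (.leaf (0, 0))) (.node (.leaf (44, 2)) (.leaf (0, 0))))) (.node (.node (.node (.leaf (24, 5)) (.leaf (0, 0))) (.node (.leaf (178, 2)) (.leaf (0, 0)))) (.node (.node (.leaf (31, 9)) (.leaf (0, 0))) (.node (.leaf (91, 4)) (.leaf (0, 0))))))) (.node (.node (.node (.node (.node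 (.leaf (10, 1)) (.leaf (0, 0))) (.node (.leaf (34, 1)) (.leaf (0, 0)))) (.node (.node (.leaf (74, 2)) (.leaf (0, 0))) (.node (.leaf (202, 1)) (.leaf (0, 0))))) (.node (.node (.node (.leaf (12, 5)) (.leaf (0, 0))) (.node (.leaf (38, 1)) (.leaf (0, 0)))) (.node (.node (.leaf (106, 1)) (.leaf (0, 0))) (.node (.leaf (67, 5)) (.leaf (0, 0)))))) (.node (.node (.node (.node (.leaf (3, 4)) (.leaf (0, 0))) (.node (.leaf (154, 1)) (.leaf (0, 0)))) (.node (.node (.leaf (90, 1)) (.leaf (0, 0))) (.node (.leaf (218, 2)) (.leaf (0, 0))))) (.node (.node (.node (.leaf (58, 2)) (.leaf (0, 0))) (.node (.leaf (186, 3)) (.leaf (0, 0)))) (.node (.node (.leaf (32, 4)) (.leaf (0, 0))) (.node (.leaf (107, 5)) (.leaf (0, 0)))))))) (.node (.node (.node (.node (.node (.node (.leaf (6, 1)) (.leaf (197, 5))) (.node (.leaf (134, 2)) (.leaf (0,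 0)))) (.node (.node (.leaf (70, 3)) (.leaf (0, 0))) (.node (.leaf (41, 5)) (.leaf (0, 0))))) (.node (.node (.node (.leaf (10, 5)) (.leaf (0, 0))) (.node (.leaf (166, 2)) (.leaf (0, 0)))) (.node (.node (.leaf (102, 1)) (.leaf (0, 0))) (.node (.leaf (54, 5)) (.leaf (0, 0)))))) (.node (.node (.node (.node (.leaf (2, 2)) (.leaf (0, 0))) (.node (.leaf (36, 1)) (.leaf (0, 0)))) (.node (.node (.leaf (86, 1)) (.leaf (0, 0))) (.node (.leaf (214, 1)) (.leaf (0, 0))))) (.node (.node (.node (.leaf (54, 3)) (.leaf (0, 0))) (.node (.leaf (38, 10)) (.leaf (0, 0)))) (.node (.node (.leaf (118, 1)) (.leaf (0, 0))) (.node (.leaf (93, 4)) (.leaf (0, 0))))))) (.node (.node (.node (.node (.node (.leaf (14, 1)) (.leaf (0, 0))) (.node (.leaf (142, 1)) (.leaf (0, 0)))) (.node (.node (.leaf (78, 2)) (.leaf (0, 0))) (.node (.leaf (206, 2))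 (.leaf (0, 0))))) (.node (.node (.node (.leaf (14, 5)) (.leaf (0, 0))) (.node (.leaf (38, 2)) (.leaf (0, 0)))) (.node (.node (.leaf (110, 1)) (.leaf (0, 0))) (.node (.leaf (82, 4)) (.leaf (0, 0)))))) (.node (.node (.node (.node (.leaf (4, 5)) (.leaf (0, 0))) (.node (.leaf (158, 6)) (.leaf (0, 0)))) (.node (.node (.leaf (94, 1)) (.leaf (0, 0))) (.node (.leaf (61, 2)) (.leaf (0, 0))))) (.node (.node (.node (.leaf (62, 2)) (.leaf (0, 0))) (.node (.leaf (190, 1)) (.leaf (0, 0)))) (.node (.node (.leaf (126, 3)) (.leaf (0, 0))) (.node (.leaf (171, 5)) (.leaf (0, 0)))))))))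

def parD : Arr (ℕ × ℕ) :=
  (.node (.node parD0 parD2) (.node parD1 parD3))

def wordsD0 : Arr (ℕ × ℕ × Bool) :=
  (.node (.node (.node (.node (.node (.node (.node (.leaf (16, 1, true)) (.leaf (9, 0, false))) (.node (.leaf (17, 0, false)) (.leaf (0, 0, false)))) (.node (.node (.leaf (23, 0, false)) (.leaf (0, 0, false))) (.node (.leaf (25, 1, false)) (.leaf (0, 0, false))))) (.node (.node (.node (.leaf (5, 3, false)) (.leaf (0, 0, false))) (.node (.leaf (2, 0, false)) (.leaf (0, 0, false)))) (.node (.node (.leaf (23, 1, false)) (.leaf (0, 0, false))) (.node (.leaf (16, 2, true)) (.leaf (0, 0, false)))))) (.node (.node (.node (.node (.leaf (8, 3, false)) (.leaf (0, 0, false))) (.node (.leaf (16, 4, false)) (.leaf (0, 0, false)))) (.node (.node (.leaf (15, 1, true)) (.leaf (0, 0, false))) (.node (.leaf (19, 8, false))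 (.leaf (0, 0, false))))) (.node (.node (.node (.leaf (3, 1, true)) (.leaf (0, 0, false))) (.node (.leaf (10, 3, true)) (.leaf (0, 0, false)))) (.node (.node (.leaf (11, 0, true)) (.leaf (0, 0, false))) (.node (.leaf (19, 11, false)) (.leaf (0, 0, false))))))) (.node (.node (.node (.node (.node (.leaf (18, 1, true)) (.leaf (0, 0, false))) (.node (.leaf (16, 3, true)) (.leaf (0, 0, false)))) (.node (.node (.leaf (11, 1, true)) (.leaf (0, 0, false))) (.node (.leaf (14, 0, false)) (.leaf (0, 0, false))))) (.node (.node (.node (.leaf (8, 1, false)) (.leaf (0, 0, false))) (.node (.leaf (5, 0, false)) (.leaf (0, 0, false)))) (.node (.node (.leaf (7, 0, false)) (.leaf (0, 0, false))) (.node (.leaf (10, 0, false)) (.leaf (0, 0, false)))))) (.node (.node (.node (.node (.leaf (15, 4, false)) (.leaf (0, 0, false))) (.node (.leaf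 (15, 0, true)) (.leaf (0, 0, false)))) (.node (.node (.leaf (10, 1, true)) (.leaf (0, 0, false))) (.node (.leaf (25, 0, false)) (.leaf (0, 0, false))))) (.node (.node (.node (.leaf (8, 4, false)) (.leaf (0, 0, false))) (.node (.leaf (0, 0, false)) (.leaf (0, 0, false)))) (.node (.node (.leaf (3, 0, true)) (.leaf (0, 0, false))) (.node (.leaf (15, 2, false)) (.leaf (0, 0, false)))))))) (.node (.node (.node (.node (.node (.node (.leaf (17, 2, false)) (.leaf (19, 15, true))) (.node (.leaf (18, 3, true)) (.leaf (0, 0, false)))) (.node (.node (.leaf (11, 1, false)) (.leaf (0, 0, false))) (.node (.leaf (17, 1, false)) (.leaf (0, 0, false))))) (.node (.node (.node (.leaf (2, 0, true)) (.leaf (0, 0, false))) (.node (.leaf (16, 0, false)) (.leaf (0, 0, false)))) (.node (.node (.leaf (6, 0, false)) (.leaf (0, 0, false))) (.node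 (.leaf (3, 0, false)) (.leaf (0, 0, false)))))) (.node (.node (.node (.node (.leaf (5, 1, false)) (.leaf (0, 0, false))) (.node (.leaf (15, 3, false)) (.leaf (0, 0, false)))) (.node (.node (.leaf (15, 3, true)) (.leaf (0, 0, false))) (.node (.leaf (13, 1, false)) (.leaf (0, 0, false))))) (.node (.node (.node (.leaf (10, 0, true)) (.leaf (0, 0, false))) (.node (.leaf (5, 2, false)) (.leaf (0, 0, false)))) (.node (.node (.leaf (10, 1, false)) (.leaf (0, 0, false))) (.node (.leaf (15, 1, false)) (.leaf (0, 0, false))))))) (.node (.node (.node (.node (.node (.leaf (4, 1, false)) (.leaf (0, 0, false))) (.node (.leaf (18, 4, false)) (.leaf (0, 0, false)))) (.node (.node (.leaf (15, 4, true)) (.leaf (0, 0, false))) (.node (.leaf (16, 1, false)) (.leaf (0, 0, false))))) (.node (.node (.node (.leaf (9, 1, false)) (.leaf (0,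 0, false))) (.node (.leaf (19, 0, true)) (.leaf (0, 0, false)))) (.node (.node (.leaf (12, 0, false)) (.leaf (0, 0, false))) (.node (.leaf (19, 10, true)) (.leaf (0, 0, false)))))) (.node (.node (.node (.node (.leaf (9, 3, false)) (.leaf (0, 0, false))) (.node (.leaf (8, 5, false)) (.leaf (0, 0, false)))) (.node (.node (.leaf (9, 2, false)) (.leaf (0, 0, false))) (.node (.leaf (13, 0, false)) (.leaf (0, 0, false))))) (.node (.node (.node (.leaf (1, 0, false)) (.leaf (0, 0, false))) (.node (.leaf (20, 0, false)) (.leaf (0, 0, false)))) (.node (.node (.leaf (12, 1, false)) (.leaf (0, 0, false))) (.node (.leaf (15, 0, false)) (.leaf (0, 0, false)))))))))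

def wordsD : Arr (ℕ × ℕ × Bool) :=
  wordsD0

def relsD : List (List ℕ) :=
  [[0, 0],
   [1, 1],
   [2, 2, 2],
   [1, 2, 1, 2, 1, 2, 1, 2, 1, 2],
   [0, 1, 0, 1],
   [0, 2, 0, 3],
   [6, 6],
   [7, 7],
   [6, 1, 3, 1, 2, 1],
   [7, 3, 6, 2],
   [8, 1, 2, 6, 1],
   [10, 9, 2, 6],
   [8, 9],
   [10, 11],
   [4, 4, 4, 4, 4, 4, 4],
   [2, 4, 3, 5, 5],
   [4, 0, 5, 7, 6, 0],
   [4, 6, 5, 0],
   [4, 7, 5, 6, 0],
   [8, 5, 5, 5, 10, 4, 4, 4, 9, 5, 5, 5, 11, 4, 4, 4],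
   [],
   [0, 0],
   [1, 1],
   [2, 3],
   [3, 2],
   [4, 5],
   [5, 4],
   [6, 6],
   [7, 7],
   [8, 9],
   [9, 8],
   [10, 11],
   [11, 10]]

def logD : Log :=
  ⟨relsD, [0, 1, 2, 6, 7, 8, 10], wordsD, 899, factD, parD⟩

def goalD : ℕ := 1796

end Cfsg.Agent.Lead.JankoOne.Coset
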