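import Cfsg.Agent.Lib.Lie.JankoPack

/-!
# Checking logs of coset enumerations

A log is a list of facts `v i · g = v j` about points of an action, each following from earlier facts and one of
the relators. The twelve letters come with an involution `bar`; the letter `12` stands for the identity.
-/

set_option autoImplicit false

namespace Cfsg.Agent.Lead.JankoOne.Coset

abbrev Arr (α : Type) : Type := Cfsg.Agent.Lie.Janko.Tree α

/-- the inverse letter -/
def bar (g : ℕ) : ℕ := [0, 1, 3, 2, 5, 4, 6, 7, 9, 8, 11, 10].getD g 12

/-- One fact: `v i · g = v j`; the kind is `0` for a definition, `1` for a subgroup generator, `k + 2` for the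
`k`th word. The path lists references `2 f + dir` to earlier facts. -/
structure CFact where
  i : ℕ
  g : ℕ
  j : ℕ
  kind : ℕ
  path : List ℕ

/-- A log. -/
structure Log where
  rels : List (List ℕ)
  sub : List ℕ
  words : Arr (ℕ × ℕ × Bool)
  size : ℕ
  fact : Arr CFact
  par : Arr (ℕ × ℕ)

/-- rotate a list -/
def rot (l : List ℕ) (n : ℕ) : List ℕ := l.drop n ++ l.take n

/-- the inverse word -/
def invWord (l : List ℕ) : List ℕ := (l.map bar).reverse

/-- the word with a given index -/
def Log.word (L : Log) (k : ℕ) : List ℕ :=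
  bif (L.words.get k).2.2 then invWord (rot (L.rels.getD (L.words.get k).1 []) (L.words.get k).2.1)
  else rot (L.rels.getD (L.words.get k).1 []) (L.words.get k).2.1

/-- the ends and letter of a reference -/
def Log.ends (L : Log) (r : ℕ) : ℕ × ℕ × ℕ :=
  bif r % 2 == 0 then ((L.fact.get (r / 2)).i, (L.fact.get (r / 2)).g, (L.fact.get (r / 2)).j)
  else ((L.fact.get (r / 2)).j, bar (L.fact.get (r / 2)).g, (L.fact.get (r / 2)).i)

/-- follow a path of earlier facts -/
def Log.walk (L : Log) (k : ℕ) : ℕ → List ℕ → Option (ℕ × List ℕ)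
  | a, [] => some (a, [])
  | a, r :: rs =>
    bif Nat.blt (r / 2) k && Nat.beq (L.ends r).1 a then
      match L.walk k (L.ends r).2.2 rs with
      | none => none
      | some (b, w) => some (b, bif Nat.beq (L.ends r).2.1 12 then w else (L.ends r).2.1 :: w)
    else none

/-- equality of words -/
def eqWord : List ℕ → List ℕ → Bool
  | [], [] => true
  | a :: l, b :: m => Nat.beq a b && eqWord l m
  | _, _ => false

/-- one check -/
def Log.check (L : Log) (k : ℕ) : Bool :=
  let F := L.fact.get k
  Nat.blt F.g 13 &&
  match F.kind with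
  | 0 => Nat.blt F.i F.j && (Nat.beq (L.par.get F.j).1 F.i && Nat.beq (L.par.get F.j).2 F.g)
  | 1 => Nat.beq F.i 0 && (Nat.beq F.j 0 && L.sub.contains F.g)
  | n + 2 =>
    match L.walk k F.i F.path with
    | none => false
    | some (b, w) => Nat.beq b F.j && eqWord (bif Nat.beq F.g 12 then w else w ++ [bar F.g]) (L.word n)

/-- The whole log is checked. -/
def Log.ok (L : Log) : Bool := (List.range L.size).all L.check

/-- An action in which the relators act trivially and the subgroup fixes the base point. -/
structure Sys (L : Log) (α : Type*) where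
  base : α
  act : α → ℕ → α
  ident : ∀ a, act a 12 = a
  cancel : ∀ a g, g < 13 → act (act a g) (bar g) = a
  relator : ∀ r ∈ L.rels, ∀ a, r.foldl act a = a
  letters : ∀ r ∈ L.rels, ∀ g ∈ r, g < 13
  fixed : ∀ g ∈ L.sub, act base g = base

variable {L : Log} {α : Type*} (S : Sys L α)

/-- the point of a node -/
def Sys.val (S : Sys L α) (k : ℕ) : α :=
  if h : (L.par.get k).1 < k then S.act (Sys.val S (L.par.get k).1) (L.par.get k).2 else S.base
termination_by k

theorem Sys.val_zero : S.val 0 = S.base := by
  rw [Sys.val]; simp

theorem Sys.val_def {k : ℕ} (h : (L.par.get k).1 < k) :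
    S.val k = S.act (S.val (L.par.get k).1) (L.par.get k).2 := by
  rw [Sys.val, dif_pos h]

theorem bar_bar {g : ℕ} (h : g < 13) : bar g < 13 ∧ bar (bar g) = g := by
  revert h g; decide

theorem Sys.fold_inj : ∀ (w : List ℕ), (∀ g ∈ w, g < 13) → Function.Injective fun a => w.foldl S.act a
  | [], _ => fun a b h => h
  | g :: w, hw => fun a b h => by
    have h' := Sys.fold_inj w (fun x hx => hw x (List.mem_cons_of_mem _ hx)) (show w.foldl S.act (S.act a g) = w.foldl S.act (S.act b g) from h)
    rw [← S.cancel a g (hw g List.mem_cons_self), h', S.cancel b g (hw g List.mem_cons_self)]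

theorem Sys.fold_inv : ∀ (w : List ℕ), (∀ g ∈ w, g < 13) → ∀ a, (invWord w).foldl S.act (w.foldl S.act a) = a
  | [], _, a => rfl
  | g :: w, hw, a => by
    have e : invWord (g :: w) = invWord w ++ [bar g] := by simp [invWord]
    simp only [e, List.foldl_append, List.foldl_cons, List.foldl_nil]
    rw [Sys.fold_inv w (fun x hx => hw x (List.mem_cons_of_mem _ hx)), S.cancel a g (hw g List.mem_cons_self)]

theorem Sys.word_fix (k : ℕ) (a : α) : (L.word k).foldl S.act a = a := by
  set r := L.rels.getD (L.words.get k).1 [] with hr
  set n := (L.words.get k).2.1 with hn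
  have hmem : r = [] ∨ r ∈ L.rels := by
    by_cases h : (L.words.get k).1 < L.rels.length
    · exact Or.inr (by rw [hr, List.getD_eq_getElem _ _ h]; exact List.getElem_mem h)
    · exact Or.inl (by rw [hr, List.getD_eq_default _ _ (by omega)])
  have hlet : ∀ g ∈ r, g < 13 := by
    rcases hmem with h | h
    · rw [h]; simp
    · exact S.letters r h
  have hfix : ∀ a, r.foldl S.act a = a := by
    rcases hmem with h | h
    · rw [h]; simp
    · exact S.relator r h
  have hrot : ∀ a, (rot r n).foldl S.act a = a := by
    intro a
    apply S.fold_inj (r.drop n) (fun g hg => hlet g (List.mem_of_mem_drop hg))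
    show (r.drop n).foldl S.act ((rot r n).foldl S.act a) = (r.drop n).foldl S.act a
    rw [← List.foldl_append, rot, List.append_assoc, List.take_append_drop, List.foldl_append, hfix]
  unfold Log.word
  cases hb : (L.words.get k).2.2
  · simp only [cond_false]; rw [← hr, ← hn]; exact hrot a
  · simp only [cond_true]
    rw [← hr, ← hn]
    conv_lhs => rw [← hrot a]
    exact S.fold_inv _ (fun g hg => by
      rcases List.mem_append.1 hg with h | h
      · exact hlet g (List.mem_of_mem_drop h)
      · exact hlet g (List.mem_of_mem_take h)) a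

theorem Sys.walk_spec {k : ℕ} (hk : ∀ n < k, S.act (S.val (L.fact.get n).i) (L.fact.get n).g = S.val (L.fact.get n).j)
    (hg : ∀ n < k, (L.fact.get n).g < 13) :
    ∀ (rs : List ℕ) (a b : ℕ) (w : List ℕ), L.walk k a rs = some (b, w) →
      w.foldl S.act (S.val a) = S.val b ∧ ∀ g ∈ w, g < 13
  | [], a, b, w, h => by
    simp only [Log.walk, Option.some.injEq, Prod.mk.injEq] at h
    obtain ⟨rfl, rfl⟩ := h
    simp
  | r :: rs, a, b, w, h => by
    simp only [Log.walk] at h
    cases hc : (Nat.blt (r / 2) k && Nat.beq (L.ends r).1 a)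
    · simp [hc] at h
    simp only [hc, cond_true] at h
    simp only [Bool.and_eq_true, Nat.blt_eq, Nat.beq_eq] at hc
    cases hw : L.walk k (L.ends r).2.2 rs with
    | none => simp [hw] at h
    | some p =>
      obtain ⟨b', w'⟩ := p
      simp only [hw, Option.some.injEq, Prod.mk.injEq] at h
      obtain ⟨rfl, hwe⟩ := h
      obtain ⟨h1, h2⟩ := Sys.walk_spec hk hg rs _ _ _ hw
      have hedge : S.act (S.val (L.ends r).1) (L.ends r).2.1 = S.val (L.ends r).2.2 ∧ (L.ends r).2.1 < 13 := by
        unfold Log.ends
        cases hpar : (r % 2 == 0)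
        · simp only [cond_false]
          refine ⟨?_, (bar_bar (hg _ hc.1)).1⟩
          rw [← hk _ hc.1, S.cancel _ _ (hg _ hc.1)]
        · simp only [cond_true]
          exact ⟨hk _ hc.1, hg _ hc.1⟩
      rw [hc.2] at hedge
      cases h12 : Nat.beq (L.ends r).2.1 12
      · simp only [h12, cond_false] at hwe
        subst hwe
        refine ⟨by rw [List.foldl_cons, hedge.1, h1], fun g hg => ?_⟩
        rcases List.mem_cons.1 hg with rfl | hg
        · exact hedge.2
        · exact h2 g hg
      · simp only [h12, cond_true] at hwe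
        subst hwe
        have e12 := Nat.eq_of_beq_eq_true h12
        refine ⟨?_, h2⟩
        have e := hedge.1
        rw [e12, S.ident] at e
        rw [e, h1]

theorem eqWord_eq : ∀ {l m : List ℕ}, eqWord l m = true → l = m
  | [], [], _ => rfl
  | a :: l, b :: m, h => by
    simp only [eqWord, Bool.and_eq_true, Nat.beq_eq] at h
    rw [h.1, eqWord_eq h.2]
  | [], _ :: _, h => by simp [eqWord] at h
  | _ :: _, [], h => by simp [eqWord] at h

/-- Every fact of a checked log holds. -/
theorem Sys.holds (hok : L.ok = true) : ∀ k < L.size,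
    S.act (S.val (L.fact.get k).i) (L.fact.get k).g = S.val (L.fact.get k).j ∧ (L.fact.get k).g < 13 := by
  intro k
  induction k using Nat.strong_induction_on with
  | _ k ih =>
    intro hk
    have hc : L.check k = true := List.all_eq_true.1 hok k (List.mem_range.2 hk)
    simp only [Log.check, Bool.and_eq_true, Nat.blt_eq] at hc
    obtain ⟨hg, hc⟩ := hc
    refine ⟨?_, hg⟩
    match hkind : (L.fact.get k).kind with
    | 0 =>
      simp only [hkind, Bool.and_eq_true, Nat.blt_eq, Nat.beq_eq] at hc
      obtain ⟨h1, h2, h3⟩ := hc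
      rw [S.val_def (k := (L.fact.get k).j) (by rw [h2]; exact h1), h2, h3]
    | 1 =>
      simp only [hkind, Bool.and_eq_true, Nat.beq_eq, List.contains_iff_mem] at hc
      obtain ⟨h1, h2, h3⟩ := hc
      rw [h1, h2, S.val_zero]
      exact S.fixed _ h3
    | n + 2 =>
      simp only [hkind] at hc
      cases hw : L.walk k (L.fact.get k).i (L.fact.get k).path with
      | none => simp [hw] at hc
      | some p =>
        obtain ⟨b, w⟩ := p
        simp only [hw, Bool.and_eq_true, Nat.beq_eq] at hc
        obtain ⟨hb, hword⟩ := hc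
        obtain ⟨h1, h2⟩ := S.walk_spec (fun m hm => (ih m hm (by omega)).1) (fun m hm => (ih m hm (by omega)).2) _ _ _ _ hw
        have hfix := S.word_fix n
        rw [← eqWord_eq hword] at hfix
        rw [hb] at h1
        cases h12 : Nat.beq (L.fact.get k).g 12
        · simp only [h12, cond_false] at hfix
          have h := hfix (S.val (L.fact.get k).i)
          rw [List.foldl_append, h1, List.foldl_cons, List.foldl_nil] at h
          have hbb := bar_bar hg
          have hc' := S.cancel (S.val (L.fact.get k).j) _ hbb.1
          rw [hbb.2, h] at hc'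
          exact hc'
        · simp only [h12, cond_true] at hfix
          rw [Nat.eq_of_beq_eq_true h12, S.ident, ← h1, hfix]

end Cfsg.Agent.Lead.JankoOne.Coset
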