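import Cfsg.Agent.Lib.Lead.JankoOne.Coset.CheckB

/-!
The completed table of the good case.
-/

set_option autoImplicit false
set_option maxRecDepth 100000

namespace Cfsg.Agent.Lead.JankoOne.Coset

/-- the four generating letters -/
def genLetter (k : ℕ) : ℕ := [0, 1, 2, 4].getD k 12

/-- one entry of the table -/
def edgeCheck (m : ℕ) : Bool :=
  Nat.blt (edge.get m).1 1463 && (Nat.blt ((edge.get m).2 / 2) logB.size &&
    (Nat.beq (logB.ends (edge.get m).2).1 (live.get (m / 4)) &&
      (Nat.beq (logB.ends (edge.get m).2).2.1 (genLetter (m % 4)) &&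
        Nat.beq (logB.ends (edge.get m).2).2.2 (live.get (edge.get m).1))))

theorem table_ok : ((List.range 5852).all edgeCheck && Nat.beq (live.get 0) 0) = true := by decide +kernel

end Cfsg.Agent.Lead.JankoOne.Coset
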